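import Mathlib.GroupTheory.Index
import Mathlib.GroupTheory.Coset.Card
import Mathlib.Algebra.Group.Subgroup.Pointwise
import Mathlib.Tactic.Group

set_option autoImplicit false

namespace Cfsg.Agent.Lib.Helper18

open Subgroup
open scoped Pointwise

variable {G : Type*} [Group G]

theorem card_eq_card_inf_mul_relIndex (H K : Subgroup G) :
    Nat.card H = Nat.card ↥(H ⊓ K) * K.relIndex H := by
  have h := Subgroup.relIndex_mul_relIndex (⊥ : Subgroup G) (H ⊓ K) H bot_le inf_le_left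
  rw [Subgroup.relIndex_bot_left, Subgroup.relIndex_bot_left, Subgroup.inf_relIndex_left] at h
  exact h.symm

theorem card_sup_eq_card_mul_relIndex (H K : Subgroup G) :
    Nat.card ↥(H ⊔ K) = Nat.card K * K.relIndex (H ⊔ K) := by
  have h := Subgroup.relIndex_mul_relIndex (⊥ : Subgroup G) K (H ⊔ K) bot_le le_sup_right
  rw [Subgroup.relIndex_bot_left, Subgroup.relIndex_bot_left] at h
  exact h.symm

theorem relIndex_le_relIndex_sup [Finite G] (H K : Subgroup G) :
    K.relIndex H ≤ K.relIndex (H ⊔ K) := by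
  apply Subgroup.relIndex_le_of_le_right le_sup_left
  have : (K.subgroupOf (H ⊔ K)).FiniteIndex := inferInstance
  exact this.index_ne_zero

/-- `|H| |K| ≤ |⟨H, K⟩| |H ∩ K|`. -/
theorem card_mul_card_le_card_sup_mul_card_inf [Finite G] (H K : Subgroup G) :
    Nat.card H * Nat.card K ≤ Nat.card ↥(H ⊔ K) * Nat.card ↥(H ⊓ K) := by
  rw [card_eq_card_inf_mul_relIndex H K, card_sup_eq_card_mul_relIndex H K]
  have := relIndex_le_relIndex_sup H K
  calc Nat.card ↥(H ⊓ K) * K.relIndex H * Nat.card K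
      ≤ Nat.card ↥(H ⊓ K) * K.relIndex (H ⊔ K) * Nat.card K := by gcongr
    _ = Nat.card K * K.relIndex (H ⊔ K) * Nat.card ↥(H ⊓ K) := by ring

/-- In the case of equality, `⟨H, K⟩ = H K` as sets. -/
theorem coe_sup_eq_mul_of_card_eq [Finite G] (H K : Subgroup G)
    (h : Nat.card H * Nat.card K = Nat.card ↥(H ⊔ K) * Nat.card ↥(H ⊓ K)) :
    ((H ⊔ K : Subgroup G) : Set G) = (H : Set G) * (K : Set G) := by
  have hidx : K.relIndex H = K.relIndex (H ⊔ K) := by
    rw [card_eq_card_inf_mul_relIndex H K, card_sup_eq_card_mul_relIndex H K] at h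
    have hK : 0 < Nat.card K := Nat.card_pos
    have hI : 0 < Nat.card ↥(H ⊓ K) := Nat.card_pos
    have h2 : Nat.card ↥(H ⊓ K) * Nat.card K * K.relIndex H =
        Nat.card ↥(H ⊓ K) * Nat.card K * K.relIndex (H ⊔ K) := by
      calc Nat.card ↥(H ⊓ K) * Nat.card K * K.relIndex H
          = Nat.card ↥(H ⊓ K) * K.relIndex H * Nat.card K := by ring
        _ = Nat.card K * K.relIndex (H ⊔ K) * Nat.card ↥(H ⊓ K) := h
        _ = Nat.card ↥(H ⊓ K) * Nat.card K * K.relIndex (H ⊔ K) := by ring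
    exact Nat.eq_of_mul_eq_mul_left (Nat.mul_pos hI hK) h2
  -- the embedding of coset spaces is a bijection
  set e := Subgroup.quotientSubgroupOfEmbeddingOfLE K (le_sup_left : H ≤ H ⊔ K) with he
  have hcard : Nat.card (↥(H ⊔ K) ⧸ K.subgroupOf (H ⊔ K)) ≤ Nat.card (↥H ⧸ K.subgroupOf H) := by
    have h1 : Nat.card (↥H ⧸ K.subgroupOf H) = K.relIndex H := rfl
    have h2 : Nat.card (↥(H ⊔ K) ⧸ K.subgroupOf (H ⊔ K)) = K.relIndex (H ⊔ K) := rfl
    rw [h1, h2, hidx]
  have hsurj : Function.Surjective e := by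
    have hinj : Function.Injective e := e.injective
    exact ((Nat.bijective_iff_injective_and_card e).mpr ⟨hinj, le_antisymm
      (Nat.card_le_card_of_injective e hinj) hcard⟩).2
  apply Set.Subset.antisymm
  · intro x hx
    obtain ⟨q, hq⟩ := hsurj (QuotientGroup.mk (⟨x, hx⟩ : ↥(H ⊔ K)))
    obtain ⟨y, rfl⟩ := QuotientGroup.mk_surjective q
    rw [he, Subgroup.quotientSubgroupOfEmbeddingOfLE_apply_mk, QuotientGroup.eq,
      Subgroup.mem_subgroupOf] at hq
    refine ⟨(y : G), y.2, (y : G)⁻¹ * x, ?_, by group⟩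
    simpa using hq
  · rintro _ ⟨a, ha, b, hb, rfl⟩
    exact Subgroup.mul_mem_sup ha hb

end Cfsg.Agent.Lib.Helper18
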