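import Mathlib.GroupTheory.Subgroup.Centralizer
import Mathlib.Order.Lattice.Nat
import Mathlib.Data.Fintype.Lattice
import Mathlib.Data.SetLike.Fintype
import Mathlib.Algebra.Group.Subgroup.Finite
import Cfsg.Agent.Lib.Helper18.ProductFormula

set_option autoImplicit false

namespace Cfsg.Agent.Lib.Helper18

open Subgroup
open scoped Pointwise

variable {G : Type*} [Group G]

/-- The Chermak–Delgado measure `|H| · |C_G(H)|`. -/
noncomputable def cdm (H : Subgroup G) : ℕ :=
  Nat.card H * Nat.card ↥(Subgroup.centralizer (H : Set G))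

theorem cdm_pos [Finite G] (H : Subgroup G) : 0 < cdm H :=
  Nat.mul_pos Nat.card_pos Nat.card_pos

theorem centralizer_sup_eq (H K : Subgroup G) :
    Subgroup.centralizer ((H ⊔ K : Subgroup G) : Set G) =
      Subgroup.centralizer (H : Set G) ⊓ Subgroup.centralizer (K : Set G) := by
  apply le_antisymm
  · exact le_inf (Subgroup.centralizer_le (by exact_mod_cast (le_sup_left : H ≤ H ⊔ K)))
      (Subgroup.centralizer_le (by exact_mod_cast (le_sup_right : K ≤ H ⊔ K)))
  · intro x hx
    have h1 : H ≤ Subgroup.centralizer ({x} : Set G) := by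
      intro h hh
      rw [Subgroup.mem_centralizer_singleton_iff]
      exact hx.1 h hh
    have h2 : K ≤ Subgroup.centralizer ({x} : Set G) := by
      intro h hh
      rw [Subgroup.mem_centralizer_singleton_iff]
      exact hx.2 h hh
    intro y hy
    have := (sup_le h1 h2) hy
    rw [Subgroup.mem_centralizer_singleton_iff] at this
    exact this

theorem centralizer_sup_le_centralizer_inf (H K : Subgroup G) :
    Subgroup.centralizer (H : Set G) ⊔ Subgroup.centralizer (K : Set G) ≤
      Subgroup.centralizer ((H ⊓ K : Subgroup G) : Set G) :=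
  sup_le (Subgroup.centralizer_le (by exact_mod_cast (inf_le_left : H ⊓ K ≤ H)))
    (Subgroup.centralizer_le (by exact_mod_cast (inf_le_right : H ⊓ K ≤ K)))

theorem card_centralizer_mul_le [Finite G] (H K : Subgroup G) :
    Nat.card ↥(Subgroup.centralizer (H : Set G)) * Nat.card ↥(Subgroup.centralizer (K : Set G)) ≤
      Nat.card ↥(Subgroup.centralizer ((H ⊓ K : Subgroup G) : Set G)) *
        Nat.card ↥(Subgroup.centralizer ((H ⊔ K : Subgroup G) : Set G)) := by
  have h1 := card_mul_card_le_card_sup_mul_card_inf (Subgroup.centralizer (H : Set G))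
    (Subgroup.centralizer (K : Set G))
  rw [← centralizer_sup_eq] at h1
  have h2 : Nat.card ↥(Subgroup.centralizer (H : Set G) ⊔ Subgroup.centralizer (K : Set G)) ≤
      Nat.card ↥(Subgroup.centralizer ((H ⊓ K : Subgroup G) : Set G)) :=
    Subgroup.card_le_of_le (centralizer_sup_le_centralizer_inf H K)
  exact h1.trans (Nat.mul_le_mul_right _ h2)

/-- The basic inequality of Chermak and Delgado. -/
theorem cdm_mul_le [Finite G] (H K : Subgroup G) :
    cdm H * cdm K ≤ cdm (H ⊔ K) * cdm (H ⊓ K) := by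
  unfold cdm
  have h1 := card_mul_card_le_card_sup_mul_card_inf H K
  have h2 := card_centralizer_mul_le H K
  calc Nat.card H * Nat.card ↥(Subgroup.centralizer (H : Set G)) *
        (Nat.card K * Nat.card ↥(Subgroup.centralizer (K : Set G)))
      = (Nat.card H * Nat.card K) * (Nat.card ↥(Subgroup.centralizer (H : Set G)) *
          Nat.card ↥(Subgroup.centralizer (K : Set G))) := by ring
    _ ≤ (Nat.card ↥(H ⊔ K) * Nat.card ↥(H ⊓ K)) *
          (Nat.card ↥(Subgroup.centralizer ((H ⊓ K : Subgroup G) : Set G)) *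
            Nat.card ↥(Subgroup.centralizer ((H ⊔ K : Subgroup G) : Set G))) :=
        Nat.mul_le_mul h1 h2
    _ = _ := by ring

/-- The equality case of the basic inequality. -/
theorem cdm_mul_eq_imp [Finite G] (H K : Subgroup G)
    (h : cdm (H ⊔ K) * cdm (H ⊓ K) ≤ cdm H * cdm K) :
    ((H ⊔ K : Subgroup G) : Set G) = (H : Set G) * (K : Set G) ∧
    Subgroup.centralizer ((H ⊓ K : Subgroup G) : Set G) =
      Subgroup.centralizer (H : Set G) ⊔ Subgroup.centralizer (K : Set G) ∧
    ((Subgroup.centralizer (H : Set G) ⊔ Subgroup.centralizer (K : Set G) : Subgroup G) : Set G) =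
      (Subgroup.centralizer (H : Set G) : Set G) * (Subgroup.centralizer (K : Set G) : Set G) := by
  have h1 := card_mul_card_le_card_sup_mul_card_inf H K
  have h2 := card_centralizer_mul_le H K
  have h3 := card_mul_card_le_card_sup_mul_card_inf (Subgroup.centralizer (H : Set G))
    (Subgroup.centralizer (K : Set G))
  have h4 : Nat.card ↥(Subgroup.centralizer (H : Set G) ⊔ Subgroup.centralizer (K : Set G)) ≤
      Nat.card ↥(Subgroup.centralizer ((H ⊓ K : Subgroup G) : Set G)) :=
    Subgroup.card_le_of_le (centralizer_sup_le_centralizer_inf H K)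
  rw [← centralizer_sup_eq] at h3
  unfold cdm at h
  set a := Nat.card H * Nat.card K with ha
  set A := Nat.card ↥(H ⊔ K) * Nat.card ↥(H ⊓ K) with hA
  set b := Nat.card ↥(Subgroup.centralizer (H : Set G)) *
    Nat.card ↥(Subgroup.centralizer (K : Set G)) with hb
  set B := Nat.card ↥(Subgroup.centralizer ((H ⊓ K : Subgroup G) : Set G)) *
    Nat.card ↥(Subgroup.centralizer ((H ⊔ K : Subgroup G) : Set G)) with hB
  have hAB : A * B ≤ a * b := by
    calc A * B = Nat.card ↥(H ⊔ K) * Nat.card ↥(Subgroup.centralizer ((H ⊔ K : Subgroup G) : Set G)) *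
          (Nat.card ↥(H ⊓ K) * Nat.card ↥(Subgroup.centralizer ((H ⊓ K : Subgroup G) : Set G))) := by
          rw [hA, hB]; ring
      _ ≤ _ := h
      _ = a * b := by rw [ha, hb]; ring
  have hapos : 0 < a := Nat.mul_pos Nat.card_pos Nat.card_pos
  have hbpos : 0 < b := Nat.mul_pos Nat.card_pos Nat.card_pos
  have haA : a = A := by
    apply le_antisymm h1
    by_contra hlt
    push Not at hlt
    have : a * b < A * B := Nat.mul_lt_mul_of_lt_of_le hlt h2 (lt_of_lt_of_le hbpos h2)
    omega
  have hbB : b = B := by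
    apply le_antisymm h2
    by_contra hlt
    push Not at hlt
    have : a * b < A * B := Nat.mul_lt_mul_of_le_of_lt h1 hlt (lt_of_lt_of_le hapos h1)
    omega
  have e1 := coe_sup_eq_mul_of_card_eq H K haA
  -- from b = B : the centralizer chain is tight
  have hC : 0 < Nat.card ↥(Subgroup.centralizer ((H ⊔ K : Subgroup G) : Set G)) := Nat.card_pos
  have h5 : Nat.card ↥(Subgroup.centralizer (H : Set G) ⊔ Subgroup.centralizer (K : Set G)) =
      Nat.card ↥(Subgroup.centralizer ((H ⊓ K : Subgroup G) : Set G)) := by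
    apply le_antisymm h4
    have : Nat.card ↥(Subgroup.centralizer ((H ⊓ K : Subgroup G) : Set G)) *
        Nat.card ↥(Subgroup.centralizer ((H ⊔ K : Subgroup G) : Set G)) ≤
        Nat.card ↥(Subgroup.centralizer (H : Set G) ⊔ Subgroup.centralizer (K : Set G)) *
        Nat.card ↥(Subgroup.centralizer ((H ⊔ K : Subgroup G) : Set G)) := by
      rw [← hB, ← hbB]; exact h3
    exact Nat.le_of_mul_le_mul_right this hC
  have e2 : Subgroup.centralizer (H : Set G) ⊔ Subgroup.centralizer (K : Set G) =
      Subgroup.centralizer ((H ⊓ K : Subgroup G) : Set G) :=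
    Subgroup.eq_of_le_of_card_ge (centralizer_sup_le_centralizer_inf H K) h5.ge
  have e3 := coe_sup_eq_mul_of_card_eq (Subgroup.centralizer (H : Set G))
    (Subgroup.centralizer (K : Set G)) (by
      rw [← centralizer_sup_eq, h5]
      exact hbB)
  exact ⟨e1, e2.symm, e3⟩

/-- In the equality case the order formula `|H| |K| = |⟨H,K⟩| |H ∩ K|` holds. -/
theorem card_mul_card_eq_of_tight [Finite G] (H K : Subgroup G)
    (h : cdm (H ⊔ K) * cdm (H ⊓ K) ≤ cdm H * cdm K) :
    Nat.card H * Nat.card K = Nat.card ↥(H ⊔ K) * Nat.card ↥(H ⊓ K) := by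
  have h1 := card_mul_card_le_card_sup_mul_card_inf H K
  have h2 := card_centralizer_mul_le H K
  unfold cdm at h
  set a := Nat.card H * Nat.card K with ha
  set A := Nat.card ↥(H ⊔ K) * Nat.card ↥(H ⊓ K) with hA
  set b := Nat.card ↥(Subgroup.centralizer (H : Set G)) *
    Nat.card ↥(Subgroup.centralizer (K : Set G)) with hb
  set B := Nat.card ↥(Subgroup.centralizer ((H ⊓ K : Subgroup G) : Set G)) *
    Nat.card ↥(Subgroup.centralizer ((H ⊔ K : Subgroup G) : Set G)) with hB
  have hAB : A * B ≤ a * b := by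
    calc A * B = Nat.card ↥(H ⊔ K) * Nat.card ↥(Subgroup.centralizer ((H ⊔ K : Subgroup G) : Set G)) *
          (Nat.card ↥(H ⊓ K) * Nat.card ↥(Subgroup.centralizer ((H ⊓ K : Subgroup G) : Set G))) := by
          rw [hA, hB]; ring
      _ ≤ _ := h
      _ = a * b := by rw [ha, hb]; ring
  have hbpos : 0 < b := Nat.mul_pos Nat.card_pos Nat.card_pos
  apply le_antisymm h1
  by_contra hlt
  push Not at hlt
  have : a * b < A * B := Nat.mul_lt_mul_of_lt_of_le hlt h2 (lt_of_lt_of_le hbpos h2)
  omega

/-- The largest value of the measure. -/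
noncomputable def cdmax (G : Type*) [Group G] : ℕ :=
  sSup {k : ℕ | ∃ R : Subgroup G, cdm R = k}

theorem cdm_le_card_sq [Finite G] (R : Subgroup G) : cdm R ≤ Nat.card G * Nat.card G :=
  Nat.mul_le_mul (Subgroup.card_le_card_group _) (Subgroup.card_le_card_group _)

theorem cdm_bddAbove [Finite G] : BddAbove {k : ℕ | ∃ R : Subgroup G, cdm R = k} := by
  refine ⟨Nat.card G * Nat.card G, ?_⟩
  rintro k ⟨R, rfl⟩
  exact cdm_le_card_sq R

theorem cdm_le_cdmax [Finite G] (R : Subgroup G) : cdm R ≤ cdmax G :=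
  le_csSup cdm_bddAbove ⟨R, rfl⟩

theorem exists_cdm_eq_cdmax [Finite G] : ∃ R : Subgroup G, cdm R = cdmax G :=
  Nat.sSup_mem (s := {k : ℕ | ∃ R : Subgroup G, cdm R = k}) ⟨cdm (⊥ : Subgroup G), ⊥, rfl⟩ cdm_bddAbove

theorem cdmax_pos [Finite G] : 0 < cdmax G :=
  lt_of_lt_of_le (cdm_pos (⊥ : Subgroup G)) (cdm_le_cdmax ⊥)

/-- Two subgroups of largest measure: join, meet are of largest measure, and the equality case. -/
theorem cdm_sup_inf_of_max [Finite G] (H K : Subgroup G) (hH : cdm H = cdmax G)
    (hK : cdm K = cdmax G) :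
    cdm (H ⊔ K) = cdmax G ∧ cdm (H ⊓ K) = cdmax G ∧
    cdm (H ⊔ K) * cdm (H ⊓ K) ≤ cdm H * cdm K := by
  have h1 := cdm_mul_le H K
  have h2 := cdm_le_cdmax (H ⊔ K)
  have h3 := cdm_le_cdmax (H ⊓ K)
  rw [hH, hK] at h1 ⊢
  have hpos : 0 < cdmax G := cdmax_pos
  have e1 : cdm (H ⊔ K) = cdmax G := by
    apply le_antisymm h2
    by_contra hlt
    push Not at hlt
    have : cdm (H ⊔ K) * cdm (H ⊓ K) < cdmax G * cdmax G :=
      Nat.mul_lt_mul_of_lt_of_le hlt h3 hpos
    omega
  have e2 : cdm (H ⊓ K) = cdmax G := by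
    apply le_antisymm h3
    by_contra hlt
    push Not at hlt
    have : cdm (H ⊔ K) * cdm (H ⊓ K) < cdmax G * cdmax G :=
      Nat.mul_lt_mul_of_le_of_lt h2 hlt hpos
    omega
  refine ⟨e1, e2, ?_⟩
  rw [e1, e2]

theorem le_centralizer_centralizer (H : Subgroup G) :
    H ≤ Subgroup.centralizer ((Subgroup.centralizer (H : Set G) : Subgroup G) : Set G) := by
  intro h hh c hc
  exact (hc h hh).symm

/-- The centralizer of a subgroup of largest measure has largest measure, and the subgroup is
its own double centralizer. -/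
theorem cdm_centralizer_of_max [Finite G] (H : Subgroup G) (hH : cdm H = cdmax G) :
    cdm (Subgroup.centralizer (H : Set G)) = cdmax G ∧
    H = Subgroup.centralizer ((Subgroup.centralizer (H : Set G) : Subgroup G) : Set G) := by
  have h1 := cdm_le_cdmax (Subgroup.centralizer (H : Set G))
  have h2 : Nat.card H ≤
      Nat.card ↥(Subgroup.centralizer ((Subgroup.centralizer (H : Set G) : Subgroup G) : Set G)) :=
    Subgroup.card_le_of_le (le_centralizer_centralizer H)
  have h3 : cdm H ≤ cdm (Subgroup.centralizer (H : Set G)) := by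
    unfold cdm
    rw [mul_comm]
    exact Nat.mul_le_mul_left _ h2
  have e1 : cdm (Subgroup.centralizer (H : Set G)) = cdmax G := le_antisymm h1 (hH ▸ h3)
  refine ⟨e1, ?_⟩
  apply Subgroup.eq_of_le_of_card_ge (le_centralizer_centralizer H)
  have h4 : cdm (Subgroup.centralizer (H : Set G)) = cdm H := by rw [e1, hH]
  unfold cdm at h4
  have hpos : 0 < Nat.card ↥(Subgroup.centralizer (H : Set G)) := Nat.card_pos
  rw [mul_comm (Nat.card H)] at h4
  exact (Nat.eq_of_mul_eq_mul_left hpos h4).le

theorem card_centralizer_le_card_centralizer_map (H : Subgroup G) [Finite G] (φ : G ≃* G) :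
    Nat.card ↥(Subgroup.centralizer (H : Set G)) ≤
      Nat.card ↥(Subgroup.centralizer ((H.map φ.toMonoidHom : Subgroup G) : Set G)) := by
  have h1 : (Subgroup.centralizer (H : Set G)).map φ.toMonoidHom ≤
      Subgroup.centralizer ((H.map φ.toMonoidHom : Subgroup G) : Set G) := by
    have := Subgroup.map_centralizer_le_centralizer_image (H : Set G) φ.toMonoidHom
    simpa [Subgroup.coe_map] using this
  calc Nat.card ↥(Subgroup.centralizer (H : Set G))
      = Nat.card ↥((Subgroup.centralizer (H : Set G)).map φ.toMonoidHom) :=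
        (Subgroup.card_map_of_injective φ.injective).symm
    _ ≤ _ := Subgroup.card_le_of_le h1

theorem cdm_map_conj [Finite G] (H : Subgroup G) (g : G) :
    cdm (H.map (MulAut.conj g).toMonoidHom) = cdm H := by
  unfold cdm
  have h1 : Nat.card ↥(H.map (MulAut.conj g).toMonoidHom) = Nat.card H :=
    Subgroup.card_map_of_injective (MulAut.conj g).injective
  have h2 := card_centralizer_le_card_centralizer_map H (MulAut.conj g)
  have h3 := card_centralizer_le_card_centralizer_map (H.map (MulAut.conj g).toMonoidHom)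
    (MulAut.conj g⁻¹)
  have h4 : (H.map (MulAut.conj g).toMonoidHom).map (MulAut.conj g⁻¹).toMonoidHom = H := by
    rw [Subgroup.map_map]
    have : (MulAut.conj g⁻¹).toMonoidHom.comp (MulAut.conj g).toMonoidHom = MonoidHom.id G := by
      ext x; simp [MulAut.conj_apply, mul_assoc]
    rw [this, Subgroup.map_id]
  rw [h4] at h3
  rw [h1, le_antisymm h3 h2]

/-- A least subgroup of largest measure. -/
theorem exists_least_cdmax [Finite G] :
    ∃ M : Subgroup G, cdm M = cdmax G ∧ ∀ K : Subgroup G, cdm K = cdmax G → M ≤ K := by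
  haveI : Nonempty {K : Subgroup G // cdm K = cdmax G} := by
    obtain ⟨R, hR⟩ := exists_cdm_eq_cdmax (G := G)
    exact ⟨⟨R, hR⟩⟩
  obtain ⟨M, hM⟩ := Finite.exists_min (fun K : {K : Subgroup G // cdm K = cdmax G} => Nat.card K.1)
  refine ⟨M.1, M.2, ?_⟩
  intro K hK
  obtain ⟨-, h2, -⟩ := cdm_sup_inf_of_max M.1 K M.2 hK
  have h3 := hM ⟨M.1 ⊓ K, h2⟩
  have h4 : M.1 ⊓ K = M.1 := Subgroup.eq_of_le_of_card_ge inf_le_left h3
  rw [← h4]
  exact inf_le_right

end Cfsg.Agent.Lib.Helper18
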