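import Cfsg.Prelude.Def_BaumannBlocks
import Cfsg.Agent.Lib.Helper18.ChermakDelgado

set_option autoImplicit false

namespace Cfsg.Agent.Lib.Helper18

open Subgroup
open scoped Pointwise

variable {G : Type*} [Group G]

theorem center_map_subtype_eq (U : Subgroup G) :
    (Subgroup.center ↥U).map U.subtype = U ⊓ Subgroup.centralizer (U : Set G) := by
  ext d
  constructor
  · rintro ⟨z, hz, rfl⟩
    refine ⟨z.2, ?_⟩
    intro u hu
    have := Subgroup.mem_center_iff.mp hz ⟨u, hu⟩
    exact congrArg Subtype.val this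
  · rintro ⟨hdU, hd⟩
    refine ⟨⟨d, hdU⟩, ?_, rfl⟩
    show (⟨d, hdU⟩ : U) ∈ Subgroup.center ↥U
    rw [Subgroup.mem_center_iff]
    intro u
    apply Subtype.ext
    exact hd u u.2

theorem card_center_eq (U : Subgroup G) :
    Nat.card ↥(Subgroup.center ↥U) = Nat.card ↥(U ⊓ Subgroup.centralizer (U : Set G)) := by
  rw [← center_map_subtype_eq, Subgroup.card_map_of_injective U.subtype_injective]

/-- The measure `|R| · |Z(R)|`. -/
noncomputable def clm (R : Subgroup G) : ℕ :=
  Nat.card R * Nat.card ↥(Subgroup.center ↥R)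

theorem clm_eq (R : Subgroup G) :
    clm R = Nat.card R * Nat.card ↥(R ⊓ Subgroup.centralizer (R : Set G)) := by
  unfold clm; rw [card_center_eq]

theorem clm_le_cdm [Finite G] (R : Subgroup G) : clm R ≤ cdm R := by
  rw [clm_eq]
  exact Nat.mul_le_mul_left _ (Subgroup.card_le_of_le inf_le_right)

theorem clm_eq_cdm_of_centralizer_le (R : Subgroup G)
    (h : Subgroup.centralizer (R : Set G) ≤ R) : clm R = cdm R := by
  rw [clm_eq, inf_eq_right.mpr h]; rfl

/-- The largest value of `|R| · |Z(R)|`. -/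
noncomputable def clmax (G : Type*) [Group G] : ℕ :=
  sSup {k : ℕ | ∃ R : Subgroup G, clm R = k}

theorem clm_bddAbove [Finite G] : BddAbove {k : ℕ | ∃ R : Subgroup G, clm R = k} := by
  refine ⟨Nat.card G * Nat.card G, ?_⟩
  rintro k ⟨R, rfl⟩
  exact (clm_le_cdm R).trans (cdm_le_card_sq R)

theorem clm_le_clmax [Finite G] (R : Subgroup G) : clm R ≤ clmax G :=
  le_csSup clm_bddAbove ⟨R, rfl⟩

theorem exists_clm_eq_clmax [Finite G] : ∃ R : Subgroup G, clm R = clmax G :=
  Nat.sSup_mem (s := {k : ℕ | ∃ R : Subgroup G, clm R = k}) ⟨clm (⊥ : Subgroup G), ⊥, rfl⟩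
    clm_bddAbove

/-- The two maxima coincide. -/
theorem clmax_eq_cdmax [Finite G] : clmax G = cdmax G := by
  apply le_antisymm
  · obtain ⟨R, hR⟩ := exists_clm_eq_clmax (G := G)
    rw [← hR]
    exact (clm_le_cdm R).trans (cdm_le_cdmax R)
  · obtain ⟨Q, hQ⟩ := exists_cdm_eq_cdmax (G := G)
    obtain ⟨hC, hCC⟩ := cdm_centralizer_of_max Q hQ
    obtain ⟨h1, -, -⟩ := cdm_sup_inf_of_max Q (Subgroup.centralizer (Q : Set G)) hQ hC
    -- R = Q ⊔ C(Q) contains its centralizer
    have hcent : Subgroup.centralizer ((Q ⊔ Subgroup.centralizer (Q : Set G) : Subgroup G) : Set G) ≤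
        Q ⊔ Subgroup.centralizer (Q : Set G) := by
      rw [centralizer_sup_eq]
      exact inf_le_left.trans le_sup_right
    rw [← h1, ← clm_eq_cdm_of_centralizer_le _ hcent]
    exact clm_le_clmax _

/-- A centrally large subgroup is of largest Chermak–Delgado measure and contains its
centralizer. -/
theorem cdm_eq_of_clm_eq [Finite G] (Q : Subgroup G) (hQ : clm Q = clmax G) :
    cdm Q = cdmax G ∧ Subgroup.centralizer (Q : Set G) ≤ Q := by
  have h1 := clm_le_cdm Q
  have h2 := cdm_le_cdmax Q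
  rw [hQ, clmax_eq_cdmax] at h1
  have h3 : cdm Q = cdmax G := le_antisymm h2 h1
  refine ⟨h3, ?_⟩
  have h4 : clm Q = cdm Q := by rw [hQ, clmax_eq_cdmax, h3]
  rw [clm_eq] at h4
  unfold cdm at h4
  have hpos : 0 < Nat.card Q := Nat.card_pos
  have h5 := Nat.eq_of_mul_eq_mul_left hpos h4
  have h6 : Q ⊓ Subgroup.centralizer (Q : Set G) = Subgroup.centralizer (Q : Set G) :=
    Subgroup.eq_of_le_of_card_ge inf_le_right h5.ge
  rw [← h6]
  exact inf_le_left

theorem clm_eq_of_cdm_eq [Finite G] (Q : Subgroup G) (hQ : cdm Q = cdmax G)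
    (h : Subgroup.centralizer (Q : Set G) ≤ Q) : clm Q = clmax G := by
  rw [clm_eq_cdm_of_centralizer_le Q h, hQ, clmax_eq_cdmax]

/-- The product of two centrally large subgroups is a centrally large subgroup. -/
theorem clm_sup_of_max [Finite G] (Q R : Subgroup G) (hQ : clm Q = clmax G)
    (hR : clm R = clmax G) :
    ((Q ⊔ R : Subgroup G) : Set G) = (Q : Set G) * (R : Set G) ∧ clm (Q ⊔ R) = clmax G := by
  obtain ⟨hQ1, hQ2⟩ := cdm_eq_of_clm_eq Q hQ
  obtain ⟨hR1, hR2⟩ := cdm_eq_of_clm_eq R hR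
  obtain ⟨h1, -, h3⟩ := cdm_sup_inf_of_max Q R hQ1 hR1
  obtain ⟨e1, -, -⟩ := cdm_mul_eq_imp Q R h3
  refine ⟨e1, clm_eq_of_cdm_eq _ h1 ?_⟩
  rw [centralizer_sup_eq]
  exact inf_le_left.trans (hQ2.trans le_sup_left)

/-- A nonempty family closed under binary joins (in a finite lattice of subgroups) contains
the join of any of its nonempty subfamilies. -/
theorem sSup_mem_of_sup_closed [Finite G] (Pred : Subgroup G → Prop)
    (hsup : ∀ X Y, Pred X → Pred Y → Pred (X ⊔ Y)) (F : Set (Subgroup G)) (hne : F.Nonempty)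
    (hF : ∀ X ∈ F, Pred X) : Pred (sSup F) := by
  obtain ⟨X₁, hX₁⟩ := hne
  have : Nonempty {X : Subgroup G // Pred X ∧ X ≤ sSup F} := ⟨⟨X₁, hF X₁ hX₁, le_sSup hX₁⟩⟩
  obtain ⟨X₀, hX₀⟩ := Finite.exists_max
    (fun X : {X : Subgroup G // Pred X ∧ X ≤ sSup F} => Nat.card X.1)
  obtain ⟨X₀, hP, hle⟩ := X₀
  have hall : ∀ X ∈ F, X ≤ X₀ := by
    intro X hX
    have h1 := hX₀ ⟨X₀ ⊔ X, hsup _ _ hP (hF X hX), sup_le hle (le_sSup hX)⟩
    have h2 : X₀ = X₀ ⊔ X := Subgroup.eq_of_le_of_card_ge le_sup_left h1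
    rw [h2]
    exact le_sup_right
  have : sSup F = X₀ := le_antisymm (sSup_le hall) hle
  rw [this]
  exact hP

/-- A join of two subgroups each centralizing both is commutative. -/
theorem isMulCommutative_sup (H K : Subgroup G) (hH : H ≤ Subgroup.centralizer (H : Set G))
    (hK : K ≤ Subgroup.centralizer (K : Set G)) (hHK : H ≤ Subgroup.centralizer (K : Set G)) :
    IsMulCommutative ↥(H ⊔ K) := by
  rw [← Subgroup.le_centralizer_iff_isMulCommutative, centralizer_sup_eq]
  exact sup_le (le_inf hH hHK) (le_inf (Subgroup.le_centralizer_iff.mp hHK) hK)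

theorem le_centralizer_of_isMulCommutative (A : Subgroup G) (hA : IsMulCommutative A) :
    A ≤ Subgroup.centralizer (A : Set G) :=
  Subgroup.le_centralizer_iff_isMulCommutative.mpr hA

/-- An abelian subgroup of largest order is self-centralizing. -/
theorem centralizer_le_of_mem_maxAbelian [Finite G] (A : Subgroup G)
    (hA : A ∈ Cfsg.maxAbelianSubgroups G) : Subgroup.centralizer (A : Set G) ≤ A := by
  obtain ⟨hAc, hAmax⟩ := hA
  intro x hx
  have hAA := le_centralizer_of_isMulCommutative A hAc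
  have hxx : Subgroup.zpowers x ≤ Subgroup.centralizer ((Subgroup.zpowers x : Subgroup G) : Set G) :=
    le_centralizer_of_isMulCommutative _ inferInstance
  have hAx : A ≤ Subgroup.centralizer ((Subgroup.zpowers x : Subgroup G) : Set G) := by
    rw [Subgroup.le_centralizer_iff, Subgroup.zpowers_le]
    exact hx
  have hcomm := isMulCommutative_sup A (Subgroup.zpowers x) hAA hxx hAx
  have hcard := hAmax _ hcomm
  have : A = A ⊔ Subgroup.zpowers x := Subgroup.eq_of_le_of_card_ge le_sup_left hcard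
  rw [this]
  exact Subgroup.mem_sup_right (Subgroup.mem_zpowers x)

theorem exists_mem_maxAbelian [Finite G] : ∃ A : Subgroup G, A ∈ Cfsg.maxAbelianSubgroups G := by
  have : Nonempty {A : Subgroup G // IsMulCommutative A} :=
    ⟨⟨⊥, by rw [← Subgroup.le_centralizer_iff_isMulCommutative]; exact bot_le⟩⟩
  obtain ⟨A, hA⟩ := Finite.exists_max (fun A : {A : Subgroup G // IsMulCommutative A} => Nat.card A.1)
  exact ⟨A.1, A.2, fun B hB => hA ⟨B, hB⟩⟩

/-- Glauberman: for a centrally large `Q` and an abelian subgroup `A` of largest order,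
`QA` is a centrally large subgroup, and related facts. -/
theorem clm_sup_maxAbelian [Finite G] (Q A : Subgroup G) (hQ : clm Q = clmax G)
    (hA : A ∈ Cfsg.maxAbelianSubgroups G) :
    ((Q ⊔ A : Subgroup G) : Set G) = (Q : Set G) * (A : Set G) ∧ clm (Q ⊔ A) = clmax G ∧
    (Q ⊓ A) ⊔ (Q ⊓ Subgroup.centralizer (Q : Set G)) ∈ Cfsg.maxAbelianSubgroups G := by
  obtain ⟨hQ1, hQ2⟩ := cdm_eq_of_clm_eq Q hQ
  have hAc := hA.1
  have hAA := le_centralizer_of_isMulCommutative A hAc
  have hCA := centralizer_le_of_mem_maxAbelian A hA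
  have hCAeq : Subgroup.centralizer (A : Set G) = A := le_antisymm hCA hAA
  set Z := Q ⊓ Subgroup.centralizer (Q : Set G) with hZ
  have hZeq : Z = Subgroup.centralizer (Q : Set G) := inf_eq_right.mpr hQ2
  set D := Q ⊓ A with hD
  set E := Z ⊓ A with hE
  -- (i)
  have hDD : D ≤ Subgroup.centralizer (D : Set G) :=
    (inf_le_right.trans hAA).trans (Subgroup.centralizer_le (by exact_mod_cast (inf_le_right : D ≤ A)))
  have hZQ : Z ≤ Subgroup.centralizer (Q : Set G) := inf_le_right
  have hZZ : Z ≤ Subgroup.centralizer (Z : Set G) :=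
    hZQ.trans (Subgroup.centralizer_le (by exact_mod_cast (inf_le_left : Z ≤ Q)))
  have hDZ : D ≤ Subgroup.centralizer (Z : Set G) := by
    rw [Subgroup.le_centralizer_iff]
    exact hZQ.trans (Subgroup.centralizer_le (by exact_mod_cast (inf_le_left : D ≤ Q)))
  have hcommDZ := isMulCommutative_sup D Z hDD hZZ hDZ
  have hDZinf : D ⊓ Z = E := by
    rw [hD, hE, hZ]
    ext x
    simp only [Subgroup.mem_inf]
    tauto
  have s1 : Nat.card D * Nat.card Z ≤ Nat.card A * Nat.card E := by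
    have := card_mul_card_le_card_sup_mul_card_inf D Z
    rw [hDZinf] at this
    exact this.trans (Nat.mul_le_mul_right _ (hA.2 _ hcommDZ))
  -- (ii)
  have s2 : Nat.card Q * Nat.card A ≤ Nat.card ↥(Q ⊔ A) * Nat.card D :=
    card_mul_card_le_card_sup_mul_card_inf Q A
  -- (iii)
  have hCsup : Subgroup.centralizer ((Q ⊔ A : Subgroup G) : Set G) = E := by
    rw [centralizer_sup_eq, hCAeq, ← hZeq]
  have s3 : Nat.card ↥(Q ⊔ A) * Nat.card E ≤ Nat.card Q * Nat.card Z := by
    have h1 := cdm_le_cdmax (Q ⊔ A)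
    rw [← hQ1] at h1
    unfold cdm at h1
    rw [hCsup, ← hZeq] at h1
    exact h1
  have hQpos : 0 < Nat.card Q := Nat.card_pos
  have hApos : 0 < Nat.card A := Nat.card_pos
  have hEpos : 0 < Nat.card E := Nat.card_pos
  have hDpos : 0 < Nat.card D := Nat.card_pos
  have hZpos : 0 < Nat.card Z := Nat.card_pos
  have hSpos : 0 < Nat.card ↥(Q ⊔ A) := Nat.card_pos
  -- chain of inequalities is tight
  have c1 : Nat.card Q * Nat.card A * Nat.card E ≤ Nat.card ↥(Q ⊔ A) * Nat.card D * Nat.card E :=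
    Nat.mul_le_mul_right _ s2
  have c2 : Nat.card ↥(Q ⊔ A) * Nat.card D * Nat.card E ≤ Nat.card Q * Nat.card Z * Nat.card D := by
    calc Nat.card ↥(Q ⊔ A) * Nat.card D * Nat.card E
        = Nat.card ↥(Q ⊔ A) * Nat.card E * Nat.card D := by ring
      _ ≤ Nat.card Q * Nat.card Z * Nat.card D := Nat.mul_le_mul_right _ s3
  have c3 : Nat.card Q * Nat.card Z * Nat.card D ≤ Nat.card Q * Nat.card A * Nat.card E := by
    calc Nat.card Q * Nat.card Z * Nat.card D = Nat.card Q * (Nat.card D * Nat.card Z) := by ring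
      _ ≤ Nat.card Q * (Nat.card A * Nat.card E) := Nat.mul_le_mul_left _ s1
      _ = Nat.card Q * Nat.card A * Nat.card E := by ring
  have t1 : Nat.card Q * Nat.card A * Nat.card E = Nat.card ↥(Q ⊔ A) * Nat.card D * Nat.card E :=
    le_antisymm c1 (c2.trans c3)
  have t2 : Nat.card ↥(Q ⊔ A) * Nat.card D * Nat.card E = Nat.card Q * Nat.card Z * Nat.card D :=
    le_antisymm c2 (c3.trans c1)
  have t3 : Nat.card Q * Nat.card Z * Nat.card D = Nat.card Q * Nat.card A * Nat.card E :=
    le_antisymm c3 (c1.trans c2)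
  have e1 : Nat.card Q * Nat.card A = Nat.card ↥(Q ⊔ A) * Nat.card D :=
    Nat.eq_of_mul_eq_mul_right hEpos t1
  have e2 : Nat.card ↥(Q ⊔ A) * Nat.card E = Nat.card Q * Nat.card Z := by
    have : Nat.card ↥(Q ⊔ A) * Nat.card E * Nat.card D = Nat.card Q * Nat.card Z * Nat.card D := by
      rw [← t2]; ring
    exact Nat.eq_of_mul_eq_mul_right hDpos this
  have e3 : Nat.card D * Nat.card Z = Nat.card A * Nat.card E := by
    have : Nat.card Q * (Nat.card D * Nat.card Z) = Nat.card Q * (Nat.card A * Nat.card E) := by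
      calc Nat.card Q * (Nat.card D * Nat.card Z) = Nat.card Q * Nat.card Z * Nat.card D := by ring
        _ = Nat.card Q * Nat.card A * Nat.card E := t3
        _ = Nat.card Q * (Nat.card A * Nat.card E) := by ring
    exact Nat.eq_of_mul_eq_mul_left hQpos this
  refine ⟨coe_sup_eq_mul_of_card_eq Q A e1, ?_, ?_⟩
  · apply clm_eq_of_cdm_eq
    · rw [← hQ1]
      unfold cdm
      rw [hCsup, ← hZeq]
      exact e2
    · rw [hCsup]
      exact inf_le_right.trans le_sup_right
  · refine ⟨hcommDZ, ?_⟩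
    intro B hB
    refine (hA.2 B hB).trans ?_
    -- |A| ≤ |D ⊔ Z|
    have h5 := card_mul_card_le_card_sup_mul_card_inf D Z
    rw [hDZinf, e3] at h5
    exact Nat.le_of_mul_le_mul_right h5 hEpos

end Cfsg.Agent.Lib.Helper18
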