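import Mathlib.GroupTheory.Sylow
import Mathlib.GroupTheory.QuotientGroup.Basic
import Mathlib.GroupTheory.Nilpotent
import Mathlib.GroupTheory.Transfer

set_option autoImplicit false

namespace Cfsg.Agent.Lib.Helper18

open Subgroup MulAction

/-- Sylow conjugacy inside an intermediate subgroup: a `p`-subgroup `Q` of `H` is conjugate,
by an element of `H`, into a Sylow `p`-subgroup `P` of `G` that lies in `H`. -/
theorem exists_conj_le_sylow_of_le {G : Type*} [Group G] [Finite G] {p : ℕ} [Fact p.Prime]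
    (P : Sylow p G) (H : Subgroup G) (hPH : (P : Subgroup G) ≤ H) (Q : Subgroup G)
    (hQ : IsPGroup p Q) (hQH : Q ≤ H) :
    ∃ k ∈ H, Q.map (MulAut.conj k).toMonoidHom ≤ (P : Subgroup G) := by
  have hQ' : IsPGroup p (Q.subgroupOf H) := hQ.comap_subtype
  obtain ⟨Q', hQ'le⟩ := hQ'.exists_le_sylow
  obtain ⟨k, hk⟩ := exists_smul_eq H Q' (P.subtype hPH)
  refine ⟨k, k.2, ?_⟩
  rintro _ ⟨q, hq, rfl⟩
  have h1 : (⟨q, hQH hq⟩ : H) ∈ (Q' : Subgroup H) := hQ'le (by simpa [Subgroup.mem_subgroupOf] using hq)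
  have h2 : MulAut.conj k • (⟨q, hQH hq⟩ : H) ∈ ((k • Q' : Sylow p H) : Subgroup H) := by
    rw [Sylow.coe_subgroup_smul]
    exact Subgroup.smul_mem_pointwise_smul _ _ _ h1
  rw [hk] at h2
  simpa [Sylow.coe_subtype, Subgroup.mem_subgroupOf, MulAut.smul_def] using h2

/-- If `w` commutes with `b ^ M` and `M` is coprime to the order of `b` (in a finite group),
then `w` commutes with `b`. -/
theorem commute_of_commute_pow_coprime {G : Type*} [Group G] [Finite G] (w b : G) (M : ℕ)
    (hcop : (orderOf b).Coprime M) (h : Commute w (b ^ M)) : Commute w b := by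
  have hn : 0 < orderOf b := orderOf_pos b
  have hmem : b ∈ Subgroup.zpowers (b ^ M) := by
    have hle : Subgroup.zpowers (b ^ M) ≤ Subgroup.zpowers b :=
      Subgroup.zpowers_le.mpr (Subgroup.pow_mem _ (Subgroup.mem_zpowers b) M)
    have hcard : Nat.card (Subgroup.zpowers b) ≤ Nat.card (Subgroup.zpowers (b ^ M)) := by
      rw [Nat.card_zpowers, Nat.card_zpowers, hcop.orderOf_pow]
    rw [Subgroup.eq_of_le_of_card_ge hle hcard]
    exact Subgroup.mem_zpowers b
  obtain ⟨k, hk⟩ := hmem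
  rw [← hk]
  exact h.zpow_right k

/-- Normalizers grow in finite `p`-groups, phrased for subgroups `H < T` of an ambient group. -/
theorem exists_mem_normalizer_not_mem_of_lt {G : Type*} [Group G] {p : ℕ} [Fact p.Prime]
    (H T : Subgroup G) [Finite T] (hT : IsPGroup p T) (hlt : H < T) :
    ∃ t ∈ T, t ∉ H ∧ t ∈ Subgroup.normalizer (H : Set G) := by
  haveI : Group.IsNilpotent T := hT.isNilpotent
  have hnc : NormalizerCondition T := Group.normalizerCondition_of_isNilpotent
  have hlt' : H.subgroupOf T < ⊤ := by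
    rw [lt_top_iff_ne_top, Ne, Subgroup.subgroupOf_eq_top]
    exact not_le_of_gt hlt
  obtain ⟨t, htn, htH⟩ := SetLike.exists_of_lt (hnc _ hlt')
  refine ⟨t, t.2, ?_, ?_⟩
  · intro h
    exact htH (Subgroup.mem_subgroupOf.mpr h)
  · rw [Subgroup.mem_normalizer_iff] at htn ⊢
    intro h
    constructor
    · intro hh
      have := (htn ⟨h, hlt.le hh⟩).mp (Subgroup.mem_subgroupOf.mpr hh)
      simpa [Subgroup.mem_subgroupOf] using this
    · intro hh
      have hhT : h ∈ T := by
        have h1 : (t : G) * h * (t : G)⁻¹ ∈ T := hlt.le hh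
        have h2 : h = (t : G)⁻¹ * ((t : G) * h * (t : G)⁻¹) * (t : G) := by group
        rw [h2]
        exact T.mul_mem (T.mul_mem (T.inv_mem t.2) h1) t.2
      have := (htn ⟨h, hhT⟩).mpr (by simpa [Subgroup.mem_subgroupOf] using hh)
      simpa [Subgroup.mem_subgroupOf] using this

/-- If `T < T₂ ≤ K` with `T₂` a finite `p`-group, then `p` divides the index of `T` in `K`. -/
theorem dvd_relIndex_of_lt_isPGroup {G : Type*} [Group G] [Finite G] {p : ℕ} [Fact p.Prime]
    (T T₂ K : Subgroup G) (hlt : T < T₂) (hle : T₂ ≤ K) (hT₂ : IsPGroup p T₂) :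
    p ∣ T.relIndex K := by
  rw [← Subgroup.relIndex_mul_relIndex T T₂ K hlt.le hle]
  apply Dvd.dvd.mul_right
  obtain ⟨n, hn⟩ := hT₂.index (T.subgroupOf T₂)
  have hne : T.relIndex T₂ ≠ 1 := by
    rw [Ne, Subgroup.relIndex_eq_one]
    exact not_le_of_gt hlt
  rw [Subgroup.relIndex, hn] at hne ⊢
  cases n with
  | zero => simp at hne
  | succ n => exact dvd_pow_self p (Nat.succ_ne_zero n)

/-- If `T ≤ K` is a `p`-subgroup whose index in `K` is divisible by `p`, then `T` is properly
contained in a `p`-subgroup of `K`. -/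
theorem exists_lt_isPGroup_of_dvd_relIndex {G : Type*} [Group G] [Finite G] {p : ℕ}
    [Fact p.Prime] (T K : Subgroup G) (hTK : T ≤ K) (hT : IsPGroup p T)
    (hdvd : p ∣ T.relIndex K) : ∃ T₁ : Subgroup G, T < T₁ ∧ T₁ ≤ K ∧ IsPGroup p T₁ := by
  have hT' : IsPGroup p (T.subgroupOf K) := hT.comap_subtype
  obtain ⟨S, hS⟩ := hT'.exists_le_sylow
  refine ⟨(S : Subgroup K).map K.subtype, ?_, ?_, S.2.map _⟩
  · have hle : T ≤ (S : Subgroup K).map K.subtype := by
      intro t ht
      exact ⟨⟨t, hTK ht⟩, hS (Subgroup.mem_subgroupOf.mpr ht), rfl⟩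
    refine lt_of_le_of_ne hle ?_
    intro heq
    have h1 : T.subgroupOf K = (S : Subgroup K) := by
      rw [heq]
      ext k
      rw [Subgroup.mem_subgroupOf]
      constructor
      · rintro ⟨s, hs, hsk⟩
        have : s = k := Subtype.ext hsk
        rwa [← this]
      · intro hk
        exact ⟨k, hk, rfl⟩
    rw [Subgroup.relIndex, h1] at hdvd
    exact S.not_dvd_index hdvd
  · rintro _ ⟨s, _, rfl⟩
    exact s.2

end Cfsg.Agent.Lib.Helper18
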