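import Mathlib
import Cfsg.Agent.S1965
import Cfsg.Agent.Lib.Helper13.Conj
import Cfsg.Agent.Lib.Helper13.Sylow
import Cfsg.Agent.Lib.Helper13.SylowRel
import Cfsg.Agent.Lib.Helper13.PGroup
import Cfsg.Agent.Lib.Helper17.SylowNormal

/-!
# Centric-radical form of the Alperin-Goldschmidt fusion theorem

`agp`: if a subgroup `M` induces on every fully normalized centric-radical subgroup `U` of a Sylow
subgroup `S` all the automorphisms induced by `N_G(U)`, then `M` controls strong fusion in `S`.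
Also: stabilizers of chains in a `p`-group are `p`-groups modulo the centralizer.
-/

set_option autoImplicit false

namespace Cfsg.Agent.Lib.Helper18.FusionCR

open Cfsg.Agent.Lib.Helper13

variable {G : Type*} [Group G]

/-- `U` is fully normalized in `S`: `N_S(U)` has index prime to `p` in `N_G(U)` -/
def IsFN (p : ℕ) (S U : Subgroup G) : Prop :=
  ¬ p ∣ (S ⊓ Subgroup.normalizer (U : Set G)).relIndex (Subgroup.normalizer (U : Set G))

/-- `K` is a normal subgroup of `N(U)` containing `C(U)` with `K / C(U)` a `p`-group -/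
def IsPOver (p : ℕ) (U K : Subgroup G) : Prop :=
  Subgroup.centralizer (U : Set G) ≤ K ∧ K ≤ Subgroup.normalizer (U : Set G) ∧
    Subgroup.normalizer (U : Set G) ≤ Subgroup.normalizer (K : Set G) ∧
    ∀ k ∈ K, ∃ j : ℕ, k ^ p ^ j ∈ Subgroup.centralizer (U : Set G)

/-- `U` is centric and radical (relative to `S`): every `K ⊴ N(U)` over `C(U)` with `K / C(U)` a
`p`-group meets `S` inside `U` -/
def IsCR (p : ℕ) (S U : Subgroup G) : Prop :=
  ∀ K : Subgroup G, IsPOver p U K → S ⊓ K ≤ U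

theorem conj_mem_centralizer_of_mem_normalizer (U : Subgroup G) {x c : G}
    (hx : x ∈ Subgroup.normalizer (U : Set G)) (hc : c ∈ Subgroup.centralizer (U : Set G)) :
    x * c * x⁻¹ ∈ Subgroup.centralizer (U : Set G) := by
  rw [Subgroup.mem_centralizer_iff]
  intro u hu
  have hu' : x⁻¹ * u * x ∈ U := by
    have := (Subgroup.mem_normalizer_iff.mp (Subgroup.inv_mem _ hx) u).mp hu
    simpa using this
  have h1 := Subgroup.mem_centralizer_iff.mp hc _ hu'
  calc u * (x * c * x⁻¹) = x * ((x⁻¹ * u * x) * c) * x⁻¹ := by group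
    _ = x * (c * (x⁻¹ * u * x)) * x⁻¹ := by rw [h1]
    _ = x * c * x⁻¹ * u := by group

theorem normalizer_le_normalizer_centralizer (U : Subgroup G) :
    Subgroup.normalizer (U : Set G) ≤
      Subgroup.normalizer ((Subgroup.centralizer (U : Set G) : Subgroup G) : Set G) := by
  intro x hx
  rw [Subgroup.mem_normalizer_iff]
  intro c
  constructor
  · intro hc; exact conj_mem_centralizer_of_mem_normalizer U hx hc
  · intro hc
    have := conj_mem_centralizer_of_mem_normalizer U (Subgroup.inv_mem _ hx) hc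
    have e : x⁻¹ * (x * c * x⁻¹) * x⁻¹⁻¹ = c := by group
    rw [e] at this; exact this

theorem isCR_centric {p : ℕ} {S U : Subgroup G} (h : IsCR p S U) :
    S ⊓ Subgroup.centralizer (U : Set G) ≤ U := by
  apply h
  refine ⟨le_rfl, Subgroup.centralizer_le_normalizer _, normalizer_le_normalizer_centralizer U, ?_⟩
  intro k hk
  exact ⟨0, by simpa using hk⟩

section finite

variable [Finite G] {p : ℕ} [Fact p.Prime]

omit [Fact p.Prime] in
/-- for `U` fully normalized and `K` over `C(U)` with `p`-group quotient, `S ∩ K` is a Sylow subgroup of `K` -/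
theorem not_dvd_relIndex_pover (S : Sylow p G) {U K : Subgroup G} (hU : IsFN p (S : Subgroup G) U)
    (hK : IsPOver p U K) : ¬ p ∣ ((S : Subgroup G) ⊓ K).relIndex K := by
  obtain ⟨-, hKN, hNK, -⟩ := hK
  set N : Subgroup G := Subgroup.normalizer (U : Set G) with hN
  have hKn : (K.subgroupOf N).Normal := by
    constructor
    intro k hk n
    rw [Subgroup.mem_subgroupOf] at hk ⊢
    have hn : (n : G) ∈ Subgroup.normalizer (K : Set G) := hNK n.2
    exact (Subgroup.mem_normalizer_iff.mp hn _).mp hk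
  have h1 := Cfsg.Agent.Lib.Helper17.relIndex_dvd_index_of_normal_right
    (((S : Subgroup G) ⊓ N).subgroupOf N) (K.subgroupOf N)
  rw [Subgroup.relIndex_subgroupOf hKN] at h1
  have h2 : (((S : Subgroup G) ⊓ N).subgroupOf N).index = ((S : Subgroup G) ⊓ N).relIndex N := rfl
  rw [h2] at h1
  have h3 : ((S : Subgroup G) ⊓ K).relIndex K = ((S : Subgroup G) ⊓ N).relIndex K := by
    rw [← Subgroup.inf_relIndex_right ((S : Subgroup G) ⊓ N) K]
    congr 1
    rw [inf_assoc, inf_eq_right.mpr hKN]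
  rw [h3]
  exact fun h => hU (dvd_trans h h1)

/-- `K = C(U) (S ∩ K)` -/
theorem pover_eq (S : Sylow p G) {U K : Subgroup G} (hU : IsFN p (S : Subgroup G) U)
    (hK : IsPOver p U K) {k : G} (hk : k ∈ K) :
    ∃ c ∈ Subgroup.centralizer (U : Set G), ∃ r ∈ (S : Subgroup G) ⊓ K, k = c * r := by
  have hp : p.Prime := Fact.out
  have hsyl := not_dvd_relIndex_pover S hU hK
  obtain ⟨hCK, hKN, hNK, hpow⟩ := hK
  set C : Subgroup G := Subgroup.centralizer (U : Set G) with hC
  set R : Subgroup G := (S : Subgroup G) ⊓ K with hR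
  -- `C` is normal in `K` with `p`-group quotient
  have hCn : (C.subgroupOf K).Normal := by
    constructor
    intro c hc n
    rw [Subgroup.mem_subgroupOf] at hc ⊢
    exact conj_mem_centralizer_of_mem_normalizer U (hKN n.2) hc
  have hquot : IsPGroup p (↥K ⧸ C.subgroupOf K) := by
    intro q
    induction q using QuotientGroup.induction_on with
    | H k' =>
      obtain ⟨j, hj⟩ := hpow k' k'.2
      refine ⟨j, ?_⟩
      rw [← QuotientGroup.mk_pow, QuotientGroup.eq_one_iff, Subgroup.mem_subgroupOf]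
      simpa using hj
  obtain ⟨n, hn⟩ := hquot.exists_card_eq
  have hCrel : C.relIndex K = p ^ n := by
    rw [← hn]; rfl
  -- the subgroup `C ⊔ R`
  have hle1 : C ≤ C ⊔ R := le_sup_left
  have hle2 : R ≤ C ⊔ R := le_sup_right
  have hd1 : (C ⊔ R).relIndex K ∣ p ^ n := by
    rw [← hCrel]; exact Subgroup.relIndex_dvd_of_le_left K hle1
  have hd2 : (C ⊔ R).relIndex K ∣ R.relIndex K := Subgroup.relIndex_dvd_of_le_left K hle2
  obtain ⟨m, -, hm⟩ := (Nat.dvd_prime_pow hp).mp hd1
  have hm0 : m = 0 := by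
    by_contra hne
    apply hsyl
    refine dvd_trans ?_ hd2
    rw [hm]; exact dvd_pow_self p hne
  rw [hm0, pow_zero] at hm
  have hKle : K ≤ C ⊔ R := Subgroup.relIndex_eq_one.mp hm
  have hRN : R ≤ Subgroup.normalizer ((C : Subgroup G) : Set G) :=
    (inf_le_right.trans hKN).trans (normalizer_le_normalizer_centralizer U)
  have hmem : k ∈ ((C ⊔ R : Subgroup G) : Set G) := hKle hk
  rw [Subgroup.coe_mul_of_right_le_normalizer_left C R hRN] at hmem
  obtain ⟨c, hc, r, hr, rfl⟩ := hmem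
  exact ⟨c, hc, r, hr, rfl⟩

/-- Frattini argument for `K ⊴ N(U)` -/
theorem frattini_pover (S : Sylow p G) {U K : Subgroup G} (hU : IsFN p (S : Subgroup G) U)
    (hK : IsPOver p U K) {x : G} (hx : x ∈ Subgroup.normalizer (U : Set G)) :
    ∃ c ∈ Subgroup.centralizer (U : Set G), ∃ y ∈ Subgroup.normalizer (U : Set G) ⊓
      Subgroup.normalizer (((S : Subgroup G) ⊓ K : Subgroup G) : Set G), x = c * y := by
  have hsyl := not_dvd_relIndex_pover S hU hK
  have hK' := hK
  obtain ⟨hCK, hKN, hNK, hpow⟩ := hK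
  set R : Subgroup G := (S : Subgroup G) ⊓ K with hR
  have hRp : IsPGroup p R := S.isPGroup'.to_le inf_le_left
  have hRx : R.map (MulAut.conj x).toMonoidHom ≤ K := by
    rw [map_conj_le_iff]
    intro r hr
    exact (Subgroup.mem_normalizer_iff.mp (hNK hx) r).mp (Subgroup.mem_inf.mp hr).2
  obtain ⟨k, hkK, hk⟩ := exists_conj_le_of_relIndex K R (R.map (MulAut.conj x).toMonoidHom) hRp hsyl hRx
    (hRp.map _)
  have hle : R.map (MulAut.conj (k * x)).toMonoidHom ≤ R := by
    rw [map_conj_mul, map_conj_le_iff]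
    exact hk
  have heq : R.map (MulAut.conj (k * x)).toMonoidHom = R := by
    apply Subgroup.eq_of_le_of_card_ge hle
    rw [card_map_conj]
  have hkxR : k * x ∈ Subgroup.normalizer (R : Set G) := (map_conj_eq_self_iff_mem_normalizer R (k * x)).mp heq
  obtain ⟨c, hc, r, hr, hkr⟩ := pover_eq S hU hK' (K.inv_mem hkK)
  refine ⟨c, hc, r * (k * x), Subgroup.mem_inf.mpr ⟨?_, ?_⟩, ?_⟩
  · exact Subgroup.mul_mem _ (hKN (Subgroup.mem_inf.mp hr).2) (Subgroup.mul_mem _ (hKN hkK) hx)
  · exact Subgroup.mul_mem _ (Subgroup.le_normalizer hr) hkxR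
  · calc x = k⁻¹ * (k * x) := by group
      _ = c * r * (k * x) := by rw [hkr]
      _ = c * (r * (k * x)) := by group

/-- a subgroup mapped into a subgroup of the same (finite) order by conjugation is normalized -/
theorem mem_normalizer_of_conj_mem (H : Subgroup G) {g : G} (h : ∀ t ∈ H, g * t * g⁻¹ ∈ H) :
    g ∈ Subgroup.normalizer (H : Set G) := by
  have h1 : H.map (MulAut.conj g).toMonoidHom ≤ H := by
    rw [map_conj_le_iff]; exact h
  have h2 : H.map (MulAut.conj g).toMonoidHom = H :=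
    Subgroup.eq_of_le_of_card_ge h1 (card_map_conj _ _).ge
  exact (map_conj_eq_self_iff_mem_normalizer _ _).mp h2

theorem isFN_sylow (S : Sylow p G) : IsFN p (S : Subgroup G) (S : Subgroup G) := by
  unfold IsFN
  rw [inf_eq_left.mpr Subgroup.le_normalizer]
  exact fun h => S.not_dvd_index (dvd_trans h (Subgroup.relIndex_dvd_index_of_le Subgroup.le_normalizer))

omit [Finite G] [Fact p.Prime] in
theorem isCR_self (S : Subgroup G) : IsCR p S S := fun _ _ => inf_le_left

/-- **Alperin-Goldschmidt principle**: a subgroup `M` inducing all of `Aut_G(U)` on every fully normalized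
centric radical `U ≤ S` controls strong fusion in `S`. -/
theorem agp (S : Sylow p G) (M : Subgroup G)
    (hM : ∀ U : Subgroup G, U ≤ (S : Subgroup G) → IsFN p (S : Subgroup G) U → IsCR p (S : Subgroup G) U →
      ∀ x ∈ Subgroup.normalizer (U : Set G), ∃ m ∈ M, ∀ u ∈ U, m * u * m⁻¹ = x * u * x⁻¹) :
    ∀ (T : Subgroup G) (g : G), T ≤ (S : Subgroup G) → (∀ t ∈ T, g * t * g⁻¹ ∈ (S : Subgroup G)) →
      ∃ m ∈ M, ∀ t ∈ T, m * t * m⁻¹ = g * t * g⁻¹ := by
  have key : ∀ (n : ℕ) (T : Subgroup G) (g : G), T ≤ (S : Subgroup G) →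
      (∀ t ∈ T, g * t * g⁻¹ ∈ (S : Subgroup G)) → Nat.card (S : Subgroup G) - Nat.card T = n →
      ∃ m ∈ M, ∀ t ∈ T, m * t * m⁻¹ = g * t * g⁻¹ := by
    intro n
    induction n using Nat.strong_induction_on with
    | _ n ih =>
    intro T g hTS hTg hn
    by_cases hT : T = (S : Subgroup G)
    · subst hT
      exact hM _ le_rfl (isFN_sylow S) (isCR_self _) g (mem_normalizer_of_conj_mem _ hTg)
    · have hTlt : T < (S : Subgroup G) := lt_of_le_of_ne hTS hT
      have IH : ∀ (V : Subgroup G) (b : G), V ≤ (S : Subgroup G) → (∀ v ∈ V, b * v * b⁻¹ ∈ (S : Subgroup G)) →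
          Nat.card T < Nat.card V → ∃ m ∈ M, ∀ v ∈ V, m * v * m⁻¹ = b * v * b⁻¹ := by
        intro V b hVS hVb hcard
        have hVle : Nat.card V ≤ Nat.card (S : Subgroup G) := Subgroup.card_le_of_le hVS
        have hTle : Nat.card T ≤ Nat.card (S : Subgroup G) := Subgroup.card_le_of_le hTS
        exact ih (Nat.card (S : Subgroup G) - Nat.card V) (by omega) V b hVS hVb rfl
      -- a fully normalized conjugate `U` of `T`
      obtain ⟨n0, hn0S, hn0FN⟩ := exists_conj_normalizer_sylow S T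
      obtain ⟨U, hUdef⟩ : ∃ U : Subgroup G, U = T.map (MulAut.conj n0).toMonoidHom := ⟨_, rfl⟩
      rw [← hUdef] at hn0FN
      have hUFN : IsFN p (S : Subgroup G) U := hn0FN
      have hUS : U ≤ (S : Subgroup G) := by
        rw [hUdef]
        exact (Subgroup.map_mono (le_inf hTS Subgroup.le_normalizer)).trans hn0S
      have hUcard : Nat.card U = Nat.card T := by rw [hUdef]; exact card_map_conj _ _
      -- first leg
      obtain ⟨a1, ha1, ha1N⟩ := Cfsg.Agent.S1965.step_X S U T n0 hn0FN hUdef.symm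
      have hNT : T < (S : Subgroup G) ⊓ Subgroup.normalizer (T : Set G) :=
        lt_inf_normalizer_of_lt (S : Subgroup G) T S.isPGroup' hTlt
      obtain ⟨m1, hm1M, hm1⟩ := IH _ a1 inf_le_left (fun v hv => (Subgroup.mem_inf.mp (ha1N v hv)).1)
        (card_lt_card_of_lt hNT)
      -- the image `T2 = g T g⁻¹`
      obtain ⟨T2, hT2⟩ : ∃ T2 : Subgroup G, T2 = T.map (MulAut.conj g).toMonoidHom := ⟨_, rfl⟩
      have hT2S : T2 ≤ (S : Subgroup G) := by
        rw [hT2, map_conj_le_iff]; exact hTg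
      have hT2card : Nat.card T2 = Nat.card T := by rw [hT2]; exact card_map_conj _ _
      have hT2ne : T2 ≠ (S : Subgroup G) := by
        intro heq
        have h1 : Nat.card T < Nat.card (S : Subgroup G) := card_lt_card_of_lt hTlt
        rw [← heq, hT2card] at h1
        exact lt_irrefl _ h1
      have hT2lt : T2 < (S : Subgroup G) := lt_of_le_of_ne hT2S hT2ne
      have hT2U : T2.map (MulAut.conj (n0 * g⁻¹)).toMonoidHom = U := by
        rw [hT2, ← map_conj_mul, hUdef]
        have : n0 * g⁻¹ * g = n0 := by group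
        rw [this]
      obtain ⟨a2, ha2, ha2N⟩ := Cfsg.Agent.S1965.step_X S U T2 (n0 * g⁻¹) hn0FN hT2U
      have hNT2 : T2 < (S : Subgroup G) ⊓ Subgroup.normalizer (T2 : Set G) :=
        lt_inf_normalizer_of_lt (S : Subgroup G) T2 S.isPGroup' hT2lt
      obtain ⟨m2, hm2M, hm2⟩ := IH _ a2 inf_le_left (fun v hv => (Subgroup.mem_inf.mp (ha2N v hv)).1)
        (by rw [← hT2card]; exact card_lt_card_of_lt hNT2)
      -- the middle element
      obtain ⟨mid, hmid⟩ : ∃ mid : G, mid = a2 * g * a1⁻¹ := ⟨_, rfl⟩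
      have hmidN : mid ∈ Subgroup.normalizer (U : Set G) := by
        rw [← map_conj_eq_self_iff_mem_normalizer]
        have e1 : U.map (MulAut.conj a1⁻¹).toMonoidHom = T := by
          rw [← ha1, map_conj_inv_map_conj]
        rw [hmid, map_conj_mul, map_conj_mul, e1, ← hT2, ha2]
      have hmidM : ∃ m ∈ M, ∀ u ∈ U, m * u * m⁻¹ = mid * u * mid⁻¹ := by
        by_cases hCR : IsCR p (S : Subgroup G) U
        · exact hM U hUS hUFN hCR mid hmidN
        · unfold IsCR at hCR
          push Not at hCR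
          obtain ⟨K, hK, hKU⟩ := hCR
          obtain ⟨c, hc, y, hy, hxy⟩ := frattini_pover S hUFN hK hmidN
          obtain ⟨hyU, hyR⟩ := Subgroup.mem_inf.mp hy
          obtain ⟨U', hU'⟩ : ∃ U' : Subgroup G, U' = U ⊔ ((S : Subgroup G) ⊓ K) := ⟨_, rfl⟩
          have hU'S : U' ≤ (S : Subgroup G) := by rw [hU']; exact sup_le hUS inf_le_left
          have hUlt : U < U' := by
            rw [hU']
            refine lt_of_le_of_ne le_sup_left ?_
            intro heq
            apply hKU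
            rw [heq]; exact le_sup_right
          have hyU' : y ∈ Subgroup.normalizer (U' : Set G) := by
            rw [← map_conj_eq_self_iff_mem_normalizer, hU', Subgroup.map_sup,
              (map_conj_eq_self_iff_mem_normalizer U y).mpr hyU,
              (map_conj_eq_self_iff_mem_normalizer _ y).mpr hyR]
          have hyconj : ∀ t ∈ U', y * t * y⁻¹ ∈ (S : Subgroup G) := fun t ht =>
            hU'S ((Subgroup.mem_normalizer_iff.mp hyU' t).mp ht)
          obtain ⟨my, hmyM, hmy⟩ := IH U' y hU'S hyconj (by rw [← hUcard]; exact card_lt_card_of_lt hUlt)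
          refine ⟨my, hmyM, ?_⟩
          intro u hu
          rw [hmy u (hUlt.le hu), hxy]
          have hyu : y * u * y⁻¹ ∈ U := (Subgroup.mem_normalizer_iff.mp hyU u).mp hu
          have h1 := Subgroup.mem_centralizer_iff.mp hc _ hyu
          calc y * u * y⁻¹ = (y * u * y⁻¹) * c * c⁻¹ := by group
            _ = c * (y * u * y⁻¹) * c⁻¹ := by rw [h1]
            _ = c * y * u * (c * y)⁻¹ := by group
      obtain ⟨mm, hmmM, hmm⟩ := hmidM
      refine ⟨m2⁻¹ * mm * m1, M.mul_mem (M.mul_mem (M.inv_mem hm2M) hmmM) hm1M, ?_⟩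
      intro t ht
      have htN : t ∈ (S : Subgroup G) ⊓ Subgroup.normalizer (T : Set G) := hNT.le ht
      have h1 := hm1 t htN
      have hu1 : a1 * t * a1⁻¹ ∈ U := by
        rw [← ha1]; exact conj_mem_map_conj T a1 ht
      have h2 := hmm _ hu1
      have ht2 : g * t * g⁻¹ ∈ T2 := by
        rw [hT2]; exact conj_mem_map_conj T g ht
      have h3 := hm2 _ (hNT2.le ht2)
      have e : mid * (a1 * t * a1⁻¹) * mid⁻¹ = a2 * (g * t * g⁻¹) * a2⁻¹ := by
        rw [hmid]; group
      calc m2⁻¹ * mm * m1 * t * (m2⁻¹ * mm * m1)⁻¹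
          = m2⁻¹ * (mm * (m1 * t * m1⁻¹) * mm⁻¹) * m2 := by group
        _ = m2⁻¹ * (m2 * (g * t * g⁻¹) * m2⁻¹) * m2 := by rw [h1, h2, e, h3]
        _ = g * t * g⁻¹ := by group
  intro T g hTS hTg
  exact key _ T g hTS hTg rfl

end finite

/-! ### Stabilizers of chains -/

/-- the stabilizer in `N(U)` of the chain `D 0 ≥ D 1 ≥ …` (acting trivially on the factors) -/
def chainStab (U : Subgroup G) (D : ℕ → Subgroup G) : Subgroup G where
  carrier := {x | x ∈ Subgroup.normalizer (U : Set G) ∧ ∀ j, ∀ u ∈ D j,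
    (x * u * x⁻¹ ∈ D j ∧ x⁻¹ * u * x ∈ D j) ∧
      (x * u * x⁻¹ * u⁻¹ ∈ D (j + 1) ∧ x⁻¹ * u * x * u⁻¹ ∈ D (j + 1))}
  one_mem' := by
    refine ⟨Subgroup.one_mem _, ?_⟩
    intro j u hu
    simp [hu]
  mul_mem' := by
    rintro x y ⟨hxN, hx⟩ ⟨hyN, hy⟩
    refine ⟨Subgroup.mul_mem _ hxN hyN, ?_⟩
    intro j u hu
    obtain ⟨⟨hy1, hy2⟩, ⟨hy3, hy4⟩⟩ := hy j u hu
    obtain ⟨⟨hx1, hx2⟩, ⟨hx3, hx4⟩⟩ := hx j u hu
    refine ⟨⟨?_, ?_⟩, ⟨?_, ?_⟩⟩
    · have := ((hx j _ hy1).1).1
      have e : x * y * u * (x * y)⁻¹ = x * (y * u * y⁻¹) * x⁻¹ := by group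
      rw [e]; exact this
    · have := ((hy j _ hx2).1).2
      have e : (x * y)⁻¹ * u * (x * y) = y⁻¹ * (x⁻¹ * u * x) * y := by group
      rw [e]; exact this
    · have h1 := ((hx (j + 1) _ hy3).1).1
      have e : x * y * u * (x * y)⁻¹ * u⁻¹ = (x * (y * u * y⁻¹ * u⁻¹) * x⁻¹) * (x * u * x⁻¹ * u⁻¹) := by group
      rw [e]; exact Subgroup.mul_mem _ h1 hx3
    · have h1 := ((hy (j + 1) _ hx4).1).2
      have e : (x * y)⁻¹ * u * (x * y) * u⁻¹ = (y⁻¹ * (x⁻¹ * u * x * u⁻¹) * y) * (y⁻¹ * u * y * u⁻¹) := by group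
      rw [e]; exact Subgroup.mul_mem _ h1 hy4
  inv_mem' := by
    rintro x ⟨hxN, hx⟩
    refine ⟨Subgroup.inv_mem _ hxN, ?_⟩
    intro j u hu
    obtain ⟨⟨hx1, hx2⟩, ⟨hx3, hx4⟩⟩ := hx j u hu
    rw [inv_inv]
    exact ⟨⟨hx2, hx1⟩, ⟨hx4, hx3⟩⟩

theorem mem_chainStab {U : Subgroup G} {D : ℕ → Subgroup G} {x : G} :
    x ∈ chainStab U D ↔ x ∈ Subgroup.normalizer (U : Set G) ∧ ∀ j, ∀ u ∈ D j,
      (x * u * x⁻¹ ∈ D j ∧ x⁻¹ * u * x ∈ D j) ∧
        (x * u * x⁻¹ * u⁻¹ ∈ D (j + 1) ∧ x⁻¹ * u * x * u⁻¹ ∈ D (j + 1)) := Iff.rfl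

/-- an element stabilizing a finite chain in a `p`-group `U` has a `p`-power centralizing `U` -/
theorem exists_pow_mem_centralizer_of_chain [Finite G] {p : ℕ} [Fact p.Prime] {U : Subgroup G}
    (hUp : IsPGroup p U) (D : ℕ → Subgroup G) (hD0 : D 0 = U) (hDU : ∀ j, D j ≤ U) {c : ℕ} (hDc : D c = ⊥)
    {x : G} (hx : ∀ j, ∀ u ∈ D j, x * u * x⁻¹ ∈ D j ∧ x * u * x⁻¹ * u⁻¹ ∈ D (j + 1)) :
    ∃ j : ℕ, x ^ p ^ j ∈ Subgroup.centralizer (U : Set G) := by
  have hp : p.Prime := Fact.out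
  -- powers of `x` stabilize the chain
  have hpow : ∀ k : ℕ, ∀ j, ∀ u ∈ D j, x ^ k * u * (x ^ k)⁻¹ ∈ D j ∧ x ^ k * u * (x ^ k)⁻¹ * u⁻¹ ∈ D (j + 1) := by
    intro k
    induction k with
    | zero => intro j u hu; simp [hu]
    | succ k ih =>
      intro j u hu
      obtain ⟨h1, h2⟩ := hx j u hu
      refine ⟨?_, ?_⟩
      · have := (ih j _ h1).1
        have e : x ^ (k + 1) * u * (x ^ (k + 1))⁻¹ = x ^ k * (x * u * x⁻¹) * (x ^ k)⁻¹ := by
          rw [pow_succ]; group
        rw [e]; exact this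
      · have h3 := (ih (j + 1) _ h2).1
        have h4 := (ih j u hu).2
        have e : x ^ (k + 1) * u * (x ^ (k + 1))⁻¹ * u⁻¹ =
            (x ^ k * (x * u * x⁻¹ * u⁻¹) * (x ^ k)⁻¹) * (x ^ k * u * (x ^ k)⁻¹ * u⁻¹) := by
          rw [pow_succ]; group
        rw [e]; exact Subgroup.mul_mem _ h3 h4
  have hn0 : orderOf x ≠ 0 := (orderOf_pos x).ne'
  obtain ⟨a, m, hpm, hnm⟩ := Nat.exists_eq_pow_mul_and_not_dvd hn0 p hp.ne_one
  obtain ⟨y, hy⟩ : ∃ y : G, y = x ^ p ^ a := ⟨_, rfl⟩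
  have hym : y ^ m = 1 := by
    rw [hy, ← pow_mul, ← hnm]; exact pow_orderOf_eq_one x
  have hyst : ∀ j, ∀ u ∈ D j, y * u * y⁻¹ ∈ D j ∧ y * u * y⁻¹ * u⁻¹ ∈ D (j + 1) := by
    intro j u hu; rw [hy]; exact hpow _ j u hu
  -- `y` centralizes each `D j`
  have hcent : ∀ i j : ℕ, j + i = c → ∀ u ∈ D j, y * u * y⁻¹ = u := by
    intro i
    induction i with
    | zero =>
      intro j hj u hu
      have hjc : j = c := by omega
      rw [hjc, hDc, Subgroup.mem_bot] at hu
      rw [hu]; group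
    | succ i ih =>
      intro j hj u hu
      obtain ⟨h1, h2⟩ := hyst j u hu
      obtain ⟨z, hz⟩ : ∃ z : G, z = y * u * y⁻¹ * u⁻¹ := ⟨_, rfl⟩
      rw [← hz] at h2
      have hzc : y * z * y⁻¹ = z := ih (j + 1) (by omega) z h2
      have hk : ∀ k : ℕ, y ^ k * u * (y ^ k)⁻¹ = z ^ k * u := by
        intro k
        induction k with
        | zero => simp
        | succ k ihk =>
          have hzk : y * z ^ k * y⁻¹ = z ^ k := by
            have : y * z ^ k * y⁻¹ = (y * z * y⁻¹) ^ k := (conj_pow (a := y) (b := z)).symm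
            rw [this, hzc]
          calc y ^ (k + 1) * u * (y ^ (k + 1))⁻¹ = y * (y ^ k * u * (y ^ k)⁻¹) * y⁻¹ := by
                rw [pow_succ']; group
            _ = y * (z ^ k * u) * y⁻¹ := by rw [ihk]
            _ = (y * z ^ k * y⁻¹) * (y * u * y⁻¹ * u⁻¹) * u := by group
            _ = z ^ k * z * u := by rw [hzk, ← hz]
            _ = z ^ (k + 1) * u := by rw [pow_succ]
      have hzm : z ^ m = 1 := by
        have := hk m
        rw [hym] at this
        have e : (1 : G) * u * (1 : G)⁻¹ = u := by group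
        rw [e] at this
        calc z ^ m = (z ^ m * u) * u⁻¹ := by group
          _ = u * u⁻¹ := by rw [← this]
          _ = 1 := by group
      have hzU : z ∈ U := hDU _ h2
      obtain ⟨b, hb⟩ := hUp ⟨z, hzU⟩
      have hzb : z ^ p ^ b = 1 := by
        have := congrArg Subtype.val hb
        simpa using this
      have hz1 : z = 1 := by
        have hcop : Nat.Coprime (p ^ b) m := Nat.Coprime.pow_left _ ((Nat.Prime.coprime_iff_not_dvd hp).mpr hpm)
        have h3 : orderOf z ∣ p ^ b := orderOf_dvd_of_pow_eq_one hzb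
        have h4 : orderOf z ∣ m := orderOf_dvd_of_pow_eq_one hzm
        have h5 : orderOf z ∣ 1 := by
          have := Nat.dvd_gcd h3 h4
          rwa [hcop] at this
        exact orderOf_eq_one_iff.mp (Nat.dvd_one.mp h5)
      rw [hz1] at hz
      calc y * u * y⁻¹ = (y * u * y⁻¹ * u⁻¹) * u := by group
        _ = u := by rw [← hz]; group
  refine ⟨a, ?_⟩
  rw [← hy, Subgroup.mem_centralizer_iff]
  intro u hu
  have := hcent c 0 (by omega) u (by rw [hD0]; exact hu)
  calc u * y = (y * u * y⁻¹) * y := by rw [this]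
    _ = y * u := by group

/-- the chain stabilizer is a subgroup over `C(U)` with `p`-group quotient -/
theorem isPOver_chainStab [Finite G] {p : ℕ} [Fact p.Prime] {U : Subgroup G}
    (hUp : IsPGroup p U) (D : ℕ → Subgroup G) (hD0 : D 0 = U) (hDU : ∀ j, D j ≤ U) {c : ℕ} (hDc : D c = ⊥)
    (hinv : ∀ x ∈ Subgroup.normalizer (U : Set G), ∀ j, ∀ u ∈ D j, x * u * x⁻¹ ∈ D j) :
    IsPOver p U (chainStab U D) := by
  refine ⟨?_, ?_, ?_, ?_⟩
  · intro x hx
    rw [mem_chainStab]
    refine ⟨Subgroup.centralizer_le_normalizer _ hx, ?_⟩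
    intro j u hu
    have h1 : u * x = x * u := Subgroup.mem_centralizer_iff.mp hx u (hDU j hu)
    have e1 : x * u * x⁻¹ = u := by rw [← h1]; group
    have e2 : x⁻¹ * u * x = u := by rw [mul_assoc, h1]; group
    rw [e1, e2]
    simp [hu]
  · intro x hx; exact hx.1
  · intro x hx
    have hfwd : ∀ y ∈ Subgroup.normalizer (U : Set G), ∀ k ∈ chainStab U D, y * k * y⁻¹ ∈ chainStab U D := by
      intro y hy k hk
      rw [mem_chainStab] at hk ⊢
      obtain ⟨hkN, hk⟩ := hk
      have hyi : y⁻¹ ∈ Subgroup.normalizer (U : Set G) := Subgroup.inv_mem _ hy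
      refine ⟨Subgroup.mul_mem _ (Subgroup.mul_mem _ hy hkN) hyi, ?_⟩
      intro j u hu
      have hu' : y⁻¹ * u * y ∈ D j := by
        have := hinv y⁻¹ hyi j u hu
        rwa [inv_inv] at this
      obtain ⟨⟨h1, h2⟩, ⟨h3, h4⟩⟩ := hk j _ hu'
      refine ⟨⟨?_, ?_⟩, ⟨?_, ?_⟩⟩
      · have := hinv y hy j _ h1
        have e : y * k * y⁻¹ * u * (y * k * y⁻¹)⁻¹ = y * (k * (y⁻¹ * u * y) * k⁻¹) * y⁻¹ := by group
        rw [e]; exact this
      · have := hinv y hy j _ h2
        have e : (y * k * y⁻¹)⁻¹ * u * (y * k * y⁻¹) = y * (k⁻¹ * (y⁻¹ * u * y) * k) * y⁻¹ := by group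
        rw [e]; exact this
      · have := hinv y hy (j + 1) _ h3
        have e : y * k * y⁻¹ * u * (y * k * y⁻¹)⁻¹ * u⁻¹ =
            y * (k * (y⁻¹ * u * y) * k⁻¹ * (y⁻¹ * u * y)⁻¹) * y⁻¹ := by group
        rw [e]; exact this
      · have := hinv y hy (j + 1) _ h4
        have e : (y * k * y⁻¹)⁻¹ * u * (y * k * y⁻¹) * u⁻¹ =
            y * (k⁻¹ * (y⁻¹ * u * y) * k * (y⁻¹ * u * y)⁻¹) * y⁻¹ := by group
        rw [e]; exact this
    rw [Subgroup.mem_normalizer_iff]
    intro k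
    constructor
    · exact hfwd x hx k
    · intro hk
      have := hfwd x⁻¹ (Subgroup.inv_mem _ hx) _ hk
      have e : x⁻¹ * (x * k * x⁻¹) * x⁻¹⁻¹ = k := by group
      rwa [e] at this
  · intro k hk
    rw [mem_chainStab] at hk
    exact exists_pow_mem_centralizer_of_chain hUp D hD0 hDU hDc
      (fun j u hu => ⟨((hk.2 j u hu).1).1, ((hk.2 j u hu).2).1⟩)

end Cfsg.Agent.Lib.Helper18.FusionCR
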