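import Mathlib
import Cfsg.Agent.Lib.Helper18.FusionCR
import Cfsg.Agent.H5.Card

/-!
# Lifting control of strong fusion through quotients

* `pprime_lift`: from `X / K`, `K` a normal `p'`-subgroup, to `X`;
* `central_lift`: from `C / Z`, `Z` a central `p`-subgroup, to `C`.
-/

set_option autoImplicit false

namespace Cfsg.Agent.Lib.Helper18.FusionLift

open Cfsg.Agent.Lib.Helper13 Cfsg.Agent.Lib.Helper18.FusionCR

variable {X : Type*} [Group X]

section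

variable [Finite X] {p : ℕ} [Fact p.Prime]

omit [Finite X] [Fact p.Prime] in
theorem inf_eq_bot_of_pgroup_coprime {B M : Subgroup X} (hB : IsPGroup p B) (hM : (Nat.card M).Coprime p) :
    B ⊓ M = ⊥ := by
  rw [eq_bot_iff]
  intro x hx
  rw [Subgroup.mem_bot]
  obtain ⟨hxB, hxM⟩ := Subgroup.mem_inf.mp hx
  obtain ⟨k, hk⟩ := hB ⟨x, hxB⟩
  have h2 : orderOf x ∣ p ^ k := by
    apply orderOf_dvd_of_pow_eq_one
    simpa using congrArg Subtype.val hk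
  have h3 : orderOf x ∣ Nat.card M := Subgroup.orderOf_dvd_natCard M hxM
  have h4 : orderOf x ∣ 1 := by
    have := Nat.dvd_gcd h3 h2
    rwa [Nat.Coprime.pow_right k hM] at this
  exact orderOf_eq_one_iff.mp (Nat.dvd_one.mp h4)

/-- a `p`-subgroup `B` normalizing a `p'`-subgroup `M` is a Sylow `p`-subgroup of `B M` -/
theorem not_dvd_relIndex_sup {B M : Subgroup X} (hB : IsPGroup p B)
    (hBM : B ≤ Subgroup.normalizer (M : Set X)) (hM : (Nat.card M).Coprime p) :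
    ¬ p ∣ B.relIndex (B ⊔ M) := by
  have hp : p.Prime := Fact.out
  have h1 := Cfsg.H5.card_sup_mul_card_inf hBM
  rw [inf_eq_bot_of_pgroup_coprime hB hM, Subgroup.card_bot, mul_one] at h1
  have h2 := Cfsg.H5.card_mul_relIndex_of_le (le_sup_left : B ≤ B ⊔ M)
  have h3 : B.relIndex (B ⊔ M) = Nat.card M := by
    rw [h1] at h2
    exact Nat.eq_of_mul_eq_mul_left Nat.card_pos h2
  rw [h3]
  intro hdvd
  exact hp.one_lt.ne' (Nat.Coprime.eq_one_of_dvd hM.symm hdvd)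

/-- if `t` moves every element of the `p`-group `B` by an element of the `p'`-group `M` normalized by `B`,
then `t` acts on `B` as an element of `M` -/
theorem coprime_conj (B M : Subgroup X) (hB : IsPGroup p B)
    (hBM : B ≤ Subgroup.normalizer (M : Set X)) (hM : (Nat.card M).Coprime p) (t : X)
    (ht : ∀ b ∈ B, t * b * t⁻¹ * b⁻¹ ∈ M) :
    ∃ m ∈ M, ∀ b ∈ B, t * b * t⁻¹ = m * b * m⁻¹ := by
  have hidx := not_dvd_relIndex_sup hB hBM hM
  have hB'Y : B.map (MulAut.conj t).toMonoidHom ≤ B ⊔ M := by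
    rw [map_conj_le_iff]
    intro b hb
    have e : t * b * t⁻¹ = (t * b * t⁻¹ * b⁻¹) * b := by group
    rw [e]
    exact Subgroup.mul_mem _ (le_sup_right (a := B) (ht b hb)) (le_sup_left (b := M) hb)
  obtain ⟨y, hyY, hy⟩ := exists_conj_le_of_relIndex (B ⊔ M) B
    (B.map (MulAut.conj t).toMonoidHom) hB hidx hB'Y (hB.map _)
  have hmem : y ∈ ((B ⊔ M : Subgroup X) : Set X) := hyY
  rw [Subgroup.coe_mul_of_left_le_normalizer_right B M hBM] at hmem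
  obtain ⟨b₀, hb₀, m₀, hm₀, rfl⟩ := hmem
  refine ⟨m₀⁻¹, M.inv_mem hm₀, ?_⟩
  intro b hb
  have h1 : m₀ * (t * b * t⁻¹) * m₀⁻¹ ∈ B := by
    have := hy _ (conj_mem_map_conj B t hb)
    have e : m₀ * (t * b * t⁻¹) * m₀⁻¹ = b₀⁻¹ * (b₀ * m₀ * (t * b * t⁻¹) * (b₀ * m₀)⁻¹) * b₀ := by group
    rw [e]; exact B.mul_mem (B.mul_mem (B.inv_mem hb₀) this) hb₀
  have h2 : m₀ * (t * b * t⁻¹) * m₀⁻¹ * b⁻¹ ∈ B ⊓ M := by
    refine Subgroup.mem_inf.mpr ⟨B.mul_mem h1 (B.inv_mem hb), ?_⟩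
    have h3 : b * m₀⁻¹ * b⁻¹ ∈ M := (Subgroup.mem_normalizer_iff.mp (hBM hb) _).mp (M.inv_mem hm₀)
    have e : m₀ * (t * b * t⁻¹) * m₀⁻¹ * b⁻¹ = m₀ * (t * b * t⁻¹ * b⁻¹) * (b * m₀⁻¹ * b⁻¹) := by group
    rw [e]; exact M.mul_mem (M.mul_mem hm₀ (ht b hb)) h3
  rw [inf_eq_bot_of_pgroup_coprime hB hM, Subgroup.mem_bot] at h2
  have h4 : m₀ * (t * b * t⁻¹) * m₀⁻¹ = b := mul_inv_eq_one.mp h2
  calc t * b * t⁻¹ = m₀⁻¹ * (m₀ * (t * b * t⁻¹) * m₀⁻¹) * m₀ := by group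
    _ = m₀⁻¹ * b * m₀⁻¹⁻¹ := by rw [h4, inv_inv]

/-- **lifting through a normal `p'`-subgroup** -/
theorem pprime_lift (K : Subgroup X) [hKn : K.Normal] (hK : (Nat.card K).Coprime p) (S : Sylow p X)
    (V : Subgroup X) (hVp : IsPGroup p V) (hSV : (S : Subgroup X) ≤ Subgroup.normalizer (V : Set X))
    (hctl : ∀ (A : Subgroup (X ⧸ K)) (g : X ⧸ K), A ≤ (S : Subgroup X).map (QuotientGroup.mk' K) →
      (∀ a ∈ A, g * a * g⁻¹ ∈ (S : Subgroup X).map (QuotientGroup.mk' K)) →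
      ∃ m ∈ Subgroup.normalizer ((V.map (QuotientGroup.mk' K) : Subgroup (X ⧸ K)) : Set (X ⧸ K)),
        ∀ a ∈ A, m * a * m⁻¹ = g * a * g⁻¹) :
    ∀ (A : Subgroup X) (g : X), A ≤ (S : Subgroup X) → (∀ a ∈ A, g * a * g⁻¹ ∈ (S : Subgroup X)) →
      ∃ m ∈ Subgroup.normalizer (V : Set X), ∀ a ∈ A, m * a * m⁻¹ = g * a * g⁻¹ := by
  intro A g hAS hAg
  have hAp : IsPGroup p A := S.isPGroup'.to_le hAS
  have hKtop : ∀ B : Subgroup X, B ≤ Subgroup.normalizer (K : Set X) := fun B => by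
    rw [Subgroup.normalizer_eq_top_iff.mpr hKn]; exact le_top
  obtain ⟨nb, hnbN, hnb⟩ := hctl (A.map (QuotientGroup.mk' K)) (QuotientGroup.mk' K g)
    (Subgroup.map_mono hAS) (by
      rintro _ ⟨a, ha, rfl⟩
      exact ⟨g * a * g⁻¹, hAg a ha, by simp⟩)
  obtain ⟨n, rfl⟩ := QuotientGroup.mk'_surjective K nb
  -- step 1: exact agreement on `A`
  have hcong : ∀ b ∈ A.map (MulAut.conj n).toMonoidHom, (g * n⁻¹) * b * (g * n⁻¹)⁻¹ * b⁻¹ ∈ K := by
    intro b hb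
    rw [mem_map_conj_iff] at hb
    have h1 := hnb _ (Subgroup.mem_map_of_mem (QuotientGroup.mk' K) hb)
    rw [← QuotientGroup.eq_one_iff]
    have e : (((g * n⁻¹) * b * (g * n⁻¹)⁻¹ * b⁻¹ : X) : X ⧸ K) =
        (QuotientGroup.mk' K g * QuotientGroup.mk' K (n⁻¹ * b * n) * (QuotientGroup.mk' K g)⁻¹) *
          (QuotientGroup.mk' K n * QuotientGroup.mk' K (n⁻¹ * b * n) * (QuotientGroup.mk' K n)⁻¹)⁻¹ := by
      simp only [QuotientGroup.mk'_apply, ← QuotientGroup.mk_mul, ← QuotientGroup.mk_inv]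
      congr 1
      group
    rw [e, h1]; group
  obtain ⟨k, hkK, hk⟩ := coprime_conj (A.map (MulAut.conj n).toMonoidHom) K (hAp.map _) (hKtop _) hK
    (g * n⁻¹) hcong
  have hagree : ∀ a ∈ A, g * a * g⁻¹ = (k * n) * a * (k * n)⁻¹ := by
    intro a ha
    have := hk _ (conj_mem_map_conj A n ha)
    calc g * a * g⁻¹ = (g * n⁻¹) * (n * a * n⁻¹) * (g * n⁻¹)⁻¹ := by group
      _ = k * (n * a * n⁻¹) * k⁻¹ := this
      _ = (k * n) * a * (k * n)⁻¹ := by group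
  -- step 2: Frattini
  have hn'V : V.map (MulAut.conj (k * n)).toMonoidHom ≤ V ⊔ K := by
    rw [map_conj_le_iff]
    intro v hv
    have h1 : QuotientGroup.mk' K n * QuotientGroup.mk' K v * (QuotientGroup.mk' K n)⁻¹ ∈
        V.map (QuotientGroup.mk' K) :=
      (Subgroup.mem_normalizer_iff.mp hnbN _).mp (Subgroup.mem_map_of_mem _ hv)
    obtain ⟨v', hv', hv'eq⟩ := h1
    have h2 : v'⁻¹ * ((k * n) * v * (k * n)⁻¹) ∈ K := by
      rw [← QuotientGroup.eq_one_iff]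
      have hk1 : ((k : X) : X ⧸ K) = 1 := (QuotientGroup.eq_one_iff k).mpr hkK
      have e : ((v'⁻¹ * ((k * n) * v * (k * n)⁻¹) : X) : X ⧸ K) = (QuotientGroup.mk' K v')⁻¹ *
          (QuotientGroup.mk' K n * QuotientGroup.mk' K v * (QuotientGroup.mk' K n)⁻¹) := by
        simp only [QuotientGroup.mk'_apply, QuotientGroup.mk_mul, QuotientGroup.mk_inv, hk1]
        group
      rw [e, ← hv'eq]; group
    have e : (k * n) * v * (k * n)⁻¹ = v' * (v'⁻¹ * ((k * n) * v * (k * n)⁻¹)) := by group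
    rw [e]
    exact Subgroup.mul_mem _ (le_sup_left (b := K) hv') (le_sup_right (a := V) h2)
  obtain ⟨y, hyY, hy⟩ := exists_conj_le_of_relIndex (V ⊔ K) V (V.map (MulAut.conj (k * n)).toMonoidHom) hVp
    (not_dvd_relIndex_sup hVp (hKtop V) hK) hn'V (hVp.map _)
  have hmem : y ∈ ((V ⊔ K : Subgroup X) : Set X) := hyY
  rw [Subgroup.coe_mul_of_left_le_normalizer_right V K (hKtop V)] at hmem
  obtain ⟨v₀, hv₀, k₀, hk₀, rfl⟩ := hmem
  obtain ⟨n₁, hn₁⟩ : ∃ n₁ : X, n₁ = k₀ * (k * n) := ⟨_, rfl⟩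
  have hn₁V : n₁ ∈ Subgroup.normalizer (V : Set X) := by
    apply mem_normalizer_of_conj_mem
    intro v hv
    have := hy _ (conj_mem_map_conj V (k * n) hv)
    have e : n₁ * v * n₁⁻¹ = v₀⁻¹ * (v₀ * k₀ * ((k * n) * v * (k * n)⁻¹) * (v₀ * k₀)⁻¹) * v₀ := by
      rw [hn₁]; group
    rw [e]; exact V.mul_mem (V.mul_mem (V.inv_mem hv₀) this) hv₀
  -- step 3
  obtain ⟨M, hM⟩ : ∃ M : Subgroup X, M = K ⊓ Subgroup.normalizer (V : Set X) := ⟨_, rfl⟩
  have hMcop : (Nat.card M).Coprime p := by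
    rw [hM]
    exact Nat.Coprime.coprime_dvd_left (Subgroup.card_dvd_of_le inf_le_left) hK
  have hBN : A.map (MulAut.conj n₁).toMonoidHom ≤ Subgroup.normalizer (V : Set X) := by
    rw [map_conj_le_iff]
    intro a ha
    exact Subgroup.mul_mem _ (Subgroup.mul_mem _ hn₁V (hSV (hAS ha))) (Subgroup.inv_mem _ hn₁V)
  have hBM : A.map (MulAut.conj n₁).toMonoidHom ≤ Subgroup.normalizer (M : Set X) := by
    intro b hb
    apply mem_normalizer_of_conj_mem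
    intro x hx
    rw [hM] at hx ⊢
    obtain ⟨hx1, hx2⟩ := Subgroup.mem_inf.mp hx
    exact Subgroup.mem_inf.mpr ⟨hKn.conj_mem x hx1 b,
      Subgroup.mul_mem _ (Subgroup.mul_mem _ (hBN hb) hx2) (Subgroup.inv_mem _ (hBN hb))⟩
  have ht : ∀ b ∈ A.map (MulAut.conj n₁).toMonoidHom, k₀⁻¹ * b * k₀⁻¹⁻¹ * b⁻¹ ∈ M := by
    intro b hb
    have hb' := hb
    rw [mem_map_conj_iff] at hb'
    have h1 : k₀⁻¹ * b * k₀⁻¹⁻¹ = g * (n₁⁻¹ * b * n₁) * g⁻¹ := by
      rw [hagree _ hb', hn₁]; group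
    rw [hM]
    refine Subgroup.mem_inf.mpr ⟨?_, ?_⟩
    · have h2 : b * k₀ * b⁻¹ ∈ K := hKn.conj_mem k₀ hk₀ b
      have e : k₀⁻¹ * b * k₀⁻¹⁻¹ * b⁻¹ = k₀⁻¹ * (b * k₀ * b⁻¹) := by group
      rw [e]; exact K.mul_mem (K.inv_mem hk₀) h2
    · rw [h1]
      exact Subgroup.mul_mem _ (hSV (hAg _ hb')) (Subgroup.inv_mem _ (hBN hb))
  obtain ⟨m, hmM, hm⟩ := coprime_conj (A.map (MulAut.conj n₁).toMonoidHom) M (hAp.map _) hBM hMcop k₀⁻¹ ht
  refine ⟨m * n₁, Subgroup.mul_mem _ ?_ hn₁V, ?_⟩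
  · rw [hM] at hmM; exact (Subgroup.mem_inf.mp hmM).2
  · intro a ha
    have := hm _ (conj_mem_map_conj A n₁ ha)
    calc m * n₁ * a * (m * n₁)⁻¹ = m * (n₁ * a * n₁⁻¹) * m⁻¹ := by group
      _ = k₀⁻¹ * (n₁ * a * n₁⁻¹) * k₀⁻¹⁻¹ := this.symm
      _ = (k * n) * a * (k * n)⁻¹ := by rw [hn₁]; group
      _ = g * a * g⁻¹ := (hagree a ha).symm

/-- the chain `U ≥ Z ≥ 1` -/
def chainZ (U Z : Subgroup X) : ℕ → Subgroup X
  | 0 => U
  | 1 => Z
  | _ + 2 => ⊥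

/-- **lifting through a central `p`-subgroup** -/
theorem central_lift (Z : Subgroup X) [hZn : Z.Normal] (hZc : Z ≤ Subgroup.center X) (hZp : IsPGroup p Z)
    (D : Sylow p X) (Vb : Subgroup (X ⧸ Z))
    (hDV : (D : Subgroup X).map (QuotientGroup.mk' Z) ≤ Subgroup.normalizer (Vb : Set (X ⧸ Z)))
    (hctl : ∀ (A : Subgroup (X ⧸ Z)) (g : X ⧸ Z), A ≤ (D : Subgroup X).map (QuotientGroup.mk' Z) →
      (∀ a ∈ A, g * a * g⁻¹ ∈ (D : Subgroup X).map (QuotientGroup.mk' Z)) →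
      ∃ m ∈ Subgroup.normalizer (Vb : Set (X ⧸ Z)), ∀ a ∈ A, m * a * m⁻¹ = g * a * g⁻¹) :
    ∀ (A : Subgroup X) (g : X), A ≤ (D : Subgroup X) → (∀ a ∈ A, g * a * g⁻¹ ∈ (D : Subgroup X)) →
      ∃ m ∈ Subgroup.normalizer ((Vb.comap (QuotientGroup.mk' Z) : Subgroup X) : Set X),
        ∀ a ∈ A, m * a * m⁻¹ = g * a * g⁻¹ := by
  have hZcomm : ∀ z ∈ Z, ∀ x : X, x * z * x⁻¹ = z := by
    intro z hz x
    have := Subgroup.mem_center_iff.mp (hZc hz) x
    rw [this]; group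
  -- normalizers pull back
  have hpull : ∀ n : X, QuotientGroup.mk' Z n ∈ Subgroup.normalizer (Vb : Set (X ⧸ Z)) →
      n ∈ Subgroup.normalizer ((Vb.comap (QuotientGroup.mk' Z) : Subgroup X) : Set X) := by
    intro n hn
    apply mem_normalizer_of_conj_mem
    intro t ht
    rw [Subgroup.mem_comap] at ht ⊢
    have := (Subgroup.mem_normalizer_iff.mp hn _).mp ht
    simpa using this
  have hDN : (D : Subgroup X) ≤ Subgroup.normalizer ((Vb.comap (QuotientGroup.mk' Z) : Subgroup X) : Set X) :=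
    fun d hd => hpull d (hDV (Subgroup.mem_map_of_mem _ hd))
  have hZD : Z ≤ (D : Subgroup X) := hZp.le_sylow_of_normal D
  apply agp D
  intro U hUD hFN hCR x hx
  have hUp : IsPGroup p U := D.isPGroup'.to_le hUD
  have hZU : Z ≤ U := by
    refine le_trans (le_inf hZD ?_) (isCR_centric hCR)
    intro z hz
    rw [Subgroup.mem_centralizer_iff]
    intro u _
    exact (Subgroup.mem_center_iff.mp (hZc hz) u)
  -- control in the quotient
  obtain ⟨nb, hnbN, hnb⟩ := hctl (U.map (QuotientGroup.mk' Z)) (QuotientGroup.mk' Z x)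
    (Subgroup.map_mono hUD) (by
      rintro _ ⟨u, hu, rfl⟩
      exact ⟨x * u * x⁻¹, hUD ((Subgroup.mem_normalizer_iff.mp hx u).mp hu), by simp⟩)
  obtain ⟨n, rfl⟩ := QuotientGroup.mk'_surjective Z nb
  have hnN := hpull n hnbN
  obtain ⟨c, hc⟩ : ∃ c : X, c = n⁻¹ * x := ⟨_, rfl⟩
  have hcZ : ∀ u ∈ U, c * u * c⁻¹ * u⁻¹ ∈ Z ∧ c⁻¹ * u * c * u⁻¹ ∈ Z := by
    intro u hu
    have h1 := hnb _ (Subgroup.mem_map_of_mem (QuotientGroup.mk' Z) hu)
    constructor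
    · rw [← QuotientGroup.eq_one_iff]
      have e : ((c * u * c⁻¹ * u⁻¹ : X) : X ⧸ Z) = (QuotientGroup.mk' Z n)⁻¹ *
          (QuotientGroup.mk' Z x * QuotientGroup.mk' Z u * (QuotientGroup.mk' Z x)⁻¹) *
          QuotientGroup.mk' Z n * (QuotientGroup.mk' Z u)⁻¹ := by
        rw [hc]
        simp only [QuotientGroup.mk'_apply, ← QuotientGroup.mk_mul, ← QuotientGroup.mk_inv]
        congr 1
        group
      rw [e, ← h1]; group
    · rw [← QuotientGroup.eq_one_iff]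
      have e : ((c⁻¹ * u * c * u⁻¹ : X) : X ⧸ Z) = (QuotientGroup.mk' Z x)⁻¹ *
          (QuotientGroup.mk' Z n * QuotientGroup.mk' Z u * (QuotientGroup.mk' Z n)⁻¹) *
          QuotientGroup.mk' Z x * (QuotientGroup.mk' Z u)⁻¹ := by
        rw [hc]
        simp only [QuotientGroup.mk'_apply, ← QuotientGroup.mk_mul, ← QuotientGroup.mk_inv]
        congr 1
        group
      rw [e, h1]; group
  have hcU : ∀ u ∈ U, c * u * c⁻¹ ∈ U ∧ c⁻¹ * u * c ∈ U := by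
    intro u hu
    obtain ⟨h1, h2⟩ := hcZ u hu
    constructor
    · have e : c * u * c⁻¹ = (c * u * c⁻¹ * u⁻¹) * u := by group
      rw [e]; exact U.mul_mem (hZU h1) hu
    · have e : c⁻¹ * u * c = (c⁻¹ * u * c * u⁻¹) * u := by group
      rw [e]; exact U.mul_mem (hZU h2) hu
  have hcNU : c ∈ Subgroup.normalizer (U : Set X) :=
    mem_normalizer_of_conj_mem U (fun u hu => (hcU u hu).1)
  -- the chain stabilizer
  have hD0 : chainZ U Z 0 = U := rfl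
  have hD1 : chainZ U Z 1 = Z := rfl
  have hD2 : ∀ j, chainZ U Z (j + 2) = ⊥ := fun _ => rfl
  have hDU : ∀ j, chainZ U Z j ≤ U := by
    intro j
    match j with
    | 0 => exact le_rfl
    | 1 => exact hZU
    | j + 2 => rw [hD2]; exact bot_le
  have hinv : ∀ y ∈ Subgroup.normalizer (U : Set X), ∀ j, ∀ u ∈ chainZ U Z j, y * u * y⁻¹ ∈ chainZ U Z j := by
    intro y hy j u hu
    match j with
    | 0 => exact (Subgroup.mem_normalizer_iff.mp hy u).mp hu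
    | 1 =>
      rw [hD1] at hu ⊢
      rw [hZcomm u hu y]; exact hu
    | j + 2 =>
      rw [hD2, Subgroup.mem_bot] at hu
      rw [hu]; simp
  have hK := isPOver_chainStab hUp (chainZ U Z) hD0 hDU (hD2 0) hinv
  have hcK : c ∈ chainStab U (chainZ U Z) := by
    rw [mem_chainStab]
    refine ⟨hcNU, ?_⟩
    intro j u hu
    match j with
    | 0 =>
      exact ⟨hcU u hu, hcZ u hu⟩
    | 1 =>
      rw [hD1] at hu
      have e1 : c * u * c⁻¹ = u := hZcomm u hu c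
      have e2 : c⁻¹ * u * c = u := by
        have := hZcomm u hu c⁻¹
        rwa [inv_inv] at this
      rw [e1, e2, hD2]
      simp [hD1, hu]
    | j + 2 =>
      rw [hD2, Subgroup.mem_bot] at hu
      rw [hu]; simp
  obtain ⟨c₀, hc₀, r, hr, hcr⟩ := pover_eq D hFN hK hcK
  have hrU : r ∈ U := hCR _ hK hr
  refine ⟨n * r, Subgroup.mul_mem _ hnN (hDN (hUD hrU)), ?_⟩
  intro u hu
  have hru : r * u * r⁻¹ ∈ U := U.mul_mem (U.mul_mem hrU hu) (U.inv_mem hrU)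
  have h1 := Subgroup.mem_centralizer_iff.mp hc₀ _ hru
  have hx : x = n * (c₀ * r) := by rw [← hcr, hc]; group
  calc n * r * u * (n * r)⁻¹ = n * ((r * u * r⁻¹) * c₀ * c₀⁻¹) * n⁻¹ := by group
    _ = n * (c₀ * (r * u * r⁻¹) * c₀⁻¹) * n⁻¹ := by rw [h1]
    _ = (n * (c₀ * r)) * u * (n * (c₀ * r))⁻¹ := by group
    _ = x * u * x⁻¹ := by rw [← hx]

end

end Cfsg.Agent.Lib.Helper18.FusionLift
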