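import Mathlib
import Cfsg.Prelude.Def_ConjugacyFunctors
import Cfsg.Prelude.Def_Solvable
import Cfsg.Agent.Lib.Helper13.Sections
import Cfsg.Agent.Lib.Helper13.CharFunctor
import Cfsg.Agent.Lib.Helper13.CharFunctor2
import Cfsg.Agent.Lib.Helper13.RelSylow
import Cfsg.Agent.Lib.Helper10.Transport
import Cfsg.Agent.Lib.Helper1.Basic
import Cfsg.Agent.Lib.Helper17.SylowNormal
import Cfsg.Agent.H5.Cores
import Cfsg.Agent.Lib.Helper18.FusionLift

/-!
# Control of transfer by families of isomorphism-invariant functors: basic tools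

General group-theoretic lemmas (relative Frattini argument, `p`-parts modulo a normal subgroup with abelian
quotient, the transfer of a central element, a Schur-Zassenhaus consequence) and the vocabulary
`NW`, `FocIn`, `TrIn`, `Tr`, `Loc` used for the main induction in `TransferMain`.
-/

set_option autoImplicit false

universe u

namespace Cfsg.Agent.Lib.Helper18.Transfer

open Cfsg Cfsg.Agent.Lib.Helper13 Cfsg.Agent.Lib.Helper18.FusionCR
open scoped commutatorElement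

section general

variable {X : Type*} [Group X]

/-- a subgroup between `⁅C, C⁆` and `C` is normalized by `C` -/
theorem le_normalizer_of_commutator_le [Finite X] {C Y : Subgroup X} (h1 : ⁅C, C⁆ ≤ Y) (h2 : Y ≤ C) :
    C ≤ Subgroup.normalizer (Y : Set X) := by
  intro c hc
  apply mem_normalizer_of_conj_mem
  intro y hy
  have e : c * y * c⁻¹ = ⁅c, y⁆ * y := by rw [commutatorElement_def]; group
  rw [e]
  exact Y.mul_mem (h1 (Subgroup.commutator_mem_commutator hc (h2 hy))) hy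

/-- relative Frattini argument -/
theorem frattini_rel [Finite X] {p : ℕ} [Fact p.Prime] (Y V : Subgroup X) (hVY : V ≤ Y)
    (hVp : IsPGroup p V) (hVi : ¬ p ∣ V.relIndex Y) (g : X)
    (hg : g ∈ Subgroup.normalizer (Y : Set X)) :
    ∃ y ∈ Y, y * g ∈ Subgroup.normalizer (V : Set X) := by
  have h1 : V.map (MulAut.conj g).toMonoidHom ≤ Y := by
    rw [map_conj_le_iff]
    intro v hv
    exact (Subgroup.mem_normalizer_iff.mp hg v).mp (hVY hv)
  obtain ⟨y, hyY, hy⟩ := exists_conj_le_of_relIndex Y V (V.map (MulAut.conj g).toMonoidHom) hVp hVi h1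
    (hVp.map _)
  refine ⟨y, hyY, ?_⟩
  apply mem_normalizer_of_conj_mem
  intro v hv
  have := hy _ (conj_mem_map_conj V g hv)
  have e : y * g * v * (y * g)⁻¹ = y * (g * v * g⁻¹) * y⁻¹ := by group
  rw [e]; exact this

/-- the derived subgroup of `A M`, `M` normal, lies in `A' M` -/
theorem commutator_sup_normal_le (A M : Subgroup X) [M.Normal] : ⁅A ⊔ M, A ⊔ M⁆ ≤ ⁅A, A⁆ ⊔ M := by
  have hker : (QuotientGroup.mk' M).ker = M := QuotientGroup.ker_mk' M
  have hM : M.map (QuotientGroup.mk' M) = ⊥ := by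
    rw [Subgroup.map_eq_bot_iff, hker]
  have h1 : (⁅A ⊔ M, A ⊔ M⁆).map (QuotientGroup.mk' M) = (⁅A, A⁆).map (QuotientGroup.mk' M) := by
    rw [Subgroup.map_commutator, Subgroup.map_commutator, Subgroup.map_sup, hM, sup_bot_eq]
  calc ⁅A ⊔ M, A ⊔ M⁆ ≤ ((⁅A ⊔ M, A ⊔ M⁆).map (QuotientGroup.mk' M)).comap (QuotientGroup.mk' M) :=
        Subgroup.le_comap_map _ _
    _ = ⁅A, A⁆ ⊔ M := by rw [h1, Subgroup.comap_map_eq, hker]

/-- Dedekind-type step -/
theorem inf_sup_le_of_le (S A Z F : Subgroup X) [Z.Normal] (hZS : Z ≤ S) (h : S ⊓ A ≤ F) :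
    S ⊓ (A ⊔ Z) ≤ F ⊔ Z := by
  intro t ht
  obtain ⟨htS, htA⟩ := Subgroup.mem_inf.mp ht
  have h1 : t ∈ ((A ⊔ Z : Subgroup X) : Set X) := htA
  rw [Subgroup.mul_normal] at h1
  obtain ⟨a, ha, z, hz, rfl⟩ := Set.mem_mul.mp h1
  have ha' : a ∈ A := ha
  have hz' : z ∈ Z := hz
  have haS : a ∈ S := by
    have e : a = a * z * z⁻¹ := by group
    rw [e]; exact S.mul_mem htS (S.inv_mem (hZS hz'))
  exact Subgroup.mul_mem _ (Subgroup.mem_sup_left (h (Subgroup.mem_inf.mpr ⟨haS, ha'⟩)))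
    (Subgroup.mem_sup_right hz')

/-- `p`-parts modulo `E`: if `x ∈ S` (a Sylow `p`-subgroup of `L`) is congruent modulo `E ⊇ L'` to an element of
`D ⊴ L`, then it is congruent modulo `E` to an element of `S ∩ D`. -/
theorem ppart [Finite X] {p : ℕ} [Fact p.Prime] (L D E S : Subgroup X) (hDL : D ≤ L) (hEL : E ≤ L)
    (hDn : ∀ l ∈ L, ∀ d ∈ D, l * d * l⁻¹ ∈ D) (hLE : ⁅L, L⁆ ≤ E) (hSp : IsPGroup p S)
    (hSi : ¬ p ∣ S.relIndex L) (x c e : X) (hx : x ∈ S) (hc : c ∈ D) (he : e ∈ E) (hxce : x = c * e) :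
    ∃ t ∈ S ⊓ D, ∃ e' ∈ E, x = t * e' := by
  have hp : p.Prime := Fact.out
  have hEn : ∀ l ∈ L, ∀ y ∈ E, l⁻¹ * y * l ∈ E := by
    intro l hl y hy
    have e1 : l⁻¹ * y * l = y * ⁅y⁻¹, l⁻¹⁆ := by rw [commutatorElement_def]; group
    rw [e1]
    exact E.mul_mem hy (hLE (Subgroup.commutator_mem_commutator (L.inv_mem (hEL hy)) (L.inv_mem hl)))
  have hcL : c ∈ L := hDL hc
  have hpow : ∀ r : ℕ, (c ^ r)⁻¹ * (c * e) ^ r ∈ E := by
    intro r
    induction r with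
    | zero => simp
    | succ r ih =>
      have e1 : (c ^ (r + 1))⁻¹ * (c * e) ^ (r + 1) = (c⁻¹ * ((c ^ r)⁻¹ * (c * e) ^ r) * c) * e := by
        rw [pow_succ, pow_succ, mul_inv_rev]; simp only [mul_assoc]
      rw [e1]
      exact E.mul_mem (hEn c hcL _ ih) he
  have hcard : Nat.card X ≠ 0 := Nat.card_pos.ne'
  obtain ⟨a, m, hm, hN⟩ := Nat.exists_eq_pow_mul_and_not_dvd hcard p hp.ne_one
  obtain ⟨k, hk⟩ := hSp ⟨x, hx⟩
  have hxk : x ^ p ^ k = 1 := by simpa using congrArg Subtype.val hk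
  have hox : orderOf x ∣ p ^ k := orderOf_dvd_of_pow_eq_one hxk
  have hcop : Nat.Coprime m (orderOf x) := by
    have h1 : Nat.Coprime m (p ^ k) :=
      Nat.Coprime.pow_right k ((Nat.Prime.coprime_iff_not_dvd hp).mpr hm).symm
    exact Nat.Coprime.coprime_dvd_right hox h1
  have hφ : 0 < Nat.totient (orderOf x) := Nat.totient_pos.mpr (orderOf_pos x)
  obtain ⟨r, hr⟩ : ∃ r : ℕ, r = m ^ Nat.totient (orderOf x) := ⟨_, rfl⟩
  have hr1 : r ≡ 1 [MOD orderOf x] := by rw [hr]; exact Nat.ModEq.pow_totient hcop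
  have hxr : x ^ r = x := by
    have := (pow_eq_pow_iff_modEq (x := x)).mpr hr1
    rw [pow_one] at this; exact this
  obtain ⟨c', hc'⟩ : ∃ c' : X, c' = c ^ r := ⟨_, rfl⟩
  have hc'pa : c' ^ p ^ a = 1 := by
    obtain ⟨j, hj⟩ := Nat.exists_eq_succ_of_ne_zero hφ.ne'
    have h1 : r * p ^ a = Nat.card X * m ^ j := by
      rw [hr, hN, hj, pow_succ]; ring
    rw [hc', ← pow_mul, h1, pow_mul, pow_card_eq_one', one_pow]
  have hc'D : c' ∈ D := hc' ▸ D.pow_mem hc r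
  have hc'L : c' ∈ L := hDL hc'D
  have hzp : IsPGroup p (Subgroup.zpowers c') := by
    rintro ⟨y, hy⟩
    obtain ⟨i, rfl⟩ := Subgroup.mem_zpowers_iff.mp hy
    refine ⟨a, ?_⟩
    apply Subtype.ext
    simp only [SubgroupClass.coe_pow, Subgroup.coe_one]
    rw [← zpow_natCast, ← zpow_mul, mul_comm, zpow_mul, zpow_natCast, hc'pa, one_zpow]
  obtain ⟨l, hlL, hl⟩ := exists_conj_le_of_relIndex L S (Subgroup.zpowers c') hSp hSi
    (Subgroup.zpowers_le.mpr hc'L) hzp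
  have ht : l * c' * l⁻¹ ∈ S ⊓ D :=
    Subgroup.mem_inf.mpr ⟨hl c' (Subgroup.mem_zpowers c'), hDn l hlL c' hc'D⟩
  refine ⟨l * c' * l⁻¹, ht, (l * c' * l⁻¹)⁻¹ * x, ?_, by group⟩
  have e1 : (l * c' * l⁻¹)⁻¹ * x = ⁅l, c'⁻¹⁆ * (c'⁻¹ * (c * e) ^ r) := by
    rw [← hxce, hxr, commutatorElement_def]; group
  rw [e1]
  refine E.mul_mem (hLE (Subgroup.commutator_mem_commutator hlL (L.inv_mem hc'L))) ?_
  rw [hc']; exact hpow r

/-- a central element of the derived subgroup: its `|Y : H|`-th power lies in `H'` (transfer) -/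
theorem central_pow_index_mem_commutator {Y : Type*} [Group Y] [Finite Y] (H : Subgroup Y) (z : Y)
    (hzc : z ∈ Subgroup.center Y) (hz : z ∈ commutator Y) :
    z ^ H.index ∈ ⁅H, H⁆ := by
  have key : ∀ (k : ℕ) (g₀ : Y), g₀⁻¹ * z ^ k * g₀ ∈ H → g₀⁻¹ * z ^ k * g₀ = z ^ k := by
    intro k g₀ _
    have h1 : z ^ k ∈ Subgroup.center Y := Subgroup.pow_mem _ hzc k
    have h2 := Subgroup.mem_center_iff.mp h1 g₀
    rw [mul_assoc, ← h2, inv_mul_cancel_left]
  have h1 := MonoidHom.transfer_eq_pow (Abelianization.of : ↥H →* Abelianization ↥H) z key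
  have h2 : MonoidHom.transfer (Abelianization.of : ↥H →* Abelianization ↥H) z = 1 := by
    have := Abelianization.commutator_subset_ker
      (MonoidHom.transfer (Abelianization.of : ↥H →* Abelianization ↥H)) hz
    exact MonoidHom.mem_ker.mp this
  rw [h2] at h1
  have h3 : (⟨z ^ H.index, MonoidHom.transfer_eq_pow_aux z key⟩ : ↥H) ∈ commutator ↥H := by
    rw [← Abelianization.ker_of, MonoidHom.mem_ker]; exact h1.symm
  rw [← Subgroup.map_subtype_commutator]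
  exact ⟨_, h3, rfl⟩

/-- a `p`-element of `C'` centralized by `C` lies in `H'` for every `H ≤ C` of index prime to `p` -/
theorem transfer_central [Finite X] {p : ℕ} [Fact p.Prime] (C H : Subgroup X) (hHC : H ≤ C)
    (hidx : ¬ p ∣ H.relIndex C) (z : X) (hz : z ∈ ⁅C, C⁆) (hzc : ∀ c ∈ C, c * z = z * c)
    (hzp : ∃ k : ℕ, z ^ p ^ k = 1) : z ∈ ⁅H, H⁆ := by
  have hp : p.Prime := Fact.out
  have hzC : z ∈ C := Subgroup.commutator_le_self C hz
  have h1 : (⟨z, hzC⟩ : ↥C) ∈ commutator ↥C := by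
    rw [← Subgroup.map_subtype_commutator] at hz
    obtain ⟨y, hy, hyz⟩ := hz
    have : y = ⟨z, hzC⟩ := Subtype.ext hyz
    rw [← this]; exact hy
  have h2 : (⟨z, hzC⟩ : ↥C) ∈ Subgroup.center ↥C := by
    rw [Subgroup.mem_center_iff]
    intro c
    apply Subtype.ext
    exact hzc c c.2
  have h3 := central_pow_index_mem_commutator (H.subgroupOf C) ⟨z, hzC⟩ h2 h1
  have h4 : z ^ H.relIndex C ∈ ⁅H, H⁆ := by
    have h5 : (((⟨z, hzC⟩ : ↥C) ^ (H.subgroupOf C).index : ↥C) : X) ∈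
        (⁅H.subgroupOf C, H.subgroupOf C⁆).map C.subtype := ⟨_, h3, rfl⟩
    rw [Subgroup.map_commutator, Subgroup.subgroupOf_map_subtype, inf_eq_left.mpr hHC] at h5
    simpa [Subgroup.relIndex] using h5
  obtain ⟨k, hk⟩ := hzp
  have hcop : (H.relIndex C).Coprime (orderOf z) := by
    have h6 : orderOf z ∣ p ^ k := orderOf_dvd_of_pow_eq_one hk
    have h7 : (H.relIndex C).Coprime (p ^ k) :=
      Nat.Coprime.pow_right k ((Nat.Prime.coprime_iff_not_dvd hp).mpr hidx).symm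
    exact Nat.Coprime.coprime_dvd_right h6 h7
  obtain ⟨m, hm⟩ := exists_pow_eq_self_of_coprime hcop
  rw [← hm]
  exact Subgroup.pow_mem _ h4 m

/-- if `O_{p'}(X) = 1` and a Sylow `p`-subgroup meets `C(O_p(X))` inside `O_p(X)`, then `C(O_p(X)) ≤ O_p(X)` -/
theorem centralizer_pCore_le [Finite X] {p : ℕ} [Fact p.Prime] (hK : Cfsg.pPrimeCore p X = ⊥) (S : Sylow p X)
    (h : (S : Subgroup X) ⊓ Subgroup.centralizer ((Cfsg.pCore p X : Subgroup X) : Set X) ≤ Cfsg.pCore p X) :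
    Subgroup.centralizer ((Cfsg.pCore p X : Subgroup X) : Set X) ≤ Cfsg.pCore p X := by
  have hp : p.Prime := Fact.out
  obtain ⟨Q, hQdef⟩ : ∃ Q : Subgroup X, Q = Cfsg.pCore p X := ⟨_, rfl⟩
  rw [← hQdef] at h ⊢
  have hQn : Q.Normal := hQdef ▸ Cfsg.H5.pCore_normal p X
  have hQp : IsPGroup p Q := hQdef ▸ Cfsg.H5.pCore_isPGroup p X
  obtain ⟨C, hCdef⟩ : ∃ C : Subgroup X, C = Subgroup.centralizer (Q : Set X) := ⟨_, rfl⟩
  rw [← hCdef] at h ⊢
  have hCn : C.Normal := hCdef ▸ Subgroup.normal_centralizer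
  obtain ⟨Z', hZ'def⟩ : ∃ Z' : Subgroup ↥C, Z' = Q.subgroupOf C := ⟨_, rfl⟩
  have hZ'n : Z'.Normal := hZ'def ▸ Subgroup.Normal.subgroupOf hQn C
  have hZ'c : Z' ≤ Subgroup.center ↥C := by
    intro z hz
    rw [hZ'def, Subgroup.mem_subgroupOf] at hz
    rw [Subgroup.mem_center_iff]
    intro c
    have hc : (c : X) ∈ Subgroup.centralizer (Q : Set X) := hCdef ▸ c.2
    have := Subgroup.mem_centralizer_iff.mp hc _ hz
    apply Subtype.ext
    exact this.symm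
  have hZ'p : IsPGroup p Z' := hZ'def ▸ hQp.comap_subtype
  obtain ⟨D', hD'⟩ : ∃ D' : Sylow p ↥C, (D' : Subgroup ↥C) = (S : Subgroup X).subgroupOf C :=
    ⟨Cfsg.Agent.Lib.Helper17.sylowInfNormal S C, rfl⟩
  have hZ'D : Z' ≤ (D' : Subgroup ↥C) := hZ'p.le_sylow_of_normal D'
  have hD'Z' : (D' : Subgroup ↥C) ≤ Z' := by
    intro d hd
    rw [hD', Subgroup.mem_subgroupOf] at hd
    rw [hZ'def, Subgroup.mem_subgroupOf]
    exact h (Subgroup.mem_inf.mpr ⟨hd, d.2⟩)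
  have hD'eq : (D' : Subgroup ↥C) = Z' := le_antisymm hD'Z' hZ'D
  -- Schur-Zassenhaus
  have hidx : ¬ p ∣ Z'.index := by rw [← hD'eq]; exact D'.not_dvd_index
  obtain ⟨k, hk⟩ := hZ'p.exists_card_eq
  have hcop : Nat.Coprime (Nat.card Z') Z'.index := by
    rw [hk]
    exact Nat.Coprime.pow_left _ ((Nat.Prime.coprime_iff_not_dvd hp).mpr hidx)
  obtain ⟨H, hH⟩ := Subgroup.exists_right_complement'_of_coprime hcop
  have hHcard : Nat.card H = Z'.index := (hH.symm.index_eq_card).symm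
  have hHcop : (Nat.card H).Coprime p := by
    rw [hHcard]; exact ((Nat.Prime.coprime_iff_not_dvd hp).mpr hidx).symm
  have hHpow : ∀ h ∈ H, h ^ Nat.card H = 1 := by
    intro h hh
    have h1 : (⟨h, hh⟩ : ↥H) ^ Nat.card ↥H = 1 := pow_card_eq_one'
    have h2 := congrArg Subtype.val h1
    rw [SubgroupClass.coe_pow] at h2
    exact h2
  obtain ⟨HX, hHX⟩ : ∃ HX : Subgroup X, HX = H.map C.subtype := ⟨_, rfl⟩
  have hHXn : HX.Normal := by
    constructor
    intro y hy x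
    rw [hHX] at hy ⊢
    obtain ⟨h', hh', rfl⟩ := hy
    have hcC : x * (h' : X) * x⁻¹ ∈ C := hCn.conj_mem _ h'.2 x
    obtain ⟨z, hz, h'', hh'', hzh⟩ := Cfsg.Agent.Lib.Helper1.IsComplement'.exists_mul_eq hH
      (⟨x * (h' : X) * x⁻¹, hcC⟩ : ↥C)
    have hpow1 : (⟨x * (h' : X) * x⁻¹, hcC⟩ : ↥C) ^ Nat.card H = 1 := by
      apply Subtype.ext
      have h1 := congrArg Subtype.val (hHpow h' hh')
      have e : ((⟨x * (h' : X) * x⁻¹, hcC⟩ : ↥C) ^ Nat.card H : ↥C).val = x * ((h' : X) ^ Nat.card H) * x⁻¹ := by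
        rw [SubgroupClass.coe_pow]
        exact (conj_pow (a := x) (b := (h' : X))).symm ▸ rfl
      rw [e]
      have h2 : ((h' : X) ^ Nat.card H) = 1 := by simpa using h1
      rw [h2]; simp
    have hcomm : Commute z h'' := by
      have := Subgroup.mem_center_iff.mp (hZ'c hz) h''
      exact this.symm
    have hzpow : z ^ Nat.card H = 1 := by
      have h1 : (z * h'') ^ Nat.card H = z ^ Nat.card H * h'' ^ Nat.card H := hcomm.mul_pow _
      rw [hzh, hpow1, hHpow h'' hh'', mul_one] at h1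
      exact h1.symm
    have hz1 : z = 1 := by
      obtain ⟨b, hb⟩ := hZ'p ⟨z, hz⟩
      have hzb : z ^ p ^ b = 1 := by
        have := congrArg Subtype.val hb
        simpa using this
      have h3 : orderOf z ∣ p ^ b := orderOf_dvd_of_pow_eq_one hzb
      have h4 : orderOf z ∣ Nat.card H := orderOf_dvd_of_pow_eq_one hzpow
      have h5 : orderOf z ∣ 1 := by
        have := Nat.dvd_gcd h4 h3
        rwa [Nat.Coprime.pow_right b hHcop] at this
      exact orderOf_eq_one_iff.mp (Nat.dvd_one.mp h5)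
    rw [hz1, one_mul] at hzh
    refine ⟨h'', hh'', ?_⟩
    rw [hzh]; rfl
  have hHXcard : Nat.card HX = Nat.card H := by
    rw [hHX]
    exact Nat.card_congr (H.equivMapOfInjective _ C.subtype_injective).symm.toEquiv
  have hHXbot : HX = ⊥ := by
    have := Cfsg.H5.le_pPrimeCore (p := p) hHXn (by rw [hHXcard]; exact hHcop)
    rw [hK] at this
    exact le_bot_iff.mp this
  have hHbot : H = ⊥ := by
    rw [hHX, Subgroup.map_eq_bot_iff_of_injective _ C.subtype_injective] at hHXbot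
    exact hHXbot
  rw [hHbot] at hH
  have hZ'top : Z' = ⊤ := Subgroup.isComplement'_bot_right.mp hH
  intro c hc
  have : (⟨c, hc⟩ : ↥C) ∈ Z' := by rw [hZ'top]; trivial
  rw [hZ'def, Subgroup.mem_subgroupOf] at this
  exact this

end general

/-! ### The vocabulary -/

section functor

variable {p : ℕ} {𝓦 : Set (∀ (Q : Type u) [Group Q], Subgroup Q)}

/-- the normalizer of `W(S)` -/
def NW {X : Type u} [Group X] (W : ∀ (Q : Type u) [Group Q], Subgroup Q) (S : Subgroup X) : Subgroup X :=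
  Subgroup.normalizer ((inducedFunctor (G := X) W S : Subgroup X) : Set X)

/-- the subgroup generated by the `S ∩ (N_H(W(S)))'`, `W ∈ 𝓦` -/
def FocIn {X : Type u} [Group X] (𝓦 : Set (∀ (Q : Type u) [Group Q], Subgroup Q)) (H S : Subgroup X) :
    Subgroup X :=
  ⨆ W ∈ 𝓦, S ⊓ ⁅H ⊓ NW W S, H ⊓ NW W S⁆

/-- `𝓦` controls transfer in `H`, for every Sylow `p`-subgroup of `H` -/
def TrIn (p : ℕ) (𝓦 : Set (∀ (Q : Type u) [Group Q], Subgroup Q)) {X : Type u} [Group X]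
    (H : Subgroup X) : Prop :=
  ∀ S : Subgroup X, S ≤ H → IsPGroup p S → ¬ p ∣ S.relIndex H → S ⊓ ⁅H, H⁆ ≤ FocIn 𝓦 H S

/-- `𝓦` controls transfer in the group `X` -/
def Tr (p : ℕ) (𝓦 : Set (∀ (Q : Type u) [Group Q], Subgroup Q)) (X : Type u) [Group X] : Prop :=
  ∀ S : Sylow p X, (S : Subgroup X) ⊓ ⁅(⊤ : Subgroup X), ⊤⁆ ≤ FocIn 𝓦 ⊤ (S : Subgroup X)

/-- the hypothesis imposed on the sections -/
def Loc (p : ℕ) (𝓦 : Set (∀ (Q : Type u) [Group Q], Subgroup Q)) (X : Type u) [Group X] : Prop :=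
  Finite X → Subgroup.centralizer ((Cfsg.pCore p X : Subgroup X) : Set X) ≤ Cfsg.pCore p X →
    ∀ S : Sylow p X, Cfsg.pCore p X ⊓ ⁅(⊤ : Subgroup X), ⊤⁆ ≤ FocIn 𝓦 ⊤ (S : Subgroup X)

theorem focIn_le {X : Type u} [Group X] (H S : Subgroup X) : FocIn 𝓦 H S ≤ S ⊓ ⁅H, H⁆ :=
  iSup₂_le fun _ _ => inf_le_inf_left _ (Subgroup.commutator_mono inf_le_left inf_le_left)

theorem focIn_mono {X : Type u} [Group X] {H H' : Subgroup X} (h : H ≤ H') (S : Subgroup X) :
    FocIn 𝓦 H S ≤ FocIn 𝓦 H' S :=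
  iSup₂_mono fun _ _ => inf_le_inf_left _
    (Subgroup.commutator_mono (inf_le_inf_right _ h) (inf_le_inf_right _ h))

theorem le_focIn {X : Type u} [Group X] {W : ∀ (Q : Type u) [Group Q], Subgroup Q} (hW : W ∈ 𝓦)
    (H S : Subgroup X) : S ⊓ ⁅H ⊓ NW W S, H ⊓ NW W S⁆ ≤ FocIn 𝓦 H S :=
  le_iSup₂ (f := fun (W : ∀ (Q : Type u) [Group Q], Subgroup Q) (_ : W ∈ 𝓦) =>
    S ⊓ ⁅H ⊓ NW W S, H ⊓ NW W S⁆) W hW

theorem focIn_map_equiv (h𝓦 : ∀ W ∈ 𝓦, IsCharPFunctor.{u} p W) {X Y : Type u} [Group X] [Group Y]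
    (e : X ≃* Y) (H S : Subgroup X) [Finite ↥S] (hSp : IsPGroup p S) :
    (FocIn 𝓦 H S).map e.toMonoidHom = FocIn 𝓦 (H.map e.toMonoidHom) (S.map e.toMonoidHom) := by
  have hinj : Function.Injective e.toMonoidHom := e.injective
  unfold FocIn
  rw [Subgroup.map_iSup]
  apply iSup_congr
  intro W
  rw [Subgroup.map_iSup]
  apply iSup_congr
  intro hW
  unfold NW
  rw [Subgroup.map_inf _ _ _ hinj, Subgroup.map_commutator, Subgroup.map_inf _ _ _ hinj,
    inducedFunctor_map_equiv (h𝓦 W hW) e S hSp, normalizer_map_equiv]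

/-- control of transfer in a subgroup, as a group, gives control of transfer in the subgroup -/
theorem trIn_of_tr_subtype [Fact p.Prime] (h𝓦 : ∀ W ∈ 𝓦, IsCharPFunctor.{u} p W) {X : Type u} [Group X]
    [Finite X] (H : Subgroup X) (h : Tr p 𝓦 ↥H) : TrIn p 𝓦 H := by
  intro S hSH hSp hSi
  have hS'p : IsPGroup p (S.subgroupOf H) := hSp.comap_subtype
  let S' : Sylow p ↥H := hS'p.toSylow hSi
  have hS' : (S' : Subgroup ↥H) = S.subgroupOf H := rfl
  have hmap : (S.subgroupOf H).map H.subtype = S := by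
    rw [Subgroup.subgroupOf_map_subtype, inf_eq_left.mpr hSH]
  have h1 := h S'
  rw [hS'] at h1
  intro x hx
  obtain ⟨hxS, hxc⟩ := Subgroup.mem_inf.mp hx
  have hxH : x ∈ H := hSH hxS
  have h2 : (⟨x, hxH⟩ : ↥H) ∈ S.subgroupOf H ⊓ ⁅(⊤ : Subgroup ↥H), ⊤⁆ := by
    refine Subgroup.mem_inf.mpr ⟨Subgroup.mem_subgroupOf.mpr hxS, ?_⟩
    rw [← Subgroup.map_subtype_commutator] at hxc
    obtain ⟨y, hy, hyx⟩ := hxc
    have : y = ⟨x, hxH⟩ := Subtype.ext hyx
    rw [← this, ← commutator_def]; exact hy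
  have h3 := h1 h2
  suffices hle : (FocIn 𝓦 ⊤ (S.subgroupOf H)).map H.subtype ≤ FocIn 𝓦 H S from hle ⟨_, h3, rfl⟩
  rw [FocIn, Subgroup.map_iSup]
  apply iSup_le
  intro W
  rw [Subgroup.map_iSup]
  apply iSup_le
  intro hW
  refine le_trans ?_ (le_focIn hW H S)
  refine le_trans (Subgroup.map_inf_le _ _ _) (inf_le_inf (le_of_eq hmap) ?_)
  rw [Subgroup.map_commutator]
  have h5 : ((⊤ : Subgroup ↥H) ⊓ NW W (S.subgroupOf H)).map H.subtype ≤ H ⊓ NW W S := by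
    rw [top_inf_eq]
    refine le_inf (Subgroup.map_subtype_le _) ?_
    unfold NW
    have h6 : inducedFunctor W S = (inducedFunctor W (S.subgroupOf H)).map H.subtype := by
      rw [← inducedFunctor_map_of_injective (h𝓦 W hW) H.subtype H.subtype_injective _ hS'p, hmap]
    rw [h6]
    exact Subgroup.le_normalizer_map H.subtype
  exact Subgroup.commutator_mono h5 h5

theorem isoInv_Loc [Fact p.Prime] (h𝓦 : ∀ W ∈ 𝓦, IsCharPFunctor.{u} p W) : IsoInv (Loc p 𝓦) := by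
  intro X Y _ _ e h hfin hc S
  have hfinX : Finite X := Finite.of_equiv Y e.symm.toEquiv
  have hcore : (Cfsg.pCore p X).map e.toMonoidHom = Cfsg.pCore p Y := Cfsg.Agent.Lib.Helper10.map_pCore e p
  have hcX : Subgroup.centralizer ((Cfsg.pCore p X : Subgroup X) : Set X) ≤ Cfsg.pCore p X := by
    intro x hx
    have h1 : e x ∈ Subgroup.centralizer ((Cfsg.pCore p Y : Subgroup Y) : Set Y) := by
      rw [Subgroup.mem_centralizer_iff]
      intro y hy
      rw [← hcore] at hy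
      obtain ⟨q, hq, rfl⟩ := hy
      have := Subgroup.mem_centralizer_iff.mp hx q hq
      show e q * e x = e x * e q
      rw [← map_mul, ← map_mul, this]
    have h2 := hc h1
    rw [← hcore] at h2
    exact (Subgroup.mem_map_iff_mem e.injective).mp h2
  have hidx : ¬ p ∣ ((S : Subgroup Y).map e.symm.toMonoidHom).index := by
    have : ((S : Subgroup Y).map e.symm.toMonoidHom).index = (S : Subgroup Y).index :=
      Subgroup.index_map_equiv (S : Subgroup Y) e.symm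
    rw [this]; exact S.not_dvd_index
  let S₁ : Sylow p X := (S.isPGroup'.map e.symm.toMonoidHom).toSylow hidx
  have hS₁ : (S₁ : Subgroup X) = (S : Subgroup Y).map e.symm.toMonoidHom := rfl
  have hS₁map : (S₁ : Subgroup X).map e.toMonoidHom = (S : Subgroup Y) := by
    rw [hS₁]; exact Cfsg.Agent.Lib.Helper10.map_map_symm e _
  have h1 := h hfinX hcX S₁
  have h2 := Subgroup.map_mono (f := e.toMonoidHom) h1
  rw [focIn_map_equiv h𝓦 e ⊤ (S₁ : Subgroup X) S₁.isPGroup', hS₁map, Subgroup.map_inf _ _ _ e.injective,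
    hcore, Subgroup.map_commutator, Subgroup.map_top_of_surjective _ e.surjective] at h2
  exact h2

/-! ### Passing to a quotient -/

/-- the pull-back of control of transfer in a quotient -/
theorem quot_control {X : Type u} [Group X] (M : Subgroup X) [M.Normal] (H S : Subgroup X)
    (hSH : S ≤ H) (hSp : IsPGroup p S) (hSi : ¬ p ∣ S.relIndex H)
    (hTr : TrIn p 𝓦 (H.map (QuotientGroup.mk' M))) :
    S ⊓ (⁅H, H⁆ ⊔ M) ≤
      (⨆ W ∈ 𝓦, S ⊓ (⁅H ⊓ (NW W (S.map (QuotientGroup.mk' M))).comap (QuotientGroup.mk' M),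
        H ⊓ (NW W (S.map (QuotientGroup.mk' M))).comap (QuotientGroup.mk' M)⁆ ⊔ M)) ⊔ M := by
  intro x hx
  obtain ⟨hxS, hxc⟩ := Subgroup.mem_inf.mp hx
  obtain ⟨ρ, hρ⟩ : ∃ ρ : X →* X ⧸ M, ρ = QuotientGroup.mk' M := ⟨_, rfl⟩
  rw [← hρ] at hTr ⊢
  have hker : ρ.ker = M := by rw [hρ]; exact QuotientGroup.ker_mk' M
  have hSb : S.map ρ ≤ H.map ρ := Subgroup.map_mono hSH
  have hSbp : IsPGroup p (S.map ρ) := hSp.map ρ
  have hSbi : ¬ p ∣ (S.map ρ).relIndex (H.map ρ) := by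
    intro h
    apply hSi
    have h1 : (S.map ρ).relIndex (H.map ρ) = (S ⊔ M).relIndex H := by
      rw [← Subgroup.relIndex_comap, Subgroup.comap_map_eq, hker]
    rw [h1] at h
    exact dvd_trans h (Subgroup.relIndex_dvd_of_le_left H le_sup_left)
  have h1 : ρ x ∈ S.map ρ ⊓ ⁅H.map ρ, H.map ρ⁆ := by
    refine Subgroup.mem_inf.mpr ⟨Subgroup.mem_map_of_mem ρ hxS, ?_⟩
    have h2 : ρ x ∈ (⁅H, H⁆ ⊔ M).map ρ := Subgroup.mem_map_of_mem ρ hxc
    have hM : M.map ρ = ⊥ := by rw [Subgroup.map_eq_bot_iff, hker]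
    rwa [Subgroup.map_sup, Subgroup.map_commutator, hM, sup_bot_eq] at h2
  have h2 := hTr (S.map ρ) hSb hSbp hSbi h1
  obtain ⟨R, hR⟩ : ∃ R : Subgroup X, R = ⨆ W ∈ 𝓦, S ⊓ (⁅H ⊓ (NW W (S.map ρ)).comap ρ,
      H ⊓ (NW W (S.map ρ)).comap ρ⁆ ⊔ M) := ⟨_, rfl⟩
  rw [← hR]
  have h3 : FocIn 𝓦 (H.map ρ) (S.map ρ) ≤ R.map ρ := by
    unfold FocIn
    apply iSup₂_le
    intro W hW y hy
    obtain ⟨hyS, hyc⟩ := Subgroup.mem_inf.mp hy
    obtain ⟨s, hs, rfl⟩ := hyS
    have h4 : H.map ρ ⊓ NW W (S.map ρ) ≤ (H ⊓ (NW W (S.map ρ)).comap ρ).map ρ := by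
      intro z hz
      obtain ⟨hzH, hzN⟩ := Subgroup.mem_inf.mp hz
      obtain ⟨h, hh, rfl⟩ := hzH
      exact ⟨h, Subgroup.mem_inf.mpr ⟨hh, hzN⟩, rfl⟩
    have h5 : ρ s ∈ (⁅H ⊓ (NW W (S.map ρ)).comap ρ, H ⊓ (NW W (S.map ρ)).comap ρ⁆).map ρ := by
      rw [Subgroup.map_commutator]
      exact Subgroup.commutator_mono h4 h4 hyc
    obtain ⟨c, hc, hcs⟩ := h5
    have h6 : c⁻¹ * s ∈ M := by
      rw [← hker, MonoidHom.mem_ker, map_mul, map_inv, hcs, inv_mul_cancel]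
    have h7 : s ∈ S ⊓ (⁅H ⊓ (NW W (S.map ρ)).comap ρ, H ⊓ (NW W (S.map ρ)).comap ρ⁆ ⊔ M) := by
      refine Subgroup.mem_inf.mpr ⟨hs, ?_⟩
      have e : s = c * (c⁻¹ * s) := by group
      rw [e]
      exact Subgroup.mul_mem _ (Subgroup.mem_sup_left hc) (Subgroup.mem_sup_right h6)
    apply Subgroup.mem_map_of_mem ρ
    rw [hR]
    exact (le_iSup₂ (f := fun (W : ∀ (Q : Type u) [Group Q], Subgroup Q) (_ : W ∈ 𝓦) =>
      S ⊓ (⁅H ⊓ (NW W (S.map ρ)).comap ρ, H ⊓ (NW W (S.map ρ)).comap ρ⁆ ⊔ M)) W hW) h7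
  have h8 : x ∈ (R.map ρ).comap ρ := h3 h2
  rw [Subgroup.comap_map_eq, hker] at h8
  exact h8

variable {W : ∀ (Q : Type u) [Group Q], Subgroup Q}

/-- `N(T)` lies in the preimage of `N(W(T M / M))` -/
theorem normalizer_le_LW (hW : IsCharPFunctor.{u} p W) {X : Type u} [Group X] [Finite X] (M : Subgroup X)
    [M.Normal] (T : Subgroup X) (hTp : IsPGroup p T) :
    Subgroup.normalizer (T : Set X) ≤
      (NW W (T.map (QuotientGroup.mk' M))).comap (QuotientGroup.mk' M) := by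
  intro g hg
  rw [Subgroup.mem_comap]
  apply normalizer_le_normalizer_inducedFunctor hW (T.map (QuotientGroup.mk' M)) (hTp.map _)
  exact Subgroup.le_normalizer_map (QuotientGroup.mk' M) ⟨g, hg, rfl⟩

/-- the preimage of `N(W(T / M))` is a proper subgroup when the normal subgroups of `X` inside `T` lie
in `M` and `T ≠ M` -/
theorem LW_ne_top (hW : IsCharPFunctor.{u} p W) {X : Type u} [Group X] [Finite X] (M : Subgroup X)
    [M.Normal] (T : Subgroup X) (hTp : IsPGroup p T) (hMT : M ≤ T) (hnT : ¬ T ≤ M)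
    (hnorm : ∀ V : Subgroup X, V.Normal → V ≤ T → V ≤ M) :
    (NW W (T.map (QuotientGroup.mk' M))).comap (QuotientGroup.mk' M) ≠ ⊤ := by
  intro htop
  obtain ⟨ρ, hρ⟩ : ∃ ρ : X →* X ⧸ M, ρ = QuotientGroup.mk' M := ⟨_, rfl⟩
  rw [← hρ] at htop
  have hker : ρ.ker = M := by rw [hρ]; exact QuotientGroup.ker_mk' M
  have hsurj : Function.Surjective ρ := by rw [hρ]; exact QuotientGroup.mk'_surjective M
  have hTbp : IsPGroup p (T.map ρ) := hTp.map ρ
  have hTbne : T.map ρ ≠ ⊥ := by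
    intro h
    rw [Subgroup.map_eq_bot_iff, hker] at h
    exact hnT h
  have hWne := inducedFunctor_ne_bot hW (T.map ρ) hTbp hTbne
  obtain ⟨V, hV⟩ : ∃ V : Subgroup X, V = (inducedFunctor W (T.map ρ)).comap ρ := ⟨_, rfl⟩
  unfold NW at htop
  rw [Subgroup.comap_normalizer_eq_of_surjective _ hsurj, ← hV] at htop
  have hVn : V.Normal := Subgroup.normalizer_eq_top_iff.mp htop
  have hVT : V ≤ T := by
    have h1 : V ≤ (T.map ρ).comap ρ := by
      rw [hV]; exact Subgroup.comap_mono (inducedFunctor_le _)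
    rw [Subgroup.comap_map_eq, hker, sup_eq_left.mpr hMT] at h1
    exact h1
  have hVM : V ≤ M := hnorm V hVn hVT
  apply hWne
  have h2 : inducedFunctor W (T.map ρ) = V.map ρ := by
    rw [hV]; exact (Subgroup.map_comap_eq_self_of_surjective hsurj _).symm
  rw [h2, Subgroup.map_eq_bot_iff, hker]
  exact hVM

end functor

end Cfsg.Agent.Lib.Helper18.Transfer
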