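import Mathlib
import Cfsg.Agent.Lib.Helper13.PGroup
import Cfsg.Agent.Lib.Helper18.TransferBasic
import Cfsg.Agent.S1960

/-!
# Control of transfer by families of isomorphism-invariant functors: the main induction

If every section `G*` of `G` with `C(O_p(G*)) ≤ O_p(G*)` satisfies
`O_p(G*) ∩ (G*)' ≤ ⟨S* ∩ N(W(S*))' : W ∈ 𝓦⟩` for all its Sylow `p`-subgroups `S*`, then
`S ∩ X' = ⟨S ∩ N(W(S))' : W ∈ 𝓦⟩` for every section `X` of `G` and every Sylow `p`-subgroup `S` of `X`.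
-/

set_option autoImplicit false

universe u

namespace Cfsg.Agent.Lib.Helper18.Transfer

open Cfsg Cfsg.Agent.Lib.Helper13 Cfsg.Agent.Lib.Helper18.FusionCR
open scoped commutatorElement

variable {p : ℕ} [Fact p.Prime] {𝓦 : Set (∀ (Q : Type u) [Group Q], Subgroup Q)}

theorem le_focIn_top_of_trIn {X : Type u} [Group X] [Finite X] (S : Sylow p X) (Y : Subgroup X)
    (hY : TrIn p 𝓦 Y) (hSY : (S : Subgroup X) ≤ Y) :
    (S : Subgroup X) ⊓ ⁅Y, Y⁆ ≤ FocIn 𝓦 ⊤ (S : Subgroup X) :=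
  (hY S hSY S.isPGroup' (sylow_not_dvd_relIndex S Y hSY)).trans (focIn_mono le_top _)

omit [Fact p.Prime] in
theorem pCore_inf_centralizer_ne_bot [Fact p.Prime] {X : Type*} [Group X] [Finite X] (hQ : Cfsg.pCore p X ≠ ⊥) :
    Cfsg.pCore p X ⊓ Subgroup.centralizer ((Cfsg.pCore p X : Subgroup X) : Set X) ≠ ⊥ := by
  obtain ⟨Q, hQdef⟩ : ∃ Q : Subgroup X, Q = Cfsg.pCore p X := ⟨_, rfl⟩
  rw [← hQdef] at hQ ⊢
  have hQp : IsPGroup p Q := hQdef ▸ Cfsg.H5.pCore_isPGroup p X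
  have hnt : Nontrivial ↥Q := (Subgroup.nontrivial_iff_ne_bot Q).mpr hQ
  have hcn : Nontrivial (Subgroup.center ↥Q) := hQp.center_nontrivial
  obtain ⟨⟨z, hz⟩, hz1⟩ := exists_ne (1 : Subgroup.center ↥Q)
  intro hbot
  apply hz1
  have hzZ : (z : X) ∈ Q ⊓ Subgroup.centralizer (Q : Set X) := by
    refine Subgroup.mem_inf.mpr ⟨z.2, ?_⟩
    rw [Subgroup.mem_centralizer_iff]
    intro q hq
    have := Subgroup.mem_center_iff.mp hz ⟨q, hq⟩
    exact congrArg Subtype.val this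
  rw [hbot, Subgroup.mem_bot] at hzZ
  apply Subtype.ext
  apply Subtype.ext
  exact hzZ

/-- case `O_{p'}(X) ≠ 1` -/
theorem caseA (h𝓦 : ∀ W ∈ 𝓦, IsCharPFunctor.{u} p W) {X : Type u} [Group X] [Finite X] (S : Sylow p X)
    (K : Subgroup X) [hKn : K.Normal] (hKcop : (Nat.card K).Coprime p)
    (hq : ∀ Hb : Subgroup (X ⧸ K), TrIn p 𝓦 Hb) :
    (S : Subgroup X) ⊓ ⁅(⊤ : Subgroup X), ⊤⁆ ≤ FocIn 𝓦 ⊤ (S : Subgroup X) := by
  have hSp : IsPGroup p (S : Subgroup X) := S.isPGroup'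
  have hSi : ¬ p ∣ (S : Subgroup X).relIndex ⊤ := by
    rw [Subgroup.relIndex_top_right]; exact S.not_dvd_index
  have hSK : (S : Subgroup X) ⊓ K = ⊥ := FusionLift.inf_eq_bot_of_pgroup_coprime hSp hKcop
  have hKtop : ∀ B : Subgroup X, B ≤ Subgroup.normalizer (K : Set X) := fun B => by
    rw [Subgroup.normalizer_eq_top_iff.mpr hKn]; exact le_top
  have hqc := quot_control K ⊤ (S : Subgroup X) le_top hSp hSi (hq _)
  obtain ⟨F, hF⟩ : ∃ F : Subgroup X, F = FocIn 𝓦 ⊤ (S : Subgroup X) := ⟨_, rfl⟩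
  rw [← hF]
  have hFS : F ≤ (S : Subgroup X) := hF ▸ (focIn_le _ _).trans inf_le_left
  have hterm : ∀ W ∈ 𝓦, (S : Subgroup X) ⊓
      (⁅(⊤ : Subgroup X) ⊓ (NW W ((S : Subgroup X).map (QuotientGroup.mk' K))).comap (QuotientGroup.mk' K),
        (⊤ : Subgroup X) ⊓ (NW W ((S : Subgroup X).map (QuotientGroup.mk' K))).comap (QuotientGroup.mk' K)⁆ ⊔ K)
      ≤ F := by
    intro W hW
    have hWc := h𝓦 W hW
    obtain ⟨WS, hWS⟩ : ∃ WS : Subgroup X, WS = inducedFunctor (G := X) W (S : Subgroup X) := ⟨_, rfl⟩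
    have hWSle : WS ≤ (S : Subgroup X) := hWS ▸ inducedFunctor_le _
    have hWSp : IsPGroup p WS := hSp.to_le hWSle
    obtain ⟨N, hN⟩ : ∃ N : Subgroup X, N = Subgroup.normalizer (WS : Set X) := ⟨_, rfl⟩
    have hNW : NW W (S : Subgroup X) = N := by rw [hN, hWS]; rfl
    have hWSN : WS ≤ N := by rw [hN]; exact Subgroup.le_normalizer
    have hSN : (S : Subgroup X) ≤ N := by
      rw [hN, hWS]
      exact Subgroup.le_normalizer.trans (normalizer_le_normalizer_inducedFunctor hWc _ hSp)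
    have hinj : ∀ t ∈ (S : Subgroup X), QuotientGroup.mk' K t = 1 → t = 1 := by
      intro t ht h1
      have htK : t ∈ K := (QuotientGroup.eq_one_iff t).mp h1
      have h2 : t ∈ (S : Subgroup X) ⊓ K := Subgroup.mem_inf.mpr ⟨ht, htK⟩
      rw [hSK, Subgroup.mem_bot] at h2
      exact h2
    have hWb : inducedFunctor (G := X ⧸ K) W ((S : Subgroup X).map (QuotientGroup.mk' K)) =
        WS.map (QuotientGroup.mk' K) := by
      rw [hWS]; exact inducedFunctor_map_of_injOn hWc (QuotientGroup.mk' K) _ hSp hinj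
    have hLW : (NW W ((S : Subgroup X).map (QuotientGroup.mk' K))).comap (QuotientGroup.mk' K) =
        Subgroup.normalizer ((WS ⊔ K : Subgroup X) : Set X) := by
      unfold NW
      rw [hWb, Subgroup.comap_normalizer_eq_of_surjective _ (QuotientGroup.mk'_surjective K),
        Subgroup.comap_map_eq, QuotientGroup.ker_mk']
    have hfr : Subgroup.normalizer ((WS ⊔ K : Subgroup X) : Set X) ≤ N ⊔ K := by
      intro g hg
      obtain ⟨y, hy, hyg⟩ := frattini_rel (WS ⊔ K) WS le_sup_left hWSp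
        (FusionLift.not_dvd_relIndex_sup hWSp (hKtop WS) hKcop) g hg
      have hygN : y * g ∈ N := by rw [hN]; exact hyg
      have e : g = y⁻¹ * (y * g) := by group
      rw [e]
      refine Subgroup.mul_mem _ (Subgroup.inv_mem _ ?_) (Subgroup.mem_sup_left hygN)
      exact (sup_le_sup_right hWSN K) hy
    rw [hLW, top_inf_eq]
    have h1 : ⁅Subgroup.normalizer ((WS ⊔ K : Subgroup X) : Set X),
        Subgroup.normalizer ((WS ⊔ K : Subgroup X) : Set X)⁆ ⊔ K ≤ ⁅N, N⁆ ⊔ K :=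
      sup_le ((Subgroup.commutator_mono hfr hfr).trans (commutator_sup_normal_le N K)) le_sup_right
    intro x hx
    obtain ⟨hxS, hxc⟩ := Subgroup.mem_inf.mp hx
    have hx2 : x ∈ ((K ⊔ ⁅N, N⁆ : Subgroup X) : Set X) := by
      rw [sup_comm]; exact h1 hxc
    rw [Subgroup.normal_mul] at hx2
    obtain ⟨k, hk, e, he, hke⟩ := Set.mem_mul.mp hx2
    have hk' : k ∈ K := hk
    have he' : e ∈ ⁅N, N⁆ := he
    have hkN : k ∈ N := by
      have e1 : k = x * e⁻¹ := by rw [← hke]; group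
      rw [e1]; exact N.mul_mem (hSN hxS) (N.inv_mem (Subgroup.commutator_le_self N he'))
    obtain ⟨t, ht, e', he'', hxte⟩ := ppart N (K ⊓ N) ⁅N, N⁆ (S : Subgroup X) inf_le_right
      (Subgroup.commutator_le_self N)
      (fun l hl d hd => Subgroup.mem_inf.mpr ⟨hKn.conj_mem d (Subgroup.mem_inf.mp hd).1 l,
        N.mul_mem (N.mul_mem hl (Subgroup.mem_inf.mp hd).2) (N.inv_mem hl)⟩)
      le_rfl hSp (sylow_not_dvd_relIndex S N hSN) x k e hxS (Subgroup.mem_inf.mpr ⟨hk', hkN⟩) he'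
      hke.symm
    have ht1 : t = 1 := by
      have h2 : t ∈ (S : Subgroup X) ⊓ K :=
        Subgroup.mem_inf.mpr ⟨(Subgroup.mem_inf.mp ht).1, (Subgroup.mem_inf.mp (Subgroup.mem_inf.mp ht).2).1⟩
      rw [hSK, Subgroup.mem_bot] at h2; exact h2
    rw [ht1, one_mul] at hxte
    rw [hF]
    apply le_focIn hW ⊤ (S : Subgroup X)
    rw [top_inf_eq, hNW]
    refine Subgroup.mem_inf.mpr ⟨hxS, ?_⟩
    rw [hxte]; exact he''
  intro x hx
  obtain ⟨hxS, hxc⟩ := Subgroup.mem_inf.mp hx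
  have h1 : x ∈ (F ⊔ K : Subgroup X) := by
    have := hqc (Subgroup.mem_inf.mpr ⟨hxS, Subgroup.mem_sup_left hxc⟩)
    exact (sup_le_sup_right (iSup₂_le hterm) K) this
  have h2 : x ∈ ((F ⊔ K : Subgroup X) : Set X) := h1
  rw [Subgroup.mul_normal] at h2
  obtain ⟨f, hf, k, hk, hfk⟩ := Set.mem_mul.mp h2
  have hf' : f ∈ F := hf
  have hk' : k ∈ K := hk
  have hk1 : k = 1 := by
    have e1 : k = f⁻¹ * x := by rw [← hfk]; group
    have h3 : k ∈ (S : Subgroup X) ⊓ K := by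
      refine Subgroup.mem_inf.mpr ⟨?_, hk'⟩
      rw [e1]; exact Subgroup.mul_mem _ (Subgroup.inv_mem _ (hFS hf')) hxS
    rw [hSK, Subgroup.mem_bot] at h3; exact h3
  rw [← hfk, hk1, mul_one]; exact hf'

/-- case `O_p(X) = 1` -/
theorem caseB (h𝓦 : ∀ W ∈ 𝓦, IsCharPFunctor.{u} p W) {X : Type u} [Group X] [Finite X] (S : Sylow p X)
    (hQ : Cfsg.pCore p X = ⊥) (hsub : ∀ Y : Subgroup X, Y ≠ ⊤ → TrIn p 𝓦 Y) :
    (S : Subgroup X) ⊓ ⁅(⊤ : Subgroup X), ⊤⁆ ≤ FocIn 𝓦 ⊤ (S : Subgroup X) := by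
  have hSp : IsPGroup p (S : Subgroup X) := S.isPGroup'
  obtain ⟨𝓦X, h𝓦X⟩ : ∃ 𝓦X : Set (Subgroup X → Subgroup X),
      𝓦X = (fun W => inducedFunctor (G := X) W) '' 𝓦 := ⟨_, rfl⟩
  have hconj : ∀ W' ∈ 𝓦X, IsConjugacyFunctor p W' := by
    intro W' hW'
    rw [h𝓦X] at hW'
    obtain ⟨W, hW, rfl⟩ := hW'
    exact isConjugacyFunctor_inducedFunctor (h𝓦 W hW) X
  have hloc : ∀ T : Subgroup X, T ≤ (S : Subgroup X) → T ≠ ⊥ →
      ¬ p ∣ ((S : Subgroup X) ⊓ Subgroup.normalizer ((T : Subgroup X) : Set X)).relIndex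
        (Subgroup.normalizer ((T : Subgroup X) : Set X)) →
      Cfsg.FamilyControlsTransferIn p 𝓦X (Subgroup.normalizer ((T : Subgroup X) : Set X)) := by
    intro T hTS hTne hTi
    have hne : Subgroup.normalizer (T : Set X) ≠ ⊤ := by
      intro htop
      apply hTne
      have hTn : T.Normal := Subgroup.normalizer_eq_top_iff.mp htop
      have := Cfsg.H5.le_pCore hTn (hSp.to_le hTS)
      rw [hQ] at this
      exact le_bot_iff.mp this
    have hTr := hsub _ hne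
    refine ⟨(S : Subgroup X) ⊓ Subgroup.normalizer (T : Set X), inf_le_right, hSp.to_le inf_le_left, hTi, ?_⟩
    rw [h𝓦X, iSup_image]
    exact le_antisymm (hTr _ inf_le_right (hSp.to_le inf_le_left) hTi) (focIn_le _ _)
  have hc := Cfsg.Agent.S1960.result S 𝓦X hconj hloc
  have h1 := Cfsg.Agent.S1960.famtransfer_any_sylow 𝓦X hconj ⊤ hc (S : Subgroup X) le_top hSp
    (by rw [Subgroup.relIndex_top_right]; exact S.not_dvd_index)
  rw [h𝓦X, iSup_image] at h1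
  exact h1.le

/-- case `C(O_p(X)) ≤ O_p(X)` -/
theorem caseC (h𝓦 : ∀ W ∈ 𝓦, IsCharPFunctor.{u} p W) {X : Type u} [Group X] [Finite X] (S : Sylow p X)
    (hloc : Cfsg.pCore p X ⊓ ⁅(⊤ : Subgroup X), ⊤⁆ ≤ FocIn 𝓦 ⊤ (S : Subgroup X))
    (hsub : ∀ Y : Subgroup X, Y ≠ ⊤ → TrIn p 𝓦 Y)
    (Q : Subgroup X) [hQn : Q.Normal] (hQdef : Q = Cfsg.pCore p X)
    (hq : ∀ Hb : Subgroup (X ⧸ Q), TrIn p 𝓦 Hb) :
    (S : Subgroup X) ⊓ ⁅(⊤ : Subgroup X), ⊤⁆ ≤ FocIn 𝓦 ⊤ (S : Subgroup X) := by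
  have hSp : IsPGroup p (S : Subgroup X) := S.isPGroup'
  have hSi : ¬ p ∣ (S : Subgroup X).relIndex ⊤ := by
    rw [Subgroup.relIndex_top_right]; exact S.not_dvd_index
  have hQp : IsPGroup p Q := hQdef ▸ Cfsg.H5.pCore_isPGroup p X
  have hQS : Q ≤ (S : Subgroup X) := hQp.le_sylow_of_normal S
  rw [← hQdef] at hloc
  obtain ⟨F, hF⟩ : ∃ F : Subgroup X, F = FocIn 𝓦 ⊤ (S : Subgroup X) := ⟨_, rfl⟩
  rw [← hF] at hloc ⊢
  have hFle : F ≤ (S : Subgroup X) ⊓ ⁅(⊤ : Subgroup X), ⊤⁆ := hF ▸ focIn_le _ _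
  by_cases hSQ : (S : Subgroup X) ≤ Q
  · exact (inf_le_inf_right (⁅(⊤ : Subgroup X), ⊤⁆) hSQ).trans hloc
  have hqc := quot_control Q ⊤ (S : Subgroup X) le_top hSp hSi (hq _)
  have hterm : ∀ W ∈ 𝓦, (S : Subgroup X) ⊓
      (⁅(⊤ : Subgroup X) ⊓ (NW W ((S : Subgroup X).map (QuotientGroup.mk' Q))).comap (QuotientGroup.mk' Q),
        (⊤ : Subgroup X) ⊓ (NW W ((S : Subgroup X).map (QuotientGroup.mk' Q))).comap (QuotientGroup.mk' Q)⁆ ⊔ Q)
      ≤ F ⊔ Q := by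
    intro W hW
    have hWc := h𝓦 W hW
    obtain ⟨LW, hLW⟩ : ∃ LW : Subgroup X,
        LW = (NW W ((S : Subgroup X).map (QuotientGroup.mk' Q))).comap (QuotientGroup.mk' Q) := ⟨_, rfl⟩
    rw [← hLW, top_inf_eq]
    have hSLW : (S : Subgroup X) ≤ LW := by
      rw [hLW]; exact Subgroup.le_normalizer.trans (normalizer_le_LW hWc Q _ hSp)
    have hLWne : LW ≠ ⊤ := by
      rw [hLW]
      exact LW_ne_top hWc Q (S : Subgroup X) hSp hQS hSQ (fun V hVn hVS => by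
        rw [hQdef]; exact Cfsg.H5.le_pCore hVn (hSp.to_le hVS))
    have h1 : (S : Subgroup X) ⊓ ⁅LW, LW⁆ ≤ F := by
      rw [hF]; exact le_focIn_top_of_trIn S LW (hsub LW hLWne) hSLW
    exact inf_sup_le_of_le (S : Subgroup X) ⁅LW, LW⁆ Q F hQS h1
  intro x hx
  obtain ⟨hxS, hxc⟩ := Subgroup.mem_inf.mp hx
  have h1 : x ∈ (F ⊔ Q : Subgroup X) := by
    have := hqc (Subgroup.mem_inf.mpr ⟨hxS, Subgroup.mem_sup_left hxc⟩)
    exact (sup_le (iSup₂_le hterm) le_sup_right) this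
  have h2 : x ∈ ((F ⊔ Q : Subgroup X) : Set X) := h1
  rw [Subgroup.mul_normal] at h2
  obtain ⟨f, hf, z, hz, hfz⟩ := Set.mem_mul.mp h2
  have hf' : f ∈ F := hf
  have hz' : z ∈ Q := hz
  have hzc : z ∈ ⁅(⊤ : Subgroup X), (⊤ : Subgroup X)⁆ := by
    have e1 : z = f⁻¹ * x := by rw [← hfz]; group
    rw [e1]
    exact Subgroup.mul_mem _ (Subgroup.inv_mem _ (Subgroup.mem_inf.mp (hFle hf')).2) hxc
  rw [← hfz]
  exact F.mul_mem hf' (hloc (Subgroup.mem_inf.mpr ⟨hz', hzc⟩))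

/-- case `O_{p'}(X) = 1`, `C(O_p(X)) ≰ O_p(X)` -/
theorem caseD (h𝓦 : ∀ W ∈ 𝓦, IsCharPFunctor.{u} p W) {X : Type u} [Group X] [Finite X] (S : Sylow p X)
    (hK : Cfsg.pPrimeCore p X = ⊥)
    (hncon : ¬ Subgroup.centralizer ((Cfsg.pCore p X : Subgroup X) : Set X) ≤ Cfsg.pCore p X)
    (hsub : ∀ Y : Subgroup X, Y ≠ ⊤ → TrIn p 𝓦 Y)
    (Z : Subgroup X) [hZn : Z.Normal]
    (hZdef : Z = Cfsg.pCore p X ⊓ Subgroup.centralizer ((Cfsg.pCore p X : Subgroup X) : Set X))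
    (hq : ∀ Hb : Subgroup (X ⧸ Z), TrIn p 𝓦 Hb) :
    (S : Subgroup X) ⊓ ⁅(⊤ : Subgroup X), ⊤⁆ ≤ FocIn 𝓦 ⊤ (S : Subgroup X) := by
  have hSp : IsPGroup p (S : Subgroup X) := S.isPGroup'
  obtain ⟨Q, hQdef⟩ : ∃ Q : Subgroup X, Q = Cfsg.pCore p X := ⟨_, rfl⟩
  rw [← hQdef] at hncon hZdef
  have hQn : Q.Normal := hQdef ▸ Cfsg.H5.pCore_normal p X
  have hQp : IsPGroup p Q := hQdef ▸ Cfsg.H5.pCore_isPGroup p X
  have hQS : Q ≤ (S : Subgroup X) := hQp.le_sylow_of_normal S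
  obtain ⟨C, hCdef⟩ : ∃ C : Subgroup X, C = Subgroup.centralizer (Q : Set X) := ⟨_, rfl⟩
  rw [← hCdef] at hncon hZdef
  have hCn : C.Normal := hCdef ▸ Subgroup.normal_centralizer
  have hZQ : Z ≤ Q := hZdef ▸ inf_le_left
  have hZC : Z ≤ C := hZdef ▸ inf_le_right
  obtain ⟨T, hTdef⟩ : ∃ T : Subgroup X, T = (S : Subgroup X) ⊓ C := ⟨_, rfl⟩
  have hTS : T ≤ (S : Subgroup X) := hTdef ▸ inf_le_left
  have hTC : T ≤ C := hTdef ▸ inf_le_right
  have hZT : Z ≤ T := hTdef ▸ le_inf (hZQ.trans hQS) hZC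
  have hTp : IsPGroup p T := hSp.to_le hTS
  have hTi : ¬ p ∣ T.relIndex C := by
    rw [hTdef, Subgroup.inf_relIndex_right]
    exact fun h => S.not_dvd_index
      (dvd_trans h (Cfsg.Agent.Lib.Helper17.relIndex_dvd_index_of_normal_right (S : Subgroup X) C))
  have hTnZ : ¬ T ≤ Z := by
    intro h
    apply hncon
    rw [hCdef, hQdef]
    apply centralizer_pCore_le hK S
    rw [← hQdef, ← hCdef, ← hTdef]
    exact h.trans hZQ
  have hnormT : ∀ V : Subgroup X, V.Normal → V ≤ T → V ≤ Z := by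
    intro V hVn hVT
    rw [hZdef]
    refine le_inf ?_ (hVT.trans hTC)
    rw [hQdef]; exact Cfsg.H5.le_pCore hVn (hTp.to_le hVT)
  obtain ⟨L, hLdef⟩ : ∃ L : Subgroup X, L = Subgroup.normalizer (T : Set X) := ⟨_, rfl⟩
  have hTL : T ≤ L := hLdef ▸ Subgroup.le_normalizer
  have hSL : (S : Subgroup X) ≤ L := by
    intro s hs
    rw [hLdef]
    apply mem_normalizer_of_conj_mem
    intro t ht
    rw [hTdef] at ht ⊢
    obtain ⟨h1, h2⟩ := Subgroup.mem_inf.mp ht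
    exact Subgroup.mem_inf.mpr ⟨Subgroup.mul_mem _ (Subgroup.mul_mem _ hs h1) (Subgroup.inv_mem _ hs),
      hCn.conj_mem t h2 s⟩
  have hLne : L ≠ ⊤ := by
    intro htop
    rw [hLdef] at htop
    exact hTnZ (hnormT T (Subgroup.normalizer_eq_top_iff.mp htop) le_rfl)
  obtain ⟨F, hF⟩ : ∃ F : Subgroup X, F = FocIn 𝓦 ⊤ (S : Subgroup X) := ⟨_, rfl⟩
  rw [← hF]
  have hLF : (S : Subgroup X) ⊓ ⁅L, L⁆ ≤ F := by
    rw [hF]; exact le_focIn_top_of_trIn S L (hsub L hLne) hSL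
  obtain ⟨C', hC'def⟩ : ∃ C' : Subgroup X, C' = ⁅C, C⁆ := ⟨_, rfl⟩
  have hC'n : C'.Normal := by rw [hC'def]; infer_instance
  have hC'C : C' ≤ C := hC'def ▸ Subgroup.commutator_le_self C
  -- `T ∩ C' ≤ F`
  have hstep4 : T ⊓ C' ≤ F := by
    have hqc := quot_control Z C T hTC hTp hTi (hq _)
    obtain ⟨E, hE⟩ : ∃ E : Subgroup X, E = F ⊓ C' := ⟨_, rfl⟩
    have hterm : ∀ W ∈ 𝓦, T ⊓
        (⁅C ⊓ (NW W (T.map (QuotientGroup.mk' Z))).comap (QuotientGroup.mk' Z),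
          C ⊓ (NW W (T.map (QuotientGroup.mk' Z))).comap (QuotientGroup.mk' Z)⁆ ⊔ Z) ≤ E ⊔ Z := by
      intro W hW
      have hWc := h𝓦 W hW
      obtain ⟨LW, hLW⟩ : ∃ LW : Subgroup X,
          LW = (NW W (T.map (QuotientGroup.mk' Z))).comap (QuotientGroup.mk' Z) := ⟨_, rfl⟩
      rw [← hLW]
      have hLLW : L ≤ LW := by rw [hLW, hLdef]; exact normalizer_le_LW hWc Z T hTp
      have hLWne : LW ≠ ⊤ := by rw [hLW]; exact LW_ne_top hWc Z T hTp hZT hTnZ hnormT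
      have h1 : (S : Subgroup X) ⊓ ⁅LW, LW⁆ ≤ F := by
        rw [hF]; exact le_focIn_top_of_trIn S LW (hsub LW hLWne) (hSL.trans hLLW)
      apply inf_sup_le_of_le T _ Z E hZT
      rw [hE]
      refine le_inf ?_ ?_
      · exact (inf_le_inf hTS (Subgroup.commutator_mono inf_le_right inf_le_right)).trans h1
      · rw [hC'def]; exact inf_le_right.trans (Subgroup.commutator_mono inf_le_left inf_le_left)
    intro x hx
    obtain ⟨hxT, hxC'⟩ := Subgroup.mem_inf.mp hx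
    have h1 : x ∈ (E ⊔ Z : Subgroup X) := by
      have hxC'' : x ∈ ⁅C, C⁆ := by rw [← hC'def]; exact hxC'
      have := hqc (Subgroup.mem_inf.mpr ⟨hxT, Subgroup.mem_sup_left hxC''⟩)
      exact (sup_le (iSup₂_le hterm) le_sup_right) this
    have h2 : x ∈ ((E ⊔ Z : Subgroup X) : Set X) := h1
    rw [Subgroup.mul_normal] at h2
    obtain ⟨f, hf, z, hz, hfz⟩ := Set.mem_mul.mp h2
    have hf' : f ∈ E := hf
    have hz' : z ∈ Z := hz
    rw [hE] at hf'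
    obtain ⟨hfF, hfC'⟩ := Subgroup.mem_inf.mp hf'
    have hzC' : z ∈ ⁅C, C⁆ := by
      have e1 : z = f⁻¹ * x := by rw [← hfz]; group
      rw [e1, ← hC'def]; exact Subgroup.mul_mem _ (Subgroup.inv_mem _ hfC') hxC'
    have hzcomm : ∀ c ∈ C, c * z = z * c := by
      intro c hc
      rw [hCdef] at hc
      exact (Subgroup.mem_centralizer_iff.mp hc z (hZQ hz')).symm
    have hzp : ∃ k : ℕ, z ^ p ^ k = 1 := by
      obtain ⟨k, hk⟩ := hQp ⟨z, hZQ hz'⟩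
      exact ⟨k, by simpa using congrArg Subtype.val hk⟩
    have hzL : z ∈ ⁅C ⊓ L, C ⊓ L⁆ := transfer_central C (C ⊓ L) inf_le_left
      (not_dvd_relIndex_of_le C T (C ⊓ L) (le_inf hTC hTL) hTi) z hzC' hzcomm hzp
    have hzF : z ∈ F := hLF (Subgroup.mem_inf.mpr ⟨hQS (hZQ hz'),
      Subgroup.commutator_mono inf_le_right inf_le_right hzL⟩)
    rw [← hfz]; exact F.mul_mem hfF hzF
  -- `X = L C'`
  have hstep1 : (⊤ : Subgroup X) ≤ L ⊔ C' := by
    intro g _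
    obtain ⟨y₁, hy₁, hl₁⟩ := frattini_rel C T hTC hTp hTi g
      (by rw [Subgroup.normalizer_eq_top_iff.mpr hCn]; trivial)
    have hTi' : ¬ p ∣ T.relIndex (C' ⊔ T) :=
      not_dvd_relIndex_of_le_right C (C' ⊔ T) T le_sup_right (sup_le hC'C hTC) hTi
    have hnorm : C ≤ Subgroup.normalizer ((C' ⊔ T : Subgroup X) : Set X) :=
      le_normalizer_of_commutator_le (hC'def ▸ le_sup_left) (sup_le hC'C hTC)
    obtain ⟨y₂, hy₂, hl₂⟩ := frattini_rel (C' ⊔ T) T le_sup_right hTp hTi' y₁⁻¹ (hnorm (C.inv_mem hy₁))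
    rw [← hLdef] at hl₁ hl₂
    have e : g = y₂⁻¹ * ((y₂ * y₁⁻¹) * (y₁ * g)) := by group
    rw [e]
    refine Subgroup.mul_mem _ (Subgroup.inv_mem _ ?_) (Subgroup.mem_sup_left (L.mul_mem hl₂ hl₁))
    exact (sup_le le_sup_right (hTL.trans le_sup_left)) hy₂
  have hstep1' : ⁅(⊤ : Subgroup X), ⊤⁆ ≤ ⁅L, L⁆ ⊔ C' :=
    (Subgroup.commutator_mono hstep1 hstep1).trans (commutator_sup_normal_le L C')
  intro x hx
  obtain ⟨hxS, hxc⟩ := Subgroup.mem_inf.mp hx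
  have hx2 : x ∈ ((C' ⊔ ⁅L, L⁆ : Subgroup X) : Set X) := by
    rw [sup_comm]; exact hstep1' hxc
  rw [Subgroup.normal_mul] at hx2
  obtain ⟨c, hc, e, he, hce⟩ := Set.mem_mul.mp hx2
  have hc' : c ∈ C' := hc
  have he' : e ∈ ⁅L, L⁆ := he
  have hcL : c ∈ L := by
    have e1 : c = x * e⁻¹ := by rw [← hce]; group
    rw [e1]; exact L.mul_mem (hSL hxS) (L.inv_mem (Subgroup.commutator_le_self L he'))
  obtain ⟨t, ht, e'', he'', hxte⟩ := ppart L (C' ⊓ L) ⁅L, L⁆ (S : Subgroup X) inf_le_right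
    (Subgroup.commutator_le_self L)
    (fun l hl d hd => Subgroup.mem_inf.mpr ⟨hC'n.conj_mem d (Subgroup.mem_inf.mp hd).1 l,
      L.mul_mem (L.mul_mem hl (Subgroup.mem_inf.mp hd).2) (L.inv_mem hl)⟩)
    le_rfl hSp (sylow_not_dvd_relIndex S L hSL) x c e hxS (Subgroup.mem_inf.mpr ⟨hc', hcL⟩) he'
    hce.symm
  obtain ⟨htS, htD⟩ := Subgroup.mem_inf.mp ht
  have htC' : t ∈ C' := (Subgroup.mem_inf.mp htD).1
  have htT : t ∈ T := by rw [hTdef]; exact Subgroup.mem_inf.mpr ⟨htS, hC'C htC'⟩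
  have htF : t ∈ F := hstep4 (Subgroup.mem_inf.mpr ⟨htT, htC'⟩)
  have he''S : e'' ∈ (S : Subgroup X) := by
    have e1 : e'' = t⁻¹ * (t * e'') := by group
    rw [e1, ← hxte]; exact Subgroup.mul_mem _ (Subgroup.inv_mem _ htS) hxS
  rw [hxte]
  exact F.mul_mem htF (hLF (Subgroup.mem_inf.mpr ⟨he''S, he''⟩))

/-- **the main induction** -/
theorem main (h𝓦 : ∀ W ∈ 𝓦, IsCharPFunctor.{u} p W) :
    ∀ n : ℕ, ∀ (X : Type u) [Group X] [Finite X], Nat.card X = n → SecAll (Loc p 𝓦) X → Tr p 𝓦 X := by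
  intro n
  induction n using Nat.strong_induction_on with
  | _ n ih =>
  intro X _ _ hn hsec S
  have hiso := isoInv_Loc (p := p) h𝓦
  have IH : ∀ (Y : Type u) [Group Y] [Finite Y], Nat.card Y < Nat.card X → SecAll (Loc p 𝓦) Y →
      Tr p 𝓦 Y := by
    intro Y _ _ hlt hY
    exact ih (Nat.card Y) (hn ▸ hlt) Y rfl hY
  have hsub : ∀ Y : Subgroup X, Y ≠ ⊤ → TrIn p 𝓦 Y := by
    intro Y hY
    apply trIn_of_tr_subtype h𝓦
    have hcard : Nat.card ↥Y < Nat.card X := by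
      have := card_lt_card_of_lt (lt_top_iff_ne_top.mpr hY)
      rwa [Subgroup.card_top] at this
    exact IH _ hcard (secAll_subgroup hiso hsec Y)
  have hquot : ∀ (M : Subgroup X) [M.Normal], M ≠ ⊥ → ∀ Hb : Subgroup (X ⧸ M), TrIn p 𝓦 Hb := by
    intro M _ hM Hb
    apply trIn_of_tr_subtype h𝓦
    have hcard : Nat.card (X ⧸ M) < Nat.card X := by
      have h1 : Nat.card X = Nat.card (X ⧸ M) * Nat.card M := Subgroup.card_eq_card_quotient_mul_card_subgroup M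
      have h2 : 1 < Nat.card M := (Subgroup.one_lt_card_iff_ne_bot M).mpr hM
      have h3 : 0 < Nat.card (X ⧸ M) := Nat.card_pos
      nlinarith
    have hcard' : Nat.card ↥Hb < Nat.card X := lt_of_le_of_lt (Subgroup.card_le_card_group Hb) hcard
    exact IH _ hcard' (secAll_subgroup hiso (secAll_quotient hiso hsec M) Hb)
  by_cases hK : Cfsg.pPrimeCore p X = ⊥
  swap
  · have := Cfsg.H5.pPrimeCore_normal p X
    exact caseA h𝓦 S (Cfsg.pPrimeCore p X) (Cfsg.H5.coprime_card_pPrimeCore p X) (hquot _ hK)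
  by_cases hQ : Cfsg.pCore p X = ⊥
  · exact caseB h𝓦 S hQ hsub
  have hQn := Cfsg.H5.pCore_normal p X
  by_cases hcon : Subgroup.centralizer ((Cfsg.pCore p X : Subgroup X) : Set X) ≤ Cfsg.pCore p X
  · have hLoc : Loc p 𝓦 X := secAll_self hiso hsec
    exact caseC h𝓦 S (hLoc inferInstance hcon S) hsub (Cfsg.pCore p X) rfl (hquot _ hQ)
  have : (Cfsg.pCore p X ⊓ Subgroup.centralizer ((Cfsg.pCore p X : Subgroup X) : Set X)).Normal :=
    Subgroup.normal_inf_normal _ _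
  exact caseD h𝓦 S hK hcon hsub _ rfl (hquot _ (pCore_inf_centralizer_ne_bot hQ))

end Cfsg.Agent.Lib.Helper18.Transfer
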