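import Mathlib
import Cfsg.Prelude.Def_PLocal
import Cfsg.Prelude.Def_LocalEven
import Cfsg.Agent.Lib.Helper1.Frattini
import Cfsg.Agent.Lib.Helper13.Conj
import Cfsg.Agent.Lib.Helper17.TransferGen

/-!
# Tools for the structure of a minimal failure of control of transfer

* products over the orbits of a `p`-group generated by elements `u` with `∏_{i<p} F (u^i • ω) = 1`;
* evaluation of the transfer at an element of the core of the subgroup;
* the product of `p` successive conjugates of an element in a section of exponent `p` on which the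
  conjugating element acts with `[X, u; p-1] ≤ Y`;
* iterated commutators under homomorphisms; existence of chief factors.
-/

set_option autoImplicit false

universe u

namespace Cfsg.Agent.Lib.Helper18.TransferMin

open Cfsg Cfsg.Agent.Lib.Helper13 Cfsg.Agent.Lib.Helper1
open scoped commutatorElement

section Orbits

variable {Wg Ω A : Type*} [Group Wg] [MulAction Wg Ω] [Fintype Ω] [CommGroup A]

/-- the product over a nontrivial orbit of a `p`-group generated by "good" elements is trivial -/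
theorem prod_orbit_eq_one [Finite Wg] {p : ℕ} [Fact p.Prime] (hWp : IsPGroup p Wg) (F : Ω → A)
    (𝒰 : Set Wg) (hgen : Subgroup.closure 𝒰 = ⊤)
    (h𝒰 : ∀ u ∈ 𝒰, ∀ ω, ∏ i ∈ Finset.range p, F (u ^ i • ω) = 1)
    (ω₀ : Ω) (hω₀ : ∃ g : Wg, g • ω₀ ≠ ω₀) [DecidablePred (fun y => y ∈ MulAction.orbit Wg ω₀)] :
    ∏ y ∈ Finset.univ.filter (fun y => y ∈ MulAction.orbit Wg ω₀), F y = 1 := by
  classical
  have hSt : MulAction.stabilizer Wg ω₀ ≠ ⊤ := by
    intro h
    obtain ⟨g, hg⟩ := hω₀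
    apply hg
    have : g ∈ MulAction.stabilizer Wg ω₀ := h ▸ Subgroup.mem_top g
    exact MulAction.mem_stabilizer_iff.mp this
  obtain ⟨K, hKco, hStK⟩ := (eq_top_or_exists_le_coatom _).resolve_left hSt
  have hKn : K.Normal := IsPGroup.normal_of_isCoatom hWp hKco
  have hKi : K.index = p := IsPGroup.index_of_isCoatom hWp hKco
  obtain ⟨u, hu𝒰, huK⟩ : ∃ u ∈ 𝒰, u ∉ K := by
    by_contra hcon
    push Not at hcon
    apply hKco.1
    rw [eq_top_iff, ← hgen, Subgroup.closure_le]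
    exact hcon
  have hbij := Cfsg.Agent.Lib.Helper17.pow_bijective_of_index_prime hKi huK
  let B : Finset Ω := Finset.univ.filter (fun y => ∃ k ∈ K, k • ω₀ = y)
  have hprod : ∏ x ∈ B ×ˢ Finset.range p, F (u ^ x.2 • x.1) =
      ∏ y ∈ Finset.univ.filter (fun y => y ∈ MulAction.orbit Wg ω₀), F y := by
    apply Finset.prod_bij (fun x _ => u ^ x.2 • x.1)
    · rintro ⟨b, i⟩ hx
      obtain ⟨hb, -⟩ := Finset.mem_product.mp hx
      obtain ⟨k, -, hkb⟩ := (Finset.mem_filter.mp hb).2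
      refine Finset.mem_filter.mpr ⟨Finset.mem_univ _, u ^ i * k, ?_⟩
      show (u ^ i * k) • ω₀ = u ^ i • b
      rw [mul_smul, hkb]
    · rintro ⟨b, i⟩ hx ⟨b', j⟩ hx' heq
      obtain ⟨hb, hi⟩ := Finset.mem_product.mp hx
      obtain ⟨hb', hj⟩ := Finset.mem_product.mp hx'
      obtain ⟨k, hk, hkb⟩ := (Finset.mem_filter.mp hb).2
      obtain ⟨k', hk', hkb'⟩ := (Finset.mem_filter.mp hb').2
      have hi' : i < p := Finset.mem_range.mp hi
      have hj' : j < p := Finset.mem_range.mp hj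
      have heq' : u ^ i • k • ω₀ = u ^ j • k' • ω₀ := by rw [hkb, hkb']; exact heq
      have h1 : (u ^ j * k')⁻¹ * (u ^ i * k) ∈ MulAction.stabilizer Wg ω₀ := by
        have e : (u ^ j * k')⁻¹ * u ^ j * k' = 1 := by group
        rw [MulAction.mem_stabilizer_iff, mul_smul, mul_smul, heq', ← mul_smul, ← mul_smul, e, one_smul]
      have h2 := hStK h1
      have h3 : (u ^ j)⁻¹ * u ^ i ∈ K := by
        have e : (u ^ j)⁻¹ * u ^ i = k' * ((u ^ j * k')⁻¹ * (u ^ i * k)) * k⁻¹ := by group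
        rw [e]; exact K.mul_mem (K.mul_mem hk' h2) (K.inv_mem hk)
      have h4 : ((u ^ j : Wg) : Wg ⧸ K) = ((u ^ i : Wg) : Wg ⧸ K) := QuotientGroup.eq.mpr h3
      have h5 : (⟨j, hj'⟩ : Fin p) = ⟨i, hi'⟩ := hbij.1 h4
      have hij : j = i := congrArg Fin.val h5
      subst hij
      have h6 : b = b' := by
        have := congrArg (fun y => (u ^ j)⁻¹ • y) heq
        simpa using this
      rw [h6]
    · intro y hy
      obtain ⟨g, hg⟩ := (Finset.mem_filter.mp hy).2
      obtain ⟨i, hi⟩ := hbij.2 ((g : Wg) : Wg ⧸ K)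
      have h1 : (u ^ (i : ℕ))⁻¹ * g ∈ K := QuotientGroup.eq.mp hi
      refine ⟨(((u ^ (i : ℕ))⁻¹ * g) • ω₀, (i : ℕ)), ?_, ?_⟩
      · exact Finset.mem_product.mpr ⟨Finset.mem_filter.mpr ⟨Finset.mem_univ _, _, h1, rfl⟩,
          Finset.mem_range.mpr i.2⟩
      · show u ^ (i : ℕ) • ((u ^ (i : ℕ))⁻¹ * g) • ω₀ = y
        rw [← mul_smul, mul_inv_cancel_left]
        exact hg
    · intro a _
      rfl
  rw [← hprod, Finset.prod_product]
  apply Finset.prod_eq_one
  intro b _
  exact h𝒰 u hu𝒰 b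

/-- a `p`-group generated by "good" elements with a unique fixed point: the total product is the value at the
fixed point -/
theorem prod_eq_of_pgroup_action [Finite Wg] {p : ℕ} [Fact p.Prime] (hWp : IsPGroup p Wg) (F : Ω → A)
    (𝒰 : Set Wg) (hgen : Subgroup.closure 𝒰 = ⊤)
    (h𝒰 : ∀ u ∈ 𝒰, ∀ ω, ∏ i ∈ Finset.range p, F (u ^ i • ω) = 1)
    (q₀ : Ω) (hfix : ∀ ω, (∀ g : Wg, g • ω = ω) ↔ ω = q₀) : ∏ ω, F ω = F q₀ := by
  classical
  rw [← Finset.mul_prod_erase Finset.univ F (Finset.mem_univ q₀),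
    Finset.prod_cancels_of_partition_cancels (MulAction.orbitRel Wg Ω), mul_one]
  intro x hx
  have hxq : x ≠ q₀ := Finset.ne_of_mem_erase hx
  have hx' : ∃ g : Wg, g • x ≠ x := by
    by_contra h
    push Not at h
    exact hxq ((hfix x).mp h)
  refine Eq.trans (Finset.prod_congr ?_ (fun _ _ => rfl)) (prod_orbit_eq_one hWp F 𝒰 hgen h𝒰 x hx')
  ext a
  simp only [Finset.mem_filter, Finset.mem_erase, Finset.mem_univ, and_true, true_and]
  rw [MulAction.orbitRel_apply]
  constructor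
  · rintro ⟨_, h⟩; exact h
  · intro h
    refine ⟨?_, h⟩
    rintro rfl
    obtain ⟨g, hg⟩ := h
    apply hxq
    have e : x = g⁻¹ • a := by rw [← hg, inv_smul_smul]
    rw [e, (hfix a).mpr rfl]

end Orbits

section TransferEval

variable {G : Type*} [Group G] {M : Subgroup G} {A : Type*} [CommGroup A] (μ : ↥M →* A)

/-- the contribution of a coset to the transfer of an element of the core -/
noncomputable def coreFun (z : G) (hz : ∀ g : G, g⁻¹ * z * g ∈ M) : G ⧸ M → A :=
  fun q => μ ⟨(Quotient.out q)⁻¹ * z * Quotient.out q, hz _⟩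

theorem coreFun_mk (z : G) (hz : ∀ g : G, g⁻¹ * z * g ∈ M) (g : G) :
    coreFun μ z hz (g : G ⧸ M) = μ ⟨g⁻¹ * z * g, hz g⟩ := by
  obtain ⟨m, hm⟩ := QuotientGroup.mk_out_eq_mul M g
  unfold coreFun
  have e : (⟨(Quotient.out (g : G ⧸ M))⁻¹ * z * Quotient.out (g : G ⧸ M), hz _⟩ : ↥M) =
      m⁻¹ * ⟨g⁻¹ * z * g, hz g⟩ * m := by
    apply Subtype.ext
    simp only [Subgroup.coe_mul, Subgroup.coe_inv]
    rw [hm]; group
  rw [e, map_mul, map_mul, map_inv, mul_comm, mul_inv_cancel_left]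

theorem transfer_eq_prod_coreFun [M.FiniteIndex] [Fintype (G ⧸ M)] (z : G)
    (hz : ∀ g : G, g⁻¹ * z * g ∈ M) :
    MonoidHom.transfer μ z = ∏ q : G ⧸ M, coreFun μ z hz q := by
  have hzq : ∀ q : G ⧸ M, z • q = q := by
    intro q
    induction q using QuotientGroup.induction_on with
    | H g =>
      rw [MulAction.Quotient.smul_mk, smul_eq_mul]
      apply QuotientGroup.eq.mpr
      have := M.inv_mem (hz g)
      have e : (z * g)⁻¹ * g = (g⁻¹ * z * g)⁻¹ := by group
      rw [e]; exact this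
  rw [Cfsg.Agent.Lib.Helper17.transfer_eq_prod_section μ Quotient.out (fun q => QuotientGroup.out_eq' q) z]
  apply Fintype.prod_congr
  intro q
  unfold coreFun
  apply congrArg μ
  apply Subtype.ext
  show (Quotient.out (z • q))⁻¹ * (z * Quotient.out q) = (Quotient.out q)⁻¹ * z * Quotient.out q
  rw [hzq q, mul_assoc]

end TransferEval

section ConjPow

variable {G : Type*} [Group G] {A : Type*} [CommGroup A]

theorem commIter_mem_iterCommutator (X : Subgroup G) [X.Normal] (u : G) (z : ↥X) (j : ℕ) :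
    (((fun y : ↥X => y⁻¹ * Cfsg.Agent.Lib.Helper17.conjInv X u y)^[j] z : ↥X) : G) ∈
      iterCommutator X (Subgroup.zpowers u) j := by
  induction j with
  | zero => exact z.2
  | succ j ih =>
    rw [Function.iterate_succ_apply']
    set w := (fun y : ↥X => y⁻¹ * Cfsg.Agent.Lib.Helper17.conjInv X u y)^[j] z with hw
    have e : ((w⁻¹ * Cfsg.Agent.Lib.Helper17.conjInv X u w : ↥X) : G) = ⁅(w : G)⁻¹, u⁻¹⁆ := by
      rw [Subgroup.coe_mul, Subgroup.coe_inv, Cfsg.Agent.Lib.Helper17.conjInv_apply_coe,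
        commutatorElement_def]
      group
    show ((w⁻¹ * Cfsg.Agent.Lib.Helper17.conjInv X u w : ↥X) : G) ∈
      ⁅iterCommutator X (Subgroup.zpowers u) j, Subgroup.zpowers u⁆
    rw [e]
    exact Subgroup.commutator_mem_commutator (Subgroup.inv_mem _ ih)
      (Subgroup.inv_mem _ (Subgroup.mem_zpowers u))

/-- the product of `p` successive conjugates vanishes under a homomorphism killing `Y`, when `X / Y` has
exponent `p` and `[X, u; p - 1] ≤ Y` -/
theorem prod_conjInv_eq_one {p : ℕ} [Fact p.Prime] (X Y : Subgroup G) [X.Normal] (u : G)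
    (hexp : ∀ x ∈ X, x ^ p ∈ Y) (hu : iterCommutator X (Subgroup.zpowers u) (p - 1) ≤ Y)
    (ψ : ↥X →* A) (hψ : ∀ y : ↥X, (y : G) ∈ Y → ψ y = 1) (z : ↥X) :
    ∏ i ∈ Finset.range p, ψ ((Cfsg.Agent.Lib.Helper17.conjInv X u)^[i] z) = 1 := by
  have hp : p.Prime := Fact.out
  rw [Cfsg.Agent.Lib.Helper17.prod_iterate_eq ψ (Cfsg.Agent.Lib.Helper17.conjInv X u) p z]
  apply Finset.prod_eq_one
  intro j hj
  have hjp : j < p := Finset.mem_range.mp hj
  have hw := commIter_mem_iterCommutator X u z j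
  by_cases hjl : j + 1 < p
  · obtain ⟨d, hd⟩ := hp.dvd_choose_self (Nat.succ_ne_zero j) hjl
    rw [hd, pow_mul, ← map_pow, hψ, one_pow]
    rw [Subgroup.coe_pow]
    exact hexp _ (Subtype.coe_prop _)
  · have hj1 : j = p - 1 := by omega
    subst hj1
    rw [Nat.sub_add_cancel hp.one_le, Nat.choose_self, pow_one]
    exact hψ _ (hu hw)

end ConjPow

section IterComm

variable {G : Type*} [Group G]

theorem iterCommutator_map {H : Type*} [Group H] (f : G →* H) (N K : Subgroup G) (n : ℕ) :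
    (iterCommutator N K n).map f = iterCommutator (N.map f) (K.map f) n := by
  induction n with
  | zero => rfl
  | succ n ih =>
    show (⁅iterCommutator N K n, K⁆).map f = ⁅iterCommutator (N.map f) (K.map f) n, K.map f⁆
    rw [Subgroup.map_commutator, ih]

/-- `g` acts on every chief factor inside `P` with `[U, g; p - 1] ≤ V` -/
def Good (p : ℕ) (P : Subgroup G) (g : G) : Prop :=
  ∀ U V : Subgroup G, IsChiefFactor U V → U ≤ P → iterCommutator U (Subgroup.zpowers g) (p - 1) ≤ V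

theorem map_conj_eq_of_normal (U : Subgroup G) (hU : U.Normal) (x : G) :
    U.map (MulAut.conj x).toMonoidHom = U :=
  (map_conj_eq_self_iff_mem_normalizer U x).mpr
    (by rw [Subgroup.normalizer_eq_top_iff.mpr hU]; trivial)

theorem Good.conj {p : ℕ} {P : Subgroup G} {g : G} (hg : Good p P g) (x : G) :
    Good p P (x * g * x⁻¹) := by
  intro U V hc hUP
  have h1 := hg U V hc hUP
  have hU := map_conj_eq_of_normal U hc.2.1 x
  have hV := map_conj_eq_of_normal V hc.2.2.1 x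
  have h2 := Subgroup.map_mono (f := (MulAut.conj x).toMonoidHom) h1
  rw [iterCommutator_map, hU, hV, MonoidHom.map_zpowers] at h2
  exact h2

/-- a chief factor above a normal subgroup -/
theorem exists_chief_between [Finite G] (Y Q₀ : Subgroup G) (hYn : Y.Normal) (hQn : Q₀.Normal)
    (hlt : Y < Q₀) : ∃ X : Subgroup G, IsChiefFactor X Y ∧ X ≤ Q₀ := by
  let s : Set (Subgroup G) := {N | N.Normal ∧ Y < N ∧ N ≤ Q₀}
  have hs : s.Nonempty := ⟨Q₀, hQn, hlt, le_rfl⟩
  obtain ⟨X, hX, hmin⟩ := wellFounded_lt.has_min s hs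
  obtain ⟨hXn, hYX, hXQ⟩ := hX
  refine ⟨X, ⟨hYX, hXn, hYn, ?_⟩, hXQ⟩
  intro N hNn hYN hNX
  by_cases h : N = Y
  · left; exact h
  · right
    have hYN' : Y < N := lt_of_le_of_ne hYN (Ne.symm h)
    have := hmin N ⟨hNn, hYN', hNX.trans hXQ⟩
    exact (eq_or_lt_of_le hNX).resolve_right this

end IterComm

section Twist

variable {G : Type*} [Group G] {M : Subgroup G} {A : Type*} [CommGroup A]

/-- `y ↦ μ (x⁻¹ y x)` on a normal subgroup contained in `M` -/
def twistHom (μ : ↥M →* A) (Xc : Subgroup G) [hXn : Xc.Normal] (hXM : Xc ≤ M) (x : G) : ↥Xc →* A where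
  toFun y := μ ⟨x⁻¹ * (y : G) * x, hXM (by simpa using hXn.conj_mem y y.2 x⁻¹)⟩
  map_one' := by
    rw [← map_one μ]; apply congrArg μ; apply Subtype.ext; simp
  map_mul' a b := by
    rw [← map_mul]; apply congrArg μ; apply Subtype.ext
    simp only [Subgroup.coe_mul]; group

theorem twistHom_apply (μ : ↥M →* A) (Xc : Subgroup G) [hXn : Xc.Normal] (hXM : Xc ≤ M) (x : G) (y : ↥Xc) :
    twistHom μ Xc hXM x y =
      μ ⟨x⁻¹ * (y : G) * x, hXM (by simpa using hXn.conj_mem y y.2 x⁻¹)⟩ := rfl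

/-- the product of the contributions of the cosets `u^i x M`, `i < p`, to the transfer of `z ∈ Xc` is trivial
when `u` acts on `Xc / Y` with `[Xc, u; p - 1] ≤ Y` -/
theorem prod_coreFun_pow_mul {p : ℕ} [Fact p.Prime] (μ : ↥M →* A) (Xc Y : Subgroup G) [hXn : Xc.Normal]
    (hXM : Xc ≤ M) (hYn : Y.Normal) (hexp : ∀ x ∈ Xc, x ^ p ∈ Y)
    (hμY : ∀ y : ↥M, (y : G) ∈ Y → μ y = 1) (u : G)
    (hu : iterCommutator Xc (Subgroup.zpowers u) (p - 1) ≤ Y) (z : G) (hzX : z ∈ Xc)
    (hz : ∀ g : G, g⁻¹ * z * g ∈ M) (x : G) :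
    ∏ i ∈ Finset.range p, coreFun μ z hz (((u ^ i * x : G)) : G ⧸ M) = 1 := by
  have hψ : ∀ y : ↥Xc, (y : G) ∈ Y → twistHom μ Xc hXM x y = 1 := by
    intro y hy
    rw [twistHom_apply]
    apply hμY
    simpa using hYn.conj_mem y hy x⁻¹
  have h6 := prod_conjInv_eq_one (p := p) Xc Y u hexp hu (twistHom μ Xc hXM x) hψ ⟨z, hzX⟩
  rw [← h6]
  apply Finset.prod_congr rfl
  intro i _
  rw [coreFun_mk, twistHom_apply]
  apply congrArg μ
  apply Subtype.ext
  show (u ^ i * x)⁻¹ * z * (u ^ i * x) =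
    x⁻¹ * (((Cfsg.Agent.Lib.Helper17.conjInv Xc u)^[i] ⟨z, hzX⟩ : ↥Xc) : G) * x
  rw [Cfsg.Agent.Lib.Helper17.conjInv_iterate_coe]
  group

theorem closure_preimage_eq_top (k : Set G) (W : Subgroup G) (hW : W = Subgroup.closure k) :
    Subgroup.closure (Subtype.val ⁻¹' k : Set ↥W) = ⊤ := by
  subst hW
  exact Subgroup.closure_closure_coe_preimage

end Twist

end Cfsg.Agent.Lib.Helper18.TransferMin
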