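import Mathlib
import Cfsg.Agent.Lib.Helper18.TransferMain
import Cfsg.Agent.Lib.Helper18.TransferMinA
import Cfsg.Agent.S2006

/-!
# The structure of a minimal failure of control of transfer

`X` a finite group, `S` a Sylow `p`-subgroup, `𝓦` a nonempty family of isomorphism-invariant `p`-group
functors, `F = ⟨S ∩ N(W(S))' : W ∈ 𝓦⟩`.  Suppose `𝓦` controls transfer in all proper subgroups and in all
subgroups of proper quotients of `X`, but `S ∩ X' ≰ F` (`MinFail`).  Then `C(O_p(X)) ≤ O_p(X)`,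
`M = N(F ∩ O_p(X))` is the unique maximal subgroup containing `S`, `O_p(X) ∩ M' ≤ F`, and every
`u ∈ S \ O_p(X)` satisfies `[U, u; p - 1] ≰ V` for some chief factor `U / V` with `U ≤ O_p(X)`.
-/

set_option autoImplicit false

universe u

namespace Cfsg.Agent.Lib.Helper18.TransferMin

open Cfsg Cfsg.Agent.Lib.Helper13 Cfsg.Agent.Lib.Helper18.FusionCR Cfsg.Agent.Lib.Helper18.Transfer
open scoped commutatorElement

variable {p : ℕ} [Fact p.Prime] {𝓦 : Set (∀ (Q : Type u) [Group Q], Subgroup Q)}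

/-- control of transfer in the groups of order less than `n` -/
def TrLt (p : ℕ) (𝓦 : Set (∀ (Q : Type u) [Group Q], Subgroup Q)) (n : ℕ) (X : Type u) [Group X] : Prop :=
  Finite X → Nat.card X < n → Tr p 𝓦 X

theorem isoInv_Tr (h𝓦 : ∀ W ∈ 𝓦, IsCharPFunctor.{u} p W) {X Y : Type u} [Group X] [Group Y] [Finite X]
    (e : X ≃* Y) (h : Tr p 𝓦 X) : Tr p 𝓦 Y := by
  intro S
  have hfinY : Finite Y := Finite.of_equiv X e.toEquiv
  have hidx : ¬ p ∣ ((S : Subgroup Y).map e.symm.toMonoidHom).index := by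
    have : ((S : Subgroup Y).map e.symm.toMonoidHom).index = (S : Subgroup Y).index :=
      Subgroup.index_map_equiv (S : Subgroup Y) e.symm
    rw [this]; exact S.not_dvd_index
  let S₁ : Sylow p X := (S.isPGroup'.map e.symm.toMonoidHom).toSylow hidx
  have hS₁ : (S₁ : Subgroup X) = (S : Subgroup Y).map e.symm.toMonoidHom := rfl
  have hS₁map : (S₁ : Subgroup X).map e.toMonoidHom = (S : Subgroup Y) := by
    rw [hS₁]; exact Cfsg.Agent.Lib.Helper10.map_map_symm e _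
  have h1 := h S₁
  have h2 := Subgroup.map_mono (f := e.toMonoidHom) h1
  rw [focIn_map_equiv h𝓦 e ⊤ (S₁ : Subgroup X) S₁.isPGroup', Subgroup.map_inf _ _ _ e.injective,
    hS₁map, Subgroup.map_commutator, Subgroup.map_top_of_surjective _ e.surjective] at h2
  exact h2

theorem isoInv_TrLt (h𝓦 : ∀ W ∈ 𝓦, IsCharPFunctor.{u} p W) (n : ℕ) : IsoInv (TrLt p 𝓦 n) := by
  intro X Y _ _ e h hfin hcard
  have hfinX : Finite X := Finite.of_equiv Y e.symm.toEquiv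
  have hc : Nat.card X = Nat.card Y := Nat.card_congr e.toEquiv
  exact isoInv_Tr h𝓦 e (h hfinX (hc ▸ hcard))

theorem hsub_of_secAll (h𝓦 : ∀ W ∈ 𝓦, IsCharPFunctor.{u} p W) {X : Type u} [Group X] [Finite X]
    (hsec : SecAll (TrLt p 𝓦 (Nat.card X)) X) : ∀ Y : Subgroup X, Y ≠ ⊤ → TrIn p 𝓦 Y := by
  intro Y hY
  apply trIn_of_tr_subtype h𝓦
  have hcard : Nat.card ↥Y < Nat.card X := by
    have := card_lt_card_of_lt (lt_top_iff_ne_top.mpr hY)
    rwa [Subgroup.card_top] at this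
  exact secAll_self (isoInv_TrLt h𝓦 _) (secAll_subgroup (isoInv_TrLt h𝓦 _) hsec Y) inferInstance hcard

theorem hquot_of_secAll (h𝓦 : ∀ W ∈ 𝓦, IsCharPFunctor.{u} p W) {X : Type u} [Group X] [Finite X]
    (hsec : SecAll (TrLt p 𝓦 (Nat.card X)) X) :
    ∀ (M : Subgroup X) [M.Normal], M ≠ ⊥ → ∀ Hb : Subgroup (X ⧸ M), TrIn p 𝓦 Hb := by
  intro M _ hM Hb
  apply trIn_of_tr_subtype h𝓦
  have hcard : Nat.card (X ⧸ M) < Nat.card X := by
    have h1 : Nat.card X = Nat.card (X ⧸ M) * Nat.card M := Subgroup.card_eq_card_quotient_mul_card_subgroup M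
    have h2 : 1 < Nat.card M := (Subgroup.one_lt_card_iff_ne_bot M).mpr hM
    have h3 : 0 < Nat.card (X ⧸ M) := Nat.card_pos
    nlinarith
  have hcard' : Nat.card ↥Hb < Nat.card X := lt_of_le_of_lt (Subgroup.card_le_card_group Hb) hcard
  exact secAll_self (isoInv_TrLt h𝓦 _)
    (secAll_subgroup (isoInv_TrLt h𝓦 _) (secAll_quotient (isoInv_TrLt h𝓦 _) hsec M) Hb) inferInstance hcard'

/-- a minimal failure of control of transfer -/
structure MinFail (p : ℕ) (𝓦 : Set (∀ (Q : Type u) [Group Q], Subgroup Q)) {X : Type u} [Group X]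
    (S : Sylow p X) : Prop where
  hsub : ∀ Y : Subgroup X, Y ≠ ⊤ → TrIn p 𝓦 Y
  hquot : ∀ (M : Subgroup X) [M.Normal], M ≠ ⊥ → ∀ Hb : Subgroup (X ⧸ M), TrIn p 𝓦 Hb
  hnot : ¬ (S : Subgroup X) ⊓ ⁅(⊤ : Subgroup X), ⊤⁆ ≤ FocIn 𝓦 ⊤ (S : Subgroup X)

namespace MinFail

variable {X : Type u} [Group X] [Finite X] {S : Sylow p X}

theorem constrained (h𝓦 : ∀ W ∈ 𝓦, IsCharPFunctor.{u} p W) (hm : MinFail p 𝓦 S) :
    Subgroup.centralizer ((Cfsg.pCore p X : Subgroup X) : Set X) ≤ Cfsg.pCore p X := by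
  by_contra hcon
  apply hm.hnot
  by_cases hK : Cfsg.pPrimeCore p X = ⊥
  swap
  · have := Cfsg.H5.pPrimeCore_normal p X
    exact caseA h𝓦 S (Cfsg.pPrimeCore p X) (Cfsg.H5.coprime_card_pPrimeCore p X) (hm.hquot _ hK)
  by_cases hQ : Cfsg.pCore p X = ⊥
  · exact caseB h𝓦 S hQ hm.hsub
  have hQn := Cfsg.H5.pCore_normal p X
  have : (Cfsg.pCore p X ⊓ Subgroup.centralizer ((Cfsg.pCore p X : Subgroup X) : Set X)).Normal :=
    Subgroup.normal_inf_normal _ _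
  exact caseD h𝓦 S hK hcon hm.hsub _ rfl (hm.hquot _ (pCore_inf_centralizer_ne_bot hQ))

theorem not_pCore_le (h𝓦 : ∀ W ∈ 𝓦, IsCharPFunctor.{u} p W) (hm : MinFail p 𝓦 S) :
    ¬ Cfsg.pCore p X ⊓ ⁅(⊤ : Subgroup X), ⊤⁆ ≤ FocIn 𝓦 ⊤ (S : Subgroup X) := by
  intro hloc
  apply hm.hnot
  by_cases hQ : Cfsg.pCore p X = ⊥
  · exact caseB h𝓦 S hQ hm.hsub
  have hQn := Cfsg.H5.pCore_normal p X
  exact caseC h𝓦 S hloc hm.hsub (Cfsg.pCore p X) rfl (hm.hquot _ hQ)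

omit [Fact p.Prime] [Finite X] in
theorem nw_ne_top (hm : MinFail p 𝓦 S) {W : ∀ (Q : Type u) [Group Q], Subgroup Q} (hW : W ∈ 𝓦) :
    NW W (S : Subgroup X) ≠ ⊤ := by
  intro hNW
  apply hm.hnot
  refine le_trans ?_ (le_focIn hW ⊤ (S : Subgroup X))
  rw [hNW, top_inf_eq]

omit [Fact p.Prime] in
theorem sylow_not_normal (h𝓦 : ∀ W ∈ 𝓦, IsCharPFunctor.{u} p W) (hne : 𝓦.Nonempty) (hm : MinFail p 𝓦 S) :
    ¬ (S : Subgroup X).Normal := by
  intro hSn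
  obtain ⟨W, hW⟩ := hne
  apply hm.nw_ne_top hW
  have hWn : (inducedFunctor (G := X) W (S : Subgroup X)).Normal :=
    inducedFunctor_normal (h𝓦 W hW) _ S.isPGroup' hSn
  unfold NW
  exact Subgroup.normalizer_eq_top_iff.mpr hWn

omit [Fact p.Prime] in
theorem sylow_ne_top (h𝓦 : ∀ W ∈ 𝓦, IsCharPFunctor.{u} p W) (hne : 𝓦.Nonempty) (hm : MinFail p 𝓦 S) :
    (S : Subgroup X) ≠ ⊤ := by
  intro h
  apply sylow_not_normal h𝓦 hne hm
  rw [h]
  infer_instance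

/-- elements of proper overgroups of `S` act trivially on `O_p(X) / (F ∩ O_p(X))` -/
theorem comm_mem (hm : MinFail p 𝓦 S) (H : Subgroup X) (hSH : (S : Subgroup X) ≤ H) (hH : H ≠ ⊤)
    (h : X) (hh : h ∈ H) (t : X) (ht : t ∈ Cfsg.pCore p X) :
    ⁅h, t⁆ ∈ FocIn 𝓦 ⊤ (S : Subgroup X) ⊓ Cfsg.pCore p X := by
  have hPn := Cfsg.H5.pCore_normal p X
  have hPS : Cfsg.pCore p X ≤ (S : Subgroup X) := (Cfsg.H5.pCore_isPGroup p X).le_sylow_of_normal S
  have h1 : ⁅h, t⁆ ∈ Cfsg.pCore p X := by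
    rw [commutatorElement_def]
    exact Subgroup.mul_mem _ (hPn.conj_mem t ht h) (Subgroup.inv_mem _ ht)
  refine Subgroup.mem_inf.mpr ⟨?_, h1⟩
  apply le_focIn_top_of_trIn S H (hm.hsub H hH) hSH
  exact Subgroup.mem_inf.mpr ⟨hPS h1, Subgroup.commutator_mem_commutator hh (hSH (hPS ht))⟩

theorem le_normalizer (hm : MinFail p 𝓦 S) (H : Subgroup X) (hSH : (S : Subgroup X) ≤ H) (hH : H ≠ ⊤) :
    H ≤ Subgroup.normalizer ((FocIn 𝓦 ⊤ (S : Subgroup X) ⊓ Cfsg.pCore p X : Subgroup X) : Set X) := by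
  intro h hh
  apply mem_normalizer_of_conj_mem
  intro t ht
  have e : h * t * h⁻¹ = ⁅h, t⁆ * t := by rw [commutatorElement_def]; group
  rw [e]
  exact Subgroup.mul_mem _ (comm_mem hm H hSH hH h hh t (Subgroup.mem_inf.mp ht).2) ht

theorem normalizer_ne_top (h𝓦 : ∀ W ∈ 𝓦, IsCharPFunctor.{u} p W) (hne : 𝓦.Nonempty) (hm : MinFail p 𝓦 S) :
    Subgroup.normalizer ((FocIn 𝓦 ⊤ (S : Subgroup X) ⊓ Cfsg.pCore p X : Subgroup X) : Set X) ≠ ⊤ := by
  intro htop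
  have hcomm := comm_mem hm
  obtain ⟨F, hF⟩ : ∃ F : Subgroup X, F = FocIn 𝓦 ⊤ (S : Subgroup X) := ⟨_, rfl⟩
  obtain ⟨P, hP⟩ : ∃ P : Subgroup X, P = Cfsg.pCore p X := ⟨_, rfl⟩
  obtain ⟨R, hR⟩ : ∃ R : Subgroup X, R = F ⊓ P := ⟨_, rfl⟩
  rw [← hF, ← hP, ← hR] at htop hcomm
  have hRn : R.Normal := Subgroup.normalizer_eq_top_iff.mp htop
  have hPn : P.Normal := hP ▸ Cfsg.H5.pCore_normal p X
  have hPp : IsPGroup p P := hP ▸ Cfsg.H5.pCore_isPGroup p X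
  have hPS : P ≤ (S : Subgroup X) := hPp.le_sylow_of_normal S
  have hSp : IsPGroup p (S : Subgroup X) := S.isPGroup'
  have hSnn := sylow_not_normal h𝓦 hne hm
  have hSne : (S : Subgroup X) ≠ ⊤ := sylow_ne_top h𝓦 hne hm
  have hRF : R ≤ F := hR ▸ inf_le_left
  -- the centralizer of `P / R`
  obtain ⟨π, hπ⟩ : ∃ π : X →* X ⧸ R, π = QuotientGroup.mk' R := ⟨_, rfl⟩
  have hπs : Function.Surjective π := hπ ▸ QuotientGroup.mk'_surjective R
  have hker : ∀ x : X, π x = 1 ↔ x ∈ R := by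
    intro x; rw [hπ]; exact QuotientGroup.eq_one_iff x
  have hPbn : (P.map π).Normal := hPn.map π hπs
  obtain ⟨D, hD⟩ : ∃ D : Subgroup X,
      D = (Subgroup.centralizer ((P.map π : Subgroup (X ⧸ R)) : Set (X ⧸ R))).comap π := ⟨_, rfl⟩
  have hDn : D.Normal := by
    rw [hD]; exact Subgroup.Normal.comap Subgroup.normal_centralizer π
  have hmemD : ∀ g : X, g ∈ D ↔ ∀ t ∈ P, π t * π g = π g * π t := by
    intro g
    rw [hD, Subgroup.mem_comap, Subgroup.mem_centralizer_iff]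
    constructor
    · intro h t ht; exact h _ (Subgroup.mem_map_of_mem π ht)
    · rintro h _ ⟨t, ht, rfl⟩; exact h t ht
  have hHD : ∀ H : Subgroup X, (S : Subgroup X) ≤ H → H ≠ ⊤ → H ≤ D := by
    intro H hSH hH h hh
    rw [hmemD]
    intro t ht
    have h1 := hcomm H hSH hH h hh t ht
    have h2 := (hker _).mpr h1
    rw [commutatorElement_def, map_mul, map_mul, map_mul, map_inv, map_inv] at h2
    exact (mul_inv_eq_iff_eq_mul.mp (mul_inv_eq_one.mp h2)).symm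
  have hSD : (S : Subgroup X) ≤ D := hHD _ le_rfl hSne
  have hNS : Subgroup.normalizer ((S : Subgroup X) : Set X) ≤ D :=
    hHD _ Subgroup.le_normalizer (fun h => hSnn (Subgroup.normalizer_eq_top_iff.mp h))
  have hDtop : ∀ g : X, g ∈ D := by
    intro g
    obtain ⟨y, hy, hyg⟩ := frattini_rel D (S : Subgroup X) hSD hSp (sylow_not_dvd_relIndex S D hSD) g
      (by rw [Subgroup.normalizer_eq_top_iff.mpr hDn]; trivial)
    have e : g = y⁻¹ * (y * g) := by group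
    rw [e]; exact D.mul_mem (D.inv_mem hy) (hNS hyg)
  -- transfer into `S R / R`
  apply not_pCore_le h𝓦 hm
  rw [← hF, ← hP]
  intro z hz
  obtain ⟨hzP, hzc⟩ := Subgroup.mem_inf.mp hz
  have hidx : ¬ p ∣ ((S : Subgroup X).map π).relIndex ⊤ := by
    rw [Subgroup.relIndex_top_right]
    exact fun h => S.not_dvd_index (dvd_trans h (Subgroup.index_map_dvd (S : Subgroup X) hπs))
  have hzb : π z ∈ ⁅(⊤ : Subgroup (X ⧸ R)), (⊤ : Subgroup (X ⧸ R))⁆ := by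
    have := Subgroup.mem_map_of_mem π hzc
    rwa [Subgroup.map_commutator, Subgroup.map_top_of_surjective π hπs] at this
  have hcen : ∀ c ∈ (⊤ : Subgroup (X ⧸ R)), c * π z = π z * c := by
    intro c _
    obtain ⟨g, rfl⟩ := hπs c
    exact ((hmemD g).mp (hDtop g) z hzP).symm
  have hzp : ∃ k : ℕ, (π z) ^ p ^ k = 1 := by
    obtain ⟨k, hk⟩ := hPp ⟨z, hzP⟩
    refine ⟨k, ?_⟩
    have : z ^ p ^ k = 1 := by simpa using congrArg Subtype.val hk
    rw [← map_pow, this, map_one]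
  have h3 := transfer_central (⊤ : Subgroup (X ⧸ R)) ((S : Subgroup X).map π) le_top hidx (π z) hzb hcen hzp
  rw [← Subgroup.map_commutator] at h3
  obtain ⟨c, hc, hcz⟩ := h3
  have hcF : c ∈ F := by
    rw [hF]
    apply le_focIn_top_of_trIn S (S : Subgroup X) (hm.hsub _ hSne) le_rfl
    exact Subgroup.mem_inf.mpr ⟨Subgroup.commutator_le_self _ hc, hc⟩
  have hr : c⁻¹ * z ∈ R := by
    rw [← hker, map_mul, map_inv, hcz, inv_mul_cancel]
  have e : z = c * (c⁻¹ * z) := by group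
  rw [e]; exact F.mul_mem hcF (hRF hr)

theorem sylow_le_normalizer (h𝓦 : ∀ W ∈ 𝓦, IsCharPFunctor.{u} p W) (hne : 𝓦.Nonempty) (hm : MinFail p 𝓦 S) :
    (S : Subgroup X) ≤
      Subgroup.normalizer ((FocIn 𝓦 ⊤ (S : Subgroup X) ⊓ Cfsg.pCore p X : Subgroup X) : Set X) :=
  le_normalizer hm _ le_rfl (sylow_ne_top h𝓦 hne hm)

theorem sylow_inf_commutator_le (h𝓦 : ∀ W ∈ 𝓦, IsCharPFunctor.{u} p W) (hne : 𝓦.Nonempty)
    (hm : MinFail p 𝓦 S) :
    (S : Subgroup X) ⊓ ⁅Subgroup.normalizer ((FocIn 𝓦 ⊤ (S : Subgroup X) ⊓ Cfsg.pCore p X : Subgroup X) : Set X),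
      Subgroup.normalizer ((FocIn 𝓦 ⊤ (S : Subgroup X) ⊓ Cfsg.pCore p X : Subgroup X) : Set X)⁆ ≤
      FocIn 𝓦 ⊤ (S : Subgroup X) :=
  le_focIn_top_of_trIn S _ (hm.hsub _ (normalizer_ne_top h𝓦 hne hm)) (sylow_le_normalizer h𝓦 hne hm)

theorem pCore_inf_commutator_le (h𝓦 : ∀ W ∈ 𝓦, IsCharPFunctor.{u} p W) (hne : 𝓦.Nonempty)
    (hm : MinFail p 𝓦 S) :
    Cfsg.pCore p X ⊓
      ⁅Subgroup.normalizer ((FocIn 𝓦 ⊤ (S : Subgroup X) ⊓ Cfsg.pCore p X : Subgroup X) : Set X),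
      Subgroup.normalizer ((FocIn 𝓦 ⊤ (S : Subgroup X) ⊓ Cfsg.pCore p X : Subgroup X) : Set X)⁆ ≤
      Cfsg.pCore p X ⊓ FocIn 𝓦 ⊤ (S : Subgroup X) := by
  have hPn := Cfsg.H5.pCore_normal p X
  have hPS : Cfsg.pCore p X ≤ (S : Subgroup X) := (Cfsg.H5.pCore_isPGroup p X).le_sylow_of_normal S
  exact le_inf inf_le_left ((inf_le_inf_right _ hPS).trans (sylow_inf_commutator_le h𝓦 hne hm))

end MinFail

end Cfsg.Agent.Lib.Helper18.TransferMin
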