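import Mathlib
import Cfsg.Agent.Lib.Helper18.TransferMinB

/-!
# A minimal failure of control of transfer: elements of `S` outside `O_p(X)` act with class `≥ p - 1`
on some chief factor inside `O_p(X)`
-/

set_option autoImplicit false

universe u

namespace Cfsg.Agent.Lib.Helper18.TransferMin

open Cfsg Cfsg.Agent.Lib.Helper13 Cfsg.Agent.Lib.Helper18.FusionCR Cfsg.Agent.Lib.Helper18.Transfer
open scoped commutatorElement

variable {p : ℕ} [Fact p.Prime] {𝓦 : Set (∀ (Q : Type u) [Group Q], Subgroup Q)}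

namespace MinFail

variable {X : Type u} [Group X] [Finite X] {S : Sylow p X}

theorem exists_chief (h𝓦 : ∀ W ∈ 𝓦, IsCharPFunctor.{u} p W) (hne : 𝓦.Nonempty) (hm : MinFail p 𝓦 S)
    (u : X) (huS : u ∈ (S : Subgroup X)) (huP : u ∉ Cfsg.pCore p X) :
    ∃ U V : Subgroup X, IsChiefFactor U V ∧ U ≤ Cfsg.pCore p X ∧
      ¬ iterCommutator U (Subgroup.zpowers u) (p - 1) ≤ V := by
  by_contra hcon
  have hgood : Good p (Cfsg.pCore p X) u := by
    intro U V hc hUP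
    by_contra h
    exact hcon ⟨U, V, hc, hUP, h⟩
  have hMne := normalizer_ne_top h𝓦 hne hm
  have hmax := le_normalizer hm
  have hSMF := sylow_inf_commutator_le h𝓦 hne hm
  have hnotP := not_pCore_le h𝓦 hm
  have hSne : (S : Subgroup X) ≠ ⊤ := sylow_ne_top h𝓦 hne hm
  have hSp : IsPGroup p (S : Subgroup X) := S.isPGroup'
  obtain ⟨F, hF⟩ : ∃ F : Subgroup X, F = FocIn 𝓦 ⊤ (S : Subgroup X) := ⟨_, rfl⟩
  obtain ⟨P, hP⟩ : ∃ P : Subgroup X, P = Cfsg.pCore p X := ⟨_, rfl⟩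
  obtain ⟨R, hR⟩ : ∃ R : Subgroup X, R = F ⊓ P := ⟨_, rfl⟩
  rw [← hF, ← hP, ← hR] at hMne hmax hSMF
  rw [← hF, ← hP] at hnotP
  rw [← hP] at hgood huP
  obtain ⟨M, hM⟩ : ∃ M : Subgroup X, M = Subgroup.normalizer (R : Set X) := ⟨_, rfl⟩
  rw [← hM] at hMne hmax hSMF
  have hPn : P.Normal := hP ▸ Cfsg.H5.pCore_normal p X
  have hPp : IsPGroup p P := hP ▸ Cfsg.H5.pCore_isPGroup p X
  have hPS : P ≤ (S : Subgroup X) := hPp.le_sylow_of_normal S
  have hSM : (S : Subgroup X) ≤ M := hmax _ le_rfl hSne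
  have hPM : P ≤ M := hPS.trans hSM
  have hRF : R ≤ F := hR ▸ inf_le_left
  have hRP : R ≤ P := hR ▸ inf_le_right
  have hFM : F ≤ ⁅M, M⁆ := by
    rw [hF]
    unfold FocIn
    apply iSup₂_le
    intro W hW
    have h1 : (S : Subgroup X) ≤ NW W (S : Subgroup X) :=
      Subgroup.le_normalizer.trans (normalizer_le_normalizer_inducedFunctor (h𝓦 W hW) _ hSp)
    have h2 : NW W (S : Subgroup X) ≤ M := hmax _ h1 (hm.nw_ne_top hW)
    exact inf_le_right.trans (Subgroup.commutator_mono (inf_le_right.trans h2) (inf_le_right.trans h2))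
  -- the subgroup generated by the good elements of `S`
  obtain ⟨𝒰G, h𝒰G⟩ : ∃ 𝒰G : Set X, 𝒰G = {g | g ∈ (S : Subgroup X) ∧ Good p P g} := ⟨_, rfl⟩
  have hmem𝒰 : ∀ g, g ∈ 𝒰G ↔ g ∈ (S : Subgroup X) ∧ Good p P g := by
    intro g; rw [h𝒰G]; rfl
  obtain ⟨W₀, hW₀⟩ : ∃ W₀ : Subgroup X, W₀ = Subgroup.closure 𝒰G := ⟨_, rfl⟩
  have h𝒰W : 𝒰G ⊆ W₀ := hW₀ ▸ Subgroup.subset_closure
  have hW₀S : W₀ ≤ (S : Subgroup X) := by
    rw [hW₀, Subgroup.closure_le]
    intro g hg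
    exact ((hmem𝒰 g).mp hg).1
  have hW₀p : IsPGroup p W₀ := hSp.to_le hW₀S
  have hnormW : ∀ g : X, (∀ v ∈ 𝒰G, g * v * g⁻¹ ∈ (S : Subgroup X)) →
      g ∈ Subgroup.normalizer (W₀ : Set X) := by
    intro g hg
    apply mem_normalizer_of_conj_mem
    have h1 : W₀.map (MulAut.conj g).toMonoidHom ≤ W₀ := by
      rw [hW₀, MonoidHom.map_closure, Subgroup.closure_le]
      rintro _ ⟨v, hv, rfl⟩
      apply Subgroup.subset_closure
      rw [hmem𝒰]
      exact ⟨hg v hv, ((hmem𝒰 v).mp hv).2.conj g⟩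
    exact fun t ht => (map_conj_le_iff W₀ W₀ g).mp h1 t ht
  have hSNW : (S : Subgroup X) ≤ Subgroup.normalizer (W₀ : Set X) := by
    intro s hs
    apply hnormW
    intro v hv
    exact Subgroup.mul_mem _ (Subgroup.mul_mem _ hs ((hmem𝒰 v).mp hv).1) (Subgroup.inv_mem _ hs)
  have huW₀ : u ∈ W₀ := h𝒰W ((hmem𝒰 u).mpr ⟨huS, hgood⟩)
  have hNWne : Subgroup.normalizer (W₀ : Set X) ≠ ⊤ := by
    intro h
    have hWn : W₀.Normal := Subgroup.normalizer_eq_top_iff.mp h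
    apply huP
    rw [hP]
    exact Cfsg.H5.le_pCore hWn hW₀p huW₀
  have hNWM : Subgroup.normalizer (W₀ : Set X) ≤ M := hmax _ hSNW hNWne
  have hfixM : ∀ x : X, (∀ w ∈ W₀, x⁻¹ * w * x ∈ M) → x ∈ M := by
    intro x hx
    have hB : W₀.map (MulAut.conj x⁻¹).toMonoidHom ≤ M := by
      rw [map_conj_le_iff]
      intro w hw
      simpa using hx w hw
    obtain ⟨m, hmM, hmc⟩ := exists_conj_le_of_relIndex M (S : Subgroup X)
      (W₀.map (MulAut.conj x⁻¹).toMonoidHom) hSp (sylow_not_dvd_relIndex S M hSM) hB (hW₀p.map _)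
    have hg : m * x⁻¹ ∈ Subgroup.normalizer (W₀ : Set X) := by
      apply hnormW
      intro v hv
      have h1 := hmc _ (conj_mem_map_conj W₀ x⁻¹ (h𝒰W hv))
      have e : m * x⁻¹ * v * (m * x⁻¹)⁻¹ = m * (x⁻¹ * v * x⁻¹⁻¹) * m⁻¹ := by group
      rw [e]; exact h1
    have h2 := hNWM hg
    have e : x = (m * x⁻¹)⁻¹ * m := by group
    rw [e]; exact M.mul_mem (M.inv_mem h2) hmM
  -- the chief factor
  obtain ⟨Q₀, hQ₀⟩ : ∃ Q₀ : Subgroup X, Q₀ = P ⊓ ⁅(⊤ : Subgroup X), (⊤ : Subgroup X)⁆ := ⟨_, rfl⟩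
  have hQ₀n : Q₀.Normal := by
    rw [hQ₀]; exact Subgroup.normal_inf_normal _ _
  obtain ⟨Y, hY⟩ : ∃ Y : Subgroup X, Y = (R ⊓ ⁅(⊤ : Subgroup X), (⊤ : Subgroup X)⁆).normalCore := ⟨_, rfl⟩
  have hYn : Y.Normal := hY ▸ Subgroup.normalCore_normal _
  have hYR : Y ≤ R ⊓ ⁅(⊤ : Subgroup X), (⊤ : Subgroup X)⁆ := hY ▸ Subgroup.normalCore_le _
  have hYQ : Y ≤ Q₀ := hYR.trans (hQ₀ ▸ inf_le_inf_right _ hRP)
  have hYlt : Y < Q₀ := by
    refine lt_of_le_of_ne hYQ ?_
    intro h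
    apply hnotP
    rw [← hQ₀, ← h]
    exact hYR.trans (inf_le_left.trans hRF)
  obtain ⟨Xc, hchief, hXQ⟩ := exists_chief_between Y Q₀ hYn hQ₀n hYlt
  obtain ⟨hYX, hXn, -, hmin⟩ := id hchief
  have hXP : Xc ≤ P := hXQ.trans (hQ₀ ▸ inf_le_left)
  have hXc : Xc ≤ ⁅(⊤ : Subgroup X), (⊤ : Subgroup X)⁆ := hXQ.trans (hQ₀ ▸ inf_le_right)
  have hXp : IsPGroup p Xc := hPp.to_le hXP
  have hXM : Xc ≤ M := hXP.trans hPM
  have hexp : ∀ x ∈ Xc, x ^ p ∈ Y := by
    intro x hx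
    have := Cfsg.Agent.S2006.chief_exp Xc Y hXn hYX hmin hXp (QuotientGroup.mk' Y x)
      (Subgroup.mem_map_of_mem _ hx)
    rw [← map_pow] at this
    exact (QuotientGroup.eq_one_iff _).mp this
  -- contradiction: `Xc ≤ Y`
  apply not_le_of_gt hYX
  rw [hY, Subgroup.normal_le_normalCore]
  refine le_inf ?_ hXc
  rw [hR]
  refine le_inf ?_ hXP
  intro z hzX
  apply hSMF
  refine Subgroup.mem_inf.mpr ⟨hPS (hXP hzX), ?_⟩
  -- `z ∈ ⁅M, M⁆` by transfer
  classical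
  have : Fintype (X ⧸ M) := Fintype.ofFinite _
  obtain ⟨μ, hμ⟩ : ∃ μ : ↥M →* Abelianization ↥M, μ = Abelianization.of := ⟨_, rfl⟩
  have hμker : ∀ y : ↥M, (y : X) ∈ ⁅M, M⁆ → μ y = 1 := by
    intro y hy
    rw [← Subgroup.map_subtype_commutator] at hy
    obtain ⟨y', hy', hyy⟩ := hy
    have : y' = y := Subtype.ext hyy
    rw [this] at hy'
    rw [hμ, ← MonoidHom.mem_ker, Abelianization.ker_of]
    exact hy'
  have hμY : ∀ y : ↥M, (y : X) ∈ Y → μ y = 1 := fun y hy =>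
    hμker y (hFM (hRF (inf_le_left.trans' hYR hy)))
  have hzcore : ∀ g : X, g⁻¹ * z * g ∈ M := by
    intro g
    apply hXM
    simpa using hXn.conj_mem z hzX g⁻¹
  have htr1 : MonoidHom.transfer μ z = 1 := by
    have hz' : z ∈ commutator X := hXc hzX
    have := Abelianization.commutator_subset_ker (MonoidHom.transfer μ) hz'
    exact MonoidHom.mem_ker.mp this
  have htr2 := transfer_eq_prod_coreFun μ z hzcore
  have hkey : ∏ q : X ⧸ M, coreFun μ z hzcore q = coreFun μ z hzcore ((1 : X) : X ⧸ M) := by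
    apply prod_eq_of_pgroup_action (Wg := ↥W₀) (p := p) hW₀p (coreFun μ z hzcore)
      (Subtype.val ⁻¹' 𝒰G) (closure_preimage_eq_top 𝒰G W₀ hW₀)
    · intro w hw ω
      induction ω using QuotientGroup.induction_on with
      | H x =>
        have hwg : Good p P (w : X) := ((hmem𝒰 _).mp hw).2
        have h6 := prod_coreFun_pow_mul (p := p) μ Xc Y hXM hYn hexp hμY (w : X)
          (hwg Xc Y hchief hXP) z hzX hzcore x
        rw [← h6]
        apply Finset.prod_congr rfl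
        intro i _
        rfl
    · intro ω
      induction ω using QuotientGroup.induction_on with
      | H x =>
        constructor
        · intro h
          have hxM : x ∈ M := by
            apply hfixM
            intro w hw
            have h1 := h ⟨w, hw⟩
            have h2 : (((w * x : X)) : X ⧸ M) = ((x : X) : X ⧸ M) := h1
            have h3 := QuotientGroup.eq.mp h2
            have e : x⁻¹ * w * x = ((w * x)⁻¹ * x)⁻¹ := by group
            rw [e]; exact M.inv_mem h3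
          apply QuotientGroup.eq.mpr
          simpa using M.inv_mem hxM
        · intro h g
          have hxM : x ∈ M := by
            have := QuotientGroup.eq.mp h
            simpa using M.inv_mem this
          show ((((g : X) * x : X)) : X ⧸ M) = ((x : X) : X ⧸ M)
          apply QuotientGroup.eq.mpr
          exact M.mul_mem (M.inv_mem (M.mul_mem (hSM (hW₀S g.2)) hxM)) hxM
  rw [htr2, hkey, coreFun_mk] at htr1
  have h5 : (⟨1⁻¹ * z * 1, hzcore 1⟩ : ↥M) ∈ commutator ↥M := by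
    rw [← Abelianization.ker_of, MonoidHom.mem_ker, ← hμ]; exact htr1
  rw [← Subgroup.map_subtype_commutator]
  refine ⟨_, h5, ?_⟩
  simp

end MinFail

end Cfsg.Agent.Lib.Helper18.TransferMin
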