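import Mathlib

/-!
# Fixed points on Sylow subgroups of an involution centralizing a Sylow subgroup (helper18)
-/

set_option autoImplicit false
set_option linter.unusedSectionVars false

namespace Cfsg.Agent.Lib.Helper18.SylowFix

open MulAction

variable {G : Type*} [Group G] [Finite G]

/-- If `u` centralizes the Sylow `p`-subgroup `P`, the number of Sylow `p`-subgroups normalized
by `u` is `≡ 1 (mod p)`. -/
theorem card_fixed_mod {p : ℕ} [hp : Fact p.Prime] (P : Sylow p G) (u : G)
    (hu : ∀ x ∈ (P : Subgroup G), u * x = x * u) :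
    Nat.card {Q : Sylow p G // u • Q = Q} % p = 1 := by
  let F : SubMulAction (P : Subgroup G) (Sylow p G) :=
    { carrier := {Q | u • Q = Q}
      smul_mem' := by
        intro c Q hQ
        show u • (c • Q) = c • Q
        rw [Subgroup.smul_def, ← mul_smul, hu _ c.2, mul_smul]
        have hQ' : u • Q = Q := hQ
        rw [hQ'] }
  have hPF : u • P = P := by
    rw [Sylow.smul_eq_iff_mem_normalizer]
    apply Subgroup.centralizer_le_normalizer
    rw [Subgroup.mem_centralizer_iff]
    intro x hx
    exact (hu x hx).symm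
  have h1 := P.2.card_modEq_card_fixedPoints F
  have h2 : Nat.card (fixedPoints (P : Subgroup G) F) = 1 := by
    rw [Nat.card_eq_one_iff_unique]
    constructor
    · constructor
      rintro ⟨⟨Q, hQF⟩, hQ⟩ ⟨⟨Q', hQF'⟩, hQ'⟩
      have key : ∀ (R : Sylow p G) (hRF : R ∈ F),
          (⟨R, hRF⟩ : F) ∈ fixedPoints (P : Subgroup G) F → R = P := by
        intro R hRF hR
        have hR' : R ∈ fixedPoints (P : Subgroup G) (Sylow p G) := by
          intro c
          have := hR c
          exact congrArg Subtype.val this
        have hle : (P : Subgroup G) ≤ R := (P.2.sylow_mem_fixedPoints_iff).mp hR'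
        exact (Sylow.ext (Subgroup.eq_of_le_of_card_ge hle (by
          rw [Sylow.card_eq_multiplicity, Sylow.card_eq_multiplicity]))).symm
      have e1 := key Q hQF hQ
      have e2 := key Q' hQF' hQ'
      subst e1
      subst e2
      rfl
    · refine ⟨⟨⟨P, hPF⟩, ?_⟩⟩
      intro c
      apply Subtype.ext
      show (c : G) • P = P
      rw [Sylow.smul_eq_iff_mem_normalizer]
      exact Subgroup.le_normalizer c.2
  rw [h2] at h1
  have h3 : Nat.card F = Nat.card {Q : Sylow p G // u • Q = Q} := rfl
  rw [h3] at h1
  unfold Nat.ModEq at h1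
  rw [h1, Nat.mod_eq_of_lt hp.out.one_lt]

/-- the action of a non-abelian simple group on a finite set is by even permutations -/
theorem sign_toPerm_eq_one [IsSimpleGroup G] (hG : ¬ IsMulCommutative G) {α : Type*}
    [MulAction G α] [Fintype α] [DecidableEq α] (g : G) :
    Equiv.Perm.sign (MulAction.toPermHom G α g) = 1 := by
  let ψ : G →* ℤˣ := Equiv.Perm.sign.comp (MulAction.toPermHom G α)
  rcases (MonoidHom.normal_ker ψ).eq_bot_or_eq_top with hk | hk
  · exfalso
    have hinj : Function.Injective ψ := (MonoidHom.ker_eq_bot_iff ψ).mp hk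
    apply hG
    refine ⟨⟨fun a b => ?_⟩⟩
    apply hinj
    rw [map_mul, map_mul, mul_comm]
  · have hg : g ∈ ψ.ker := by rw [hk]; trivial
    exact MonoidHom.mem_ker.mp hg

/-- An involution of a non-abelian simple group acting non-trivially on a finite set moves a
multiple of four points. -/
theorem card_fixed_involution [IsSimpleGroup G] (hG : ¬ IsMulCommutative G) {α : Type*}
    [MulAction G α] [Fintype α] [DecidableEq α] (t : G) (ht : t ^ 2 = 1)
    (hmove : ∃ x : α, t • x ≠ x) :
    ∃ m : ℕ, 0 < m ∧
      (Finset.univ.filter (fun x : α => t • x = x)).card + 4 * m = Fintype.card α := by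
  obtain ⟨σ, hσ⟩ : ∃ σ : Equiv.Perm α, σ = MulAction.toPermHom G α t := ⟨_, rfl⟩
  have hσ1 : σ ≠ 1 := by
    intro he
    obtain ⟨x, hx⟩ := hmove
    apply hx
    have : σ x = x := by rw [he]; rfl
    rw [hσ] at this
    exact this
  have hσ2 : σ ^ 2 = 1 := by
    rw [hσ, ← map_pow, ht, map_one]
  have ho : orderOf σ = 2 := orderOf_eq_prime hσ2 hσ1
  obtain ⟨n, hn⟩ := Equiv.Perm.cycleType_prime_order (σ := σ) (by rw [ho]; exact Nat.prime_two)
  rw [ho] at hn
  have hsign : Equiv.Perm.sign σ = 1 := by rw [hσ]; exact sign_toPerm_eq_one hG t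
  rw [Equiv.Perm.sign_of_cycleType, hn, Multiset.sum_replicate, Multiset.card_replicate,
    neg_one_pow_eq_one_iff_even (by decide)] at hsign
  have hsum : σ.support.card = (n + 1) * 2 := by
    rw [← Equiv.Perm.sum_cycleType, hn, Multiset.sum_replicate, smul_eq_mul]
  have hfix : (Finset.univ.filter (fun x : α => t • x = x)).card + σ.support.card
      = Fintype.card α := by
    rw [← Finset.card_univ]
    have hs : σ.support = Finset.univ.filter (fun x : α => ¬ t • x = x) := by
      ext x
      rw [Equiv.Perm.mem_support, Finset.mem_filter, hσ]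
      simp
    rw [hs]
    exact Finset.card_filter_add_card_filter_not _
  rcases hsign with ⟨m, hm⟩
  rw [smul_eq_mul] at hm
  refine ⟨(n + 1) / 2, by omega, by omega⟩

end Cfsg.Agent.Lib.Helper18.SylowFix
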