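import Mathlib

/-!
# Sylow counting in a subgroup containing the normalizer (helper18)
-/

set_option autoImplicit false
set_option linter.unusedSectionVars false

namespace Cfsg.Agent.Lib.Helper18.SylowOver

variable {G : Type*} [Group G] [Finite G]

/-- If `N_G(P) ≤ K` then `|K| = |N_G(P)| · n_p(K)`. -/
theorem card_eq_card_normalizer_mul {p : ℕ} [Fact p.Prime] (P : Sylow p G) (K : Subgroup G)
    (hNK : Subgroup.normalizer ((P : Subgroup G) : Set G) ≤ K) :
    Nat.card K =
      Nat.card (Subgroup.normalizer ((P : Subgroup G) : Set G)) * Nat.card (Sylow p K) := by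
  have hPK : (P : Subgroup G) ≤ K := Subgroup.le_normalizer.trans hNK
  have h1 : Nat.card (Sylow p K) =
      (Subgroup.normalizer (((P.subtype hPK : Sylow p K) : Subgroup K) : Set K)).index :=
    Sylow.card_eq_index_normalizer _
  have h2 : ((P.subtype hPK : Sylow p K) : Subgroup K) = (P : Subgroup G).subgroupOf K := rfl
  rw [h2, ← Subgroup.subgroupOf_normalizer_eq hPK] at h1
  have h3 := Subgroup.card_mul_index
    ((Subgroup.normalizer ((P : Subgroup G) : Set G)).subgroupOf K)
  rw [← h1, Nat.card_congr (Subgroup.subgroupOfEquivOfLe hNK).toEquiv] at h3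
  exact h3.symm

/-- the number of Sylow subgroups of a subgroup is `≡ 1` -/
theorem card_sylow_subgroup_mod {p : ℕ} [hp : Fact p.Prime] (K : Subgroup G) :
    Nat.card (Sylow p K) % p = 1 := by
  have := card_sylow_modEq_one p K
  unfold Nat.ModEq at this
  rw [this, Nat.mod_eq_of_lt hp.out.one_lt]

end Cfsg.Agent.Lib.Helper18.SylowOver
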