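import Mathlib
import Cfsg.Agent.H5.SylowTupleS
import Cfsg.Agent.S0215
import Cfsg.Agent.Lib.Helper10.PGroup
import Cfsg.Agent.Lib.Helper18.SylowOver
import Cfsg.Agent.Lib.Helper18.SylowFix

/-!
# No non-abelian simple group of order 3960 (helper18, for helper10's S2490)

`n₁₁ = 45`, `|N(P₁₁)| = 88`; a 2-central involution `u` of `N(P₁₁)` centralizing `P₁₁` has
`C(u) = N(P₁₁)`, normalizes no other Sylow 11-subgroup (parity of the action on 45 points), hence
commutes with none of its other conjugates: it is isolated, against Glauberman's `Z*`-theorem.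
-/

set_option autoImplicit false
set_option linter.unusedSectionVars false
set_option maxRecDepth 100000

namespace Cfsg.Agent.Lib.Helper18.Ord3960

open Cfsg.H5.SmallOrd Cfsg.H5.SylowTuple Cfsg.Agent.Lib.Helper18.SylowOver
  Cfsg.Agent.Lib.Helper18.SylowFix

variable {G : Type*} [Group G] [Finite G]

theorem conj_mem_centralizer (H : Subgroup G) {g c : G}
    (hg : g ∈ Subgroup.normalizer (H : Set G)) (hc : c ∈ Subgroup.centralizer (H : Set G)) :
    g * c * g⁻¹ ∈ Subgroup.centralizer (H : Set G) := by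
  rw [Subgroup.mem_centralizer_iff] at hc ⊢
  intro x hx
  have hx' : g⁻¹ * x * g ∈ H := (Subgroup.mem_normalizer_iff''.mp hg x).mp hx
  have h1 := hc _ hx'
  calc x * (g * c * g⁻¹) = g * ((g⁻¹ * x * g) * c) * g⁻¹ := by group
    _ = g * (c * (g⁻¹ * x * g)) * g⁻¹ := by rw [h1]
    _ = g * c * g⁻¹ * x := by group

theorem center_eq_bot [IsSimpleGroup G] (hG : ¬ IsMulCommutative G) :
    Subgroup.center G = ⊥ := by
  rcases (inferInstance : (Subgroup.center G).Normal).eq_bot_or_eq_top with h | h
  · exact h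
  · exfalso
    apply hG
    refine ⟨⟨fun a b => ?_⟩⟩
    have ha : a ∈ Subgroup.center G := by rw [h]; trivial
    exact ((Subgroup.mem_center_iff.mp ha) b).symm

theorem no_3960 [IsSimpleGroup G] (hG : ¬ IsMulCommutative G) : Nat.card G ≠ 3960 := by
  intro hn
  classical
  haveI h11 : Fact (Nat.Prime 11) := ⟨by norm_num⟩
  haveI h2 : Fact (Nat.Prime 2) := ⟨by norm_num⟩
  -- Sylow data at 11
  obtain ⟨t11, ht11, hp11, hsd11⟩ :=
    exists_mem_triples hG 3960 11 hn (by norm_num) (by norm_num) (by norm_num) (by norm_num)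
  have htr11 : triples 3960 11 = [(45, 2, 4)] := by decide +kernel
  rw [htr11, List.mem_singleton] at ht11
  subst ht11
  have hsd : IsSD G 11 45 2 4 := hsd11
  obtain ⟨P11⟩ : Nonempty (Sylow 11 G) := inferInstance
  set N11 : Subgroup G := Subgroup.normalizer ((P11 : Subgroup G) : Set G) with hN11def
  set C11 : Subgroup G := Subgroup.centralizer ((P11 : Subgroup G) : Set G) with hC11def
  have hN11 : Nat.card N11 = 88 := by rw [hsd.card_N P11]
  have hC11 : Nat.card C11 = 44 := by rw [hsd.card_C P11]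
  have hP11c : Nat.card (P11 : Subgroup G) = 11 := hsd.card_P P11
  have hCN : C11 ≤ N11 := Subgroup.centralizer_le_normalizer _
  -- a Sylow 2-subgroup of C11, inside a Sylow 2-subgroup of N11
  obtain ⟨T0⟩ : Nonempty (Sylow 2 C11) := inferInstance
  have hT0 : Nat.card (T0 : Subgroup C11) = 2 ^ 2 :=
    sylow_card 2 2 11 (by norm_num) (by rw [hC11]; norm_num) T0
  set T1 : Subgroup G := (T0 : Subgroup C11).map C11.subtype with hT1def
  have hT1c : Nat.card T1 = 4 := by
    rw [hT1def, Subgroup.card_map_of_injective (Subgroup.subtype_injective _), hT0]; norm_num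
  have hT1C : T1 ≤ C11 := Subgroup.map_subtype_le _
  have hT1N : T1 ≤ N11 := hT1C.trans hCN
  have hT1pg : IsPGroup 2 (T1.subgroupOf N11) := by
    apply IsPGroup.of_card (n := 2)
    rw [Nat.card_congr (Subgroup.subgroupOfEquivOfLe hT1N).toEquiv, hT1c]; norm_num
  obtain ⟨S0, hS0⟩ := hT1pg.exists_le_sylow
  have hS0c : Nat.card (S0 : Subgroup N11) = 2 ^ 3 :=
    sylow_card 2 3 11 (by norm_num) (by rw [hN11]; norm_num) S0
  set P2 : Subgroup G := (S0 : Subgroup N11).map N11.subtype with hP2def
  have hP2c : Nat.card P2 = 8 := by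
    rw [hP2def, Subgroup.card_map_of_injective (Subgroup.subtype_injective _), hS0c]; norm_num
  have hP2N : P2 ≤ N11 := Subgroup.map_subtype_le _
  have hT1P2 : T1 ≤ P2 := by
    intro x hx
    rw [hP2def, Subgroup.mem_map]
    exact ⟨⟨x, hT1N hx⟩, hS0 (Subgroup.mem_subgroupOf.mpr hx), rfl⟩
  -- P2 as a Sylow 2-subgroup of G
  obtain ⟨S⟩ : Nonempty (Sylow 2 G) := inferInstance
  have hSc : Nat.card (S : Subgroup G) = 2 ^ 3 :=
    sylow_card 2 3 495 (by norm_num) (by rw [hn]; norm_num) S
  have hP2card : Nat.card P2 = 2 ^ (Nat.card G).factorization 2 := by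
    rw [← Sylow.card_eq_multiplicity S, hSc, hP2c]; norm_num
  set P2S : Sylow 2 G := Sylow.ofCard P2 hP2card with hP2Sdef
  have hP2S : (P2S : Subgroup G) = P2 := rfl
  -- the normal subgroup `C11 ∩ P2` of `P2` meets the centre of `P2`
  have hP2pg : IsPGroup 2 P2 := IsPGroup.of_card (n := 3) (by rw [hP2c]; norm_num)
  haveI hTn : (C11.subgroupOf P2).Normal := by
    constructor
    intro c hc g
    rw [Subgroup.mem_subgroupOf] at hc ⊢
    have hg : (g : G) ∈ N11 := hP2N g.2
    have := conj_mem_centralizer (P11 : Subgroup G) hg hc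
    show ((g * c * g⁻¹ : P2) : G) ∈ C11
    rw [Subgroup.coe_mul, Subgroup.coe_mul, Subgroup.coe_inv]
    exact this
  have hTne : C11.subgroupOf P2 ≠ ⊥ := by
    intro hbot
    have hle : T1 ≤ ⊥ := by
      intro x hx
      have hx' : (⟨x, hT1P2 hx⟩ : P2) ∈ C11.subgroupOf P2 :=
        Subgroup.mem_subgroupOf.mpr (hT1C hx)
      rw [hbot, Subgroup.mem_bot] at hx'
      rw [Subgroup.mem_bot]
      exact congrArg Subtype.val hx'
    have : T1 = ⊥ := le_bot_iff.mp hle
    rw [this, Subgroup.card_bot] at hT1c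
    omega
  have hZne := Cfsg.Agent.Lib.Helper10.normal_inf_center_ne_bot hP2pg (C11.subgroupOf P2) hTne
  have hZ2 : 2 ∣ Nat.card (C11.subgroupOf P2 ⊓ Subgroup.center P2 : Subgroup P2) := by
    have hpg := hP2pg.to_subgroup (C11.subgroupOf P2 ⊓ Subgroup.center P2 : Subgroup P2)
    obtain ⟨k, hk⟩ := IsPGroup.iff_card.mp hpg
    rcases Nat.eq_zero_or_pos k with h0 | h0
    · exfalso
      rw [h0, pow_zero, Subgroup.card_eq_one] at hk
      exact hZne hk
    · rw [hk]
      exact dvd_pow_self 2 (by omega)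
  obtain ⟨z0, hz0⟩ := exists_prime_orderOf_dvd_card' 2 hZ2
  set u : G := ((z0 : P2) : G) with hudef
  have huo : orderOf u = 2 := by
    rw [hudef, Subgroup.orderOf_coe, Subgroup.orderOf_coe]; exact hz0
  have huP2 : u ∈ P2 := (z0 : P2).2
  have huC : u ∈ C11 := by
    have := (Subgroup.mem_inf.mp z0.2).1
    exact Subgroup.mem_subgroupOf.mp this
  have huZ : ∀ y ∈ P2, y * u = u * y := by
    intro y hy
    have := (Subgroup.mem_inf.mp z0.2).2
    rw [Subgroup.mem_center_iff] at this
    have h := this ⟨y, hy⟩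
    exact congrArg Subtype.val h
  have hu1 : u ≠ 1 := by
    intro h
    rw [h, orderOf_one] at huo
    omega
  have hu2 : u ^ 2 = 1 := by rw [← huo]; exact pow_orderOf_eq_one u
  have huP11 : ∀ x ∈ (P11 : Subgroup G), u * x = x * u := by
    intro x hx
    exact ((Subgroup.mem_centralizer_iff.mp huC) x hx).symm
  -- the centralizer of u
  set K : Subgroup G := Subgroup.centralizer ({u} : Set G) with hKdef
  have hmemK : ∀ g : G, g ∈ K ↔ u * g = g * u := by
    intro g
    rw [hKdef, Subgroup.mem_centralizer_iff]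
    constructor
    · intro h; exact h u rfl
    · intro h y hy
      rw [Set.mem_singleton_iff] at hy
      rw [hy]; exact h
  have hP11K : (P11 : Subgroup G) ≤ K := fun x hx => (hmemK x).2 (huP11 x hx)
  have hP2K : P2 ≤ K := fun y hy => (hmemK y).2 (huZ y hy).symm
  have hNK : N11 ≤ K := by
    have hP11H : (P11 : Subgroup G) ≤ K ⊓ N11 := le_inf hP11K Subgroup.le_normalizer
    have hP2H : P2 ≤ K ⊓ N11 := le_inf hP2K hP2N
    have h11d : 11 ∣ Nat.card (K ⊓ N11 : Subgroup G) := by
      have := Subgroup.card_dvd_of_le hP11H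
      rwa [hP11c] at this
    have h8d : 8 ∣ Nat.card (K ⊓ N11 : Subgroup G) := by
      have := Subgroup.card_dvd_of_le hP2H
      rwa [hP2c] at this
    have h88 : 88 ∣ Nat.card (K ⊓ N11 : Subgroup G) :=
      (show (88 : ℕ) = 11 * 8 by norm_num) ▸
        Nat.Coprime.mul_dvd_of_dvd_of_dvd (by norm_num) h11d h8d
    have hle : Nat.card N11 ≤ Nat.card (K ⊓ N11 : Subgroup G) := by
      rw [hN11]
      exact Nat.le_of_dvd Nat.card_pos h88
    have := Subgroup.eq_of_le_of_card_ge (inf_le_right : K ⊓ N11 ≤ N11) hle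
    rw [← this]
    exact inf_le_left
  have hcenter := center_eq_bot hG
  have hKN : K = N11 := by
    have h1 := card_eq_card_normalizer_mul P11 K hNK
    have h2 := card_sylow_subgroup_mod (p := 11) K
    rw [← hN11def, hN11] at h1
    have h3 : Nat.card K ∣ 3960 := by rw [← hn]; exact Subgroup.card_subgroup_dvd_card K
    generalize Nat.card (Sylow 11 K) = n at h1 h2
    rw [h1] at h3
    have hn45 : n ∣ 45 := by
      have : 88 * n ∣ 88 * 45 := by norm_num; exact h3
      exact Nat.dvd_of_mul_dvd_mul_left (by norm_num) this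
    have hnle : n ≤ 45 := Nat.le_of_dvd (by norm_num) hn45
    have hn1 : n = 1 ∨ n = 45 := by
      interval_cases n <;> omega
    rcases hn1 with rfl | rfl
    · symm
      apply Subgroup.eq_of_le_of_card_ge hNK
      rw [h1, hN11]
    · exfalso
      have hKtop : K = ⊤ := by
        apply Subgroup.eq_top_of_card_eq
        rw [h1, hn]
      have huc : u ∈ Subgroup.center G := by
        rw [Subgroup.mem_center_iff]
        intro g
        have : g ∈ K := by rw [hKtop]; trivial
        exact ((hmemK g).1 this).symm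
      rw [hcenter, Subgroup.mem_bot] at huc
      exact hu1 huc
  -- u normalizes no other Sylow 11-subgroup
  haveI : Fintype (Sylow 11 G) := Fintype.ofFinite _
  have h45 : Fintype.card (Sylow 11 G) = 45 := by
    rw [← Nat.card_eq_fintype_card, hsd.card_sylow]
  have huP11fix : u • P11 = P11 := by
    rw [Sylow.smul_eq_iff_mem_normalizer]
    exact hCN huC
  have hmove : ∃ Q : Sylow 11 G, u • Q ≠ Q := by
    by_contra hcon
    push Not at hcon
    have hker : u ∈ (MulAction.toPermHom G (Sylow 11 G)).ker := by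
      rw [MonoidHom.mem_ker]
      apply Equiv.ext
      intro Q
      exact hcon Q
    rcases (MonoidHom.normal_ker (MulAction.toPermHom G (Sylow 11 G))).eq_bot_or_eq_top with hk | hk
    · rw [hk, Subgroup.mem_bot] at hker
      exact hu1 hker
    · have hNtop : N11 = ⊤ := by
        rw [eq_top_iff]
        intro g _
        have hg : g ∈ (MulAction.toPermHom G (Sylow 11 G)).ker := by rw [hk]; trivial
        rw [MonoidHom.mem_ker] at hg
        have : g • P11 = P11 := by
          have := congrArg (fun σ : Equiv.Perm (Sylow 11 G) => σ P11) hg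
          exact this
        exact Sylow.smul_eq_iff_mem_normalizer.mp this
      rw [hNtop, Subgroup.card_top, hn] at hN11
      omega
  obtain ⟨m, hm0, hm⟩ := card_fixed_involution hG (α := Sylow 11 G) u hu2 hmove
  have hmod := card_fixed_mod P11 u huP11
  rw [Nat.card_eq_fintype_card, Fintype.card_subtype] at hmod
  rw [h45] at hm
  have hf1 : (Finset.univ.filter (fun Q : Sylow 11 G => u • Q = Q)).card = 1 := by
    generalize (Finset.univ.filter (fun Q : Sylow 11 G => u • Q = Q)).card = f at hm hmod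
    omega
  have hfix : ∀ Q : Sylow 11 G, u • Q = Q → Q = P11 := by
    intro Q hQ
    obtain ⟨a, ha⟩ := Finset.card_eq_one.mp hf1
    have h1 : Q ∈ Finset.univ.filter (fun Q : Sylow 11 G => u • Q = Q) :=
      Finset.mem_filter.mpr ⟨Finset.mem_univ _, hQ⟩
    have h2 : P11 ∈ Finset.univ.filter (fun Q : Sylow 11 G => u • Q = Q) :=
      Finset.mem_filter.mpr ⟨Finset.mem_univ _, huP11fix⟩
    rw [ha, Finset.mem_singleton] at h1 h2
    rw [h1, h2]
  -- u is isolated in P2
  have hiso : ∀ g : G, g * u * g⁻¹ ∈ P2S → g * u * g⁻¹ = u := by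
    intro g hg
    have hg' : g * u * g⁻¹ ∈ P2 := hg
    have hc : u * (g * u * g⁻¹) = (g * u * g⁻¹) * u := (hmemK _).1 (hP2K hg')
    have hw : g⁻¹ * u * g ∈ K := by
      rw [hmemK]
      calc u * (g⁻¹ * u * g) = g⁻¹ * ((g * u * g⁻¹) * u) * g := by group
        _ = g⁻¹ * (u * (g * u * g⁻¹)) * g := by rw [hc]
        _ = g⁻¹ * u * g * u := by group
    rw [hKN] at hw
    have hw' : (g⁻¹ * u * g) • P11 = P11 := Sylow.smul_eq_iff_mem_normalizer.mpr hw
    have hfixg : u • (g • P11) = g • P11 := by
      have h1 : u • (g • P11) = g • ((g⁻¹ * u * g) • P11) := by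
        rw [← mul_smul, ← mul_smul]
        congr 1
        group
      rw [h1, hw']
    have hgP : g • P11 = P11 := hfix _ hfixg
    have hgN : g ∈ N11 := Sylow.smul_eq_iff_mem_normalizer.mp hgP
    rw [← hKN] at hgN
    have := (hmemK g).1 hgN
    calc g * u * g⁻¹ = (u * g) * g⁻¹ := by rw [this]
      _ = u := by group
  -- Glauberman's Z*-theorem
  obtain ⟨N, hNn, hNodd, hNc⟩ := Cfsg.Agent.S0215.result P2S u huo huP2 hiso
  rcases hNn.eq_bot_or_eq_top with hb | ht
  · have huc : u ∈ Subgroup.center G := by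
      rw [Subgroup.mem_center_iff]
      intro g
      have := hNc g
      rw [hb, Subgroup.mem_bot] at this
      calc g * u = (u * g * u⁻¹ * g⁻¹)⁻¹ * (u * g) := by group
        _ = u * g := by rw [this]; group
    rw [hcenter, Subgroup.mem_bot] at huc
    exact hu1 huc
  · rw [ht, Subgroup.card_top, hn] at hNodd
    revert hNodd
    decide

end Cfsg.Agent.Lib.Helper18.Ord3960
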