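import Mathlib
import Cfsg.Agent.H5.SylowTupleS
import Cfsg.Agent.S0992
import Cfsg.Agent.S1010
import Cfsg.Agent.Lib.Helper18.SylowOver
import Cfsg.Agent.Lib.Helper18.SylowFix
import Cfsg.Agent.Lib.Helper18.Ord3960

/-!
# Extra rules on Sylow data `(k, e, c)` of a non-abelian simple group (helper18)

For a prime `p ‖ |G|`, `IsSD G p k e c` (helper5) says `n_p = k`, `|N(P)/C(P)| = e`,
`|C(P)| = p c`.  Rules:

* `sd_parity`: if `c` is even, an involution of `C(P)` fixes `f` Sylow `p`-subgroups,
  `f ≡ 1 (mod p)`, `f ≡ k (mod 4)`, `f < k`.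
* `sd_not_four_dvd`: if `8 ∤ |G|` then `4 ∤ e`.
* `sd_ne_21`: `n_5 ≠ 21`.
* `sd_nx`: if a Sylow `q`-subgroup `X` of `C(P)` is forced to be normal in `C(P)`
  and is not Sylow in `G`, then `N(P) ≤ N(X) < G` and `q |X|` divides `|N(X)| = |N(P)| n'`.
-/

set_option autoImplicit false
set_option linter.unusedSectionVars false
set_option maxRecDepth 100000

namespace Cfsg.Agent.Lib.Helper18.SylowRules

open Cfsg.H5.SmallOrd Cfsg.H5.SylowTuple Cfsg.Agent.Lib.Helper18.SylowOver
  Cfsg.Agent.Lib.Helper18.SylowFix Cfsg.Agent.Lib.Helper18.Ord3960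

variable {G : Type*} [Group G] [Finite G]

/-- a simple non-abelian group has no normal Sylow `p`-subgroup of order `p` -/
theorem normalizer_ne_top [IsSimpleGroup G] (hG : ¬ IsMulCommutative G) {p : ℕ}
    [hp : Fact p.Prime] (P : Sylow p G) (hP : Nat.card (P : Subgroup G) = p) :
    Subgroup.normalizer ((P : Subgroup G) : Set G) ≠ ⊤ := by
  intro htop
  have hn : (P : Subgroup G).Normal := Subgroup.normalizer_eq_top_iff.mp htop
  rcases hn.eq_bot_or_eq_top with hb | ht
  · rw [hb, Subgroup.card_bot] at hP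
    have := hp.out.two_le
    omega
  · apply hG
    have hc : Nat.card G = p := by rw [← hP, ht, Subgroup.card_top]
    have : IsCyclic G := isCyclic_of_prime_card hc
    exact this.isMulCommutative

/-- **Parity rule.** -/
theorem sd_parity [IsSimpleGroup G] (hG : ¬ IsMulCommutative G) {p k e c : ℕ}
    [hp : Fact p.Prime] (hsd : IsSD G p k e c) (hc : 2 ∣ c) :
    ∃ f m : ℕ, 0 < m ∧ f + 4 * m = k ∧ f % p = 1 := by
  classical
  haveI h2 : Fact (Nat.Prime 2) := ⟨by norm_num⟩
  obtain ⟨P⟩ : Nonempty (Sylow p G) := inferInstance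
  have hC : 2 ∣ Nat.card (Subgroup.centralizer ((P : Subgroup G) : Set G)) := by
    rw [hsd.card_C P]
    exact Dvd.dvd.mul_left hc p
  obtain ⟨z, hz⟩ := exists_prime_orderOf_dvd_card' 2 hC
  set u : G := (z : G) with hudef
  have huo : orderOf u = 2 := by rw [hudef, Subgroup.orderOf_coe]; exact hz
  have hu1 : u ≠ 1 := by
    intro h
    rw [h, orderOf_one] at huo
    omega
  have hu2 : u ^ 2 = 1 := by rw [← huo]; exact pow_orderOf_eq_one u
  have huP : ∀ x ∈ (P : Subgroup G), u * x = x * u := by
    intro x hx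
    exact ((Subgroup.mem_centralizer_iff.mp z.2) x hx).symm
  haveI : Fintype (Sylow p G) := Fintype.ofFinite _
  have hk : Fintype.card (Sylow p G) = k := by
    rw [← Nat.card_eq_fintype_card, hsd.card_sylow]
  have hmove : ∃ Q : Sylow p G, u • Q ≠ Q := by
    by_contra hcon
    push Not at hcon
    have hker : u ∈ (MulAction.toPermHom G (Sylow p G)).ker := by
      rw [MonoidHom.mem_ker]
      apply Equiv.ext
      intro Q
      exact hcon Q
    rcases (MonoidHom.normal_ker (MulAction.toPermHom G (Sylow p G))).eq_bot_or_eq_top with hk | hk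
    · rw [hk, Subgroup.mem_bot] at hker
      exact hu1 hker
    · apply normalizer_ne_top hG P (hsd.card_P P)
      rw [eq_top_iff]
      intro g _
      have hg : g ∈ (MulAction.toPermHom G (Sylow p G)).ker := by rw [hk]; trivial
      rw [MonoidHom.mem_ker] at hg
      have : g • P = P := by
        have := congrArg (fun σ : Equiv.Perm (Sylow p G) => σ P) hg
        exact this
      exact Sylow.smul_eq_iff_mem_normalizer.mp this
  obtain ⟨m, hm0, hm⟩ := card_fixed_involution hG (α := Sylow p G) u hu2 hmove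
  have hmod := card_fixed_mod P u huP
  rw [Nat.card_eq_fintype_card, Fintype.card_subtype] at hmod
  rw [hk] at hm
  exact ⟨_, m, hm0, hm, hmod⟩

/-- **Rule E4.** If `8 ∤ |G|` then `4 ∤ e`: a Sylow 2-subgroup of `N(P)` would embed into the
cyclic group `Aut(P)`, but it is a Klein four-group. -/
theorem sd_not_four_dvd [IsSimpleGroup G] (hG : ¬ IsMulCommutative G)
    (h8 : ¬ 8 ∣ Nat.card G) {p k e c : ℕ} [hp : Fact p.Prime] (hsd : IsSD G p k e c) :
    ¬ 4 ∣ e := by
  intro h4
  classical
  haveI h2 : Fact (Nat.Prime 2) := ⟨by norm_num⟩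
  obtain ⟨P⟩ : Nonempty (Sylow p G) := inferInstance
  set N : Subgroup G := Subgroup.normalizer ((P : Subgroup G) : Set G) with hNdef
  set C : Subgroup G := Subgroup.centralizer ((P : Subgroup G) : Set G) with hCdef
  have hN : Nat.card N = p * (e * c) := hsd.card_N P
  have hC : Nat.card C = p * c := hsd.card_C P
  have hPc : Nat.card (P : Subgroup G) = p := hsd.card_P P
  obtain ⟨a, ha⟩ := h4
  have hpc_odd : ¬ 2 ∣ p * c := by
    rintro ⟨b, hb⟩
    apply h8
    rw [hsd.card_G]
    refine ⟨k * a * b, ?_⟩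
    calc p * (k * (e * c)) = k * e * (p * c) := by ring
      _ = 8 * (k * a * b) := by rw [ha, hb]; ring
  have ha_odd : ¬ 2 ∣ a := by
    rintro ⟨b, hb⟩
    apply h8
    rw [hsd.card_G]
    refine ⟨p * k * b * c, ?_⟩
    rw [ha, hb]; ring
  have h4G : 4 ∣ Nat.card G := by
    rw [hsd.card_G, ha]
    exact ⟨p * k * a * c, by ring⟩
  -- a Sylow 2-subgroup of N has order 4
  obtain ⟨T0⟩ : Nonempty (Sylow 2 N) := inferInstance
  have hT0 : Nat.card (T0 : Subgroup N) = 2 ^ 2 := by
    apply sylow_card 2 2 (a * (p * c))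
    · intro h
      rcases (Nat.Prime.dvd_mul Nat.prime_two).mp h with h | h
      · exact ha_odd h
      · exact hpc_odd h
    · rw [hN, ha]; ring
  set T : Subgroup G := (T0 : Subgroup N).map N.subtype with hTdef
  have hTc : Nat.card T = 4 := by
    rw [hTdef, Subgroup.card_map_of_injective (Subgroup.subtype_injective _), hT0]; norm_num
  have hTN : T ≤ N := Subgroup.map_subtype_le _
  have hG0 : Nat.card G ≠ 0 := Nat.card_pos.ne'
  have hfac : (Nat.card G).factorization 2 = 2 := by
    have hk1 : 2 ≤ (Nat.card G).factorization 2 :=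
      (Nat.prime_two.pow_dvd_iff_le_factorization hG0).mp (by norm_num; exact h4G)
    have hk2 : (Nat.card G).factorization 2 < 3 := by
      by_contra hge
      push Not at hge
      exact h8 (by
        have := (Nat.prime_two.pow_dvd_iff_le_factorization hG0).mpr hge
        norm_num at this
        exact this)
    omega
  have hTcard : Nat.card T = 2 ^ (Nat.card G).factorization 2 := by rw [hfac, hTc]; norm_num
  set TS : Sylow 2 G := Sylow.ofCard T hTcard with hTSdef
  have heven : Even (Nat.card G) := by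
    obtain ⟨b, hb⟩ := h4G
    exact ⟨2 * b, by rw [hb]; ring⟩
  have hklein : IsKleinFour (T : Subgroup G) := (Cfsg.Agent.S0992.result hG heven h8 TS).1
  -- T embeds into Aut(P)
  let φ : T →* MulAut (P : Subgroup G) :=
    (Subgroup.normalizerMonoidHom (P : Subgroup G)).comp (Subgroup.inclusion hTN)
  have hφ : Function.Injective φ := by
    rw [injective_iff_map_eq_one]
    intro t ht
    have hker : Subgroup.inclusion hTN t ∈ (Subgroup.normalizerMonoidHom (P : Subgroup G)).ker :=
      MonoidHom.mem_ker.mpr ht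
    rw [Subgroup.normalizerMonoidHom_ker, Subgroup.mem_subgroupOf] at hker
    have htC : (t : G) ∈ C := hker
    have h1 : orderOf (t : G) ∣ p * c := by
      rw [← hC]
      have := orderOf_dvd_natCard (⟨(t : G), htC⟩ : C)
      rwa [Subgroup.orderOf_mk] at this
    have h2' : orderOf (t : G) ∣ 4 := by
      rw [← hTc, Subgroup.orderOf_coe]
      exact orderOf_dvd_natCard t
    have hcop : Nat.Coprime 4 (p * c) := by
      have : Nat.Coprime 2 (p * c) := (Nat.Prime.coprime_iff_not_dvd Nat.prime_two).mpr hpc_odd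
      exact Nat.Coprime.pow_left 2 this
    have h3 : orderOf (t : G) = 1 := Nat.eq_one_of_dvd_coprimes hcop h2' h1
    have : (t : G) = 1 := orderOf_eq_one_iff.mp h3
    exact Subtype.ext this
  haveI : Fact (Nat.card (P : Subgroup G)).Prime := ⟨by rw [hPc]; exact hp.out⟩
  haveI : IsCyclic (P : Subgroup G) := isCyclic_of_prime_card hPc
  let ψ : T →* (ZMod (Nat.card (P : Subgroup G)))ˣ :=
    (IsCyclic.mulAutMulEquiv (P : Subgroup G)).toMonoidHom.comp φ
  have hψ : Function.Injective ψ :=
    (IsCyclic.mulAutMulEquiv (P : Subgroup G)).injective.comp hφ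
  have hcyc : IsCyclic T := isCyclic_of_injective ψ hψ
  exact hklein.not_isCyclic hcyc

/-- **Rule NX.** Write `c = q ^ a * c'` with `q ∤ c'`, `a > 0`, where `1` is the only divisor of
`c'` that is `≡ 1 (mod q)`.  Then the Sylow `q`-subgroup `X` of `C(P)` is normal in `N(P)`; if
moreover `q ^ (a + 1)` divides `|G|`, then `N(X)` is a proper subgroup of order `|N(P)| n'`
divisible by `q ^ (a + 1)`, where `n' ≡ 1 (mod p)` divides `k`. -/
theorem sd_nx [IsSimpleGroup G] (hG : ¬ IsMulCommutative G) {p k e c : ℕ}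
    [hp : Fact p.Prime] (hsd : IsSD G p k e c) (q a c' : ℕ) [hq : Fact q.Prime] (hqp : q ≠ p)
    (ha : 0 < a) (hc : c = q ^ a * c') (hqc' : ¬ q ∣ c')
    (huniq : ∀ j : ℕ, j ∣ c' → j % q = 1 → j = 1) (hqG : q ^ (a + 1) ∣ Nat.card G) :
    ∃ n' : ℕ, n' ∣ k ∧ n' % p = 1 ∧ n' ≠ k ∧ q ^ (a + 1) ∣ p * (e * c) * n' := by
  classical
  obtain ⟨P⟩ : Nonempty (Sylow p G) := inferInstance
  set N : Subgroup G := Subgroup.normalizer ((P : Subgroup G) : Set G) with hNdef
  set K : Subgroup G := Subgroup.centralizer ((P : Subgroup G) : Set G) with hKdef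
  have hN : Nat.card N = p * (e * c) := hsd.card_N P
  have hK : Nat.card K = p * c := hsd.card_C P
  have hPc : Nat.card (P : Subgroup G) = p := hsd.card_P P
  have hqpc' : ¬ q ∣ p * c' := by
    intro h
    rcases (Nat.Prime.dvd_mul hq.out).mp h with h | h
    · exact hqp ((Nat.prime_dvd_prime_iff_eq hq.out hp.out).mp h)
    · exact hqc' h
  have hcop : Nat.Coprime p (q ^ a) := by
    apply Nat.Coprime.pow_right
    rw [Nat.coprime_primes hp.out hq.out]
    exact fun h => hqp h.symm
  obtain ⟨X0⟩ : Nonempty (Sylow q K) := inferInstance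
  have hX0 : Nat.card (X0 : Subgroup K) = q ^ a :=
    sylow_card q a (p * c') hqpc' (by rw [hK, hc]; ring) X0
  -- `X0` is the only Sylow `q`-subgroup of `K`
  have hone : Nat.card (Sylow q K) = 1 := by
    apply huniq
    · obtain ⟨NX0, hNX0⟩ : ∃ NX0 : Subgroup K,
          NX0 = Subgroup.normalizer (((X0 : Subgroup K)) : Set K) := ⟨_, rfl⟩
      have hidx : Nat.card (Sylow q K) = NX0.index := by
        rw [Sylow.card_eq_index_normalizer X0, hNX0]; rfl
      rw [hidx]
      have hPK : (P : Subgroup G) ≤ K := by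
        intro x hx
        rw [hKdef, Subgroup.mem_centralizer_iff]
        intro y hy
        have hcomm : IsMulCommutative (P : Subgroup G) :=
          (isCyclic_of_prime_card hPc).isMulCommutative
        have := hcomm.is_comm.comm (⟨y, hy⟩ : (P : Subgroup G)) ⟨x, hx⟩
        exact congrArg Subtype.val this
      have hPle : (P : Subgroup G).subgroupOf K ≤ NX0 := by
        intro x hx
        rw [Subgroup.mem_subgroupOf] at hx
        have hxc : x ∈ Subgroup.center K := by
          rw [Subgroup.mem_center_iff]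
          intro y
          apply Subtype.ext
          rw [Subgroup.coe_mul, Subgroup.coe_mul]
          exact ((Subgroup.mem_centralizer_iff.mp y.2) x hx).symm
        rw [hNX0]
        exact Subgroup.center_le_normalizer _ hxc
      have hp_dvd : p ∣ Nat.card NX0 := by
        have := Subgroup.card_dvd_of_le hPle
        rwa [Nat.card_congr (Subgroup.subgroupOfEquivOfLe hPK).toEquiv, hPc] at this
      have hq_dvd : q ^ a ∣ Nat.card NX0 := by
        have := Subgroup.card_dvd_of_le (hNX0 ▸ Subgroup.le_normalizer : (X0 : Subgroup K) ≤ NX0)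
        rwa [hX0] at this
      obtain ⟨r, hr⟩ := Nat.Coprime.mul_dvd_of_dvd_of_dvd hcop hp_dvd hq_dvd
      have hmul := Subgroup.card_mul_index NX0
      rw [hr, hK, hc] at hmul
      refine ⟨r, ?_⟩
      have hpos : 0 < p * q ^ a := Nat.mul_pos hp.out.pos (pow_pos hq.out.pos a)
      apply Nat.eq_of_mul_eq_mul_left hpos
      have e1 : p * q ^ a * c' = p * (q ^ a * c') := by ring
      rw [e1, ← hmul]; ring
    · exact card_sylow_subgroup_mod (p := q) K
  haveI hsub : Subsingleton (Sylow q K) := (Nat.card_eq_one_iff_unique.mp hone).1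
  set X : Subgroup G := (X0 : Subgroup K).map K.subtype with hXdef
  have hXc : Nat.card X = q ^ a := by
    rw [hXdef, Subgroup.card_map_of_injective (Subgroup.subtype_injective _), hX0]
  have hXK : X ≤ K := Subgroup.map_subtype_le _
  have huni : ∀ Y : Subgroup G, Y ≤ K → Nat.card Y = q ^ a → Y = X := by
    intro Y hYK hYc
    have hY' : Nat.card (Y.subgroupOf K) = q ^ (Nat.card K).factorization q := by
      rw [Nat.card_congr (Subgroup.subgroupOfEquivOfLe hYK).toEquiv, hYc, ← hX0,
        Sylow.card_eq_multiplicity X0]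
    have heq : Sylow.ofCard (Y.subgroupOf K) hY' = X0 := Subsingleton.elim _ _
    have heq' : Y.subgroupOf K = (X0 : Subgroup K) := by
      rw [← heq]; rfl
    rw [hXdef, ← heq', Subgroup.map_subgroupOf_eq_of_le hYK]
  have hconj : ∀ g ∈ N, ∀ h ∈ X, g * h * g⁻¹ ∈ X := by
    intro g hg h hh
    have hY : X.map (MulAut.conj g).toMonoidHom = X := by
      apply huni
      · intro y hy
        rw [Subgroup.mem_map] at hy
        obtain ⟨x, hx, rfl⟩ := hy
        exact conj_mem_centralizer (P : Subgroup G) hg (hXK hx)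
      · rw [Subgroup.card_map_of_injective (MulAut.conj g).injective, hXc]
    rw [← hY, Subgroup.mem_map]
    exact ⟨h, hh, rfl⟩
  set M : Subgroup G := Subgroup.normalizer (X : Set G) with hMdef
  have hNM : N ≤ M := by
    intro g hg
    rw [hMdef, Subgroup.mem_normalizer_iff]
    intro h
    constructor
    · exact hconj g hg h
    · intro hh
      have := hconj g⁻¹ (N.inv_mem hg) _ hh
      have e1 : g⁻¹ * (g * h * g⁻¹) * g⁻¹⁻¹ = h := by group
      rwa [e1] at this
  have h1 := card_eq_card_normalizer_mul P M hNM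
  have h2 := card_sylow_subgroup_mod (p := p) M
  rw [← hNdef, hN] at h1
  have h3 : Nat.card M ∣ Nat.card G := Subgroup.card_subgroup_dvd_card M
  have h4 : q ^ (a + 1) ∣ Nat.card M := Sylow.prime_pow_dvd_card_normalizer hqG hXc
  refine ⟨Nat.card (Sylow p M), ?_, h2, ?_, by rw [← h1]; exact h4⟩
  · rw [h1, hsd.card_G] at h3
    have hpos : 0 < p * (e * c) := by
      rcases Nat.eq_zero_or_pos (p * (e * c)) with h0 | h0
      · rw [h0, zero_mul] at h1
        have := Nat.card_pos (α := M)
        omega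
      · exact h0
    apply Nat.dvd_of_mul_dvd_mul_left hpos
    have e1 : p * (k * (e * c)) = p * (e * c) * k := by ring
    rwa [e1] at h3
  · intro hnk
    have hMG : Nat.card M = Nat.card G := by
      rw [h1, hnk, hsd.card_G]; ring
    have hMtop : M = ⊤ := Subgroup.eq_top_of_card_eq M hMG
    have hXn : X.Normal := Subgroup.normalizer_eq_top_iff.mp hMtop
    have hq1 : 1 < q ^ a := Nat.one_lt_pow (by omega) hq.out.one_lt
    rcases hXn.eq_bot_or_eq_top with hb | ht
    · rw [hb, Subgroup.card_bot] at hXc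
      omega
    · rw [ht, Subgroup.card_top, hsd.card_G] at hXc
      have hpd : p ∣ q ^ a := by rw [← hXc]; exact Dvd.intro _ rfl
      have := hp.out.dvd_of_dvd_pow hpd
      exact hqp ((Nat.prime_dvd_prime_iff_eq hp.out hq.out).mp this).symm

/-- `n_5 ≠ 21` -/
theorem sd_ne_21 {k e c : ℕ} [Fact (Nat.Prime 5)] (hsd : IsSD G 5 k e c) : k ≠ 21 := by
  intro h
  have := hsd.card_sylow
  rw [h] at this
  exact Cfsg.Agent.S1010.result this

/-! ### Boolean versions of the rules and a stronger certificate -/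

/-- some `f < k` has `f ≡ 1 (mod p)` and `f ≡ k (mod 4)` -/
def parityOk (p k : ℕ) : Bool :=
  (List.range k).any fun f => decide (f % p = 1) && decide (f % 4 = k % 4)

theorem parityOk_of [IsSimpleGroup G] (hG : ¬ IsMulCommutative G) {p k e c : ℕ}
    [hp : Fact p.Prime] (hsd : IsSD G p k e c) (hc : 2 ∣ c) : parityOk p k = true := by
  obtain ⟨f, m, hm0, hm, hf⟩ := sd_parity hG hsd hc
  unfold parityOk
  rw [List.any_eq_true]
  refine ⟨f, List.mem_range.mpr (by omega), ?_⟩
  rw [Bool.and_eq_true, decide_eq_true_eq, decide_eq_true_eq]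
  exact ⟨hf, by omega⟩

/-- premise of rule NX for the prime `q` and exponent `a` -/
def nxPrem (n p c q a : ℕ) : Bool :=
  decide q.Prime && decide (q ≠ p) && decide (0 < a) && decide (q ^ a ∣ c) &&
    !(decide (q ∣ c / q ^ a)) && uniq q (c / q ^ a) && decide (q ^ (a + 1) ∣ n)

/-- conclusion of rule NX -/
def nxConc (p k e c q a : ℕ) : Bool :=
  (List.range k).any fun n' =>
    decide (n' ∣ k) && decide (n' % p = 1) && decide (q ^ (a + 1) ∣ p * (e * c) * n')

def nxOk (n p k e c : ℕ) : Bool :=
  (List.range (c + 1)).all fun q => (List.range 8).all fun a =>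
    !(nxPrem n p c q a) || nxConc p k e c q a

theorem nxOk_of [IsSimpleGroup G] (hG : ¬ IsMulCommutative G) {n p k e c : ℕ}
    [hp : Fact p.Prime] (hsd : IsSD G p k e c) (hn : Nat.card G = n) :
    nxOk n p k e c = true := by
  unfold nxOk
  rw [List.all_eq_true]
  intro q _
  rw [List.all_eq_true]
  intro a _
  by_cases hprem : nxPrem n p c q a = true
  · rw [hprem, Bool.not_true, Bool.false_or]
    unfold nxPrem at hprem
    simp only [Bool.and_eq_true, decide_eq_true_eq, Bool.not_eq_true', decide_eq_false_iff_not]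
      at hprem
    obtain ⟨⟨⟨⟨⟨⟨hqpr, hqp⟩, ha⟩, hqa⟩, hqc'⟩, hun⟩, hqn⟩ := hprem
    haveI : Fact q.Prime := ⟨hqpr⟩
    have hc0 : 0 < c := by
      rcases Nat.eq_zero_or_pos c with h0 | h0
      · exfalso
        have := hsd.card_C (Classical.arbitrary (Sylow p G))
        rw [h0, mul_zero] at this
        have hpos := Nat.card_pos (α := Subgroup.centralizer
          (((Classical.arbitrary (Sylow p G) : Sylow p G) : Subgroup G) : Set G))
        omega
      · exact h0
    have hcq : c = q ^ a * (c / q ^ a) := (Nat.mul_div_cancel' hqa).symm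
    have hc'pos : 0 < c / q ^ a :=
      Nat.div_pos (Nat.le_of_dvd hc0 hqa) (pow_pos hqpr.pos a)
    obtain ⟨n', h1, h2, h3, h4⟩ := sd_nx hG hsd q a (c / q ^ a) hqp ha hcq hqc'
      (uniq_sound hc'pos hun) (by rw [hn]; exact hqn)
    unfold nxConc
    rw [List.any_eq_true]
    have hk0 : 0 < k := by
      have := hsd.card_sylow
      have hpos := Nat.card_pos (α := Sylow p G)
      omega
    refine ⟨n', List.mem_range.mpr (lt_of_le_of_ne (Nat.le_of_dvd hk0 h1) h3), ?_⟩
    simp only [Bool.and_eq_true, decide_eq_true_eq]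
    exact ⟨⟨h1, h2⟩, h4⟩
  · rw [Bool.not_eq_true] at hprem
    rw [hprem]; rfl

/-- all the unary rules -/
def ruleOk (n p : ℕ) (t : ℕ × ℕ × ℕ) : Bool :=
  (!(decide (2 ∣ t.2.2)) || parityOk p t.1) && (decide (8 ∣ n) || !(decide (4 ∣ t.2.1))) &&
    !(decide (p = 5) && decide (t.1 = 21)) && nxOk n p t.1 t.2.1 t.2.2

theorem ruleOk_of [IsSimpleGroup G] (hG : ¬ IsMulCommutative G) {n p : ℕ} {t : ℕ × ℕ × ℕ}
    (hn : Nat.card G = n) (h : IsSD' G (p, t)) : ruleOk n p t = true := by
  obtain ⟨hp, hsd⟩ := h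
  obtain ⟨k, e, c⟩ := t
  change @IsSD G _ p hp k e c at hsd
  unfold ruleOk
  simp only [Bool.and_eq_true, Bool.or_eq_true, Bool.not_eq_true', decide_eq_true_eq,
    decide_eq_false_iff_not, Bool.and_eq_false_iff]
  refine ⟨⟨⟨?_, ?_⟩, ?_⟩, nxOk_of hG hsd hn⟩
  · by_cases hc : 2 ∣ c
    · exact Or.inr (parityOk_of hG hsd hc)
    · exact Or.inl hc
  · by_cases h8 : 8 ∣ n
    · exact Or.inl h8
    · exact Or.inr (sd_not_four_dvd hG (by rw [hn]; exact h8) hsd)
  · by_cases h5 : p = 5
    · subst h5
      exact Or.inr (sd_ne_21 hsd)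
    · exact Or.inl h5

/-- the candidate triples that pass the unary rules -/
def ftriples (n p : ℕ) : List (ℕ × ℕ × ℕ) := (triples n p).filter (ruleOk n p)

theorem exists_mem_ftriples [IsSimpleGroup G] (hG : ¬ IsMulCommutative G) (n p : ℕ)
    (hn : Nat.card G = n) (hp : p.Prime) (hpn : p ∣ n) (hpm : ¬ p ∣ n / p) (hm1 : 1 < n / p) :
    ∃ t ∈ ftriples n p, IsSD' G (p, t) := by
  obtain ⟨t, ht, hsd⟩ := exists_mem_triples hG n p hn hp hpn hpm hm1
  exact ⟨t, List.mem_filter.mpr ⟨ht, ruleOk_of hG hn hsd⟩, hsd⟩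

/-- the primes of the list divide `n` exactly once -/
def primesOk (n : ℕ) (ps : List ℕ) : Bool :=
  ps.all fun p => decide p.Prime && decide (p ∣ n) && !(decide (p ∣ n / p)) && decide (1 < n / p)

/-- **Stronger Sylow tuple certificate**: helper5's search on the filtered candidate lists. -/
theorem strong_kill [IsSimpleGroup G] (hG : ¬ IsMulCommutative G) (n : ℕ) (ps : List ℕ)
    (hps : primesOk n ps = true)
    (cert : search n (ps.map fun p => (p, ftriples n p)) [] = false) : Nat.card G ≠ n := by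
  intro hn
  have h := search_sound (G := G) n hn (ps.map fun p => (p, ftriples n p)) []
    (fun x hx => absurd hx List.not_mem_nil) ?_
  · rw [h] at cert
    exact absurd cert (by decide)
  · intro pt hpt
    rw [List.mem_map] at hpt
    obtain ⟨p, hp, rfl⟩ := hpt
    unfold primesOk at hps
    rw [List.all_eq_true] at hps
    have h1 := hps p hp
    simp only [Bool.and_eq_true, decide_eq_true_eq, Bool.not_eq_true', decide_eq_false_iff_not]
      at h1
    obtain ⟨⟨⟨hpp, hpn⟩, hpm⟩, hm1⟩ := h1
    exact exists_mem_ftriples hG n p hn hpp hpn hpm hm1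

end Cfsg.Agent.Lib.Helper18.SylowRules
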