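import Mathlib
import Cfsg.Prelude.Def_GeometricClasses

/-!
# Aschbacher hub (S5630): the C3 block (helper18)

* `Schur`: the commutant of an irreducible set of matrices is a division algebra; over a finite field it is a field
  (little Wedderburn).
* `subfieldOfDegree E r`: the elements `x` of a field subalgebra `E` with `x ^ (q ^ r) = x`; for `r ∣ finrank F E` it is a
  field subalgebra of degree `r`, normalised by everything that normalises `E`.
* `exists_fieldSubalgebra_of_not_absIrred`: irreducible, not absolutely irreducible => commutes with a field subalgebra of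
  prime degree; `exists_C3`: the C3 member of `InLinearClass`.
-/

set_option autoImplicit false

namespace Cfsg.Agent.Lib.Helper18.AschC3

open Matrix Module Cfsg.Geo

variable {F : Type*} [Field F] {ι : Type} [Fintype ι] [DecidableEq ι]

/-! ### Schur's lemma -/

theorem commutant_mem_iff (S : Set (Matrix ι ι F)) (M : Matrix ι ι F) :
    M ∈ Subalgebra.centralizer F S ↔ ∀ s ∈ S, s * M = M * s :=
  Subalgebra.mem_centralizer_iff F

/-- Schur: a nonzero element of the commutant of an irreducible set is invertible, with inverse in the commutant -/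
theorem exists_inv_of_mem_commutant {S : Set (Matrix ι ι F)} (hirr : ActsIrreducibly S)
    {M : Matrix ι ι F} (hM : M ∈ Subalgebra.centralizer F S) (hM0 : M ≠ 0) :
    ∃ M' ∈ Subalgebra.centralizer F S, M * M' = 1 ∧ M' * M = 1 := by
  rw [commutant_mem_iff] at hM
  have hker : LinearMap.ker (Matrix.toLin' M) = ⊥ := by
    rcases hirr (LinearMap.ker (Matrix.toLin' M)) (by
      intro s hs v hv
      obtain ⟨w, hw, rfl⟩ := hv
      rw [SetLike.mem_coe] at hw
      rw [LinearMap.mem_ker] at hw ⊢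
      rw [Matrix.toLin'_apply] at hw ⊢
      rw [Matrix.toLin'_apply, Matrix.mulVec_mulVec, ← hM s hs, ← Matrix.mulVec_mulVec, hw,
        Matrix.mulVec_zero]) with h | h
    · exact h
    · exfalso
      apply hM0
      have : Matrix.toLin' M = 0 := LinearMap.ker_eq_top.1 h
      exact (Matrix.toLin'.map_eq_zero_iff).1 this
  have hunit : IsUnit (Matrix.toLin' M) := (LinearMap.isUnit_iff_ker_eq_bot _).2 hker
  have hunitM : IsUnit M := by
    have := hunit.map (Matrix.toLinAlgEquiv'.symm : ((ι → F) →ₗ[F] (ι → F)) ≃ₐ[F] Matrix ι ι F)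
    simpa using this
  obtain ⟨u, rfl⟩ := hunitM
  refine ⟨((u⁻¹ : (Matrix ι ι F)ˣ) : Matrix ι ι F), ?_, by simp, by simp⟩
  rw [commutant_mem_iff]
  intro s hs
  have h1 := hM s hs
  calc s * ((u⁻¹ : (Matrix ι ι F)ˣ) : Matrix ι ι F)
      = ((u⁻¹ : (Matrix ι ι F)ˣ) : Matrix ι ι F) * ((u : Matrix ι ι F) * s) *
          ((u⁻¹ : (Matrix ι ι F)ˣ) : Matrix ι ι F) := by
        rw [← mul_assoc, Units.inv_mul, one_mul]
    _ = ((u⁻¹ : (Matrix ι ι F)ˣ) : Matrix ι ι F) * (s * (u : Matrix ι ι F)) *
          ((u⁻¹ : (Matrix ι ι F)ˣ) : Matrix ι ι F) := by rw [h1]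
    _ = ((u⁻¹ : (Matrix ι ι F)ˣ) : Matrix ι ι F) * s := by
        rw [mul_assoc, mul_assoc, Units.mul_inv, mul_one]

/-! ### field subalgebras as fields -/

/-- a field subalgebra of the matrix algebra, as a field (same construction as `Helper7.SpExt.fieldOf`) -/
noncomputable abbrev fieldOf [Nonempty ι] {d : ℕ} (E : Subalgebra F (Matrix ι ι F))
    (hE : IsFieldSubalgebra d E) : Field ↥E :=
  IsField.toField (R := ↥E)
    { exists_pair_ne := by
        refine ⟨0, 1, ?_⟩
        intro h
        have := congrArg Subtype.val h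
        exact zero_ne_one this
      mul_comm := fun a b => Subtype.ext (hE.comm a a.2 b b.2)
      mul_inv_cancel := by
        intro a ha
        have ha' : (a : Matrix ι ι F) ≠ 0 := fun h => ha (Subtype.ext h)
        obtain ⟨y, hy, hxy⟩ := hE.inv a a.2 ha'
        exact ⟨⟨y, hy⟩, Subtype.ext hxy⟩ }

section finite
variable [Fintype F]

/-- the commutant of an irreducible set over a finite field is commutative (little Wedderburn) -/
theorem commutant_comm [Nonempty ι] {S : Set (Matrix ι ι F)} (hirr : ActsIrreducibly S) :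
    ∀ x ∈ Subalgebra.centralizer F S, ∀ y ∈ Subalgebra.centralizer F S, x * y = y * x := by
  haveI : Nontrivial ↥(Subalgebra.centralizer F S) :=
    ⟨⟨0, 1, fun h => by have := congrArg Subtype.val h; exact zero_ne_one this⟩⟩
  letI : DivisionRing ↥(Subalgebra.centralizer F S) := DivisionRing.ofIsUnitOrEqZero (fun a => by
    by_cases ha : a = 0
    · exact Or.inr ha
    · left
      have ha' : (a : Matrix ι ι F) ≠ 0 := fun h => ha (Subtype.ext h)
      obtain ⟨M', hM', h1, h2⟩ := exists_inv_of_mem_commutant hirr a.2 ha'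
      exact ⟨⟨a, ⟨M', hM'⟩, Subtype.ext h1, Subtype.ext h2⟩, rfl⟩)
  haveI : Finite ↥(Subalgebra.centralizer F S) := inferInstance
  letI := littleWedderburn ↥(Subalgebra.centralizer F S)
  intro x hx y hy
  have := mul_comm (⟨x, hx⟩ : ↥(Subalgebra.centralizer F S)) ⟨y, hy⟩
  exact congrArg Subtype.val this

theorem commutant_isFieldSubalgebra [Nonempty ι] {S : Set (Matrix ι ι F)} (hirr : ActsIrreducibly S) :
    IsFieldSubalgebra (finrank F (Subalgebra.centralizer F S)) (Subalgebra.centralizer F S) :=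
  ⟨commutant_comm hirr, fun x hx hx0 => by
    obtain ⟨y, hy, h1, _⟩ := exists_inv_of_mem_commutant hirr hx hx0
    exact ⟨y, hy, h1⟩, rfl⟩

end finite

/-! ### the subfield of degree `r` -/

section subfield
variable [Fintype F] [Nonempty ι]

/-- the subalgebra `{x ∈ E | x ^ (q ^ r) = x}` of a field subalgebra `E` -/
noncomputable def subfieldOfDegree {d : ℕ} (E : Subalgebra F (Matrix ι ι F)) (hE : IsFieldSubalgebra d E)
    (r : ℕ) : Subalgebra F (Matrix ι ι F) :=
  letI := fieldOf E hE
  ((IntermediateField.fixedField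
    (Subgroup.zpowers ((FiniteField.frobeniusAlgEquivOfAlgebraic F ↥E) ^ r))).toSubalgebra).map E.val

theorem mem_subfieldOfDegree_iff {d : ℕ} (E : Subalgebra F (Matrix ι ι F)) (hE : IsFieldSubalgebra d E)
    (r : ℕ) (x : Matrix ι ι F) :
    x ∈ subfieldOfDegree E hE r ↔ x ∈ E ∧ x ^ (Fintype.card F ^ r) = x := by
  letI := fieldOf E hE
  unfold subfieldOfDegree
  rw [Subalgebra.mem_map]
  have key : ∀ y : ↥E, y ∈ IntermediateField.fixedField
      (Subgroup.zpowers ((FiniteField.frobeniusAlgEquivOfAlgebraic F ↥E) ^ r)) ↔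
      y ^ (Fintype.card F ^ r) = y := by
    intro y
    rw [IntermediateField.mem_fixedField_iff]
    have hval : ((FiniteField.frobeniusAlgEquivOfAlgebraic F ↥E) ^ r) y = y ^ (Fintype.card F ^ r) := by
      rw [AlgEquiv.coe_pow, FiniteField.coe_frobeniusAlgEquivOfAlgebraic_iterate]
    constructor
    · intro h
      rw [← hval]
      exact h _ (Subgroup.mem_zpowers _)
    · intro h f hf
      have h1 : ((FiniteField.frobeniusAlgEquivOfAlgebraic F ↥E) ^ r) y = y := by rw [hval, h]
      have h2 : ((FiniteField.frobeniusAlgEquivOfAlgebraic F ↥E) ^ r) ∈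
          MulAction.stabilizer (↥E ≃ₐ[F] ↥E) y := by
        rw [MulAction.mem_stabilizer_iff, AlgEquiv.smul_def]
        exact h1
      have h3 := (Subgroup.zpowers_le.2 h2) hf
      rw [MulAction.mem_stabilizer_iff, AlgEquiv.smul_def] at h3
      exact h3
  constructor
  · rintro ⟨y, hy, rfl⟩
    refine ⟨y.2, ?_⟩
    have := (key y).1 hy
    have h2 := congrArg Subtype.val this
    simpa using h2
  · rintro ⟨hx, hpow⟩
    refine ⟨⟨x, hx⟩, (key ⟨x, hx⟩).2 (Subtype.ext ?_), rfl⟩
    simpa using hpow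

theorem subfieldOfDegree_le {d : ℕ} (E : Subalgebra F (Matrix ι ι F)) (hE : IsFieldSubalgebra d E) (r : ℕ) :
    subfieldOfDegree E hE r ≤ E := fun x hx => ((mem_subfieldOfDegree_iff E hE r x).1 hx).1

theorem finrank_subfieldOfDegree {d : ℕ} (E : Subalgebra F (Matrix ι ι F)) (hE : IsFieldSubalgebra d E)
    {r : ℕ} (hr : r ∣ d) : finrank F (subfieldOfDegree E hE r) = r := by
  letI := fieldOf E hE
  have hdE : finrank F ↥E = d := hE.finrank_eq
  have hdpos : 0 < d := by
    rw [← hdE]
    exact Module.finrank_pos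
  have hr0 : r ≠ 0 := by
    rintro rfl
    rw [zero_dvd_iff] at hr
    omega
  set φ := FiniteField.frobeniusAlgEquivOfAlgebraic F ↥E with hφ
  have hord : orderOf φ = d := by
    rw [hφ, FiniteField.orderOf_frobeniusAlgEquivOfAlgebraic, hdE]
  have hordr : orderOf (φ ^ r) = d / r := by
    rw [orderOf_pow' φ hr0, hord, Nat.gcd_eq_right hr]
  set K₁ := IntermediateField.fixedField (Subgroup.zpowers (φ ^ r)) with hK₁
  have h1 : finrank ↥K₁ ↥E = d / r := by
    rw [hK₁, IntermediateField.finrank_fixedField_eq_card, Nat.card_zpowers, hordr]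
  have h2 : finrank F ↥K₁ * finrank ↥K₁ ↥E = d := by
    rw [Module.finrank_mul_finrank, hdE]
  have h3 : finrank F ↥K₁ = r := by
    rw [h1] at h2
    obtain ⟨k, rfl⟩ := hr
    have hrpos : 0 < r := Nat.pos_of_ne_zero hr0
    rw [Nat.mul_div_cancel_left k hrpos] at h2
    have hk : 0 < k := by
      rcases Nat.eq_zero_or_pos k with h | h
      · subst h; omega
      · exact h
    exact Nat.eq_of_mul_eq_mul_right hk h2
  have h4 : finrank F (subfieldOfDegree E hE r) = finrank F ↥K₁.toSubalgebra := by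
    unfold subfieldOfDegree
    exact (LinearEquiv.finrank_eq
      (Subalgebra.equivMapOfInjective K₁.toSubalgebra E.val Subtype.val_injective).toLinearEquiv).symm
  rw [h4]
  exact h3

theorem subfieldOfDegree_isFieldSubalgebra {d : ℕ} (E : Subalgebra F (Matrix ι ι F))
    (hE : IsFieldSubalgebra d E) {r : ℕ} (hr : r ∣ d) :
    IsFieldSubalgebra r (subfieldOfDegree E hE r) := by
  refine ⟨fun x hx y hy => hE.comm x (subfieldOfDegree_le E hE r hx) y (subfieldOfDegree_le E hE r hy),
    ?_, finrank_subfieldOfDegree E hE hr⟩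
  intro x hx hx0
  obtain ⟨hxE, hxp⟩ := (mem_subfieldOfDegree_iff E hE r x).1 hx
  obtain ⟨y, hy, hxy⟩ := hE.inv x hxE hx0
  refine ⟨y, (mem_subfieldOfDegree_iff E hE r y).2 ⟨hy, ?_⟩, hxy⟩
  have hc : Commute x y := hE.comm x hxE y hy
  have h1 : x * y ^ (Fintype.card F ^ r) = 1 := by
    have := hc.mul_pow (Fintype.card F ^ r)
    rw [hxy, one_pow, hxp] at this
    exact this.symm
  have hyx : y * x = 1 := by rw [← hc.eq, hxy]
  calc y ^ (Fintype.card F ^ r) = (y * x) * y ^ (Fintype.card F ^ r) := by rw [hyx, one_mul]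
    _ = y * (x * y ^ (Fintype.card F ^ r)) := by rw [mul_assoc]
    _ = y := by rw [h1, mul_one]

/-- everything normalising a field subalgebra `E` normalises its subfield of degree `r` -/
theorem normalizer_le_normalizer_subfieldOfDegree {d : ℕ} (E : Subalgebra F (Matrix ι ι F))
    (hE : IsFieldSubalgebra d E) (r : ℕ) :
    subalgebraNormalizer E ≤ subalgebraNormalizer (subfieldOfDegree E hE r) := by
  intro g hg k
  have hgE : (k ∈ E ↔ (g : Matrix ι ι F) * k * ((g⁻¹ : GL ι F) : Matrix ι ι F) ∈ E) := hg k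
  rw [mem_subfieldOfDegree_iff, mem_subfieldOfDegree_iff, ← hgE, Units.conj_pow]
  constructor
  · rintro ⟨h1, h2⟩
    exact ⟨h1, by rw [h2]⟩
  · rintro ⟨h1, h2⟩
    refine ⟨h1, ?_⟩
    have h3 := congrArg (fun m => ((g⁻¹ : GL ι F) : Matrix ι ι F) * m * (g : Matrix ι ι F)) h2
    simp only [← mul_assoc, Units.inv_mul, one_mul] at h3
    simpa [mul_assoc] using h3

/-- **(G5)** an irreducible, not absolutely irreducible set of matrices over a finite field commutes with a field
subalgebra of prime degree -/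
theorem exists_fieldSubalgebra_of_not_absIrred {S : Set (Matrix ι ι F)} (hirr : ActsIrreducibly S)
    (hnot : ¬ ActsAbsolutelyIrreducibly S) :
    ∃ (r : ℕ) (K : Subalgebra F (Matrix ι ι F)), r.Prime ∧ IsFieldSubalgebra r K ∧
      ∀ k ∈ K, ∀ s ∈ S, k * s = s * k := by
  have hE := commutant_isFieldSubalgebra hirr
  set E := Subalgebra.centralizer F S with hEdef
  obtain ⟨M, hMc, hMs⟩ : ∃ M : Matrix ι ι F, (∀ s ∈ S, M * s = s * M) ∧
      ¬ ∃ c : F, M = c • (1 : Matrix ι ι F) := by
    by_contra hcon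
    apply hnot
    refine ⟨hirr, fun M hM => ?_⟩
    by_contra hc
    exact hcon ⟨M, hM, hc⟩
  have hME : M ∈ E := (commutant_mem_iff S M).2 (fun s hs => (hMc s hs).symm)
  have hd1 : finrank F ↥E ≠ 1 := by
    intro h1
    have h1ne : (1 : ↥E) ≠ 0 := by
      intro h
      have := congrArg Subtype.val h
      exact one_ne_zero this
    obtain ⟨c, hc⟩ := (finrank_eq_one_iff_of_nonzero' (1 : ↥E) h1ne).1 h1 ⟨M, hME⟩
    apply hMs
    refine ⟨c, ?_⟩
    have := congrArg Subtype.val hc
    simpa using this.symm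
  obtain ⟨r, hr, hrd⟩ := Nat.exists_prime_and_dvd hd1
  refine ⟨r, subfieldOfDegree E hE r, hr, subfieldOfDegree_isFieldSubalgebra E hE hrd, ?_⟩
  intro k hk s hs
  exact ((commutant_mem_iff S k).1 (subfieldOfDegree_le E hE r hk) s hs).symm

/-- a group commuting with a subalgebra normalises it -/
theorem le_normalizer_of_commute (H : Subgroup (GL ι F)) (K : Subalgebra F (Matrix ι ι F))
    (h : ∀ k ∈ K, ∀ s ∈ matrixSet H, k * s = s * k) : H ≤ subalgebraNormalizer K := by
  intro g hg k
  have hgS : (g : Matrix ι ι F) ∈ matrixSet H := ⟨g, hg, rfl⟩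
  have hinv : ∀ k' ∈ K, (g : Matrix ι ι F) * k' * ((g⁻¹ : GL ι F) : Matrix ι ι F) = k' := by
    intro k' hk'
    rw [← h k' hk' _ hgS, mul_assoc, Units.mul_inv, mul_one]
  constructor
  · intro hk
    rw [hinv k hk]
    exact hk
  · intro hk
    have hcomm := h _ hk _ hgS
    have e1 : (g : Matrix ι ι F) * k * ((g⁻¹ : GL ι F) : Matrix ι ι F) * (g : Matrix ι ι F) =
        (g : Matrix ι ι F) * k := by
      rw [mul_assoc, Units.inv_mul, mul_one]
    have e2 : (g : Matrix ι ι F) * k =
        (g : Matrix ι ι F) * ((g : Matrix ι ι F) * k * ((g⁻¹ : GL ι F) : Matrix ι ι F)) := by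
      rw [← hcomm, e1]
    have e3 : k = (g : Matrix ι ι F) * k * ((g⁻¹ : GL ι F) : Matrix ι ι F) := by
      have := congrArg (fun m => ((g⁻¹ : GL ι F) : Matrix ι ι F) * m) e2
      simp only [← mul_assoc, Units.inv_mul, one_mul] at this
      exact this
    rw [e3]
    exact hk

/-- **C3 exit**: an irreducible, not absolutely irreducible subgroup of `GL ι F` lies in the normaliser of a field
subalgebra of prime degree (the C3 member of `InLinearClass`). -/
theorem exists_C3 (H : Subgroup (GL ι F)) (hirr : ActsIrreducibly (matrixSet H))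
    (hnot : ¬ ActsAbsolutelyIrreducibly (matrixSet H)) :
    ∃ (r : ℕ) (K : Subalgebra F (Matrix ι ι F)), r.Prime ∧ IsFieldSubalgebra r K ∧
      H ≤ subalgebraNormalizer K := by
  obtain ⟨r, K, hr, hK, hc⟩ := exists_fieldSubalgebra_of_not_absIrred hirr hnot
  exact ⟨r, K, hr, hK, le_normalizer_of_commute H K hc⟩

/-- **(G5')** a group normalising a field subalgebra of degree `d ≥ 2` normalises a field subalgebra of prime degree
(the `Z(C(N))` exit of the Clifford trichotomy). -/
theorem exists_C3_of_normalizes_field (H : Subgroup (GL ι F)) {d : ℕ} (E : Subalgebra F (Matrix ι ι F))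
    (hE : IsFieldSubalgebra d E) (hd : 2 ≤ d) (hH : H ≤ subalgebraNormalizer E) :
    ∃ (r : ℕ) (K : Subalgebra F (Matrix ι ι F)), r.Prime ∧ IsFieldSubalgebra r K ∧ K ≤ E ∧
      H ≤ subalgebraNormalizer K := by
  obtain ⟨r, hr, hrd⟩ := Nat.exists_prime_and_dvd (show d ≠ 1 by omega)
  exact ⟨r, subfieldOfDegree E hE r, hr, subfieldOfDegree_isFieldSubalgebra E hE hrd,
    subfieldOfDegree_le E hE r, hH.trans (normalizer_le_normalizer_subfieldOfDegree E hE r)⟩

end subfield

/-! ### normalisers of commutants -/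

/-- `g` normalises the set `X` of matrices -/
def NormalizesSet (g : GL ι F) (X : Set (Matrix ι ι F)) : Prop :=
  (∀ x ∈ X, (g : Matrix ι ι F) * x * ((g⁻¹ : GL ι F) : Matrix ι ι F) ∈ X) ∧
  (∀ x ∈ X, ((g⁻¹ : GL ι F) : Matrix ι ι F) * x * (g : Matrix ι ι F) ∈ X)

theorem conj_mem_commutant {g : GL ι F} {X : Set (Matrix ι ι F)}
    (hg : ∀ x ∈ X, ((g⁻¹ : GL ι F) : Matrix ι ι F) * x * (g : Matrix ι ι F) ∈ X) {M : Matrix ι ι F}
    (hM : M ∈ Subalgebra.centralizer F X) :
    (g : Matrix ι ι F) * M * ((g⁻¹ : GL ι F) : Matrix ι ι F) ∈ Subalgebra.centralizer F X := by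
  rw [commutant_mem_iff] at hM ⊢
  intro x hx
  have h1 := hM _ (hg x hx)
  have e1 : x = (g : Matrix ι ι F) * (((g⁻¹ : GL ι F) : Matrix ι ι F) * x * (g : Matrix ι ι F)) *
      ((g⁻¹ : GL ι F) : Matrix ι ι F) := by
    simp only [← mul_assoc, Units.mul_inv, one_mul]
    rw [mul_assoc, Units.mul_inv, mul_one]
  calc x * ((g : Matrix ι ι F) * M * ((g⁻¹ : GL ι F) : Matrix ι ι F))
      = (g : Matrix ι ι F) * ((((g⁻¹ : GL ι F) : Matrix ι ι F) * x * (g : Matrix ι ι F)) * M) *
          ((g⁻¹ : GL ι F) : Matrix ι ι F) := by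
        conv_lhs => rw [e1]
        simp only [mul_assoc]
        rw [← mul_assoc ((g⁻¹ : GL ι F) : Matrix ι ι F) (g : Matrix ι ι F), Units.inv_mul, one_mul]
    _ = (g : Matrix ι ι F) * (M * (((g⁻¹ : GL ι F) : Matrix ι ι F) * x * (g : Matrix ι ι F))) *
          ((g⁻¹ : GL ι F) : Matrix ι ι F) := by rw [h1]
    _ = (g : Matrix ι ι F) * M * ((g⁻¹ : GL ι F) : Matrix ι ι F) * x := by
        simp only [mul_assoc]
        rw [Units.mul_inv, mul_one]

/-- an element normalising `X` normalises the commutant of `X` -/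
theorem mem_normalizer_commutant {g : GL ι F} {X : Set (Matrix ι ι F)} (hg : NormalizesSet g X) :
    g ∈ subalgebraNormalizer (Subalgebra.centralizer F X) := by
  intro k
  constructor
  · intro hk
    exact conj_mem_commutant hg.2 hk
  · intro hk
    have hg' : ∀ x ∈ X, (((g⁻¹)⁻¹ : GL ι F) : Matrix ι ι F) * x * ((g⁻¹ : GL ι F) : Matrix ι ι F) ∈ X := by
      intro x hx
      rw [inv_inv]
      exact hg.1 x hx
    have h2 := conj_mem_commutant (g := g⁻¹) hg' hk
    rw [inv_inv] at h2
    have e : ((g⁻¹ : GL ι F) : Matrix ι ι F) *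
        ((g : Matrix ι ι F) * k * ((g⁻¹ : GL ι F) : Matrix ι ι F)) * (g : Matrix ι ι F) = k := by
      simp only [← mul_assoc, Units.inv_mul, one_mul]
      rw [mul_assoc, Units.inv_mul, mul_one]
    rw [e] at h2
    exact h2

end Cfsg.Agent.Lib.Helper18.AschC3
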