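import Mathlib
import Cfsg.Prelude.Def_GeometricClasses
import Cfsg.Agent.Lib.Helper7.AschDefs
import Cfsg.Agent.Lib.Helper7.AschWrap
import Cfsg.Agent.Lib.Helper18.AschC3

/-!
# S5630 hub: block I2 (`inClass_of_not_absIrr`) and CORE-SCHa/SCHb/FFa with the exact stub signatures of
`Lib/Helper7/AschCore.lean` / `AschTop.lean` (helper18), from `Lib/Helper18/AschC3.lean`.
-/

set_option autoImplicit false

namespace Cfsg.Agent.Lib.Helper18.S5630I2

open Matrix Cfsg.Geo Cfsg.Agent.Lib.Helper7.Asch Cfsg.Agent.Lib.Helper18.AschC3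

variable {F : Type*} [Field F] {n : ℕ}

section general

variable {κ : Type} [Fintype κ] [DecidableEq κ]

/-- **CORE-SCHa** -/
theorem exists_inv_of_mem_centralizer (S : Set (Matrix κ κ F)) (h : ActsIrreducibly S) (x : Matrix κ κ F)
    (hx : ∀ s ∈ S, x * s = s * x) (h0 : x ≠ 0) :
    ∃ y : Matrix κ κ F, (∀ s ∈ S, y * s = s * y) ∧ x * y = 1 ∧ y * x = 1 := by
  have hxE : x ∈ Subalgebra.centralizer F S := (commutant_mem_iff S x).2 (fun s hs => (hx s hs).symm)
  obtain ⟨y, hy, h1, h2⟩ := exists_inv_of_mem_commutant h hxE h0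
  exact ⟨y, fun s hs => ((commutant_mem_iff S y).1 hy s hs).symm, h1, h2⟩

/-- **CORE-SCHb** -/
theorem centralizer_comm [Fintype F] (S : Set (Matrix κ κ F)) (h : ActsIrreducibly S) (x y : Matrix κ κ F)
    (hx : ∀ s ∈ S, x * s = s * x) (hy : ∀ s ∈ S, y * s = s * y) : x * y = y * x := by
  rcases isEmpty_or_nonempty κ with he | hne
  · exact Subsingleton.elim _ _
  · exact commutant_comm h x ((commutant_mem_iff S x).2 (fun s hs => (hx s hs).symm)) y
      ((commutant_mem_iff S y).2 (fun s hs => (hy s hs).symm))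

/-- **CORE-FFa** -/
theorem exists_prime_field_subalgebra [Fintype F] (E : Subalgebra F (Matrix κ κ F))
    (hcomm : ∀ x ∈ E, ∀ y ∈ E, x * y = y * x) (hinv : ∀ x ∈ E, x ≠ 0 → ∃ y ∈ E, x * y = 1)
    (hne : ∃ x ∈ E, ∀ c : F, x ≠ c • (1 : Matrix κ κ F)) :
    ∃ (r : ℕ) (K : Subalgebra F (Matrix κ κ F)), r.Prime ∧ IsFieldSubalgebra r K ∧
      (∀ x, x ∈ K ↔ x ∈ E ∧ x ^ (Fintype.card F ^ r) = x) := by
  rcases isEmpty_or_nonempty κ with he | hnek
  · exfalso
    obtain ⟨x, _, hx⟩ := hne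
    exact hx 0 (Subsingleton.elim _ _)
  have hE : IsFieldSubalgebra (Module.finrank F ↥E) E := ⟨hcomm, hinv, rfl⟩
  obtain ⟨M, hME, hMs⟩ := hne
  have hd1 : Module.finrank F ↥E ≠ 1 := by
    intro h1
    have h1ne : (1 : ↥E) ≠ 0 := by
      intro h
      have := congrArg Subtype.val h
      exact one_ne_zero this
    obtain ⟨c, hc⟩ := (finrank_eq_one_iff_of_nonzero' (1 : ↥E) h1ne).1 h1 ⟨M, hME⟩
    apply hMs c
    have := congrArg Subtype.val hc
    simpa using this.symm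
  obtain ⟨r, hr, hrd⟩ := Nat.exists_prime_and_dvd hd1
  exact ⟨r, subfieldOfDegree E hE r, hr, subfieldOfDegree_isFieldSubalgebra E hE hrd,
    fun x => mem_subfieldOfDegree_iff E hE r x⟩

/-- consequence of the canonical description: whoever normalises `E` normalises `K` -/
theorem normalizer_le_of_canonical [Fintype F] (E K : Subalgebra F (Matrix κ κ F)) (N : ℕ)
    (hK : ∀ x, x ∈ K ↔ x ∈ E ∧ x ^ N = x) : subalgebraNormalizer E ≤ subalgebraNormalizer K := by
  intro g hg k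
  have hgE : (k ∈ E ↔ (g : Matrix κ κ F) * k * ((g⁻¹ : GL κ F) : Matrix κ κ F) ∈ E) := hg k
  rw [hK, hK, ← hgE, Units.conj_pow]
  constructor
  · rintro ⟨h1, h2⟩
    exact ⟨h1, by rw [h2]⟩
  · rintro ⟨h1, h2⟩
    refine ⟨h1, ?_⟩
    have h3 := congrArg (fun m => ((g⁻¹ : GL κ F) : Matrix κ κ F) * m * (g : Matrix κ κ F)) h2
    simp only [← mul_assoc, Units.inv_mul, one_mul] at h3
    simpa [mul_assoc] using h3

end general

/-- **I2** irreducible, not absolutely irreducible: class 3 -/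
theorem inClass_of_not_absIrr [Fintype F] (H : Subgroup (GL (Fin n) F)) (h1 : Irr H) (h2 : ¬ AbsIrr H) :
    InClass H := by
  rcases Nat.eq_zero_or_pos n with hn | hn
  · subst hn
    exfalso
    apply h2
    exact ⟨h1, fun M _ => ⟨0, Subsingleton.elim _ _⟩⟩
  haveI : Nonempty (Fin n) := ⟨⟨0, hn⟩⟩
  obtain ⟨r, K, hr, hK, hHK⟩ := exists_C3 H h1 h2
  exact InClass.of_field H r K hr hK hHK

end Cfsg.Agent.Lib.Helper18.S5630I2
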