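import Mathlib
import Cfsg.Prelude.Def_GeometricClasses
import Cfsg.Agent.Lib.Helper8.S5637FOBRIDGE

/-!
# General bridge for tensor-product rows inside `Ω(Q)` (helper18)

For an ARBITRARY function `Q : (ι → F) → F`, a bijection `e : ι ≃ Fin a × Fin b` and `P : GL ι F`, the pulled-back function
`pullQ Q e P x = Q (P *ᵥ (x ∘ e))` on `Fin a × Fin b → F` has its isometry group / `Ω` mapped onto those of `Q` by
`x ↦ P * glReindex e.symm x * P⁻¹`, and `kroneckerSubgroup` onto `tensorProductSubgroup`; hence `IsMaximalIn` transports.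
Also: swapping the two tensor factors.
-/

set_option autoImplicit false

namespace Cfsg.Agent.Lib.Helper18.TensOmegaBridge

open Matrix

variable {ι : Type} [Fintype ι] [DecidableEq ι] {F : Type*} [Field F]

/-- the pulled-back function on `κ → F` -/
def pullQ {κ : Type} (Q : (ι → F) → F) (e : ι ≃ κ) (P : GL ι F) : (κ → F) → F :=
  fun x => Q ((P : Matrix ι ι F) *ᵥ (x ∘ e))

theorem pullQ_apply {κ : Type} (Q : (ι → F) → F) (e : ι ≃ κ) (P : GL ι F) (x : κ → F) :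
    pullQ Q e P x = Q ((P : Matrix ι ι F) *ᵥ (x ∘ e)) := rfl

section

variable {κ : Type} [Fintype κ] [DecidableEq κ]

/-- the transport isomorphism `x ↦ P * glReindex e.symm x * P⁻¹` -/
def tr (e : ι ≃ κ) (P : GL ι F) : GL κ F ≃* GL ι F :=
  (Cfsg.Geo.glReindex (F := F) e.symm).trans (MulAut.conj P)

theorem tr_apply (e : ι ≃ κ) (P : GL ι F) (x : GL κ F) :
    tr e P x = P * Cfsg.Geo.glReindex (F := F) e.symm x * P⁻¹ := rfl

theorem glReindex_val (e : ι ≃ κ) (x : GL κ F) :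
    ((Cfsg.Geo.glReindex (F := F) e.symm x : GL ι F) : Matrix ι ι F) = (x : Matrix κ κ F).submatrix e e := rfl

theorem tr_mulVec (e : ι ≃ κ) (P : GL ι F) (x : GL κ F) (y : κ → F) :
    ((tr e P x : GL ι F) : Matrix ι ι F) *ᵥ ((P : Matrix ι ι F) *ᵥ (y ∘ e)) =
      (P : Matrix ι ι F) *ᵥ (((x : Matrix κ κ F) *ᵥ y) ∘ e) := by
  rw [tr_apply, Units.val_mul, Units.val_mul, Matrix.mulVec_mulVec, mul_assoc, mul_assoc,
    ← Units.val_mul (P⁻¹), inv_mul_cancel, Units.val_one, mul_one, ← Matrix.mulVec_mulVec, glReindex_val]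
  congr 1
  ext i
  simp only [Matrix.mulVec, dotProduct, Matrix.submatrix_apply, Function.comp_apply]
  exact (Equiv.sum_comp e (fun j => (x : Matrix κ κ F) (e i) j * y j))

theorem exists_pre (e : ι ≃ κ) (P : GL ι F) (u : ι → F) :
    ∃ y : κ → F, u = (P : Matrix ι ι F) *ᵥ (y ∘ e) := by
  refine ⟨(((P⁻¹ : GL ι F) : Matrix ι ι F) *ᵥ u) ∘ e.symm, ?_⟩
  have : ((((P⁻¹ : GL ι F) : Matrix ι ι F) *ᵥ u) ∘ e.symm) ∘ e = ((P⁻¹ : GL ι F) : Matrix ι ι F) *ᵥ u := by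
    ext i
    simp
  rw [this, Matrix.mulVec_mulVec, ← Units.val_mul, mul_inv_cancel, Units.val_one, Matrix.one_mulVec]

theorem mem_isometryGroup_iff (Q : (ι → F) → F) (g : GL ι F) :
    g ∈ Cfsg.isometryGroup F Q ↔ ∀ u, Q ((g : Matrix ι ι F) *ᵥ u) = Q u := by
  constructor
  · intro h u
    exact h u u
  · intro h u _
    exact h u

/-- `tr` maps the isometry group of the pulled-back function onto that of `Q`. -/
theorem tr_mem_isometryGroup_iff (Q : (ι → F) → F) (e : ι ≃ κ) (P : GL ι F) (x : GL κ F) :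
    tr e P x ∈ Cfsg.isometryGroup F Q ↔ x ∈ Cfsg.isometryGroup F (pullQ Q e P) := by
  rw [mem_isometryGroup_iff, mem_isometryGroup_iff]
  constructor
  · intro h y
    rw [pullQ_apply, pullQ_apply, ← tr_mulVec, h]
  · intro h u
    obtain ⟨y, rfl⟩ := exists_pre e P u
    rw [tr_mulVec]
    exact h y

theorem map_isometryGroup (Q : (ι → F) → F) (e : ι ≃ κ) (P : GL ι F) :
    (Cfsg.isometryGroup F (pullQ Q e P)).map (tr e P).toMonoidHom = Cfsg.isometryGroup F Q := by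
  ext g
  constructor
  · rintro ⟨x, hx, rfl⟩
    exact (tr_mem_isometryGroup_iff Q e P x).mpr hx
  · intro hg
    refine ⟨(tr e P).symm g, ?_, (tr e P).apply_symm_apply g⟩
    have h1 := (tr_mem_isometryGroup_iff Q e P ((tr e P).symm g)).mp (by
      rw [MulEquiv.apply_symm_apply]; exact hg)
    exact h1

theorem omegaGL_eq_commutator (Q : (ι → F) → F) :
    Cfsg.Geo.omegaGL Q = ⁅Cfsg.isometryGroup F Q, Cfsg.isometryGroup F Q⁆ := by
  unfold Cfsg.Geo.omegaGL Cfsg.Omega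
  rw [commutator_def, Subgroup.map_commutator, ← MonoidHom.range_eq_map, Subgroup.range_subtype]

theorem map_omegaGL (Q : (ι → F) → F) (e : ι ≃ κ) (P : GL ι F) :
    (Cfsg.Geo.omegaGL (pullQ Q e P)).map (tr e P).toMonoidHom = Cfsg.Geo.omegaGL Q := by
  rw [omegaGL_eq_commutator, omegaGL_eq_commutator, Subgroup.map_commutator, map_isometryGroup]

end

/-- **General bridge**: maximality of the Kronecker subgroup inside `Ω` of the pulled-back function gives maximality of the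
tensor-product subgroup inside `Ω(Q)`. -/
theorem bridge_omega (Q : (ι → F) → F) (n₁ n₂ : ℕ) (e : ι ≃ Fin n₁ × Fin n₂) (P : GL ι F)
    (h : Cfsg.Geo.IsMaximalIn (Cfsg.Geo.omegaGL (pullQ Q e P))
      (Cfsg.Geo.kroneckerSubgroup n₁ n₂ F ⊓ Cfsg.Geo.omegaGL (pullQ Q e P))) :
    Cfsg.Geo.IsMaximalIn (Cfsg.Geo.omegaGL Q)
      (Cfsg.Geo.tensorProductSubgroup n₁ n₂ e P ⊓ Cfsg.Geo.omegaGL Q) := by
  have hT : (Cfsg.Geo.kroneckerSubgroup n₁ n₂ F).map (tr e P).toMonoidHom =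
      Cfsg.Geo.tensorProductSubgroup n₁ n₂ e P := by
    unfold Cfsg.Geo.tensorProductSubgroup
    rw [Subgroup.map_map]
    rfl
  have h1 := Cfsg.Agent.Lib.Helper8.S5637FOBRIDGE.isMaximalIn_map (tr e P) _ _ h
  rw [Subgroup.map_inf _ _ _ (tr e P).injective, map_omegaGL, hT] at h1
  exact h1

/-! ### swapping the two factors -/

/-- the Kronecker subgroup with the factors swapped -/
theorem map_kron_swap (n₁ n₂ : ℕ) :
    (Cfsg.Geo.kroneckerSubgroup n₂ n₁ F).map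
      (Cfsg.Geo.glReindex (F := F) (Equiv.prodComm (Fin n₂) (Fin n₁))).toMonoidHom =
      Cfsg.Geo.kroneckerSubgroup n₁ n₂ F := by
  ext g
  constructor
  · rintro ⟨x, ⟨B, A, hx⟩, rfl⟩
    refine ⟨A, B, ?_⟩
    show (Matrix.reindexAlgEquiv F F (Equiv.prodComm (Fin n₂) (Fin n₁))) (x : Matrix _ _ F) = _
    rw [hx]
    ext ⟨i, j⟩ ⟨i', j'⟩
    simp [Matrix.kroneckerMap_apply, mul_comm]
  · rintro ⟨A, B, hg⟩
    refine ⟨(Cfsg.Geo.glReindex (F := F) (Equiv.prodComm (Fin n₂) (Fin n₁))).symm g, ⟨B, A, ?_⟩,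
      MulEquiv.apply_symm_apply _ _⟩
    show (Matrix.reindexAlgEquiv F F (Equiv.prodComm (Fin n₂) (Fin n₁))).symm (g : Matrix _ _ F) = _
    rw [hg]
    ext ⟨j, i⟩ ⟨j', i'⟩
    simp [Matrix.kroneckerMap_apply, mul_comm]

theorem tensorProductSubgroup_swap (n₁ n₂ : ℕ) (e : ι ≃ Fin n₁ × Fin n₂) (P : GL ι F) :
    Cfsg.Geo.tensorProductSubgroup n₁ n₂ e P =
      Cfsg.Geo.tensorProductSubgroup n₂ n₁ (e.trans (Equiv.prodComm (Fin n₁) (Fin n₂))) P := by
  unfold Cfsg.Geo.tensorProductSubgroup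
  congr 1
  rw [← map_kron_swap n₁ n₂, Subgroup.map_map]
  congr 1

/-- the tensor-form structure with the factors swapped -/
theorem isTensorFormStructure_swap (f : (ι → F) → (ι → F) → F) {n₁ n₂ : ℕ}
    (f₁ : (Fin n₁ → F) → (Fin n₁ → F) → F) (f₂ : (Fin n₂ → F) → (Fin n₂ → F) → F)
    (e : ι ≃ Fin n₁ × Fin n₂) (P : GL ι F) (h : Cfsg.Geo.IsTensorFormStructure id f f₁ f₂ e P) :
    Cfsg.Geo.IsTensorFormStructure id f f₂ f₁ (e.trans (Equiv.prodComm (Fin n₁) (Fin n₂))) P := by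
  obtain ⟨c, hc, h⟩ := h
  refine ⟨c, hc, fun x y => ?_⟩
  have h1 := h (x ∘ Equiv.prodComm (Fin n₁) (Fin n₂)) (y ∘ Equiv.prodComm (Fin n₁) (Fin n₂))
  have e1 : ∀ z : Fin n₂ × Fin n₁ → F, z ∘ ⇑(e.trans (Equiv.prodComm (Fin n₁) (Fin n₂))) =
      (z ∘ Equiv.prodComm (Fin n₁) (Fin n₂)) ∘ e := fun z => rfl
  rw [e1, e1, h1]
  congr 1
  unfold Cfsg.Geo.formOfGram
  rw [← Equiv.sum_comp (Equiv.prodComm (Fin n₁) (Fin n₂))]
  refine Finset.sum_congr rfl fun p _ => ?_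
  rw [← Equiv.sum_comp (Equiv.prodComm (Fin n₁) (Fin n₂))]
  refine Finset.sum_congr rfl fun p' _ => ?_
  obtain ⟨i, j⟩ := p
  obtain ⟨i', j'⟩ := p'
  simp [Matrix.kroneckerMap_apply, mul_comm]

end Cfsg.Agent.Lib.Helper18.TensOmegaBridge
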