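import Mathlib
import Cfsg.Agent.Lib.Helper3.SpTDefs
import Cfsg.Agent.Lib.Helper13.OrthMax
import Cfsg.Agent.Lib.Helper13.AltRank
import Cfsg.Agent.Lib.Helper18.TensOmegaBridge

/-!
# S5704 FO-BRIDGE: the frozen statement from the coordinate version (helper18)

`Q' := toQF (pullQ Q e P)`, `J1 := c • gramMatrix f₁`, `J2 := gramMatrix f₂`; the dimensions are even since the forms are
symplectic; transport by `Helper18.TensOmegaBridge.bridge_omega`.
-/

set_option autoImplicit false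

namespace Cfsg.Agent.Lib.Helper18.S5704BRIDGE

open Matrix Module
open scoped Kronecker
open Cfsg.Agent.Lib.Helper3.SpT Cfsg.Agent.Lib.Helper18.TensOmegaBridge

variable {F : Type*} [Field F]

section gram
variable {κ : Type} [Fintype κ] [DecidableEq κ]

/-- the bilinear map of a bilinear form given as a function -/
def toBil (f : (κ → F) → (κ → F) → F) (hf : Cfsg.Geo.IsBilinearForm f) : (κ → F) →ₗ[F] (κ → F) →ₗ[F] F :=
  LinearMap.mk₂ F f hf.add_left (fun c x v => by rw [hf.smul_left, smul_eq_mul]) hf.add_right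
    (fun c v x => by rw [hf.smul_right, smul_eq_mul])

theorem toBil_apply (f : (κ → F) → (κ → F) → F) (hf : Cfsg.Geo.IsBilinearForm f) (x y : κ → F) :
    toBil f hf x y = f x y := rfl

/-- a bilinear form is given by its Gram matrix -/
theorem bilin_eq_bf {f : (κ → F) → (κ → F) → F} (hf : Cfsg.Geo.IsBilinearForm f) (x y : κ → F) :
    f x y = bf (Cfsg.Geo.gramMatrix f) x y := by
  have h1 : LinearMap.toMatrix₂' F (toBil f hf) = Cfsg.Geo.gramMatrix f := by
    ext i j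
    rw [LinearMap.toMatrix₂'_apply]
    rfl
  have h2 := Matrix.toLinearMap₂'_toMatrix' (R := F) (toBil f hf)
  calc f x y = toBil f hf x y := rfl
    _ = Matrix.toLinearMap₂' F (LinearMap.toMatrix₂' F (toBil f hf)) x y := by rw [h2]
    _ = bf (Cfsg.Geo.gramMatrix f) x y := by rw [Matrix.toLinearMap₂'_apply', h1]; rfl

theorem bf_smul_mat (c : F) (J : Matrix κ κ F) (x y : κ → F) : bf (c • J) x y = c * bf J x y := by
  unfold bf
  rw [Matrix.smul_mulVec, dotProduct_smul, smul_eq_mul]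

theorem sympG_gram {f : (κ → F) → (κ → F) → F} (hf : Cfsg.Geo.IsSymplecticForm f) {c : F} (hc : c ≠ 0) :
    SympG (c • Cfsg.Geo.gramMatrix f) := by
  constructor
  · intro x
    rw [bf_smul_mat, ← bilin_eq_bf hf.bilinear, hf.alternating, mul_zero]
  · intro x hx
    by_contra hne
    obtain ⟨_, y, hy⟩ := hf.nondegenerate x hne
    apply hy
    have := hx y
    rw [bf_smul_mat, ← bilin_eq_bf hf.bilinear] at this
    exact (mul_eq_zero.1 this).resolve_left hc

theorem formOfGram_id_eq_bf (M : Matrix κ κ F) (x y : κ → F) :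
    Cfsg.Geo.formOfGram id M x y = bf M x y := by
  unfold Cfsg.Geo.formOfGram bf
  simp only [dotProduct, Matrix.mulVec, id, Finset.mul_sum]
  apply Finset.sum_congr rfl
  intro a _
  apply Finset.sum_congr rfl
  intro b _
  ring

end gram

theorem even_of_symplectic {k : ℕ} {f : (Fin k → F) → (Fin k → F) → F} (hf : Cfsg.Geo.IsSymplecticForm f) :
    Even k := by
  have h := Cfsg.Agent.Lib.Helper13.even_finrank_sub_radical (toBil f hf.bilinear)
    (fun x => hf.alternating x) ⊥ (by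
      intro x
      rw [Submodule.mem_bot]
      constructor
      · rintro rfl y
        exact map_zero _
      · intro h
        by_contra hne
        obtain ⟨⟨y, hy⟩, _⟩ := hf.nondegenerate x hne
        exact hy (h y))
  rwa [finrank_bot, Nat.sub_zero, Module.finrank_fin_fun] at h

section pull
variable {ι : Type} [Fintype ι] [DecidableEq ι] {κ : Type} [Fintype κ] [DecidableEq κ]

/-- the linear map `x ↦ P *ᵥ (x ∘ e)` -/
def LL (e : ι ≃ κ) (P : GL ι F) (x : κ → F) : ι → F := (P : Matrix ι ι F) *ᵥ (x ∘ e)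

theorem LL_add (e : ι ≃ κ) (P : GL ι F) (x y : κ → F) : LL e P (x + y) = LL e P x + LL e P y := by
  unfold LL
  rw [← Matrix.mulVec_add]
  rfl

theorem LL_smul (e : ι ≃ κ) (P : GL ι F) (c : F) (x : κ → F) : LL e P (c • x) = c • LL e P x := by
  unfold LL
  rw [← Matrix.mulVec_smul]
  rfl

theorem LL_inj (e : ι ≃ κ) (P : GL ι F) {x : κ → F} (h : LL e P x = 0) : x = 0 := by
  unfold LL at h
  have h2 : ((P⁻¹ : GL ι F) : Matrix ι ι F) *ᵥ ((P : Matrix ι ι F) *ᵥ (x ∘ e)) = 0 := by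
    rw [h, Matrix.mulVec_zero]
  rw [Matrix.mulVec_mulVec, ← Units.val_mul, inv_mul_cancel, Units.val_one, Matrix.one_mulVec] at h2
  funext k
  have := congrFun h2 (e.symm k)
  simpa using this

theorem polar_pullQ (Q : (ι → F) → F) (e : ι ≃ κ) (P : GL ι F) (x y : κ → F) :
    QuadraticMap.polar (pullQ Q e P) x y = QuadraticMap.polar Q (LL e P x) (LL e P y) := by
  unfold QuadraticMap.polar
  rw [pullQ_apply, pullQ_apply, pullQ_apply, ← LL_add]
  rfl

theorem pullQ_nondeg (Q : (ι → F) → F) (hQ : Cfsg.Geo.IsNondegenerateQuadraticForm Q) (e : ι ≃ κ) (P : GL ι F) :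
    Cfsg.Geo.IsNondegenerateQuadraticForm (pullQ Q e P) := by
  constructor
  · intro c v
    have : pullQ Q e P (c • v) = Q (LL e P (c • v)) := rfl
    rw [this, LL_smul, hQ.smul]
    rfl
  · constructor
    · intro x y v
      rw [polar_pullQ, polar_pullQ, polar_pullQ, LL_add, hQ.polar_bilinear.add_left]
    · intro c x v
      rw [polar_pullQ, polar_pullQ, LL_smul, hQ.polar_bilinear.smul_left]
    · intro v x y
      rw [polar_pullQ, polar_pullQ, polar_pullQ, LL_add, hQ.polar_bilinear.add_right]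
    · intro c v x
      rw [polar_pullQ, polar_pullQ, LL_smul, hQ.polar_bilinear.smul_right]
  · intro v hv
    have hLv : LL e P v ≠ 0 := fun h => hv (LL_inj e P h)
    obtain ⟨⟨u, hu⟩, ⟨u', hu'⟩⟩ := hQ.nondegenerate _ hLv
    obtain ⟨y, rfl⟩ := exists_pre e P u
    obtain ⟨y', rfl⟩ := exists_pre e P u'
    refine ⟨⟨y, ?_⟩, ⟨y', ?_⟩⟩
    · rw [polar_pullQ]
      exact hu
    · rw [polar_pullQ]
      exact hu'

end pull

/-- **FO-BRIDGE** (exact stub signature of `Cfsg.Agent.Lib.Helper3.SpT.bridge`). -/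
theorem bridge {F : Type*} [Field F] [Fintype F] {n : ℕ} (hn : 13 ≤ n) (Q : (Fin n → F) → F)
    (hQ : Cfsg.Geo.IsNondegenerateQuadraticForm Q) (n₁ n₂ : ℕ) (h12 : n₁ < n₂)
    (e : (Fin n) ≃ Fin n₁ × Fin n₂) (P : Matrix.GeneralLinearGroup (Fin n) F)
    (f₁ : (Fin n₁ → F) → (Fin n₁ → F) → F) (f₂ : (Fin n₂ → F) → (Fin n₂ → F) → F)
    (hf₁ : Cfsg.Geo.IsSymplecticForm f₁) (hf₂ : Cfsg.Geo.IsSymplecticForm f₂)
    (hT : Cfsg.Geo.IsTensorFormStructure id (QuadraticMap.polar Q) f₁ f₂ e P)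
    (hpure : ∀ (x₁ : Fin n₁ → F) (x₂ : Fin n₂ → F),
      Q (Matrix.mulVec (P : Matrix (Fin n) (Fin n) F) ((fun a : Fin n₁ × Fin n₂ => x₁ a.1 * x₂ a.2) ∘ e)) = 0)
    (hmain : ∀ (J1 : Matrix (Fin n₁) (Fin n₁) F) (J2 : Matrix (Fin n₂) (Fin n₂) F)
      (Q' : QuadraticForm F (Fin n₁ × Fin n₂ → F)), Setup J1 J2 Q' → 2 ≤ n₁ → n₁ + 2 ≤ n₂ → 6 ≤ n₂ →
      Cfsg.Geo.IsMaximalIn (Cfsg.Geo.omegaGL (⇑Q'))
        (Cfsg.Geo.kroneckerSubgroup n₁ n₂ F ⊓ Cfsg.Geo.omegaGL (⇑Q'))) :
    Cfsg.Geo.IsMaximalIn (Cfsg.Geo.omegaGL Q) (Cfsg.Geo.tensorProductSubgroup n₁ n₂ e P ⊓ Cfsg.Geo.omegaGL Q) := by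
  classical
  obtain ⟨c, hc, hT⟩ := hT
  have hQ0 := pullQ_nondeg Q hQ e P
  -- dimensions
  have hcard : n = n₁ * n₂ := by
    have := Fintype.card_congr e
    rwa [Fintype.card_fin, Fintype.card_prod, Fintype.card_fin, Fintype.card_fin] at this
  obtain ⟨k₁, hk₁⟩ := even_of_symplectic hf₁
  obtain ⟨k₂, hk₂⟩ := even_of_symplectic hf₂
  have hk1pos : 1 ≤ k₁ := by
    rcases Nat.eq_zero_or_pos k₁ with h | h
    · subst h
      rw [hk₁, Nat.zero_mul] at hcard
      omega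
    · exact h
  have h2 : 2 ≤ n₁ := by omega
  have hab : n₁ + 2 ≤ n₂ := by omega
  have h6 : 6 ≤ n₂ := by
    by_contra hlt
    have hn2 : n₂ ≤ 4 := by omega
    have hn1 : n₁ ≤ 2 := by omega
    have : n₁ * n₂ ≤ 2 * 4 := Nat.mul_le_mul hn1 hn2
    omega
  -- the setup
  have hS : Setup (c • Cfsg.Geo.gramMatrix f₁) (Cfsg.Geo.gramMatrix f₂)
      (Cfsg.Agent.Lib.Helper13.toQF (pullQ Q e P) hQ0) := by
    refine ⟨sympG_gram hf₁ hc, ?_, ?_, ?_⟩
    · have := sympG_gram hf₂ (one_ne_zero (α := F))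
      rwa [one_smul] at this
    · intro x y
      rw [Cfsg.Agent.Lib.Helper13.toQF_coe, polar_pullQ]
      have := hT x y
      unfold LL
      rw [this, formOfGram_id_eq_bf, Matrix.smul_kronecker, bf_smul_mat]
    · intro u w
      exact hpure u w
  have hm := hmain _ _ _ hS h2 hab h6
  rw [Cfsg.Agent.Lib.Helper13.toQF_coe] at hm
  exact bridge_omega Q n₁ n₂ e P hm

end Cfsg.Agent.Lib.Helper18.S5704BRIDGE
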