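import Mathlib

/-!
# Irreducible representations of `r`-groups over a field with enough roots of unity have `r`-power degree (helper18)

Farm-out piece HUBCOR RPOW of helper24 (hub corollaries of S5630): `exists_finrank_eq_pow`.

Proof: strong induction on `finrank V`.  If every `ρ g` is scalar, `finrank V = 1`.  Otherwise `N₀ = {g | ρ g scalar}` is a
proper normal subgroup; pick `x ∉ N₀` central modulo `N₀` (the centre of the non-trivial `r`-group `G ⧸ N₀` is non-trivial).
`f = ρ x` has an eigenvalue `λ`, `G` permutes the eigenspaces of `f` (`ρ g f = a f ρ g`), the stabiliser `K` of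
`E = eigenspace f λ` acts irreducibly on `E`, and `finrank V = |G : K| · finrank E`.
-/

set_option autoImplicit false

namespace Cfsg.Agent.Lib.Helper18.HubCorRPOW

open Module Polynomial

universe u v w

section basics

variable {F : Type w} [Field F] {V : Type v} [AddCommGroup V] [Module F V]

/-- an operator of finite order `m` on a non-trivial finite-dimensional space has an eigenvalue as soon as the field
contains a primitive `m`-th root of unity -/
theorem exists_hasEigenvalue_of_pow_eq_one [FiniteDimensional F V] [Nontrivial V] {m : ℕ} (hm : 0 < m) {ζ : F}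
    (hζ : IsPrimitiveRoot ζ m) (f : Module.End F V) (hf : f ^ m = 1) : ∃ μ : F, f.HasEigenvalue μ := by
  have hdvd : minpoly F f ∣ (X ^ m - C (1 : F)) := by
    apply minpoly.dvd
    simp [hf]
  have hne : (X ^ m - C (1 : F) : F[X]) ≠ 0 := X_pow_sub_C_ne_zero hm 1
  have hs : (minpoly F f).Splits := (X_pow_sub_one_splits hζ).of_dvd hne hdvd
  have hdeg : (minpoly F f).degree ≠ 0 := by
    have := minpoly.degree_pos (Algebra.IsIntegral.isIntegral (R := F) f)
    exact this.ne'
  obtain ⟨μ, hμ⟩ := hs.exists_eval_eq_zero hdeg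
  exact ⟨μ, Module.End.hasEigenvalue_of_isRoot hμ⟩

/-- the dimension of an internal direct sum -/
theorem finrank_eq_sum_of_indep [FiniteDimensional F V] {ι : Type*} [Fintype ι] (A : ι → Submodule F V)
    (hind : iSupIndep A) (htop : iSup A = ⊤) : finrank F V = ∑ i, finrank F (A i) := by
  classical
  have hint := DirectSum.isInternal_submodule_of_iSupIndep_of_iSup_eq_top hind htop
  have e := LinearEquiv.ofBijective (DirectSum.coeLinearMap A) hint
  rw [← e.finrank_eq, Module.finrank_directSum]

variable {G : Type u} [Group G]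

/-- the action of `G` on subspaces through `ρ` -/
@[reducible] def subAct (ρ : G →* Module.End F V) : MulAction G (Submodule F V) where
  smul g W := W.map (ρ g)
  one_smul W := by
    show W.map (ρ 1) = W
    rw [map_one]
    exact Submodule.map_id W
  mul_smul g h W := by
    show W.map (ρ (g * h)) = (W.map (ρ h)).map (ρ g)
    rw [map_mul, Module.End.mul_eq_comp, Submodule.map_comp]

theorem rho_mul_inv (ρ : G →* Module.End F V) (g : G) : ρ g * ρ g⁻¹ = 1 := by
  rw [← map_mul, mul_inv_cancel, map_one]

theorem rho_inv_mul (ρ : G →* Module.End F V) (g : G) : ρ g⁻¹ * ρ g = 1 := by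
  rw [← map_mul, inv_mul_cancel, map_one]

theorem rho_injective (ρ : G →* Module.End F V) (g : G) : Function.Injective (ρ g) := by
  intro v w h
  have h2 := congrArg (ρ g⁻¹) h
  have e : ∀ z, ρ g⁻¹ (ρ g z) = z := fun z => by
    have := congrArg (fun A : Module.End F V => A z) (rho_inv_mul ρ g)
    simpa using this
  rwa [e, e] at h2

theorem rho_apply_inv (ρ : G →* Module.End F V) (g : G) (z : V) : ρ g (ρ g⁻¹ z) = z := by
  have := congrArg (fun A : Module.End F V => A z) (rho_mul_inv ρ g)
  simpa using this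

theorem iSup_map_eq_top (ρ : G →* Module.End F V)
    (hirr : ∀ W : Submodule F V, (∀ g, W.map (ρ g) ≤ W) → W = ⊥ ∨ W = ⊤)
    (U : Submodule F V) (hU : U ≠ ⊥) : ⨆ g : G, U.map (ρ g) = ⊤ := by
  have hinv : ∀ h, (⨆ g : G, U.map (ρ g)).map (ρ h) ≤ ⨆ g : G, U.map (ρ g) := by
    intro h
    rw [Submodule.map_iSup]
    apply iSup_le
    intro g
    rw [← Submodule.map_comp, ← Module.End.mul_eq_comp, ← map_mul]
    exact le_iSup (fun g : G => U.map (ρ g)) (h * g)
  rcases hirr _ hinv with h | h
  · exfalso
    apply hU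
    have h1 : U ≤ ⨆ g : G, U.map (ρ g) := by
      have h2 := le_iSup (fun g : G => U.map (ρ g)) 1
      have h3 : U.map (ρ 1) = U := by
        rw [map_one]
        exact Submodule.map_id U
      rwa [h3] at h2
    rw [h] at h1
    exact le_bot_iff.1 h1
  · exact h

/-- `G` permutes the eigenspaces of `f` -/
theorem map_eigenspace (ρ : G →* Module.End F V) (f : Module.End F V) (g : G) {a : F} (ha : a ≠ 0)
    (hg : ρ g * f = a • (f * ρ g)) (lam : F) :
    (f.eigenspace lam).map (ρ g) = f.eigenspace (a⁻¹ * lam) := by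
  have hfg : ∀ v, f (ρ g v) = a⁻¹ • ρ g (f v) := by
    intro v
    have := congrArg (fun A : Module.End F V => A v) hg
    simp only [Module.End.mul_apply, LinearMap.smul_apply] at this
    rw [this, smul_smul, inv_mul_cancel₀ ha, one_smul]
  apply le_antisymm
  · rintro _ ⟨v, hv, rfl⟩
    rw [SetLike.mem_coe, Module.End.mem_eigenspace_iff] at hv
    rw [Module.End.mem_eigenspace_iff, hfg, hv, map_smul, smul_smul]
  · intro w hw
    rw [Module.End.mem_eigenspace_iff] at hw
    refine ⟨ρ g⁻¹ w, ?_, rho_apply_inv ρ g w⟩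
    rw [SetLike.mem_coe, Module.End.mem_eigenspace_iff]
    apply rho_injective ρ g
    have h1 := hfg (ρ g⁻¹ w)
    rw [rho_apply_inv, hw] at h1
    -- h1 : (a⁻¹ * lam) • w = a⁻¹ • ρ g (f (ρ g⁻¹ w))
    rw [map_smul, rho_apply_inv]
    have h2 := congrArg (fun z => a • z) h1
    simp only [smul_smul, mul_inv_cancel₀ ha, one_smul, ← mul_assoc, one_mul] at h2
    exact h2.symm

/-- **Clifford count**: if `G` permutes the eigenspaces of `f` and acts irreducibly, then the stabiliser `K` of an
eigenspace `E` acts irreducibly on it and `finrank V = |G : K| · finrank E`. -/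
theorem clifford_count [Finite G] [FiniteDimensional F V] (ρ : G →* Module.End F V)
    (hirr : ∀ W : Submodule F V, (∀ g, W.map (ρ g) ≤ W) → W = ⊥ ∨ W = ⊤)
    (f : Module.End F V) (hcomm : ∀ g, ∃ a : F, a ≠ 0 ∧ ρ g * f = a • (f * ρ g)) {lam : F}
    (hlam : f.HasEigenvalue lam) :
    ∃ K : Subgroup G, (∀ k ∈ K, (f.eigenspace lam).map (ρ k) = f.eigenspace lam) ∧
      finrank F V = K.index * finrank F (f.eigenspace lam) ∧
      ∀ U : Submodule F V, U ≤ f.eigenspace lam → (∀ k ∈ K, U.map (ρ k) ≤ U) →
        U = ⊥ ∨ U = f.eigenspace lam := by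
  classical
  letI : MulAction G (Submodule F V) := subAct ρ
  set E : Submodule F V := f.eigenspace lam with hE
  have hEne : E ≠ ⊥ := hlam
  have hsmul : ∀ (g : G) (W : Submodule F V), g • W = W.map (ρ g) := fun g W => rfl
  have hmem : ∀ g : G, g ∈ MulAction.stabilizer G E ↔ E.map (ρ g) = E := by
    intro g
    rw [MulAction.mem_stabilizer_iff, hsmul]
  -- every image of `E` is an eigenspace
  have heig : ∀ g : G, ∃ μ : F, E.map (ρ g) = f.eigenspace μ := by
    intro g
    obtain ⟨a, ha, hg⟩ := hcomm g
    exact ⟨a⁻¹ * lam, map_eigenspace ρ f g ha hg lam⟩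
  have htop : ⨆ g : G, E.map (ρ g) = ⊤ := iSup_map_eq_top ρ hirr E hEne
  refine ⟨MulAction.stabilizer G E, fun k hk => (hmem k).1 hk, ?_, ?_⟩
  · -- the count
    have hfin : Finite ↥(MulAction.orbit G E) := by
      show Finite ↥(Set.range (fun g : G => g • E))
      exact Set.finite_range _
    haveI : Fintype ↥(MulAction.orbit G E) := Fintype.ofFinite _
    -- eigenvalue attached to a member of the orbit
    have hex : ∀ W : ↥(MulAction.orbit G E), ∃ μ : F, (W : Submodule F V) = f.eigenspace μ := by
      rintro ⟨W, g, rfl⟩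
      exact heig g
    choose φ hφ using hex
    have hφinj : Function.Injective φ := by
      intro W W' h
      apply Subtype.ext
      rw [hφ W, hφ W', h]
    have hind : iSupIndep (fun W : ↥(MulAction.orbit G E) => (W : Submodule F V)) := by
      have h1 := (Module.End.eigenspaces_iSupIndep f).comp hφinj
      have h2 : (f.eigenspace ∘ φ) = fun W : ↥(MulAction.orbit G E) => (W : Submodule F V) := by
        funext W
        exact (hφ W).symm
      rwa [h2] at h1
    have hsup : (⨆ W : ↥(MulAction.orbit G E), (W : Submodule F V)) = ⊤ := by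
      rw [← htop]
      exact iSup_range' (fun W : Submodule F V => W) (fun g : G => g • E)
    rw [finrank_eq_sum_of_indep _ hind hsup]
    have hdim : ∀ W : ↥(MulAction.orbit G E), finrank F (W : Submodule F V) = finrank F E := by
      rintro ⟨W, g, rfl⟩
      exact (Submodule.equivMapOfInjective (ρ g) (rho_injective ρ g) E).finrank_eq.symm
    rw [Finset.sum_congr rfl (fun W _ => hdim W), Finset.sum_const, Finset.card_univ, smul_eq_mul,
      MulAction.index_stabilizer, ← Nat.card_coe_set_eq, Nat.card_eq_fintype_card]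
  · -- irreducibility
    intro U hUE hUK
    by_cases hU : U = ⊥
    · exact Or.inl hU
    right
    apply le_antisymm hUE
    intro e he
    have hWtop : ⨆ g : G, U.map (ρ g) = ⊤ := iSup_map_eq_top ρ hirr U hU
    have hle : (⨆ g : G, U.map (ρ g)) ≤ U ⊔ ⨆ (μ : F) (_ : μ ≠ lam), f.eigenspace μ := by
      apply iSup_le
      intro g
      by_cases hg : g ∈ MulAction.stabilizer G E
      · exact (hUK g hg).trans le_sup_left
      · obtain ⟨μ, hμ⟩ := heig g
        have hμne : μ ≠ lam := by
          rintro rfl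
          exact hg ((hmem g).2 hμ)
        refine le_trans ?_ le_sup_right
        refine le_trans (Submodule.map_mono hUE) ?_
        rw [hμ]
        exact le_iSup₂ (f := fun (μ : F) (_ : μ ≠ lam) => f.eigenspace μ) μ hμne
    have he' : e ∈ U ⊔ ⨆ (μ : F) (_ : μ ≠ lam), f.eigenspace μ := hle (hWtop ▸ Submodule.mem_top)
    obtain ⟨u, hu, t, ht, rfl⟩ := Submodule.mem_sup.1 he'
    have htE : t ∈ E := by
      have : t = (u + t) - u := by abel
      rw [this]
      exact E.sub_mem he (hUE hu)
    have hdisj := Module.End.eigenspaces_iSupIndep f lam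
    have ht0 : t = 0 := by
      have := (Submodule.disjoint_def.1 hdisj) t htE ht
      exact this
    rw [ht0, add_zero]
    exact hu

end basics

section main

variable {F : Type w} [Field F]

/-- the representation of a subgroup `K` on a `K`-invariant subspace `E` -/
def restrictRep {G : Type u} [Group G] {V : Type v} [AddCommGroup V] [Module F V] (ρ : G →* Module.End F V)
    (E : Submodule F V) (K : Subgroup G) (hK : ∀ k ∈ K, ∀ v ∈ E, ρ k v ∈ E) : ↥K →* Module.End F ↥E where
  toFun k := (ρ (k : G)).restrict (hK k k.2)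
  map_one' := by
    ext v
    simp
  map_mul' a b := by
    ext v
    simp

theorem main_aux {r : ℕ} (hr : r.Prime) (j : ℕ) {ζ : F} (hζ : IsPrimitiveRoot ζ (r ^ j)) :
    ∀ (N : ℕ) {G : Type u} [Group G] [Finite G] {V : Type v} [AddCommGroup V] [Module F V] [FiniteDimensional F V]
      [Nontrivial V] (ρ : G →* Module.End F V), finrank F V = N → (∀ g : G, g ^ (r ^ j) = 1) →
      (∀ W : Submodule F V, (∀ g, W.map (ρ g) ≤ W) → W = ⊥ ∨ W = ⊤) → ∃ k : ℕ, finrank F V = r ^ k := by
  intro N
  induction N using Nat.strong_induction_on with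
  | _ N ih =>
  intro G _ _ V _ _ _ _ ρ hN hexp hirr
  classical
  have hone_ne : (1 : Module.End F V) ≠ 0 := one_ne_zero
  by_cases hall : ∀ g : G, ∃ a : F, ρ g = a • (1 : Module.End F V)
  · -- every `ρ g` is scalar: dimension one
    refine ⟨0, ?_⟩
    obtain ⟨v, hv⟩ := exists_ne (0 : V)
    have hinv : ∀ g, (Submodule.span F {v}).map (ρ g) ≤ Submodule.span F {v} := by
      intro g
      obtain ⟨a, ha⟩ := hall g
      rintro _ ⟨w, hw, rfl⟩
      rw [ha]
      simpa using Submodule.smul_mem _ a hw
    rcases hirr _ hinv with h | h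
    · exfalso
      exact hv ((Submodule.span_singleton_eq_bot).1 h)
    · rw [pow_zero, ← finrank_top F V, ← h]
      exact finrank_span_singleton hv
  · -- some `ρ g` is not scalar
    let N0 : Subgroup G :=
      { carrier := {g | ∃ a : F, ρ g = a • (1 : Module.End F V)}
        mul_mem' := by
          rintro g h ⟨a, ha⟩ ⟨b, hb⟩
          exact ⟨a * b, by rw [map_mul, ha, hb, smul_mul_smul_comm, mul_one]⟩
        one_mem' := ⟨1, by simp⟩
        inv_mem' := by
          rintro g ⟨a, ha⟩
          have h1 := rho_mul_inv ρ g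
          rw [ha, smul_mul_assoc, one_mul] at h1
          have ha0 : a ≠ 0 := by
            rintro rfl
            rw [zero_smul] at h1
            exact hone_ne h1.symm
          refine ⟨a⁻¹, ?_⟩
          rw [← h1, smul_smul, inv_mul_cancel₀ ha0, one_smul] }
    have hN0mem : ∀ g : G, g ∈ N0 ↔ ∃ a : F, ρ g = a • (1 : Module.End F V) := fun g => Iff.rfl
    haveI hN0normal : N0.Normal := by
      refine ⟨fun n hn g => ?_⟩
      obtain ⟨a, ha⟩ := (hN0mem n).1 hn
      refine (hN0mem _).2 ⟨a, ?_⟩
      rw [map_mul, map_mul, ha, mul_smul_comm, mul_one, smul_mul_assoc, rho_mul_inv]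
    have hN0top : N0 ≠ ⊤ := by
      intro h
      apply hall
      intro g
      exact (hN0mem g).1 (h ▸ Subgroup.mem_top g)
    have hp : IsPGroup r G := fun g => ⟨j, hexp g⟩
    haveI : Fact r.Prime := ⟨hr⟩
    haveI : Nontrivial (G ⧸ N0) := by
      rw [← not_subsingleton_iff_nontrivial]
      intro hs
      exact hN0top (QuotientGroup.subsingleton_iff.1 hs)
    haveI : Nontrivial (Subgroup.center (G ⧸ N0)) := (hp.to_quotient N0).center_nontrivial
    obtain ⟨⟨z, hz⟩, hz1⟩ := exists_ne (1 : Subgroup.center (G ⧸ N0))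
    obtain ⟨x, rfl⟩ := QuotientGroup.mk_surjective z
    have hxN0 : x ∉ N0 := by
      intro hx
      apply hz1
      apply Subtype.ext
      exact (QuotientGroup.eq_one_iff x).2 hx
    have hcomm : ∀ g, ∃ a : F, a ≠ 0 ∧ ρ g * ρ x = a • (ρ x * ρ g) := by
      intro g
      have h1 : ((g : G ⧸ N0)) * (x : G ⧸ N0) = (x : G ⧸ N0) * (g : G ⧸ N0) :=
        (Subgroup.mem_center_iff.1 hz) g
      rw [← QuotientGroup.mk_mul, ← QuotientGroup.mk_mul, eq_comm, QuotientGroup.eq] at h1
      obtain ⟨a, ha⟩ := (hN0mem _).1 h1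
      have ha0 : a ≠ 0 := by
        rintro rfl
        rw [zero_smul] at ha
        have h2 := rho_mul_inv ρ ((x * g)⁻¹ * (g * x))
        rw [ha, zero_mul] at h2
        exact hone_ne h2.symm
      refine ⟨a, ha0, ?_⟩
      have h3 : ρ (g * x) = ρ (x * g) * ρ ((x * g)⁻¹ * (g * x)) := by
        rw [← map_mul, mul_inv_cancel_left]
      rw [← map_mul, ← map_mul, h3, ha, mul_smul_comm, mul_one]
    have hxns : ¬ ∃ a : F, ρ x = a • (1 : Module.End F V) := hxN0
    -- an eigenvalue of `f = ρ x`
    have hpow : (ρ x) ^ (r ^ j) = 1 := by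
      rw [← map_pow, hexp, map_one]
    obtain ⟨lam, hlam⟩ := exists_hasEigenvalue_of_pow_eq_one (pow_pos hr.pos j) hζ (ρ x) hpow
    obtain ⟨K, hKE, hcount, hKirr⟩ := clifford_count ρ hirr (ρ x) hcomm hlam
    set E : Submodule F V := (ρ x).eigenspace lam with hE
    have hEbot : E ≠ ⊥ := hlam
    have hEtop : E ≠ ⊤ := by
      intro h
      apply hxns
      refine ⟨lam, ?_⟩
      ext v
      have hv : v ∈ E := h ▸ Submodule.mem_top
      simpa using Module.End.mem_eigenspace_iff.1 hv
    have hlt : finrank F ↥E < N := by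
      rw [← hN]
      exact Submodule.finrank_lt hEtop
    haveI : Nontrivial ↥E := Submodule.nontrivial_iff_ne_bot.2 hEbot
    have hKE' : ∀ k ∈ K, ∀ v ∈ E, ρ k v ∈ E := by
      intro k hk v hv
      rw [← hKE k hk]
      exact ⟨v, hv, rfl⟩
    have hexpK : ∀ k : ↥K, k ^ (r ^ j) = 1 := by
      intro k
      apply Subtype.ext
      rw [Subgroup.coe_pow, hexp, Subgroup.coe_one]
    have hirrK : ∀ U : Submodule F ↥E, (∀ k : ↥K, U.map (restrictRep ρ E K hKE' k) ≤ U) → U = ⊥ ∨ U = ⊤ := by
      intro U hU
      have h1 : U.map E.subtype ≤ E := by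
        rintro _ ⟨u, _, rfl⟩
        exact u.2
      have h2 : ∀ k ∈ K, (U.map E.subtype).map (ρ k) ≤ U.map E.subtype := by
        rintro k hk _ ⟨_, ⟨u, hu, rfl⟩, rfl⟩
        refine ⟨restrictRep ρ E K hKE' ⟨k, hk⟩ u, hU ⟨k, hk⟩ ⟨u, hu, rfl⟩, ?_⟩
        rfl
      rcases hKirr _ h1 h2 with h | h
      · left
        apply Submodule.map_injective_of_injective E.injective_subtype
        rw [h, Submodule.map_bot]
      · right
        apply Submodule.map_injective_of_injective E.injective_subtype
        rw [h, Submodule.map_subtype_top]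
    obtain ⟨k', hk'⟩ := ih (finrank F ↥E) hlt (restrictRep ρ E K hKE') rfl hexpK hirrK
    obtain ⟨i, hi⟩ := hp.index K
    exact ⟨i + k', by rw [hcount, hi, hk', pow_add]⟩

/-- **HUBCOR RPOW** (exact statement of helper24's farm-out): an irreducible representation of a finite group of
exponent dividing `r ^ j` over a field containing a primitive `r ^ j`-th root of unity has `r`-power degree. -/
theorem exists_finrank_eq_pow {F : Type*} [Field F] {r : ℕ} (hr : r.Prime) (j : ℕ) {ζ : F}
    (hζ : IsPrimitiveRoot ζ (r ^ j)) {G : Type*} [Group G] [Finite G] {V : Type*} [AddCommGroup V] [Module F V]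
    [FiniteDimensional F V] [Nontrivial V] (ρ : G →* Module.End F V) (hexp : ∀ g : G, g ^ (r ^ j) = 1)
    (hirr : ∀ W : Submodule F V, (∀ g, W.map (ρ g) ≤ W) → W = ⊥ ∨ W = ⊤) :
    ∃ k : ℕ, Module.finrank F V = r ^ k :=
  main_aux hr j hζ (finrank F V) ρ rfl hexp hirr

end main

end Cfsg.Agent.Lib.Helper18.HubCorRPOW
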