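import Mathlib.GroupTheory.Sylow
import Mathlib.Tactic.Group

set_option autoImplicit false

namespace Cfsg.Agent.Lib.Helper18

open Subgroup

variable {G : Type*} [Group G]

/-- The conjugate `g X g⁻¹` of a subgroup, in the form used by the definitions. -/
abbrev cj (g : G) (X : Subgroup G) : Subgroup G := X.map (MulAut.conj g).toMonoidHom

theorem mem_cj_iff (g : G) (X : Subgroup G) (y : G) : y ∈ cj g X ↔ g⁻¹ * y * g ∈ X := by
  constructor
  · rintro ⟨x, hx, rfl⟩
    have : g⁻¹ * (MulAut.conj g).toMonoidHom x * g = x := by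
      simp only [MulEquiv.coe_toMonoidHom, MulAut.conj_apply]; group
    rw [this]; exact hx
  · intro h
    refine ⟨g⁻¹ * y * g, h, ?_⟩
    simp only [MulEquiv.coe_toMonoidHom, MulAut.conj_apply]; group

theorem conj_mem_cj (g : G) (X : Subgroup G) {x : G} (hx : x ∈ X) : g * x * g⁻¹ ∈ cj g X :=
  ⟨x, hx, by simp [MulAut.conj_apply]⟩

theorem cj_cj (h g : G) (X : Subgroup G) : cj h (cj g X) = cj (h * g) X := by
  ext y
  simp only [mem_cj_iff]
  have : (h * g)⁻¹ * y * (h * g) = g⁻¹ * (h⁻¹ * y * h) * g := by group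
  rw [this]

theorem cj_one (X : Subgroup G) : cj 1 X = X := by
  ext y; simp [mem_cj_iff]

theorem cj_mono (g : G) {X Y : Subgroup G} (h : X ≤ Y) : cj g X ≤ cj g Y := Subgroup.map_mono h

theorem cj_inv_cj (g : G) (X : Subgroup G) : cj g⁻¹ (cj g X) = X := by
  rw [cj_cj, inv_mul_cancel, cj_one]

theorem cj_cj_inv (g : G) (X : Subgroup G) : cj g (cj g⁻¹ X) = X := by
  rw [cj_cj, mul_inv_cancel, cj_one]

theorem cj_le_iff_le_cj_inv (g : G) (X Y : Subgroup G) : cj g X ≤ Y ↔ X ≤ cj g⁻¹ Y := by
  constructor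
  · intro h
    have := cj_mono g⁻¹ h
    rwa [cj_inv_cj] at this
  · intro h
    have := cj_mono g h
    rwa [cj_cj_inv] at this

theorem card_cj (g : G) (X : Subgroup G) : Nat.card ↥(cj g X) = Nat.card X :=
  Subgroup.card_map_of_injective (MulAut.conj g).injective

theorem cj_eq_of_le [Finite G] (g : G) (X : Subgroup G) (h : cj g X ≤ X) : cj g X = X :=
  Subgroup.eq_of_le_of_card_ge h (card_cj g X).ge

theorem cj_eq_self_of_mem (g : G) (X : Subgroup G) (hg : g ∈ X) : cj g X = X := by
  ext y
  rw [mem_cj_iff]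
  constructor
  · intro h
    have : y = g * (g⁻¹ * y * g) * g⁻¹ := by group
    rw [this]
    exact X.mul_mem (X.mul_mem hg h) (X.inv_mem hg)
  · intro h
    exact X.mul_mem (X.mul_mem (X.inv_mem hg) h) hg

theorem mem_normalizer_iff_cj (g : G) (X : Subgroup G) :
    g ∈ Subgroup.normalizer (X : Set G) ↔ cj g X = X := by
  constructor
  · intro hg
    ext y
    rw [mem_cj_iff]
    have := Subgroup.mem_normalizer_iff.mp hg (g⁻¹ * y * g)
    rw [this]
    have e : g * (g⁻¹ * y * g) * g⁻¹ = y := by group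
    rw [e]
  · intro h
    rw [Subgroup.mem_normalizer_iff]
    intro x
    constructor
    · intro hx
      rw [← h]
      exact conj_mem_cj g X hx
    · intro hx
      rw [← h, mem_cj_iff] at hx
      have e : g⁻¹ * (g * x * g⁻¹) * g = x := by group
      rwa [e] at hx

theorem isMulCommutative_cj (g : G) (X : Subgroup G) (hX : IsMulCommutative X) :
    IsMulCommutative ↥(cj g X) :=
  Subgroup.map_isMulCommutative X _

theorem isPGroup_cj {p : ℕ} (g : G) (X : Subgroup G) (hX : IsPGroup p X) : IsPGroup p ↥(cj g X) :=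
  hX.map _

/-- The centralizer of a subgroup normalizes it. -/
theorem le_normalizer_of_le_centralizer (X Y : Subgroup G)
    (h : Y ≤ Subgroup.centralizer (X : Set G)) : Y ≤ Subgroup.normalizer (X : Set G) :=
  h.trans (Subgroup.centralizer_le_normalizer _)

end Cfsg.Agent.Lib.Helper18
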