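import Mathlib
import Cfsg.Prelude.Def_PLocal
import Cfsg.Prelude.Def_ConjugacyFunctors
import Cfsg.Agent.Lib.Helper18.CentrallyLarge
import Cfsg.Agent.Lib.Helper18.Conj

set_option autoImplicit false

/-!
# Abelian subgroups of largest order and the abelian-version Thompson subgroup

`IsMaxAbIn S B` : `B` is an abelian subgroup of `S` of largest order (ambient subgroups);
`thompsonSubgroupAOf S = sSup {B | IsMaxAbIn S B}`; the functor `Q ↦ thompsonSubgroupA Q` is an
isomorphism-invariant `p`-group functor.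
-/

namespace Cfsg.Agent.Lib.Helper18

open Subgroup

universe u

section MaxAb

variable {G : Type*} [Group G]

theorem isMulCommutative_iff_forall (A : Subgroup G) :
    IsMulCommutative ↥A ↔ ∀ x ∈ A, ∀ y ∈ A, x * y = y * x := by
  constructor
  · intro h x hx y hy
    have := h.is_comm.comm ⟨x, hx⟩ ⟨y, hy⟩
    exact congrArg Subtype.val this
  · intro h
    exact ⟨⟨fun a b => Subtype.ext (h a a.2 b b.2)⟩⟩

/-- `B` is an abelian subgroup of `S` of largest possible order. -/
def IsMaxAbIn (S B : Subgroup G) : Prop :=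
  B ≤ S ∧ (∀ x ∈ B, ∀ y ∈ B, x * y = y * x) ∧
    ∀ C : Subgroup G, C ≤ S → (∀ x ∈ C, ∀ y ∈ C, x * y = y * x) → Nat.card C ≤ Nat.card B

theorem isMaxAbIn_map (S : Subgroup G) {A : Subgroup ↥S}
    (hA : A ∈ Cfsg.maxAbelianSubgroups ↥S) : IsMaxAbIn S (A.map S.subtype) := by
  obtain ⟨hAc, hAmax⟩ := hA
  refine ⟨Subgroup.map_subtype_le A, ?_, ?_⟩
  · rintro _ ⟨a, ha, rfl⟩ _ ⟨b, hb, rfl⟩
    have := (isMulCommutative_iff_forall A).mp hAc a ha b hb
    exact congrArg Subtype.val this
  · intro C hCS hC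
    have hC' : IsMulCommutative ↥(C.subgroupOf S) := by
      rw [isMulCommutative_iff_forall]
      intro x hx y hy
      apply Subtype.ext
      exact hC x hx y hy
    have h1 := hAmax _ hC'
    rw [Subgroup.card_map_of_injective S.subtype_injective]
    rw [Nat.card_congr (Subgroup.subgroupOfEquivOfLe hCS).toEquiv] at h1
    exact h1

theorem mem_maxAbelian_subgroupOf (S : Subgroup G) {B : Subgroup G} (hB : IsMaxAbIn S B) :
    B.subgroupOf S ∈ Cfsg.maxAbelianSubgroups ↥S := by
  obtain ⟨hBS, hBc, hBmax⟩ := hB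
  refine ⟨?_, ?_⟩
  · rw [isMulCommutative_iff_forall]
    intro x hx y hy
    apply Subtype.ext
    exact hBc x hx y hy
  · intro C hC
    have hCc : ∀ x ∈ C.map S.subtype, ∀ y ∈ C.map S.subtype, x * y = y * x := by
      rintro _ ⟨a, ha, rfl⟩ _ ⟨b, hb, rfl⟩
      have := (isMulCommutative_iff_forall C).mp hC a ha b hb
      exact congrArg Subtype.val this
    have h1 := hBmax (C.map S.subtype) (Subgroup.map_subtype_le C) hCc
    rw [Subgroup.card_map_of_injective S.subtype_injective] at h1
    rw [Nat.card_congr (Subgroup.subgroupOfEquivOfLe hBS).toEquiv]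
    exact h1

theorem thompsonSubgroupAOf_eq_sSup (S : Subgroup G) :
    Cfsg.thompsonSubgroupAOf S = sSup {B | IsMaxAbIn S B} := by
  unfold Cfsg.thompsonSubgroupAOf Cfsg.thompsonSubgroupA
  apply le_antisymm
  · rw [Subgroup.map_le_iff_le_comap]
    apply sSup_le
    intro A hA
    rw [← Subgroup.map_le_iff_le_comap]
    exact le_sSup (isMaxAbIn_map S hA)
  · apply sSup_le
    intro B hB
    calc B = (B.subgroupOf S).map S.subtype := (Subgroup.map_subgroupOf_eq_of_le hB.1).symm
      _ ≤ _ := Subgroup.map_mono (le_sSup (mem_maxAbelian_subgroupOf S hB))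

theorem exists_isMaxAbIn [Finite G] (S : Subgroup G) : ∃ B, IsMaxAbIn S B := by
  obtain ⟨A, hA⟩ := exists_mem_maxAbelian (G := ↥S)
  exact ⟨_, isMaxAbIn_map S hA⟩

/-- If all abelian subgroups of largest order of `S` lie in a normal subgroup `P ≤ S` of `G`, then
the abelian-version Thompson subgroup of `S` is normal in `G`. -/
theorem thompsonSubgroupAOf_normal_of_le (S P : Subgroup G) [hPn : P.Normal] (hPS : P ≤ S)
    (h : ∀ B, IsMaxAbIn S B → B ≤ P) : (Cfsg.thompsonSubgroupAOf S).Normal := by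
  have key : ∀ g : G, Cfsg.thompsonSubgroupAOf S ≤
      (Cfsg.thompsonSubgroupAOf S).comap (MulAut.conj g).toMonoidHom := by
    intro g
    rw [thompsonSubgroupAOf_eq_sSup]
    apply sSup_le
    intro B hB
    rw [← Subgroup.map_le_iff_le_comap]
    apply le_sSup
    refine ⟨?_, ?_, ?_⟩
    · refine le_trans ?_ hPS
      rintro _ ⟨b, hb, rfl⟩
      exact hPn.conj_mem b (h B hB hb) g
    · rintro _ ⟨a, ha, rfl⟩ _ ⟨b, hb, rfl⟩
      have := hB.2.1 a ha b hb
      show g * a * g⁻¹ * (g * b * g⁻¹) = g * b * g⁻¹ * (g * a * g⁻¹)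
      calc g * a * g⁻¹ * (g * b * g⁻¹) = g * (a * b) * g⁻¹ := by group
        _ = g * (b * a) * g⁻¹ := by rw [this]
        _ = g * b * g⁻¹ * (g * a * g⁻¹) := by group
    · intro C hC hCc
      rw [card_cj]
      exact hB.2.2 C hC hCc
  constructor
  intro n hn g
  exact key g hn

end MaxAb

section Functor

theorem map_equiv_mem_maxAbelian {Q R : Type*} [Group Q] [Group R] (φ : Q ≃* R) {A : Subgroup Q}
    (hA : A ∈ Cfsg.maxAbelianSubgroups Q) :
    A.map φ.toMonoidHom ∈ Cfsg.maxAbelianSubgroups R := by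
  obtain ⟨hAc, hAmax⟩ := hA
  have hinj : Function.Injective φ.toMonoidHom := φ.injective
  have hsurj : Function.Surjective φ.toMonoidHom := φ.surjective
  refine ⟨?_, ?_⟩
  · rw [isMulCommutative_iff_forall]
    rintro _ ⟨a, ha, rfl⟩ _ ⟨b, hb, rfl⟩
    have := (isMulCommutative_iff_forall A).mp hAc a ha b hb
    rw [← map_mul, ← map_mul, this]
  · intro C hC
    have hC' : IsMulCommutative ↥(C.comap φ.toMonoidHom) := by
      rw [isMulCommutative_iff_forall]
      intro x hx y hy
      apply hinj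
      rw [map_mul, map_mul]
      exact (isMulCommutative_iff_forall C).mp hC _ hx _ hy
    have h1 := hAmax _ hC'
    have h2 : Nat.card ↥(C.comap φ.toMonoidHom) = Nat.card ↥C := by
      rw [← Subgroup.card_map_of_injective hinj,
        Subgroup.map_comap_eq_self_of_surjective hsurj]
    rw [Subgroup.card_map_of_injective hinj, ← h2]
    exact h1

theorem thompsonSubgroupA_map_equiv {Q R : Type*} [Group Q] [Group R] (φ : Q ≃* R) :
    (Cfsg.thompsonSubgroupA Q).map φ.toMonoidHom = Cfsg.thompsonSubgroupA R := by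
  unfold Cfsg.thompsonSubgroupA
  apply le_antisymm
  · rw [Subgroup.map_le_iff_le_comap]
    apply sSup_le
    intro A hA
    rw [← Subgroup.map_le_iff_le_comap]
    exact le_sSup (map_equiv_mem_maxAbelian φ hA)
  · apply sSup_le
    intro B hB
    have h := map_equiv_mem_maxAbelian φ.symm hB
    have h2 : B = (B.map φ.symm.toMonoidHom).map φ.toMonoidHom := by
      rw [Subgroup.map_map]
      have : φ.toMonoidHom.comp φ.symm.toMonoidHom = MonoidHom.id R := by
        ext x; simp
      rw [this, Subgroup.map_id]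
    calc B = (B.map φ.symm.toMonoidHom).map φ.toMonoidHom := h2
      _ ≤ _ := Subgroup.map_mono (le_sSup h)

theorem thompsonSubgroupA_ne_bot {Q : Type*} [Group Q] [Finite Q] [Nontrivial Q] :
    Cfsg.thompsonSubgroupA Q ≠ ⊥ := by
  obtain ⟨A, hA⟩ := exists_mem_maxAbelian (G := Q)
  intro hbot
  have hAle : A ≤ Cfsg.thompsonSubgroupA Q := le_sSup hA
  rw [hbot, le_bot_iff] at hAle
  obtain ⟨g, hg⟩ := exists_ne (1 : Q)
  have hc : IsMulCommutative ↥(Subgroup.zpowers g) := inferInstance
  have h1 := hA.2 _ hc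
  rw [hAle, Subgroup.card_bot] at h1
  have h2 : Nat.card ↥(Subgroup.zpowers g) = 1 := le_antisymm h1 Nat.card_pos
  rw [Subgroup.card_eq_one, Subgroup.zpowers_eq_bot] at h2
  exact hg h2

/-- The abelian-version Thompson subgroup is an isomorphism-invariant `p`-group functor. -/
theorem isCharPFunctor_thompsonA (p : ℕ) :
    Cfsg.IsCharPFunctor.{u} p (fun (Q : Type u) [Group Q] => Cfsg.thompsonSubgroupA Q) := by
  refine ⟨?_, ?_⟩
  · intro Q _ _ _ hnt
    have := hnt
    exact thompsonSubgroupA_ne_bot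
  · intro Q R _ _ _ _ φ
    exact thompsonSubgroupA_map_equiv φ

theorem inducedFunctor_thompsonA {G : Type u} [Group G] (S : Subgroup G) :
    Cfsg.inducedFunctor (G := G) (fun (Q : Type u) [Group Q] => Cfsg.thompsonSubgroupA Q) S =
      Cfsg.thompsonSubgroupAOf S := rfl

end Functor

end Cfsg.Agent.Lib.Helper18
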