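import Mathlib
import Cfsg.Agent.Lib.Helper18.MaxAbelian
import Cfsg.Agent.Lib.Helper18.ProductFormula
import Cfsg.Agent.Lib.Helper18.CentrallyLarge
import Cfsg.Agent.H5.Replacement
import Cfsg.Agent.Lib.Helper1.ThompsonPQ
import Cfsg.Agent.Lib.Helper10.Basic
import Cfsg.Agent.Lib.Helper16.PCore

set_option autoImplicit false

/-!
# The Thompson replacement theorem for abelian subgroups of largest order

If `A` is an abelian subgroup of largest order of the `p`-group `S` and `V ≤ S` is an abelian normal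
subgroup of the ambient group, then there is an abelian subgroup `A₀` of largest order of `S` that is
normalized by `V` (so it acts quadratically on `V`), and that centralizes `V` only if `A` does.
As a consequence: if `J(P)` is not normal in `G`, some element of `P` outside `O_p(G)` acts
quadratically on `Z(O_p(G))`.
-/

namespace Cfsg.Agent.Lib.Helper18.ThompsonRepl

open Subgroup Cfsg Cfsg.Agent.Lib.Helper18
open scoped commutatorElement

variable {G : Type*} [Group G]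

theorem abelian_sup_fix {V Y : Subgroup G} (hVab : ∀ a ∈ V, ∀ b ∈ V, a * b = b * a)
    (hYab : ∀ a ∈ Y, ∀ b ∈ Y, a * b = b * a) :
    ∀ x ∈ Y ⊔ Cfsg.H5.fix V Y, ∀ y ∈ Y ⊔ Cfsg.H5.fix V Y, x * y = y * x := by
  have hmemfix : ∀ (x : G), x ∈ Cfsg.H5.fix V Y ↔ x ∈ V ∧ x ∈ centralizer (Y : Set G) :=
    fun x => Subgroup.mem_inf
  have hcomm : ∀ a ∈ Y, ∀ b ∈ Cfsg.H5.fix V Y, a * b = b * a := by
    intro a ha b hb
    exact Subgroup.mem_centralizer_iff.mp ((hmemfix b).mp hb).2 a ha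
  intro x hx y hy
  obtain ⟨a, ha, b, hb, rfl⟩ := (Cfsg.Agent.Lib.Helper10.mem_sup_of_commute Y _ hcomm).mp hx
  obtain ⟨a', ha', b', hb', rfl⟩ := (Cfsg.Agent.Lib.Helper10.mem_sup_of_commute Y _ hcomm).mp hy
  have h1 : a * a' = a' * a := hYab a ha a' ha'
  have h2 : b * b' = b' * b := hVab b ((hmemfix b).mp hb).1 b' ((hmemfix b').mp hb').1
  have h3 : a * b' = b' * a := hcomm a ha b' hb'
  have h4 : a' * b = b * a' := hcomm a' ha' b hb
  calc a * b * (a' * b') = a * (b * a') * b' := by group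
    _ = a * (a' * b) * b' := by rw [h4]
    _ = (a * a') * (b * b') := by group
    _ = (a' * a) * (b' * b) := by rw [h1, h2]
    _ = a' * (a * b') * b := by group
    _ = a' * (b' * a) * b := by rw [h3]
    _ = a' * b' * (a * b) := by group

/-- An abelian subgroup of largest order of `S` is a best offender on every abelian subgroup `V ≤ S`. -/
theorem mm_le_of_isMaxAbIn [Finite G] {S V A : Subgroup G} (hVS : V ≤ S)
    (hVab : ∀ a ∈ V, ∀ b ∈ V, a * b = b * a) (hA : IsMaxAbIn S A) :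
    ∀ Y : Subgroup G, Y ≤ A → Cfsg.H5.mm V Y ≤ Cfsg.H5.mm V A := by
  intro Y hY
  have hmemfix : ∀ (X : Subgroup G) (x : G),
      x ∈ Cfsg.H5.fix V X ↔ x ∈ V ∧ x ∈ centralizer (X : Set G) := fun X x => Subgroup.mem_inf
  have hYab : ∀ a ∈ Y, ∀ b ∈ Y, a * b = b * a := fun a ha b hb => hA.2.1 a (hY ha) b (hY hb)
  have hEab := abelian_sup_fix hVab hYab
  have hES : Y ⊔ Cfsg.H5.fix V Y ≤ S := sup_le (hY.trans hA.1) ((Cfsg.H5.fix_le V Y).trans hVS)
  have h1 := hA.2.2 _ hES hEab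
  have h2 := card_mul_card_le_card_sup_mul_card_inf Y (Cfsg.H5.fix V Y)
  have h3 : Y ⊓ Cfsg.H5.fix V Y ≤ Cfsg.H5.fix V A := by
    intro x hx
    obtain ⟨hx1, hx2⟩ := Subgroup.mem_inf.mp hx
    rw [hmemfix] at hx2 ⊢
    refine ⟨hx2.1, ?_⟩
    rw [Subgroup.mem_centralizer_iff]
    intro b hb
    exact hA.2.1 b hb x (hY hx1)
  have h4 := Subgroup.card_le_of_le h3
  show Nat.card Y * Nat.card (Cfsg.H5.fix V Y) ≤ Nat.card A * Nat.card (Cfsg.H5.fix V A)
  exact h2.trans (Nat.mul_le_mul h1 h4)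

/-- The fixed points on `V` of an abelian subgroup of largest order lie in it. -/
theorem fix_le_of_isMaxAbIn [Finite G] {S V A : Subgroup G} (hVS : V ≤ S)
    (hVab : ∀ a ∈ V, ∀ b ∈ V, a * b = b * a) (hA : IsMaxAbIn S A) : Cfsg.H5.fix V A ≤ A := by
  have hEab := abelian_sup_fix hVab hA.2.1
  have hES : A ⊔ Cfsg.H5.fix V A ≤ S := sup_le hA.1 ((Cfsg.H5.fix_le V A).trans hVS)
  have h1 := hA.2.2 _ hES hEab
  have h0 : A ≤ A ⊔ Cfsg.H5.fix V A := le_sup_left
  have h2 : A = A ⊔ Cfsg.H5.fix V A := Subgroup.eq_of_le_of_card_ge h0 h1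
  have h3 : Cfsg.H5.fix V A ≤ A ⊔ Cfsg.H5.fix V A := le_sup_right
  exact h3.trans (le_of_eq h2.symm)

/-- **Thompson replacement** (in Timmesfeld's form) for abelian subgroups of largest order. -/
theorem replacement_maxAb [Finite G] {p : ℕ} [Fact p.Prime] {S V A : Subgroup G} (hS : IsPGroup p S)
    [hVn : V.Normal] (hVS : V ≤ S) (hVab : ∀ a ∈ V, ∀ b ∈ V, a * b = b * a) (hA : IsMaxAbIn S A) :
    ∃ A₀ : Subgroup G, IsMaxAbIn S A₀ ∧ ⁅V, A₀⁆ ≤ A₀ ∧
      (A₀ ≤ centralizer (V : Set G) → A ≤ centralizer (V : Set G)) := by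
  have hVc : IsMulCommutative V := (isMulCommutative_iff_forall V).mpr hVab
  have hAV : A ≤ normalizer (V : Set G) := by
    rw [Subgroup.normalizer_eq_top_iff.mpr hVn]; exact le_top
  have hAcent : A ≤ centralizer (A : Set G) := by
    intro b hb
    rw [Subgroup.mem_centralizer_iff]
    intro c hc
    exact hA.2.1 c hc b hb
  have hab : ⁅A, A⁆ ≤ centralizer (V : Set G) := by
    rw [Subgroup.commutator_eq_bot_iff_le_centralizer.mpr hAcent]; exact bot_le
  have hmemfix : ∀ (X : Subgroup G) (x : G),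
      x ∈ Cfsg.H5.fix V X ↔ x ∈ V ∧ x ∈ centralizer (X : Set G) := fun X x => Subgroup.mem_inf
  have hmax := mm_le_of_isMaxAbIn hVS hVab hA
  obtain ⟨hmm, hfix⟩ := Cfsg.H5.replacement V A hAV hab hmax V le_rfl
  obtain ⟨R, hR⟩ : ∃ R : Subgroup G, R = ⁅V, A⁆ := ⟨_, rfl⟩
  rw [← hR] at hmm hfix
  obtain ⟨B₁, hB₁⟩ : ∃ B₁ : Subgroup G, B₁ = A ⊓ centralizer (R : Set G) := ⟨_, rfl⟩
  rw [← hB₁] at hmm hfix
  have hB₁A : B₁ ≤ A := by rw [hB₁]; exact inf_le_left
  have hRV : R ≤ V := by rw [hR]; exact Subgroup.commutator_le_left V A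
  have hB₁ab : ∀ a ∈ B₁, ∀ b ∈ B₁, a * b = b * a := fun a ha b hb => hA.2.1 a (hB₁A ha) b (hB₁A hb)
  have hfixA : Cfsg.H5.fix V A ≤ A := fix_le_of_isMaxAbIn hVS hVab hA
  obtain ⟨A₀, hA₀⟩ : ∃ A₀ : Subgroup G, A₀ = B₁ ⊔ Cfsg.H5.fix V B₁ := ⟨_, rfl⟩
  have hA₀ab : ∀ x ∈ A₀, ∀ y ∈ A₀, x * y = y * x := by
    rw [hA₀]; exact abelian_sup_fix hVab hB₁ab
  have hA₀S : A₀ ≤ S := by
    rw [hA₀]
    exact sup_le (hB₁A.trans hA.1) ((Cfsg.H5.fix_le V B₁).trans hVS)
  have hcardle : Nat.card A ≤ Nat.card A₀ := by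
    have h2 := card_mul_card_le_card_sup_mul_card_inf B₁ (Cfsg.H5.fix V B₁)
    have h3 : B₁ ⊓ Cfsg.H5.fix V B₁ ≤ Cfsg.H5.fix V A := by
      intro x hx
      obtain ⟨hx1, hx2⟩ := Subgroup.mem_inf.mp hx
      rw [hmemfix] at hx2 ⊢
      refine ⟨hx2.1, ?_⟩
      rw [Subgroup.mem_centralizer_iff]
      intro b hb
      exact hA.2.1 b hb x (hB₁A hx1)
    have h4 := Subgroup.card_le_of_le h3
    have h5 : Nat.card B₁ * Nat.card (Cfsg.H5.fix V B₁) = Nat.card A * Nat.card (Cfsg.H5.fix V A) := hmm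
    rw [← hA₀] at h2
    have hpos : 0 < Nat.card (Cfsg.H5.fix V A) := Nat.card_pos
    have h6 : Nat.card A * Nat.card (Cfsg.H5.fix V A) ≤ Nat.card A₀ * Nat.card (Cfsg.H5.fix V A) := by
      calc Nat.card A * Nat.card (Cfsg.H5.fix V A) = Nat.card B₁ * Nat.card (Cfsg.H5.fix V B₁) := h5.symm
        _ ≤ Nat.card A₀ * Nat.card ↥(B₁ ⊓ Cfsg.H5.fix V B₁) := h2
        _ ≤ Nat.card A₀ * Nat.card (Cfsg.H5.fix V A) := Nat.mul_le_mul_left _ h4
    exact Nat.le_of_mul_le_mul_right h6 hpos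
  have hA₀max : IsMaxAbIn S A₀ :=
    ⟨hA₀S, hA₀ab, fun C hC hCab => (hA.2.2 C hC hCab).trans hcardle⟩
  refine ⟨A₀, hA₀max, ?_, ?_⟩
  · -- `[V, A₀] ≤ A₀`
    rw [Subgroup.commutator_le]
    intro v hv y hy
    have hcomm : ∀ a ∈ B₁, ∀ b ∈ Cfsg.H5.fix V B₁, a * b = b * a := by
      intro a ha b hb
      exact Subgroup.mem_centralizer_iff.mp ((hmemfix B₁ b).mp hb).2 a ha
    rw [hA₀] at hy
    obtain ⟨b, hb, f, hf, rfl⟩ := (Cfsg.Agent.Lib.Helper10.mem_sup_of_commute B₁ _ hcomm).mp hy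
    have hfV : f ∈ V := ((hmemfix B₁ f).mp hf).1
    have hvf : v * f = f * v := hVab v hv f hfV
    have e : ⁅v, b * f⁆ = ⁅v, b⁆ := by
      rw [commutatorElement_def, commutatorElement_def]
      have hbv : b * v⁻¹ * b⁻¹ ∈ V := hVn.conj_mem v⁻¹ (V.inv_mem hv) b
      have hfc : f * (b * v⁻¹ * b⁻¹) = (b * v⁻¹ * b⁻¹) * f := hVab f hfV _ hbv
      calc v * (b * f) * v⁻¹ * (b * f)⁻¹ = v * b * (f * v⁻¹) * f⁻¹ * b⁻¹ := by group
        _ = v * b * (v⁻¹ * f) * f⁻¹ * b⁻¹ := by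
            have : f * v⁻¹ = v⁻¹ * f := by
              calc f * v⁻¹ = v⁻¹ * (v * f) * v⁻¹ := by group
                _ = v⁻¹ * (f * v) * v⁻¹ := by rw [hvf]
                _ = v⁻¹ * f := by group
            rw [this]
        _ = v * b * v⁻¹ * b⁻¹ := by group
    rw [e]
    have h1 : ⁅v, b⁆ ∈ R := by
      rw [hR]
      exact Subgroup.commutator_mem_commutator hv (hB₁A hb)
    have h2 : ⁅v, b⁆ ∈ Cfsg.H5.fix V B₁ := by
      rw [hfix]; exact (le_sup_left : R ≤ R ⊔ Cfsg.H5.fix V A) h1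
    rw [hA₀]
    exact (le_sup_right : Cfsg.H5.fix V B₁ ≤ B₁ ⊔ Cfsg.H5.fix V B₁) h2
  · intro hA₀C
    have hB₁C : B₁ ≤ centralizer (V : Set G) := by
      refine le_trans ?_ hA₀C
      rw [hA₀]; exact le_sup_left
    have h1 : Cfsg.H5.fix V B₁ = V := by
      apply le_antisymm (Cfsg.H5.fix_le V B₁)
      intro v hv
      rw [hmemfix]
      refine ⟨hv, ?_⟩
      rw [Subgroup.mem_centralizer_iff]
      intro b hb
      exact (Subgroup.mem_centralizer_iff.mp (hB₁C hb) v hv).symm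
    rw [h1] at hfix
    have hcomm' : ∀ a ∈ R, ∀ b ∈ Cfsg.H5.fix V A, a * b = b * a := fun a ha b hb =>
      hVab a (hRV ha) b ((hmemfix A b).mp hb).1
    have hRle' : ⁅V, A⁆ ≤ ⁅R, A⁆ := by
      rw [Subgroup.commutator_le]
      intro v hv b hb
      have hv' : v ∈ R ⊔ Cfsg.H5.fix V A := by rw [← hfix]; exact hv
      obtain ⟨c, hc, f, hf, rfl⟩ :=
        (Cfsg.Agent.Lib.Helper10.mem_sup_of_commute R _ hcomm').mp hv'
      have hfb : f * b = b * f :=
        (Subgroup.mem_centralizer_iff.mp ((hmemfix A f).mp hf).2 b hb).symm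
      have e : ⁅c * f, b⁆ = ⁅c, b⁆ := by
        rw [commutatorElement_def, commutatorElement_def]
        calc c * f * b * (c * f)⁻¹ * b⁻¹ = c * (f * b) * f⁻¹ * c⁻¹ * b⁻¹ := by group
          _ = c * (b * f) * f⁻¹ * c⁻¹ * b⁻¹ := by rw [hfb]
          _ = c * b * c⁻¹ * b⁻¹ := by group
      rw [e]
      exact Subgroup.commutator_mem_commutator hc hb
    have hAR : A ≤ normalizer (R : Set G) := by
      intro b hb
      rw [hR]
      exact Cfsg.Agent.Lib.Helper1.mem_normalizer_commutator_of_mem_centralizer (hAV hb)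
        (hAcent hb)
    have hRA : ⁅R, A⁆ = R :=
      le_antisymm (Subgroup.le_normalizer_iff_commutator_le_left.mp hAR) (hR.le.trans hRle')
    have hAp : IsPGroup p A := hS.to_le hA.1
    have hRp : IsPGroup p R := hS.to_le (hRV.trans hVS)
    have hRbot : R = ⊥ :=
      Cfsg.Agent.Lib.Helper1.eq_bot_of_commutator_eq_of_isPGroup hAp hRp hAR hRA
    rw [hR, Subgroup.commutator_eq_bot_iff_le_centralizer] at hRbot
    intro b hb
    rw [Subgroup.mem_centralizer_iff]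
    intro v hv
    exact (Subgroup.mem_centralizer_iff.mp (hRbot hv) b hb).symm

/-- The centre of a finite group lies in its abelian-version Thompson subgroup. -/
theorem center_le_thompsonSubgroupA (Q : Type*) [Group Q] [Finite Q] :
    Subgroup.center Q ≤ Cfsg.thompsonSubgroupA Q := by
  obtain ⟨A, hA⟩ := exists_mem_maxAbelian (G := Q)
  have hAab := (isMulCommutative_iff_forall A).mp hA.1
  have hcomm : ∀ a ∈ A, ∀ b ∈ Subgroup.center Q, a * b = b * a := fun a _ b hb =>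
    (Subgroup.mem_center_iff.mp hb a)
  have hEab : ∀ x ∈ A ⊔ Subgroup.center Q, ∀ y ∈ A ⊔ Subgroup.center Q, x * y = y * x := by
    intro x hx y hy
    obtain ⟨a, ha, b, hb, rfl⟩ := (Cfsg.Agent.Lib.Helper10.mem_sup_of_commute A _ hcomm).mp hx
    obtain ⟨a', ha', b', hb', rfl⟩ := (Cfsg.Agent.Lib.Helper10.mem_sup_of_commute A _ hcomm).mp hy
    have h1 : a * a' = a' * a := hAab a ha a' ha'
    have h2 : ∀ g : Q, b * g = g * b := fun g => (Subgroup.mem_center_iff.mp hb g).symm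
    have h3 : ∀ g : Q, b' * g = g * b' := fun g => (Subgroup.mem_center_iff.mp hb' g).symm
    calc a * b * (a' * b') = a * (b * (a' * b')) := by group
      _ = a * ((a' * b') * b) := by rw [h2]
      _ = (a * a') * b' * b := by group
      _ = (a' * a) * b' * b := by rw [h1]
      _ = a' * (a * b') * b := by group
      _ = a' * (b' * a) * b := by rw [h3]
      _ = a' * b' * (a * b) := by group
  have h1 := hA.2 _ ((isMulCommutative_iff_forall _).mpr hEab)
  have h0 : A ≤ A ⊔ Subgroup.center Q := le_sup_left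
  have h2 : A = A ⊔ Subgroup.center Q := Subgroup.eq_of_le_of_card_ge h0 h1
  calc Subgroup.center Q ≤ A ⊔ Subgroup.center Q := le_sup_right
    _ = A := h2.symm
    _ ≤ Cfsg.thompsonSubgroupA Q := le_sSup hA

/-- The image in `G` of the centre of a normal subgroup is `Q ∩ C_G(Q)`. -/
theorem map_center_eq (Q : Subgroup G) :
    (Subgroup.center ↥Q).map Q.subtype = Q ⊓ centralizer (Q : Set G) := by
  ext x
  constructor
  · rintro ⟨c, hc, rfl⟩
    refine ⟨c.2, Subgroup.mem_centralizer_iff.mpr ?_⟩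
    intro m hm
    have h1 := Subgroup.mem_center_iff.mp hc ⟨m, hm⟩
    exact congrArg Subtype.val h1
  · rintro ⟨hxQ, hxc⟩
    refine ⟨⟨x, hxQ⟩, ?_, rfl⟩
    rw [SetLike.mem_coe, Subgroup.mem_center_iff]
    intro m
    apply Subtype.ext
    exact (Subgroup.mem_centralizer_iff.mp hxc) (m : G) m.2

/-- If `J(P)` is not normal in `G`, some element of `P` outside `O_p(G)` acts quadratically on
`Z(O_p(G))`. -/
theorem exists_quadratic [Finite G] {p : ℕ} [Fact p.Prime] (P : Sylow p G)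
    (hn : ¬ (Cfsg.thompsonSubgroupAOf (P : Subgroup G)).Normal) :
    ∃ g : G, g ∈ (P : Subgroup G) ∧ g ∉ Cfsg.pCore p G ∧
      ⁅⁅(Subgroup.center ↥(Cfsg.pCore p G)).map (Cfsg.pCore p G).subtype, Subgroup.zpowers g⁆,
        Subgroup.zpowers g⁆ = ⊥ := by
  obtain ⟨Q, hQ⟩ : ∃ Q : Subgroup G, Q = Cfsg.pCore p G := ⟨_, rfl⟩
  rw [← hQ]
  haveI hQn : Q.Normal := hQ ▸ Cfsg.Agent.Lib.Helper16.pCore_normal
  have hQP : Q ≤ (P : Subgroup G) := hQ ▸ Cfsg.Agent.Lib.Helper16.pCore_le_sylow P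
  rw [map_center_eq]
  obtain ⟨V, hV⟩ : ∃ V : Subgroup G, V = Q ⊓ centralizer (Q : Set G) := ⟨_, rfl⟩
  rw [← hV]
  haveI hVn : V.Normal := by rw [hV]; exact Subgroup.normal_inf_normal _ _
  have hVQ : V ≤ Q := hV ▸ inf_le_left
  have hVP : V ≤ (P : Subgroup G) := hVQ.trans hQP
  have hVab : ∀ a ∈ V, ∀ b ∈ V, a * b = b * a := by
    intro a ha b hb
    rw [hV] at ha hb
    exact Subgroup.mem_centralizer_iff.mp hb.2 a ha.1
  have hQC : Q ≤ centralizer (V : Set G) := by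
    intro q hq
    rw [Subgroup.mem_centralizer_iff]
    intro v hv
    rw [hV] at hv
    exact (Subgroup.mem_centralizer_iff.mp hv.2 q hq).symm
  -- some abelian subgroup of largest order is not contained in `Q`
  have hex : ∃ B, IsMaxAbIn (P : Subgroup G) B ∧ ¬ B ≤ Q := by
    by_contra hcon
    push Not at hcon
    exact hn (thompsonSubgroupAOf_normal_of_le (P : Subgroup G) Q hQP hcon)
  obtain ⟨B, hB, hBQ⟩ := hex
  -- an abelian subgroup of largest order normalized by `V`, outside `Q`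
  obtain ⟨A₀, hA₀, hVA₀, hA₀Q⟩ : ∃ A₀, IsMaxAbIn (P : Subgroup G) A₀ ∧
      (⁅V, A₀⁆ ≤ A₀) ∧ ¬ A₀ ≤ Q := by
    by_cases hBC : B ≤ centralizer (V : Set G)
    · refine ⟨B, hB, ?_, hBQ⟩
      have h1 : ⁅V, B⁆ = ⊥ := by
        rw [Subgroup.commutator_eq_bot_iff_le_centralizer]
        exact Subgroup.le_centralizer_iff.mp hBC
      rw [h1]; exact bot_le
    · obtain ⟨A₀, h1, h2, h3⟩ := replacement_maxAb P.2 hVP hVab hB
      exact ⟨A₀, h1, h2, fun h => hBC (h3 (h.trans hQC))⟩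
  obtain ⟨g, hgA, hgQ⟩ := SetLike.not_le_iff_exists.mp hA₀Q
  refine ⟨g, hA₀.1 hgA, hgQ, ?_⟩
  have hz : Subgroup.zpowers g ≤ A₀ := by
    rw [Subgroup.zpowers_le]; exact hgA
  have h1 : ⁅V, Subgroup.zpowers g⁆ ≤ A₀ := (Subgroup.commutator_mono le_rfl hz).trans hVA₀
  have h2 : ⁅⁅V, Subgroup.zpowers g⁆, Subgroup.zpowers g⁆ ≤ ⁅A₀, A₀⁆ := Subgroup.commutator_mono h1 hz
  have h3 : ⁅A₀, A₀⁆ = ⊥ := by
    rw [Subgroup.commutator_eq_bot_iff_le_centralizer]
    intro b hb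
    rw [Subgroup.mem_centralizer_iff]
    intro c hc
    exact hA₀.2.1 c hc b hb
  rw [h3] at h2
  exact le_bot_iff.mp h2

end Cfsg.Agent.Lib.Helper18.ThompsonRepl
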