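import Mathlib
import Cfsg.Agent.S0444
import Cfsg.Agent.Lib.Helper27.Involves

set_option autoImplicit false

/-!
# Finding the symmetric group of degree `3`

`involves_s3_of_inverted`: an involution inverting an element of order `3` generates with it a
subgroup isomorphic to `S₃`; in particular `S₃` is involved in the group.
-/

namespace Cfsg.Agent.Lib.Helper18.S3Section

/-- An involution `e` inverting an element `z` of order `3`: the subgroup generated by `e` and
`z e z⁻¹` is isomorphic to the symmetric group of degree `3`. -/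
theorem nonempty_closure_mulEquiv_perm_three {Γ : Type*} [Group Γ] (e z : Γ) (he2 : e ^ 2 = 1)
    (hz1 : z ≠ 1) (hz3 : z ^ 3 = 1) (hinv : e * z * e⁻¹ = z⁻¹) :
    Nonempty (Subgroup.closure ({e, z * e * z⁻¹} : Set Γ) ≃* Equiv.Perm (Fin 3)) := by
  have hee : e * e = 1 := by rw [← pow_two]; exact he2
  have heinv : e⁻¹ = e := inv_eq_of_mul_eq_one_right hee
  have hzz : z * z ≠ 1 := by
    intro h
    apply hz1
    calc z = z ^ 3 * (z * z)⁻¹ := by group
      _ = 1 := by rw [hz3, h, inv_one, mul_one]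
  have he1 : e ≠ 1 := by
    rintro rfl
    rw [one_mul, inv_one, mul_one] at hinv
    apply hzz
    nth_rewrite 1 [hinv]
    exact inv_mul_cancel z
  obtain ⟨e', he'⟩ : ∃ e' : Γ, e' = z * e * z⁻¹ := ⟨_, rfl⟩
  rw [← he']
  have he'e' : e' * e' = 1 := by
    rw [he']
    calc z * e * z⁻¹ * (z * e * z⁻¹) = z * (e * e) * z⁻¹ := by group
      _ = 1 := by rw [hee]; group
  have he'1 : e' ≠ 1 := by
    intro h
    apply he1
    rw [he'] at h
    calc e = z⁻¹ * (z * e * z⁻¹) * z := by group
      _ = 1 := by rw [h]; group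
  have hprod : e * e' = z⁻¹ * z⁻¹ := by
    rw [he']
    calc e * (z * e * z⁻¹) = (e * z * e) * z⁻¹ := by group
      _ = (e * z * e⁻¹) * z⁻¹ := by rw [heinv]
      _ = z⁻¹ * z⁻¹ := by rw [hinv]
  have hprod' : e' * e = z * z := by
    rw [he']
    calc z * e * z⁻¹ * e = z * e * z⁻¹ * e⁻¹ := by rw [heinv]
      _ = z * (e * z * e⁻¹)⁻¹ := by group
      _ = z * z := by rw [hinv, inv_inv]
  have hz6 : z ^ 6 = 1 := by
    have h6 : z ^ 6 = (z ^ 3) ^ 2 := by rw [← pow_mul]
    rw [h6, hz3, one_pow]
  have hE : Cfsg.IsThreeTranspositionSet ({e, e'} : Set Γ) := by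
    refine ⟨?_, ?_⟩
    · intro d hd
      rcases hd with rfl | rfl
      · exact orderOf_eq_prime he2 he1
      · exact orderOf_eq_prime (by rw [pow_two]; exact he'e') he'1
    · intro d hd f hf
      rcases hd with rfl | rfl <;> rcases hf with rfl | rfl
      · left; rw [hee, one_pow]
      · right
        rw [hprod, ← pow_two, ← pow_mul, inv_pow, show z ^ (2 * 3) = 1 from hz6, inv_one]
      · right
        rw [hprod', ← pow_two, ← pow_mul]
        exact hz6
      · left; rw [he'e', one_pow]
  have hnc : ¬ Commute e e' := by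
    intro hc
    have h : z⁻¹ * z⁻¹ = z * z := by rw [← hprod, ← hprod']; exact hc.eq
    have h4 : z ^ 4 = 1 := by
      have e4 : z ^ 4 = (z * z) * (z * z) := by
        simp only [pow_succ, pow_zero, one_mul, mul_assoc]
      rw [e4]
      nth_rewrite 1 [← h]
      group
    apply hz1
    calc z = z ^ 4 * (z ^ 3)⁻¹ := by group
      _ = 1 := by rw [h4, hz3, inv_one, mul_one]
  exact Cfsg.Agent.S0444.result hE (Set.mem_insert _ _) (Set.mem_insert_of_mem _ rfl) hnc

/-- An involution inverting an element of order `3`: the symmetric group of degree `3` is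
involved. -/
theorem involves_s3_of_inverted {Γ : Type*} [Group Γ] (e z : Γ) (he2 : e ^ 2 = 1)
    (hz1 : z ≠ 1) (hz3 : z ^ 3 = 1) (hinv : e * z * e⁻¹ = z⁻¹) :
    Cfsg.Involves (Equiv.Perm (Fin 3)) Γ := by
  obtain ⟨iso⟩ := nonempty_closure_mulEquiv_perm_three e z he2 hz1 hz3 hinv
  rw [Cfsg.Agent.Lib.Helper27.involves_iff]
  exact ⟨Subgroup.closure {e, z * e * z⁻¹}, iso.toMonoidHom, iso.surjective⟩

end Cfsg.Agent.Lib.Helper18.S3Section
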