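import Mathlib
import Cfsg.Prelude.Def_LocalEven
import Cfsg.Agent.Lib.Helper27.Involves
import Cfsg.Agent.Lib.Helper10.Basic
import Cfsg.Agent.Lib.Helper18.Conj
import Cfsg.Agent.Lib.Helper18.ProductFormula

set_option autoImplicit false

/-!
# Finding a section isomorphic to `S₄`

* `mem_normalizer_of_forall_conj_mem` : in a finite group, `g X g⁻¹ ⊆ X` puts `g` in `N(X)`.
* `exists_mem_cj_eq_of_sylow` : Sylow conjugacy inside a subgroup `L` of an ambient group.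
* `involves_s4_of_normal_klein` : a normal four-group `W`, an element `y` of order `3` acting without
  fixed points on `W`, and an element `x` inverting `y` with `x²` centralizing `W`, yield a section
  isomorphic to `S₄`.
-/

namespace Cfsg.Agent.Lib.Helper18

open Subgroup

universe u

section Norm

variable {G : Type*} [Group G]

theorem mem_normalizer_of_forall_conj_mem [Finite G] (g : G) (X : Subgroup G)
    (h : ∀ x ∈ X, g * x * g⁻¹ ∈ X) : g ∈ normalizer (X : Set G) := by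
  rw [mem_normalizer_iff_cj]
  apply cj_eq_of_le
  rintro _ ⟨x, hx, rfl⟩
  simpa [MulAut.conj_apply] using h x hx

theorem cj_le_of_smul_sylow_eq {p : ℕ} [Fact p.Prime] (L Q₁ Q₂ : Subgroup G) (h1 : Q₁ ≤ L)
    (S₁ S₂ : Sylow p L) (hS₁ : (S₁ : Subgroup L) = Q₁.subgroupOf L)
    (hS₂ : (S₂ : Subgroup L) = Q₂.subgroupOf L) (k : L) (hk : k • S₁ = S₂) :
    cj (k : G) Q₁ ≤ Q₂ := by
  rintro _ ⟨q, hq, rfl⟩
  have h1' : (⟨q, h1 hq⟩ : L) ∈ (S₁ : Subgroup L) := by
    rw [hS₁]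
    exact Subgroup.mem_subgroupOf.mpr hq
  have h2' : MulAut.conj k • (⟨q, h1 hq⟩ : L) ∈ ((k • S₁ : Sylow p L) : Subgroup L) := by
    rw [Sylow.coe_subgroup_smul]
    exact Subgroup.smul_mem_pointwise_smul _ _ _ h1'
  rw [hk, hS₂] at h2'
  simpa [Subgroup.mem_subgroupOf, MulAut.smul_def] using h2'

/-- Sylow conjugacy inside a subgroup `L`: two `p`-subgroups of `L` of index prime to `p` in `L`
are conjugate by an element of `L`. -/
theorem exists_mem_cj_eq_of_sylow [Finite G] {p : ℕ} [Fact p.Prime] (L Q₁ Q₂ : Subgroup G)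
    (h1 : Q₁ ≤ L) (h2 : Q₂ ≤ L) (hQ₁ : IsPGroup p Q₁) (hQ₂ : IsPGroup p Q₂)
    (hi₁ : ¬ p ∣ Q₁.relIndex L) (hi₂ : ¬ p ∣ Q₂.relIndex L) : ∃ l ∈ L, cj l Q₁ = Q₂ := by
  have hQ₁' : IsPGroup p (Q₁.subgroupOf L) := hQ₁.comap_subtype
  have hQ₂' : IsPGroup p (Q₂.subgroupOf L) := hQ₂.comap_subtype
  have hS₁ : ((hQ₁'.toSylow hi₁ : Sylow p L) : Subgroup L) = Q₁.subgroupOf L :=
    IsPGroup.toSylow_coe _ _
  have hS₂ : ((hQ₂'.toSylow hi₂ : Sylow p L) : Subgroup L) = Q₂.subgroupOf L :=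
    IsPGroup.toSylow_coe _ _
  obtain ⟨k, hk⟩ := MulAction.exists_smul_eq L (hQ₁'.toSylow hi₁) (hQ₂'.toSylow hi₂)
  refine ⟨k, k.2, le_antisymm ?_ ?_⟩
  · exact cj_le_of_smul_sylow_eq L Q₁ Q₂ h1 _ _ hS₁ hS₂ k hk
  · have hk' : k⁻¹ • (hQ₂'.toSylow hi₂ : Sylow p L) = hQ₁'.toSylow hi₁ := by
      rw [← hk, inv_smul_smul]
    have := cj_le_of_smul_sylow_eq L Q₂ Q₁ h2 _ _ hS₂ hS₁ k⁻¹ hk'
    rw [Subgroup.coe_inv, cj_le_iff_le_cj_inv, inv_inv] at this
    exact this

end Norm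

section S4

variable {G : Type u} [Group G] [Finite G]

/-- A normal four-group `W`, an element `y` of order `3` acting fixed-point-freely on `W`, and an
element `x` inverting `y` whose square centralizes `W` generate a subgroup mapping onto `S₄`. -/
theorem involves_s4_of_normal_klein (W : Subgroup G) [hWn : W.Normal] (y x : G)
    (hW4 : Nat.card W = 4) (hy3 : orderOf y = 3) (hxy : x * y * x⁻¹ = y⁻¹)
    (hfpf : ∀ w ∈ W, y * w * y⁻¹ = w → w = 1) :
    Cfsg.Involves (Equiv.Perm (Fin 4)) G := by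
  classical
  have hp3 : Fact (Nat.Prime 3) := ⟨by norm_num⟩
  have hp2 : Fact (Nat.Prime 2) := ⟨by norm_num⟩
  set Y : Subgroup G := Subgroup.zpowers y with hY
  have hyY : y ∈ Y := Subgroup.mem_zpowers y
  have hYcard : Nat.card Y = 3 := by rw [hY, Nat.card_zpowers, hy3]
  have hy3' : y ^ 3 = 1 := by rw [← hy3]; exact pow_orderOf_eq_one y
  -- `x` normalizes `Y`
  have hxY : x ∈ normalizer (Y : Set G) := by
    apply mem_normalizer_of_forall_conj_mem
    intro n hn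
    obtain ⟨k, rfl⟩ := Subgroup.mem_zpowers_iff.mp hn
    have e : x * y ^ k * x⁻¹ = (y⁻¹) ^ k := by
      rw [← hxy, conj_zpow]
    rw [e]
    exact Subgroup.zpow_mem _ (Subgroup.inv_mem _ hyY) k
  set K₀ : Subgroup G := Y ⊔ Subgroup.zpowers x with hK₀
  have hyK : y ∈ K₀ := (le_sup_left : Y ≤ K₀) hyY
  have hxK : x ∈ K₀ := (le_sup_right : Subgroup.zpowers x ≤ K₀) (Subgroup.mem_zpowers x)
  have hKY : K₀ ≤ normalizer (Y : Set G) := by
    apply sup_le Subgroup.le_normalizer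
    rw [Subgroup.zpowers_le]; exact hxY
  have hWY : W ⊓ Y = ⊥ := by
    apply disjoint_iff.mp
    apply Subgroup.disjoint_of_coprime_natCard
    rw [hW4, hYcard]; decide
  have hWK : W ⊓ K₀ = ⊥ := by
    rw [eq_bot_iff]
    intro w hw
    rw [Subgroup.mem_bot]
    have hw1 : w ∈ W := (Subgroup.mem_inf.mp hw).1
    have hw2 : w ∈ K₀ := (Subgroup.mem_inf.mp hw).2
    apply hfpf w hw1
    have h1 : y * w * y⁻¹ * w⁻¹ ∈ W ⊓ Y := by
      refine Subgroup.mem_inf.mpr ⟨W.mul_mem (hWn.conj_mem w hw1 y) (W.inv_mem hw1), ?_⟩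
      have h2 : w * y⁻¹ * w⁻¹ ∈ Y :=
        (Subgroup.mem_normalizer_iff.mp (hKY hw2) y⁻¹).mp (Y.inv_mem hyY)
      have e : y * w * y⁻¹ * w⁻¹ = y * (w * y⁻¹ * w⁻¹) := by group
      rw [e]
      exact Y.mul_mem hyY h2
    rw [hWY, Subgroup.mem_bot] at h1
    exact mul_inv_eq_one.mp h1
  -- the subgroup `H = K₀ W`
  set H : Subgroup G := K₀ ⊔ W with hH
  have hK₀H : K₀ ≤ H := le_sup_left
  have hWH : W ≤ H := le_sup_right
  have hcardH : Nat.card H = 4 * Nat.card K₀ := by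
    rw [hH, card_sup_eq_card_mul_relIndex K₀ W, Subgroup.relIndex_sup_right K₀ W, hW4]
    have h1 := card_eq_card_inf_mul_relIndex K₀ W
    rw [inf_comm, hWK, Subgroup.card_bot, one_mul] at h1
    rw [h1]
  set K₀' : Subgroup H := K₀.subgroupOf H with hK₀'
  have hcardK₀' : Nat.card K₀' = Nat.card K₀ :=
    Nat.card_congr (Subgroup.subgroupOfEquivOfLe hK₀H).toEquiv
  have hidx : K₀'.index = 4 := by
    have h1 := Subgroup.card_mul_index K₀'
    rw [hcardK₀', hcardH] at h1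
    have hpos : 0 < Nat.card K₀ := Nat.card_pos
    exact Nat.eq_of_mul_eq_mul_left hpos (h1.trans (mul_comm 4 _))
  have hΩ : Nat.card (H ⧸ K₀') = 4 := by
    rw [← Subgroup.index_eq_card]; exact hidx
  set f : H →* Equiv.Perm (H ⧸ K₀') := MulAction.toPermHom H (H ⧸ K₀') with hf
  have hperm : Nat.card (Equiv.Perm (H ⧸ K₀')) = 24 := by
    rw [Nat.card_perm, hΩ]; rfl
  have hker : f.ker = K₀'.normalCore := (Subgroup.normalCore_eq_ker K₀').symm
  have hkerle : f.ker ≤ K₀' := by rw [hker]; exact Subgroup.normalCore_le K₀'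
  have hkern : f.ker.Normal := inferInstance
  have hcardrange : Nat.card f.ker * Nat.card f.range = Nat.card H := by
    rw [← Subgroup.index_ker f]; exact Subgroup.card_mul_index f.ker
  set N₁ : Subgroup G := f.ker.map H.subtype with hN₁
  have hN₁card : Nat.card N₁ = Nat.card f.ker :=
    Subgroup.card_map_of_injective H.subtype_injective
  have hN₁K : N₁ ≤ K₀ := by
    rintro _ ⟨n, hn, rfl⟩
    exact Subgroup.mem_subgroupOf.mp (hkerle hn)
  have hN₁C : N₁ ≤ centralizer (W : Set G) := by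
    rintro _ ⟨n, hn, rfl⟩
    rw [Subgroup.mem_centralizer_iff]
    intro w hw
    have hwH : w ∈ H := hWH hw
    have h1 : (⟨w, hwH⟩ : H) * n⁻¹ * (⟨w, hwH⟩ : H)⁻¹ ∈ f.ker :=
      hkern.conj_mem _ (f.ker.inv_mem hn) _
    have h2 : (n : G) * (w * (n : G)⁻¹ * w⁻¹) ∈ K₀ := by
      have h3 := Subgroup.mem_subgroupOf.mp (hkerle (f.ker.mul_mem hn h1))
      simpa using h3
    have h4 : (n : G) * (w * (n : G)⁻¹ * w⁻¹) ∈ W := by
      have e : (n : G) * (w * (n : G)⁻¹ * w⁻¹) = ((n : G) * w * (n : G)⁻¹) * w⁻¹ := by group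
      rw [e]
      exact W.mul_mem (hWn.conj_mem w hw n) (W.inv_mem hw)
    have h5 : (n : G) * (w * (n : G)⁻¹ * w⁻¹) ∈ W ⊓ K₀ := Subgroup.mem_inf.mpr ⟨h4, h2⟩
    rw [hWK, Subgroup.mem_bot] at h5
    show w * (H.subtype n) = (H.subtype n) * w
    rw [Subgroup.coe_subtype]
    calc w * (n : G) = ((n : G) * (w * (n : G)⁻¹ * w⁻¹))⁻¹ * ((n : G) * w) := by group
      _ = (n : G) * w := by rw [h5, inv_one, one_mul]
  -- the quotient `K₀ / C_{K₀}(W)` has order divisible by `6`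
  set C₀' : Subgroup K₀ := (centralizer (W : Set G)).subgroupOf K₀ with hC₀'
  have hCn : C₀'.Normal := Subgroup.Normal.subgroupOf Subgroup.normal_centralizer K₀
  set π := QuotientGroup.mk' C₀' with hπ
  have hπ1 : ∀ a : K₀, π a = 1 ↔ (a : G) ∈ centralizer (W : Set G) := by
    intro a
    rw [hπ, QuotientGroup.mk'_apply, QuotientGroup.eq_one_iff, hC₀', Subgroup.mem_subgroupOf]
  set ybar : K₀ ⧸ C₀' := π ⟨y, hyK⟩ with hybar
  set xbar : K₀ ⧸ C₀' := π ⟨x, hxK⟩ with hxbar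
  have hybar3 : ybar ^ 3 = 1 := by
    have e : (⟨y, hyK⟩ : K₀) ^ 3 = 1 := Subtype.ext (by simpa using hy3')
    rw [hybar, ← map_pow, e, map_one]
  obtain ⟨w₀, hw₀, hw₀1⟩ : ∃ w ∈ W, w ≠ 1 := by
    by_contra hcon
    push Not at hcon
    have : W = ⊥ := (Subgroup.eq_bot_iff_forall W).mpr hcon
    rw [this, Subgroup.card_bot] at hW4
    omega
  have hybar1 : ybar ≠ 1 := by
    intro h
    rw [hybar, hπ1] at h
    apply hw₀1
    apply hfpf w₀ hw₀
    have h2 := Subgroup.mem_centralizer_iff.mp h w₀ hw₀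
    show y * w₀ * y⁻¹ = w₀
    rw [← h2, mul_inv_cancel_right]
  have hoy : orderOf ybar = 3 := orderOf_eq_prime hybar3 hybar1
  have hconj : xbar * ybar * xbar⁻¹ = ybar⁻¹ := by
    rw [hxbar, hybar, ← map_inv, ← map_mul, ← map_mul, ← map_inv]
    congr 1
    exact Subtype.ext (by simpa using hxy)
  have hyne : ybar ≠ ybar⁻¹ := by
    intro h
    apply hybar1
    have h2 : ybar ^ 2 = 1 := by
      rw [pow_two]
      nth_rewrite 1 [h]
      exact inv_mul_cancel _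
    calc ybar = ybar ^ 3 * (ybar ^ 2)⁻¹ := by group
      _ = 1 := by rw [hybar3, h2]; simp
  have hcomm2 : Commute (xbar ^ 2) ybar := by
    have h1 : xbar * ybar = ybar⁻¹ * xbar := by
      calc xbar * ybar = (xbar * ybar * xbar⁻¹) * xbar := by group
        _ = ybar⁻¹ * xbar := by rw [hconj]
    have h2 : xbar * ybar⁻¹ = ybar * xbar := by
      calc xbar * ybar⁻¹ = (xbar * ybar * xbar⁻¹)⁻¹ * xbar := by group
        _ = ybar * xbar := by rw [hconj, inv_inv]
    show xbar ^ 2 * ybar = ybar * xbar ^ 2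
    rw [pow_two, mul_assoc, h1, ← mul_assoc, h2, mul_assoc]
  have hxeven : 2 ∣ orderOf xbar := by
    by_contra hodd
    have hodd' : Odd (orderOf xbar) := Nat.odd_iff.mpr (Nat.two_dvd_ne_zero.mp hodd)
    obtain ⟨t, ht⟩ := hodd'
    have h1 : xbar ^ (2 * t) * xbar = 1 := by rw [← pow_succ, ← ht, pow_orderOf_eq_one]
    have h2 : Commute (xbar ^ (2 * t)) ybar := by rw [pow_mul]; exact hcomm2.pow_left t
    have h3 : xbar = (xbar ^ (2 * t))⁻¹ := eq_inv_of_mul_eq_one_right h1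
    have h4 : Commute xbar ybar := by rw [h3]; exact h2.inv_left
    apply hyne
    rw [← hconj, h4.eq, mul_inv_cancel_right]
  have h6 : 6 ∣ Nat.card (K₀ ⧸ C₀') := by
    have h3 : 3 ∣ Nat.card (K₀ ⧸ C₀') := by rw [← hoy]; exact orderOf_dvd_natCard ybar
    have h2 : 2 ∣ Nat.card (K₀ ⧸ C₀') := hxeven.trans (orderOf_dvd_natCard xbar)
    exact Nat.Coprime.mul_dvd_of_dvd_of_dvd (by decide : Nat.Coprime 2 3) h2 h3
  have hcardK : Nat.card K₀ = Nat.card (K₀ ⧸ C₀') * Nat.card C₀' :=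
    Subgroup.card_eq_card_quotient_mul_card_subgroup C₀'
  have hC₀card : Nat.card C₀' = Nat.card ↥(centralizer (W : Set G) ⊓ K₀) := by
    rw [hC₀', ← Subgroup.inf_subgroupOf_right]
    exact Nat.card_congr (Subgroup.subgroupOfEquivOfLe inf_le_right).toEquiv
  have hN₁le : Nat.card f.ker ≤ Nat.card C₀' := by
    rw [hC₀card, ← hN₁card]
    exact Subgroup.card_le_of_le (le_inf hN₁C hN₁K)
  have hr : 24 ≤ Nat.card f.range := by
    obtain ⟨t, ht⟩ := h6
    have hqpos : 0 < Nat.card (K₀ ⧸ C₀') := Nat.card_pos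
    have htpos : 1 ≤ t := by
      rcases Nat.eq_zero_or_pos t with h | h
      · rw [h, mul_zero] at ht; omega
      · exact h
    have hapos : 0 < Nat.card f.ker := Nat.card_pos
    have h1 : Nat.card f.ker * 24 ≤ Nat.card f.ker * Nat.card f.range := by
      rw [hcardrange, hcardH, hcardK, ht]
      calc Nat.card f.ker * 24 ≤ Nat.card C₀' * 24 := Nat.mul_le_mul_right _ hN₁le
        _ = 24 * 1 * Nat.card C₀' := by ring
        _ ≤ 24 * t * Nat.card C₀' := by gcongr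
        _ = 4 * (6 * t * Nat.card C₀') := by ring
    exact Nat.le_of_mul_le_mul_left h1 hapos
  have hrle : Nat.card f.range ≤ 24 := by
    rw [← hperm]; exact Subgroup.card_le_card_group _
  have htop : f.range = ⊤ := (Subgroup.card_eq_iff_eq_top _).mp (by rw [hperm]; omega)
  have hfsurj : Function.Surjective f := MonoidHom.range_eq_top.mp htop
  let e : (H ⧸ K₀') ≃ Fin 4 := Finite.equivFinOfCardEq hΩ
  rw [Cfsg.Agent.Lib.Helper27.involves_iff]
  refine ⟨H, (Equiv.permCongrHom e).toMonoidHom.comp f, ?_⟩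
  exact (Equiv.permCongrHom e).surjective.comp hfsurj

/-- The same with `W` not necessarily normal: `x` and `y` normalize `W`. -/
theorem involves_s4_of_klein (W : Subgroup G) (y x : G) (hyW : y ∈ normalizer (W : Set G))
    (hxW : x ∈ normalizer (W : Set G)) (hW4 : Nat.card W = 4) (hy3 : orderOf y = 3)
    (hxy : x * y * x⁻¹ = y⁻¹) (hfpf : ∀ w ∈ W, y * w * y⁻¹ = w → w = 1) :
    Cfsg.Involves (Equiv.Perm (Fin 4)) G := by
  have hWM : W ≤ normalizer (W : Set G) := Subgroup.le_normalizer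
  have hn : (W.subgroupOf (normalizer (W : Set G))).Normal := Subgroup.normal_in_normalizer
  have hcard : Nat.card (W.subgroupOf (normalizer (W : Set G))) = 4 := by
    rw [Nat.card_congr (Subgroup.subgroupOfEquivOfLe hWM).toEquiv]; exact hW4
  have h := involves_s4_of_normal_klein (G := ↥(normalizer (W : Set G)))
    (W.subgroupOf (normalizer (W : Set G))) ⟨y, hyW⟩ ⟨x, hxW⟩ hcard
    (by rw [Subgroup.orderOf_mk]; exact hy3)
    (Subtype.ext (by simpa using hxy))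
    (by
      intro w hw hfix
      have h1 := hfpf (w : G) (Subgroup.mem_subgroupOf.mp hw)
        (by simpa using congrArg Subtype.val hfix)
      exact Subtype.ext h1)
  exact Cfsg.Agent.Lib.Helper27.involves_of_injective (normalizer (W : Set G)).subtype
    (Subgroup.subtype_injective _) h

omit [Finite G] in
theorem card_mul_relIndex_of_le {Q L : Subgroup G} (h : Q ≤ L) :
    Nat.card Q * Q.relIndex L = Nat.card L := by
  have h1 := Subgroup.relIndex_mul_relIndex (⊥ : Subgroup G) Q L bot_le h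
  rwa [Subgroup.relIndex_bot_left, Subgroup.relIndex_bot_left] at h1

/-- The group-theoretic data produced by an offender in characteristic `2` give a section `S₄`:
`P` is a normal `2`-subgroup centralizing the four-group `W`; modulo `P` the element `z₀` has order
dividing `3` and is inverted by `d`; both normalize `W` and `z₀` acts on it without fixed points. -/
theorem involves_s4_of_data (P : Subgroup G) [hPn : P.Normal] (hP2 : IsPGroup 2 P) (W : Subgroup G)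
    (hPW : P ≤ centralizer (W : Set G)) (d z₀ : G) (hW4 : Nat.card W = 4)
    (hz3 : (QuotientGroup.mk' P z₀) ^ 3 = 1)
    (hdz : QuotientGroup.mk' P d * QuotientGroup.mk' P z₀ * (QuotientGroup.mk' P d)⁻¹ =
      (QuotientGroup.mk' P z₀)⁻¹)
    (hdW : ∀ w ∈ W, d * w * d⁻¹ ∈ W) (hzW : ∀ w ∈ W, z₀ * w * z₀⁻¹ ∈ W)
    (hfpf : ∀ w ∈ W, z₀ * w * z₀⁻¹ = w → w = 1) :
    Cfsg.Involves (Equiv.Perm (Fin 4)) G := by
  classical
  have hp3 : Fact (Nat.Prime 3) := ⟨by norm_num⟩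
  obtain ⟨π, hπ⟩ : ∃ π : G →* G ⧸ P, π = QuotientGroup.mk' P := ⟨_, rfl⟩
  rw [← hπ] at hz3 hdz
  have hπker : ∀ g : G, π g = 1 ↔ g ∈ P := by
    intro g; rw [hπ]; exact QuotientGroup.eq_one_iff g
  obtain ⟨j, hj⟩ := hP2.exists_card_eq
  obtain ⟨N, hN⟩ : ∃ N, N = Nat.card P := ⟨_, rfl⟩
  have hNj : N = 2 ^ j := by rw [hN, hj]
  have hN3 : N ^ 2 % 3 = 1 := by
    rw [hNj, ← pow_mul, mul_comm, pow_mul, Nat.pow_mod]
    norm_num
  obtain ⟨q, hq⟩ : ∃ q, N ^ 2 = 3 * q + 1 := ⟨N ^ 2 / 3, by omega⟩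
  obtain ⟨y, hy⟩ : ∃ y, y = z₀ ^ (N ^ 2) := ⟨_, rfl⟩
  have hπy : π y = π z₀ := by
    rw [hy, map_pow, hq, pow_succ, pow_mul, hz3, one_pow, one_mul]
  have hy3 : y ^ 3 = 1 := by
    have h1 : z₀ ^ 3 ∈ P := (hπker _).mp (by rw [map_pow]; exact hz3)
    have h2 := Cfsg.Agent.Lib.Helper10.pow_card_subgroup_eq_one P h1
    rw [← hN] at h2
    rw [hy, ← pow_mul, mul_comm, pow_mul, pow_two, pow_mul, h2, one_pow]
  obtain ⟨c, hcP, hc⟩ : ∃ c ∈ P, y = z₀ * c := by
    refine ⟨z₀⁻¹ * y, ?_, by group⟩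
    rw [← hπker, map_mul, map_inv, hπy, inv_mul_cancel]
  have hyact : ∀ w ∈ W, y * w * y⁻¹ = z₀ * w * z₀⁻¹ := by
    intro w hw
    have h1 : c * w = w * c := (Subgroup.mem_centralizer_iff.mp (hPW hcP) w hw).symm
    rw [hc]
    calc z₀ * c * w * (z₀ * c)⁻¹ = z₀ * (c * w) * c⁻¹ * z₀⁻¹ := by group
      _ = z₀ * (w * c) * c⁻¹ * z₀⁻¹ := by rw [h1]
      _ = z₀ * w * z₀⁻¹ := by group
  obtain ⟨w₀, hw₀, hw₀1⟩ : ∃ w ∈ W, w ≠ 1 := by
    by_contra hcon
    push Not at hcon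
    have : W = ⊥ := (Subgroup.eq_bot_iff_forall W).mpr hcon
    rw [this, Subgroup.card_bot] at hW4
    omega
  have hy1 : y ≠ 1 := by
    intro h
    apply hw₀1
    apply hfpf w₀ hw₀
    rw [← hyact w₀ hw₀, h, one_mul, inv_one, mul_one]
  have hoy : orderOf y = 3 := orderOf_eq_prime hy3 hy1
  have hfpf' : ∀ w ∈ W, y * w * y⁻¹ = w → w = 1 := fun w hw h =>
    hfpf w hw ((hyact w hw).symm.trans h)
  have hyW : y ∈ normalizer (W : Set G) :=
    mem_normalizer_of_forall_conj_mem y W (fun w hw => by rw [hyact w hw]; exact hzW w hw)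
  have hdWn : d ∈ normalizer (W : Set G) := mem_normalizer_of_forall_conj_mem d W hdW
  have hPWn : P ≤ normalizer (W : Set G) := hPW.trans (Subgroup.centralizer_le_normalizer _)
  -- the subgroup `⟨y⟩ P`
  obtain ⟨Yy, hYy⟩ : ∃ Yy : Subgroup G, Yy = Subgroup.zpowers y := ⟨_, rfl⟩
  have hyY : y ∈ Yy := by rw [hYy]; exact Subgroup.mem_zpowers y
  have hYcard : Nat.card Yy = 3 := by rw [hYy, Nat.card_zpowers, hoy]
  have hYP : Yy ⊓ P = ⊥ := by
    apply disjoint_iff.mp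
    apply Subgroup.disjoint_of_coprime_natCard
    rw [hYcard, hj]
    exact Nat.Coprime.pow_right j (by decide)
  obtain ⟨Ls, hLs⟩ : ∃ Ls : Subgroup G, Ls = Yy ⊔ P := ⟨_, rfl⟩
  have hYL : Yy ≤ Ls := by rw [hLs]; exact le_sup_left
  have hPL : P ≤ Ls := by rw [hLs]; exact le_sup_right
  have hcardL : Nat.card Ls = N * 3 := by
    rw [hLs, card_sup_eq_card_mul_relIndex Yy P, Subgroup.relIndex_sup_right Yy P, ← hN]
    have h1 := card_eq_card_inf_mul_relIndex Yy P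
    rw [hYP, Subgroup.card_bot, one_mul, hYcard] at h1
    rw [← h1]
  have hLW : Ls ≤ normalizer (W : Set G) := by
    rw [hLs]
    apply sup_le _ hPWn
    rw [hYy, Subgroup.zpowers_le]
    exact hyW
  have hdz' : π d * π y * (π d)⁻¹ = (π y)⁻¹ := by rw [hπy]; exact hdz
  have hdy : d * y * d⁻¹ ∈ Ls := by
    have h1 : d * y * d⁻¹ * y ∈ P := by
      rw [← hπker, map_mul, map_mul, map_mul, map_inv, hdz', inv_mul_cancel]
    have e : d * y * d⁻¹ = (d * y * d⁻¹ * y) * y⁻¹ := by group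
    rw [e]
    exact Ls.mul_mem (hPL h1) (Ls.inv_mem (hYL hyY))
  have hcjd : cj d Yy ≤ Ls := by
    rintro _ ⟨n, hn, rfl⟩
    rw [hYy] at hn
    obtain ⟨k, rfl⟩ := Subgroup.mem_zpowers_iff.mp hn
    show d * y ^ k * d⁻¹ ∈ Ls
    rw [← conj_zpow]
    exact Ls.zpow_mem hdy k
  have hidx : ∀ Q : Subgroup G, Q ≤ Ls → Nat.card Q = 3 → ¬ 3 ∣ Q.relIndex Ls := by
    intro Q hQ hQ3 hdvd
    have h1 := card_mul_relIndex_of_le hQ
    rw [hQ3, hcardL, mul_comm N 3] at h1
    have h2 : Q.relIndex Ls = N := Nat.eq_of_mul_eq_mul_left (by norm_num) h1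
    rw [h2, hNj] at hdvd
    have h3 := (Nat.Prime.dvd_of_dvd_pow (by norm_num : Nat.Prime 3) hdvd)
    omega
  have hYp : IsPGroup 3 Yy := IsPGroup.of_card (n := 1) (by rw [hYcard, pow_one])
  have hcjcard : Nat.card ↥(cj d Yy) = 3 := by rw [card_cj, hYcard]
  have hcjp : IsPGroup 3 ↥(cj d Yy) := isPGroup_cj d Yy hYp
  obtain ⟨l, hl, hlcj⟩ := exists_mem_cj_eq_of_sylow (p := 3) Ls (cj d Yy) Yy hcjd hYL hcjp hYp
    (hidx _ hcjd hcjcard) (hidx _ hYL hYcard)
  rw [cj_cj] at hlcj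
  have hxN : l * d ∈ normalizer (Yy : Set G) := (mem_normalizer_iff_cj _ _).mpr hlcj
  have hxW : l * d ∈ normalizer (W : Set G) := Subgroup.mul_mem _ (hLW hl) hdWn
  have hπL : Commute (π l) (π y) := by
    have h1 : π l ∈ Ls.map π := Subgroup.mem_map_of_mem π hl
    rw [hLs, Subgroup.map_sup, hYy, MonoidHom.map_zpowers, hπ, QuotientGroup.map_mk'_self,
      sup_bot_eq, ← hπ] at h1
    obtain ⟨k, hk⟩ := Subgroup.mem_zpowers_iff.mp h1
    rw [← hk]
    exact (Commute.refl (π y)).zpow_left k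
  have hxy : (l * d) * y * (l * d)⁻¹ = y⁻¹ := by
    have h1 : (l * d) * y * (l * d)⁻¹ ∈ Yy :=
      (Subgroup.mem_normalizer_iff.mp hxN y).mp hyY
    have h2 : (l * d) * y * (l * d)⁻¹ * y ∈ Yy ⊓ P := by
      refine Subgroup.mem_inf.mpr ⟨Yy.mul_mem h1 hyY, ?_⟩
      rw [← hπker]
      have e : π ((l * d) * y * (l * d)⁻¹ * y) = π l * (π d * π y * (π d)⁻¹) * (π l)⁻¹ * π y := by
        simp only [map_mul, map_inv, mul_inv_rev]
        group
      rw [e, hdz', (hπL.inv_right).eq, mul_inv_cancel_right, inv_mul_cancel]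
    rw [hYP, Subgroup.mem_bot] at h2
    exact eq_inv_of_mul_eq_one_left h2
  exact involves_s4_of_klein W y (l * d) hyW hxW hW4 hoy hxy hfpf'

end S4

end Cfsg.Agent.Lib.Helper18
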