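import Mathlib
import Cfsg.Agent.Lib.Helper10.Basic

set_option autoImplicit false

/-!
# Quadratic offenders in characteristic `2` produce a four-group with `S₃` acting on it

`Γ` acts faithfully (via `φ`) on an elementary abelian `2`-group `V`.  `D` is an abelian subgroup of
`Γ` acting quadratically on `V` and normalizing an abelian subgroup `Z` of odd order, on which it acts
faithfully; `D` is an "offender" in the sense that `|C_V(D₀)| ≤ 2 |C_V(D)|` for subgroups `D₀` of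
index `2` in `D`.  Then there are `d ∈ D`, `z ∈ Z` of order `3` inverted by `d`, and a four-group
`W ≤ V` invariant under `d` and `z`, on which `z` acts without fixed points (`offender_two`).
-/

namespace Cfsg.Agent.Lib.Helper18.OffenderTwo

open Subgroup

variable {Γ : Type*} [Group Γ] {V : Type*} [CommGroup V] (φ : Γ →* MulAut V)

theorem act_mul (a b : Γ) (v : V) : φ (a * b) v = φ a (φ b v) := by
  rw [map_mul, MulAut.mul_apply]

theorem act_one (v : V) : φ 1 v = v := by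
  rw [map_one, MulAut.one_apply]

theorem act_inv_act (a : Γ) (v : V) : φ a⁻¹ (φ a v) = v := by
  rw [← act_mul, inv_mul_cancel, act_one]

theorem act_act_inv (a : Γ) (v : V) : φ a (φ a⁻¹ v) = v := by
  rw [← act_mul, mul_inv_cancel, act_one]

theorem act_pow_fixed (g : Γ) (u : V) (h : φ g u = u) (j : ℕ) : φ (g ^ j) u = u := by
  induction j with
  | zero => rw [pow_zero, act_one]
  | succ j ih => rw [pow_succ, act_mul, h, ih]

/-- The fixed points of a subgroup of `Γ` on `V`. -/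
def fixV (Y : Subgroup Γ) : Subgroup V where
  carrier := {v | ∀ y ∈ Y, φ y v = v}
  one_mem' := fun y _ => map_one _
  mul_mem' := by
    intro a b ha hb y hy
    rw [map_mul, ha y hy, hb y hy]
  inv_mem' := by
    intro a ha y hy
    rw [map_inv, ha y hy]

theorem mem_fixV {Y : Subgroup Γ} {v : V} : v ∈ fixV φ Y ↔ ∀ y ∈ Y, φ y v = v := Iff.rfl

theorem mem_zpowers_of_mul_self {a : V} (ha : a * a = 1) {x : V}
    (hx : x ∈ Subgroup.zpowers a) : x = 1 ∨ x = a := by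
  obtain ⟨k, rfl⟩ := Subgroup.mem_zpowers_iff.mp hx
  obtain ⟨m, hm | hm⟩ := Int.even_or_odd' k
  · left; rw [hm, zpow_mul, zpow_two, ha, one_zpow]
  · right; rw [hm, zpow_add, zpow_mul, zpow_two, ha, one_zpow, one_mul, zpow_one]

/-- A quadratically acting element of a faithful group on an elementary abelian `2`-group is an
involution (or trivial). -/
theorem sq_eq_one_of_quad (hφ : ∀ g, φ g = 1 → g = 1) (hV2 : ∀ v : V, v ^ 2 = 1) (d : Γ)
    (h : ∀ v, φ d (φ d v / v) = φ d v / v) : d ^ 2 = 1 := by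
  apply hφ
  ext v
  rw [pow_two, act_mul, MulAut.one_apply]
  have h1 := h v
  rw [map_div] at h1
  have h2 : φ d (φ d v) = φ d v / v * φ d v := div_eq_iff_eq_mul.mp h1
  rw [h2]
  have hinv : v⁻¹ = v := inv_eq_of_mul_eq_one_right (by rw [← pow_two]; exact hV2 v)
  calc φ d v / v * φ d v = (φ d v) ^ 2 / v := by rw [pow_two, div_mul_eq_mul_div]
    _ = v := by rw [hV2, one_div, hinv]

/-- An abelian group of exponent `2` acting on a nontrivial elementary abelian `2`-group has a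
nontrivial fixed point. -/
theorem exists_fixed_of_invariant [Finite V] (hV2 : ∀ v : V, v ^ 2 = 1) (E : Subgroup Γ)
    (hEab : ∀ a ∈ E, ∀ b ∈ E, a * b = b * a) (hE2 : ∀ e ∈ E, e ^ 2 = 1)
    (U : Subgroup V) (hU : U ≠ ⊥) (hUE : ∀ e ∈ E, ∀ u ∈ U, φ e u ∈ U) :
    ∃ u ∈ U, u ≠ 1 ∧ ∀ e ∈ E, φ e u = u := by
  classical
  obtain ⟨U', ⟨hU'U, hU'ne, hU'E⟩, hmin⟩ :=
    Set.exists_min_image {U' : Subgroup V | U' ≤ U ∧ U' ≠ ⊥ ∧ ∀ e ∈ E, ∀ u ∈ U', φ e u ∈ U'}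
      (fun U' => Nat.card U') (Set.toFinite _) ⟨U, le_rfl, hU, hUE⟩
  obtain ⟨u₀, hu₀, hu₀1⟩ : ∃ u ∈ U', u ≠ 1 := by
    by_contra hcon
    push Not at hcon
    exact hU'ne ((Subgroup.eq_bot_iff_forall U').mpr hcon)
  refine ⟨u₀, hU'U hu₀, hu₀1, ?_⟩
  intro e he
  have hee : ∀ v : V, φ e (φ e v) = v := by
    intro v
    rw [← act_mul, ← pow_two, hE2 e he, act_one]
  let F : Subgroup V :=
    { carrier := {u | u ∈ U' ∧ φ e u = u}
      one_mem' := ⟨U'.one_mem, map_one _⟩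
      mul_mem' := by
        rintro a b ⟨ha, ha'⟩ ⟨hb, hb'⟩
        exact ⟨U'.mul_mem ha hb, by rw [map_mul, ha', hb']⟩
      inv_mem' := by
        rintro a ⟨ha, ha'⟩
        exact ⟨U'.inv_mem ha, by rw [map_inv, ha']⟩ }
  have hFmem : ∀ u, u ∈ F ↔ u ∈ U' ∧ φ e u = u := fun u => Iff.rfl
  have hFU' : F ≤ U' := fun u hu => ((hFmem u).mp hu).1
  have hFne : F ≠ ⊥ := by
    intro hbot
    have hw : u₀ * φ e u₀ ∈ F := by
      rw [hFmem]
      refine ⟨U'.mul_mem hu₀ (hU'E e he u₀ hu₀), ?_⟩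
      rw [map_mul, hee, mul_comm]
    rw [hbot, Subgroup.mem_bot] at hw
    have h1 : φ e u₀ = u₀⁻¹ := eq_inv_of_mul_eq_one_right hw
    have hinv : u₀⁻¹ = u₀ := inv_eq_of_mul_eq_one_right (by rw [← pow_two]; exact hV2 u₀)
    have hu₀F : u₀ ∈ F := by
      rw [hFmem]
      exact ⟨hu₀, by rw [h1, hinv]⟩
    rw [hbot, Subgroup.mem_bot] at hu₀F
    exact hu₀1 hu₀F
  have hFE : ∀ e' ∈ E, ∀ u ∈ F, φ e' u ∈ F := by
    intro e' he' u hu
    rw [hFmem] at hu ⊢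
    refine ⟨hU'E e' he' u hu.1, ?_⟩
    rw [← act_mul, hEab e he e' he', act_mul, hu.2]
  have hcard := hmin F ⟨hFU'.trans hU'U, hFne, hFE⟩
  have hFeq : F = U' := Subgroup.eq_of_le_of_card_ge hFU' hcard
  have hu₀F : u₀ ∈ F := by rw [hFeq]; exact hu₀
  exact ((hFmem u₀).mp hu₀F).2

/-- A minimal nontrivial `D`-invariant subgroup. -/
theorem exists_min_invariant [Finite Γ] (D I : Subgroup Γ) (hI : I ≠ ⊥)
    (hDI : ∀ e ∈ D, ∀ z ∈ I, e * z * e⁻¹ ∈ I) :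
    ∃ Z' : Subgroup Γ, Z' ≤ I ∧ Z' ≠ ⊥ ∧ (∀ e ∈ D, ∀ z ∈ Z', e * z * e⁻¹ ∈ Z') ∧
      ∀ Z'' : Subgroup Γ, Z'' ≤ Z' → Z'' ≠ ⊥ → (∀ e ∈ D, ∀ z ∈ Z'', e * z * e⁻¹ ∈ Z'') →
        Z'' = Z' := by
  classical
  obtain ⟨Z', ⟨hZ'I, hZ'ne, hZ'D⟩, hmin⟩ :=
    Set.exists_min_image {Z' : Subgroup Γ | Z' ≤ I ∧ Z' ≠ ⊥ ∧ ∀ e ∈ D, ∀ z ∈ Z', e * z * e⁻¹ ∈ Z'}
      (fun Z' => Nat.card Z') (Set.toFinite _) ⟨I, le_rfl, hI, hDI⟩
  refine ⟨Z', hZ'I, hZ'ne, hZ'D, ?_⟩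
  intro Z'' hle hne hD
  have hcard := hmin Z'' ⟨hle.trans hZ'I, hne, hD⟩
  exact Subgroup.eq_of_le_of_card_ge hle hcard

/-- Stage 1: inside `Γ`, find `d₁ ∈ D`, a subgroup `D₀` of index `2` in `D` and `1 ≠ z ∈ Z` inverted
by `d₁` and centralized by `D₀`. -/
theorem stage1 [Finite Γ] (D Z : Subgroup Γ) (hDne : D ≠ ⊥)
    (hDab : ∀ a ∈ D, ∀ b ∈ D, a * b = b * a) (hD2 : ∀ d ∈ D, d ^ 2 = 1)
    (hZab : ∀ a ∈ Z, ∀ b ∈ Z, a * b = b * a) (hZodd : (Nat.card Z).Coprime 2)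
    (hDZ : ∀ d ∈ D, ∀ z ∈ Z, d * z * d⁻¹ ∈ Z)
    (hfaith : ∀ d ∈ D, (∀ z ∈ Z, d * z = z * d) → d = 1) :
    ∃ d₁ ∈ D, ∃ D₀ : Subgroup Γ, ∃ z ∈ Z, D₀ ≤ D ∧ 2 * Nat.card D₀ = Nat.card D ∧
      (∀ e ∈ D, e ∈ D₀ ∨ e * d₁ ∈ D₀) ∧ z ≠ 1 ∧ d₁ * z * d₁⁻¹ = z⁻¹ ∧
      ∀ e ∈ D₀, e * z = z * e := by
  classical
  have hodd : ∀ g ∈ Z, g ^ 2 = 1 → g = 1 := by
    intro g hg h2
    have h1 : orderOf g ∣ 2 := orderOf_dvd_of_pow_eq_one h2
    have h3 : orderOf g ∣ Nat.card Z := Subgroup.orderOf_dvd_natCard Z hg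
    have h4 : orderOf g = 1 := Nat.eq_one_of_dvd_coprimes hZodd h3 h1
    exact orderOf_eq_one_iff.mp h4
  obtain ⟨d₁, hd₁, hd₁1⟩ : ∃ d ∈ D, d ≠ 1 := by
    by_contra hcon
    push Not at hcon
    exact hDne ((Subgroup.eq_bot_iff_forall D).mpr hcon)
  obtain ⟨z₁, hz₁, hz₁c⟩ : ∃ z ∈ Z, d₁ * z ≠ z * d₁ := by
    by_contra hcon
    push Not at hcon
    exact hd₁1 (hfaith d₁ hd₁ hcon)
  -- the subgroup of `Z` inverted by `d₁`
  let I₁ : Subgroup Γ :=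
    { carrier := {z | z ∈ Z ∧ d₁ * z * d₁⁻¹ = z⁻¹}
      one_mem' := ⟨Z.one_mem, by simp⟩
      mul_mem' := by
        rintro a b ⟨ha, ha'⟩ ⟨hb, hb'⟩
        refine ⟨Z.mul_mem ha hb, ?_⟩
        have e : d₁ * (a * b) * d₁⁻¹ = (d₁ * a * d₁⁻¹) * (d₁ * b * d₁⁻¹) := by group
        rw [e, ha', hb', mul_inv_rev]
        exact hZab _ (Z.inv_mem ha) _ (Z.inv_mem hb)
      inv_mem' := by
        rintro a ⟨ha, ha'⟩
        refine ⟨Z.inv_mem ha, ?_⟩
        have e : d₁ * a⁻¹ * d₁⁻¹ = (d₁ * a * d₁⁻¹)⁻¹ := by group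
        rw [e, ha'] }
  have hI₁mem : ∀ z, z ∈ I₁ ↔ z ∈ Z ∧ d₁ * z * d₁⁻¹ = z⁻¹ := fun z => Iff.rfl
  have hI₁Z : I₁ ≤ Z := fun z hz => ((hI₁mem z).mp hz).1
  have hI₁ne : I₁ ≠ ⊥ := by
    intro hbot
    obtain ⟨z', hz'⟩ : ∃ z', z' = d₁ * z₁ * d₁⁻¹ := ⟨_, rfl⟩
    have hz'Z : z' ∈ Z := by rw [hz']; exact hDZ d₁ hd₁ z₁ hz₁
    have h1 : d₁ * z' * d₁⁻¹ = z₁ := by
      rw [hz']
      have hsq : d₁ * d₁ = 1 := by rw [← pow_two]; exact hD2 d₁ hd₁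
      have e : d₁ * (d₁ * z₁ * d₁⁻¹) * d₁⁻¹ = (d₁ * d₁) * z₁ * (d₁ * d₁)⁻¹ := by group
      rw [e, hsq, one_mul, inv_one, mul_one]
    have ht : z₁ * z'⁻¹ ∈ I₁ := by
      rw [hI₁mem]
      refine ⟨Z.mul_mem hz₁ (Z.inv_mem hz'Z), ?_⟩
      have h2 : d₁ * (z₁ * z'⁻¹) * d₁⁻¹ = (d₁ * z₁ * d₁⁻¹) * (d₁ * z' * d₁⁻¹)⁻¹ := by group
      rw [h2, h1, ← hz', mul_inv_rev, inv_inv]
    rw [hbot, Subgroup.mem_bot] at ht
    have h3 : z₁ = z' := mul_inv_eq_one.mp ht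
    apply hz₁c
    calc d₁ * z₁ = (d₁ * z₁ * d₁⁻¹) * d₁ := by group
      _ = z₁ * d₁ := by rw [← hz', ← h3]
  have hI₁D : ∀ e ∈ D, ∀ z ∈ I₁, e * z * e⁻¹ ∈ I₁ := by
    intro e he z hz
    rw [hI₁mem] at hz ⊢
    refine ⟨hDZ e he z hz.1, ?_⟩
    have hc : d₁ * e = e * d₁ := hDab d₁ hd₁ e he
    have h1 : d₁ * (e * z * e⁻¹) * d₁⁻¹ = e * (d₁ * z * d₁⁻¹) * e⁻¹ := by
      calc d₁ * (e * z * e⁻¹) * d₁⁻¹ = (d₁ * e) * z * (d₁ * e)⁻¹ := by group
        _ = (e * d₁) * z * (e * d₁)⁻¹ := by rw [hc]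
        _ = e * (d₁ * z * d₁⁻¹) * e⁻¹ := by group
    rw [h1, hz.2]
    group
  obtain ⟨Z', hZ'I, hZ'ne, hZ'D, hZ'min⟩ := exists_min_invariant D I₁ hI₁ne hI₁D
  have hZ'Z : Z' ≤ Z := hZ'I.trans hI₁Z
  have hd₁Z' : ∀ z ∈ Z', d₁ * z * d₁⁻¹ = z⁻¹ := fun z hz => ((hI₁mem z).mp (hZ'I hz)).2
  -- each element of `D` centralizes or inverts `Z'`
  have hdich : ∀ e ∈ D, (∀ z ∈ Z', e * z * e⁻¹ = z) ∨ (∀ z ∈ Z', e * z * e⁻¹ = z⁻¹) := by
    intro e he
    let C : Subgroup Γ :=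
      { carrier := {z | z ∈ Z' ∧ e * z * e⁻¹ = z}
        one_mem' := ⟨Z'.one_mem, by simp⟩
        mul_mem' := by
          rintro a b ⟨ha, ha'⟩ ⟨hb, hb'⟩
          refine ⟨Z'.mul_mem ha hb, ?_⟩
          have e1 : e * (a * b) * e⁻¹ = (e * a * e⁻¹) * (e * b * e⁻¹) := by group
          rw [e1, ha', hb']
        inv_mem' := by
          rintro a ⟨ha, ha'⟩
          refine ⟨Z'.inv_mem ha, ?_⟩
          have e1 : e * a⁻¹ * e⁻¹ = (e * a * e⁻¹)⁻¹ := by group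
          rw [e1, ha'] }
    have hCmem : ∀ z, z ∈ C ↔ z ∈ Z' ∧ e * z * e⁻¹ = z := fun z => Iff.rfl
    have hCZ' : C ≤ Z' := fun z hz => ((hCmem z).mp hz).1
    have hCD : ∀ e' ∈ D, ∀ z ∈ C, e' * z * e'⁻¹ ∈ C := by
      intro e' he' z hz
      rw [hCmem] at hz ⊢
      refine ⟨hZ'D e' he' z hz.1, ?_⟩
      have hc : e * e' = e' * e := hDab e he e' he'
      calc e * (e' * z * e'⁻¹) * e⁻¹ = (e * e') * z * (e * e')⁻¹ := by group
        _ = (e' * e) * z * (e' * e)⁻¹ := by rw [hc]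
        _ = e' * (e * z * e⁻¹) * e'⁻¹ := by group
        _ = e' * z * e'⁻¹ := by rw [hz.2]
    by_cases hC : C = ⊥
    · right
      intro z hz
      have hez : e * z * e⁻¹ ∈ Z' := hZ'D e he z hz
      have hmem : z * (e * z * e⁻¹) ∈ C := by
        rw [hCmem]
        refine ⟨Z'.mul_mem hz hez, ?_⟩
        have hsq : e * e = 1 := by rw [← pow_two]; exact hD2 e he
        have h1 : e * (z * (e * z * e⁻¹)) * e⁻¹ = (e * z * e⁻¹) * ((e * e) * z * (e * e)⁻¹) := by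
          group
        rw [h1, hsq, one_mul, inv_one, mul_one]
        exact hZab _ (hZ'Z hez) _ (hZ'Z hz)
      rw [hC, Subgroup.mem_bot] at hmem
      exact eq_inv_of_mul_eq_one_right hmem
    · left
      intro z hz
      have hCeq := hZ'min C hCZ' hC hCD
      have hzC : z ∈ C := by rw [hCeq]; exact hz
      exact ((hCmem z).mp hzC).2
  obtain ⟨z, hz, hz1⟩ : ∃ z ∈ Z', z ≠ 1 := by
    by_contra hcon
    push Not at hcon
    exact hZ'ne ((Subgroup.eq_bot_iff_forall Z').mpr hcon)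
  have hcent_iff : ∀ e : Γ, e ∈ centralizer (Z' : Set Γ) ↔ ∀ z ∈ Z', e * z * e⁻¹ = z := by
    intro e
    rw [Subgroup.mem_centralizer_iff]
    constructor
    · intro h z hz
      rw [← h z hz, mul_inv_cancel_right]
    · intro h z hz
      calc z * e = (e * z * e⁻¹) * e := by rw [h z hz]
        _ = e * z := by group
  obtain ⟨D₀, hD₀⟩ : ∃ D₀ : Subgroup Γ, D₀ = D ⊓ centralizer (Z' : Set Γ) := ⟨_, rfl⟩
  have hD₀mem : ∀ e, e ∈ D₀ ↔ e ∈ D ∧ ∀ z ∈ Z', e * z * e⁻¹ = z := by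
    intro e
    rw [hD₀, Subgroup.mem_inf, hcent_iff]
  have hD₀D : D₀ ≤ D := fun e he => ((hD₀mem e).mp he).1
  have hd₁not : d₁ ∉ D₀ := by
    intro h
    have h1 := ((hD₀mem d₁).mp h).2 z hz
    have h2 := hd₁Z' z hz
    have h3 : z ^ 2 = 1 := by
      rw [pow_two]
      have : z = z⁻¹ := h1.symm.trans h2
      calc z * z = z⁻¹ * z := by rw [← this]
        _ = 1 := inv_mul_cancel z
    exact hz1 (hodd z (hZ'Z hz) h3)
  have hcover : ∀ e ∈ D, e ∈ D₀ ∨ e * d₁ ∈ D₀ := by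
    intro e he
    rcases hdich e he with h | h
    · left
      exact (hD₀mem e).mpr ⟨he, h⟩
    · right
      refine (hD₀mem _).mpr ⟨D.mul_mem he hd₁, ?_⟩
      intro z' hz'
      have e1 : e * d₁ * z' * (e * d₁)⁻¹ = e * (d₁ * z' * d₁⁻¹) * e⁻¹ := by group
      rw [e1, hd₁Z' z' hz']
      have e2 : e * z'⁻¹ * e⁻¹ = (e * z' * e⁻¹)⁻¹ := by group
      rw [e2, h z' hz', inv_inv]
  have hidx : (D₀.subgroupOf D).index = 2 := by
    rw [Subgroup.index_eq_two_iff]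
    refine ⟨⟨d₁, hd₁⟩, ?_⟩
    intro b
    rw [Subgroup.mem_subgroupOf, Subgroup.mem_subgroupOf]
    by_cases hb : (b : Γ) ∈ D₀
    · refine Or.inr ⟨hb, ?_⟩
      intro h
      apply hd₁not
      have e1 : d₁ = (b : Γ)⁻¹ * ((b : Γ) * d₁) := by group
      rw [e1]
      exact D₀.mul_mem (D₀.inv_mem hb) h
    · refine Or.inl ⟨?_, hb⟩
      exact (hcover b b.2).resolve_left hb
  have hcard : 2 * Nat.card D₀ = Nat.card D := by
    have h1 := Subgroup.card_mul_index (D₀.subgroupOf D)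
    rw [hidx, Nat.card_congr (Subgroup.subgroupOfEquivOfLe hD₀D).toEquiv] at h1
    omega
  refine ⟨d₁, hd₁, D₀, z, hZ'Z hz, hD₀D, hcard, hcover, hz1, hd₁Z' z hz, ?_⟩
  intro e he
  have h := ((hD₀mem e).mp he).2 z hz
  calc e * z = (e * z * e⁻¹) * e := by group
    _ = z * e := by rw [h]

/-- The elements acting on `V₀` by "translations" by elements of `W`. -/
def Good (W V₀ : Subgroup V) (g : Γ) : Prop :=
  ∀ v ∈ V₀, φ g v ∈ V₀ ∧ φ g v / v ∈ W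

theorem Good.one (W V₀ : Subgroup V) : Good φ W V₀ 1 := by
  intro v hv
  rw [act_one, div_self']
  exact ⟨hv, W.one_mem⟩

theorem Good.mul {W V₀ : Subgroup V} {g h : Γ} (hg : Good φ W V₀ g) (hh : Good φ W V₀ h) :
    Good φ W V₀ (g * h) := by
  intro v hv
  rw [act_mul]
  obtain ⟨h1, h2⟩ := hh v hv
  obtain ⟨h3, h4⟩ := hg _ h1
  refine ⟨h3, ?_⟩
  rw [← div_mul_div_cancel (φ g (φ h v)) (φ h v) v]
  exact W.mul_mem h4 h2

theorem Good.pow {W V₀ : Subgroup V} {g : Γ} (hg : Good φ W V₀ g) (n : ℕ) :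
    Good φ W V₀ (g ^ n) := by
  induction n with
  | zero => rw [pow_zero]; exact Good.one φ W V₀
  | succ n ih => rw [pow_succ]; exact Good.mul φ ih hg

theorem Good.invariant {W V₀ : Subgroup V} (hWV₀ : W ≤ V₀) {g : Γ} (hg : Good φ W V₀ g) :
    ∀ w ∈ W, φ g w ∈ W := by
  intro w hw
  have h := (hg w (hWV₀ hw)).2
  have e : φ g w = φ g w / w * w := by rw [div_mul_cancel]
  rw [e]
  exact W.mul_mem h hw

theorem Good.sq_trivial (hV2 : ∀ v : V, v ^ 2 = 1) {W V₀ : Subgroup V} {g : Γ}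
    (hg : Good φ W V₀ g) (hfix : ∀ w ∈ W, φ g w = w) : ∀ v ∈ V₀, φ (g * g) v = v := by
  intro v hv
  obtain ⟨w, hw⟩ : ∃ w, w = φ g v / v := ⟨_, rfl⟩
  have hwW : w ∈ W := by rw [hw]; exact (hg v hv).2
  have h1 : φ g v = w * v := by rw [hw, div_mul_cancel]
  rw [act_mul, h1, map_mul, hfix w hwW, h1, ← mul_assoc, ← pow_two, hV2, one_mul]

/-- Stage 2: the module-theoretic part. -/
theorem stage2 [Finite Γ] [Finite V] (hφ : ∀ g, φ g = 1 → g = 1) (hV2 : ∀ v : V, v ^ 2 = 1)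
    (D D₀ : Subgroup Γ) (hDab : ∀ a ∈ D, ∀ b ∈ D, a * b = b * a) (hD2 : ∀ d ∈ D, d ^ 2 = 1)
    (hquad : ∀ a ∈ D, ∀ b ∈ D, ∀ v : V, φ a (φ b v / v) = φ b v / v)
    (hD₀D : D₀ ≤ D) (d₁ : Γ) (hd₁ : d₁ ∈ D) (hcover : ∀ e ∈ D, e ∈ D₀ ∨ e * d₁ ∈ D₀)
    (z : Γ) (hz1 : z ≠ 1) (hzodd : (orderOf z).Coprime 2) (hinv : d₁ * z * d₁⁻¹ = z⁻¹)
    (hcomm : ∀ e ∈ D₀, e * z = z * e)
    (hoff : Nat.card (fixV φ D₀) ≤ 2 * Nat.card (fixV φ D)) :
    ∃ W : Subgroup V, Nat.card W = 4 ∧ z ^ 3 = 1 ∧ (∀ w ∈ W, φ d₁ w ∈ W) ∧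
      (∀ w ∈ W, φ z w ∈ W) ∧ (∀ w ∈ W, φ z w = w → w = 1) := by
  classical
  have hp2 : Fact (Nat.Prime 2) := ⟨Nat.prime_two⟩
  have hVinv : ∀ v : V, v⁻¹ = v := fun v =>
    inv_eq_of_mul_eq_one_right (by rw [← pow_two]; exact hV2 v)
  have hVmul : ∀ v : V, v * v = 1 := fun v => by rw [← pow_two]; exact hV2 v
  have hd₁sq : d₁ * d₁ = 1 := by rw [← pow_two]; exact hD2 d₁ hd₁
  have hd₁inv : d₁⁻¹ = d₁ := inv_eq_of_mul_eq_one_right hd₁sq
  have hoddz : ∀ k : ℕ, (z ^ k) ^ 2 = 1 → z ^ k = 1 := by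
    intro k h
    have h1 : orderOf (z ^ k) ∣ 2 := orderOf_dvd_of_pow_eq_one h
    have h2 : orderOf (z ^ k) ∣ orderOf z := orderOf_pow_dvd k
    have h3 : orderOf (z ^ k) = 1 := Nat.eq_one_of_dvd_coprimes hzodd h2 h1
    exact orderOf_eq_one_iff.mp h3
  obtain ⟨V₀, hV₀⟩ : ∃ V₀ : Subgroup V, V₀ = fixV φ D₀ := ⟨_, rfl⟩
  have hV₀mem : ∀ v, v ∈ V₀ ↔ ∀ e ∈ D₀, φ e v = v := by
    intro v; rw [hV₀]; exact Iff.rfl
  have hzkcomm : ∀ (k : ℕ), ∀ e ∈ D₀, e * z ^ k = z ^ k * e := by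
    intro k e he
    have hc : Commute e z := hcomm e he
    exact (hc.pow_right k).eq
  have hzV₀ : ∀ k : ℕ, ∀ v ∈ V₀, φ (z ^ k) v ∈ V₀ := by
    intro k v hv
    rw [hV₀mem] at hv ⊢
    intro e he
    rw [← act_mul, hzkcomm k e he, act_mul, hv e he]
  have hzV₀' : ∀ v ∈ V₀, φ z v ∈ V₀ := by
    intro v hv
    have := hzV₀ 1 v hv
    rwa [pow_one] at this
  have hzinvV₀ : ∀ v ∈ V₀, φ z⁻¹ v ∈ V₀ := by
    intro v hv
    rw [hV₀mem] at hv ⊢
    intro e he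
    have hc : Commute e z := hcomm e he
    rw [← act_mul, (hc.inv_right).eq, act_mul, hv e he]
  have hDV₀ : ∀ d ∈ D, ∀ v ∈ V₀, φ d v ∈ V₀ := by
    intro d hd v hv
    rw [hV₀mem] at hv ⊢
    intro e he
    rw [← act_mul, hDab e (hD₀D he) d hd, act_mul, hv e he]
  have hD₀ab : ∀ a ∈ D₀, ∀ b ∈ D₀, a * b = b * a := fun a ha b hb =>
    hDab a (hD₀D ha) b (hD₀D hb)
  have hD₀2 : ∀ e ∈ D₀, e ^ 2 = 1 := fun e he => hD2 e (hD₀D he)
  -- the `A × B` argument: a power of `z` acting trivially on `V₀` is trivial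
  have hAB : ∀ k : ℕ, (∀ v ∈ V₀, φ (z ^ k) v = v) → z ^ k = 1 := by
    intro k hk
    apply hφ
    ext v
    rw [MulAut.one_apply]
    by_contra hne
    let κ : V →* V :=
      { toFun := fun v => φ (z ^ k) v / v
        map_one' := by rw [map_one, div_one]
        map_mul' := fun a b => by rw [map_mul, mul_div_mul_comm] }
    have hκ : ∀ a, κ a = φ (z ^ k) a / a := fun a => rfl
    have hUne : κ.range ≠ ⊥ := by
      intro hbot
      have h1 : κ v ∈ κ.range := ⟨v, rfl⟩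
      rw [hbot, Subgroup.mem_bot, hκ] at h1
      exact hne (div_eq_one.mp h1)
    have hUE : ∀ e ∈ D₀, ∀ u ∈ κ.range, φ e u ∈ κ.range := by
      rintro e he _ ⟨a, rfl⟩
      refine ⟨φ e a, ?_⟩
      have h1 : φ (z ^ k) (φ e a) = φ e (φ (z ^ k) a) := by
        rw [← act_mul, ← act_mul, hzkcomm k e he]
      rw [hκ, hκ, map_div, h1]
    obtain ⟨u₀, hu₀U, hu₀1, hu₀fix⟩ :=
      exists_fixed_of_invariant φ hV2 D₀ hD₀ab hD₀2 κ.range hUne hUE
    have hu₀V₀ : u₀ ∈ V₀ := (hV₀mem u₀).mpr hu₀fix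
    obtain ⟨v₀, hv₀⟩ := hu₀U
    rw [hκ] at hv₀
    have hv₀' : φ (z ^ k) v₀ = u₀ * v₀ := div_eq_iff_eq_mul.mp hv₀
    have hiter : ∀ j : ℕ, φ ((z ^ k) ^ j) v₀ = u₀ ^ j * v₀ := by
      intro j
      induction j with
      | zero => rw [pow_zero, pow_zero, act_one, one_mul]
      | succ j ih =>
        rw [pow_succ, act_mul, hv₀', map_mul, ih,
          act_pow_fixed φ (z ^ k) u₀ (hk u₀ hu₀V₀) j, pow_succ, mul_assoc, mul_left_comm,
          ← mul_assoc]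
    have h1 := hiter (orderOf (z ^ k))
    rw [pow_orderOf_eq_one, act_one] at h1
    have h2 : u₀ ^ orderOf (z ^ k) = 1 := by
      have := h1.symm
      rwa [mul_eq_right] at this
    have h3 : orderOf u₀ ∣ orderOf (z ^ k) := orderOf_dvd_of_pow_eq_one h2
    have h4 : orderOf u₀ ∣ 2 := orderOf_dvd_of_pow_eq_one (hV2 u₀)
    have h5 : orderOf u₀ = 1 :=
      Nat.eq_one_of_dvd_coprimes hzodd (h3.trans (orderOf_pow_dvd k)) h4
    exact hu₀1 (orderOf_eq_one_iff.mp h5)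
  -- `d₁` acts nontrivially on `V₀`
  obtain ⟨v₁, hv₁, hv₁ne⟩ : ∃ v ∈ V₀, φ d₁ v ≠ v := by
    by_contra hcon
    push Not at hcon
    have h2 : z ^ 2 = 1 := by
      apply hAB 2
      intro v hv
      have h3 : φ z⁻¹ v = φ z v := by
        rw [← hinv, act_mul, act_mul, hd₁inv, hcon v hv, hcon _ (hzV₀' v hv)]
      rw [pow_two, act_mul, ← h3, act_act_inv]
    have h3 := hoddz 1 (by rw [pow_one]; exact h2)
    rw [pow_one] at h3
    exact hz1 h3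
  -- the transvection property
  let K : V₀ →* V :=
    { toFun := fun v => φ d₁ (v : V) / (v : V)
      map_one' := by rw [Subgroup.coe_one, map_one, div_one]
      map_mul' := fun a b => by rw [Subgroup.coe_mul, map_mul, mul_div_mul_comm] }
  have hKapp : ∀ v : V₀, K v = φ d₁ (v : V) / (v : V) := fun v => rfl
  have hfixle : fixV φ D ≤ V₀ := by
    intro v hv
    rw [hV₀mem]
    intro e he
    exact (mem_fixV φ).mp hv e (hD₀D he)
  have hker_card : Nat.card (fixV φ D) ≤ Nat.card K.ker := by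
    have hι : ∀ v : fixV φ D, (⟨(v : V), hfixle v.2⟩ : V₀) ∈ K.ker := by
      intro v
      rw [MonoidHom.mem_ker, hKapp]
      show φ d₁ (v : V) / (v : V) = 1
      rw [(mem_fixV φ).mp v.2 d₁ hd₁, div_self']
    apply Nat.card_le_card_of_injective (fun v : fixV φ D => (⟨⟨(v : V), hfixle v.2⟩, hι v⟩ : K.ker))
    intro a b hab
    have h1 := congrArg (fun x : K.ker => ((x : V₀) : V)) hab
    exact Subtype.ext h1
  have hrange : Nat.card K.range ≤ 2 := by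
    have h1 : Nat.card K.ker * Nat.card K.range = Nat.card V₀ := by
      rw [← Subgroup.index_ker K]; exact Subgroup.card_mul_index K.ker
    have hpos : 0 < Nat.card K.ker := Nat.card_pos
    have h2 : Nat.card K.ker * Nat.card K.range ≤ Nat.card K.ker * 2 := by
      rw [h1]
      calc Nat.card V₀ ≤ 2 * Nat.card (fixV φ D) := by rw [hV₀]; exact hoff
        _ ≤ 2 * Nat.card K.ker := Nat.mul_le_mul_left 2 hker_card
        _ = Nat.card K.ker * 2 := mul_comm _ _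
    exact Nat.le_of_mul_le_mul_left h2 hpos
  have hv₁k : (⟨v₁, hv₁⟩ : V₀) ∉ K.ker := by
    rw [MonoidHom.mem_ker, hKapp]
    exact fun h => hv₁ne (div_eq_one.mp h)
  have hKidx : K.ker.index = 2 := by
    rw [Subgroup.index_ker]
    have h0 : 0 < Nat.card K.range := Nat.card_pos
    have h1 : Nat.card K.range ≠ 1 := by
      intro h
      rw [Subgroup.card_eq_one] at h
      have h2 : K ⟨v₁, hv₁⟩ ∈ K.range := ⟨_, rfl⟩
      rw [h, Subgroup.mem_bot, ← MonoidHom.mem_ker] at h2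
      exact hv₁k h2
    omega
  obtain ⟨u, hu⟩ : ∃ u : V, u = φ d₁ v₁ / v₁ := ⟨_, rfl⟩
  have hu1 : u ≠ 1 := by
    rw [hu]; exact fun h => hv₁ne (div_eq_one.mp h)
  have hd₁u : φ d₁ u = u := by
    rw [hu]; exact hquad d₁ hd₁ d₁ hd₁ v₁
  have huV₀ : u ∈ V₀ := by
    rw [hu]; exact V₀.div_mem (hDV₀ d₁ hd₁ v₁ hv₁) hv₁
  have hd₁V₀ : ∀ v ∈ V₀, φ d₁ v = v ∨ φ d₁ v = v * u := by
    intro v hv
    by_cases hvk : (⟨v, hv⟩ : V₀) ∈ K.ker
    · left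
      rw [MonoidHom.mem_ker, hKapp] at hvk
      exact div_eq_one.mp hvk
    · right
      have hmem : (⟨v, hv⟩ : V₀) * ⟨v₁, hv₁⟩ ∈ K.ker := by
        rw [Subgroup.mul_mem_iff_of_index_two hKidx]
        exact iff_of_false hvk hv₁k
      rw [MonoidHom.mem_ker, map_mul, hKapp, hKapp] at hmem
      have hmem' : (φ d₁ v / v) * (φ d₁ v₁ / v₁) = 1 := hmem
      rw [← hu] at hmem'
      have h1 : φ d₁ v / v = u := by
        rw [eq_inv_of_mul_eq_one_left hmem', hVinv]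
      rw [div_eq_iff_eq_mul] at h1
      rw [h1, mul_comm]
  obtain ⟨u', hu'⟩ : ∃ u' : V, u' = φ z u := ⟨_, rfl⟩
  have hu'1 : u' ≠ 1 := by
    intro h
    apply hu1
    rw [hu'] at h
    exact (MulEquiv.map_eq_one_iff (φ z)).mp h
  have hu'V₀ : u' ∈ V₀ := by rw [hu']; exact hzV₀' u huV₀
  have hd'V₀ : ∀ v ∈ V₀, φ (z * d₁ * z⁻¹) v = v ∨ φ (z * d₁ * z⁻¹) v = v * u' := by
    intro v hv
    rw [act_mul, act_mul]
    rcases hd₁V₀ _ (hzinvV₀ v hv) with h | h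
    · left; rw [h, act_act_inv]
    · right; rw [h, map_mul, act_act_inv, hu']
  have hprod : d₁ * (z * d₁ * z⁻¹) = z⁻¹ * z⁻¹ := by
    calc d₁ * (z * d₁ * z⁻¹) = (d₁ * z * d₁) * z⁻¹ := by group
      _ = (d₁ * z * d₁⁻¹) * z⁻¹ := by rw [hd₁inv]
      _ = z⁻¹ * z⁻¹ := by rw [hinv]
  -- the four-group
  obtain ⟨W, hW⟩ : ∃ W : Subgroup V, W = Subgroup.zpowers u ⊔ Subgroup.zpowers u' := ⟨_, rfl⟩
  have huW : u ∈ W := by
    rw [hW]; exact (le_sup_left : Subgroup.zpowers u ≤ _) (Subgroup.mem_zpowers u)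
  have hu'W : u' ∈ W := by
    rw [hW]; exact (le_sup_right : Subgroup.zpowers u' ≤ _) (Subgroup.mem_zpowers u')
  have hWcases : ∀ w ∈ W, w = 1 ∨ w = u ∨ w = u' ∨ w = u * u' := by
    intro w hw
    rw [hW, Subgroup.mem_sup] at hw
    obtain ⟨a, ha, b, hb, rfl⟩ := hw
    rcases mem_zpowers_of_mul_self (hVmul u) ha with rfl | rfl <;>
      rcases mem_zpowers_of_mul_self (hVmul u') hb with rfl | rfl
    · left; rw [one_mul]
    · right; right; left; rw [one_mul]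
    · right; left; rw [mul_one]
    · right; right; right; rfl
  have hWV₀ : W ≤ V₀ := by
    rw [hW]
    apply sup_le
    · rw [Subgroup.zpowers_le]; exact huV₀
    · rw [Subgroup.zpowers_le]; exact hu'V₀
  have hGd₁ : Good φ W V₀ d₁ := by
    intro v hv
    refine ⟨hDV₀ d₁ hd₁ v hv, ?_⟩
    rcases hd₁V₀ v hv with h | h
    · rw [h, div_self']; exact W.one_mem
    · rw [h, mul_div_cancel_left]; exact huW
  have hGd' : Good φ W V₀ (z * d₁ * z⁻¹) := by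
    intro v hv
    rcases hd'V₀ v hv with h | h
    · rw [h, div_self']; exact ⟨hv, W.one_mem⟩
    · rw [h, mul_div_cancel_left]; exact ⟨V₀.mul_mem hv hu'V₀, hu'W⟩
  have hG2 : Good φ W V₀ (z⁻¹ * z⁻¹) := by
    rw [← hprod]; exact Good.mul φ hGd₁ hGd'
  obtain ⟨t, ht⟩ := (Nat.coprime_two_right.mp hzodd)
  have hzpow : (z⁻¹ * z⁻¹) ^ t = z := by
    have h1 : z ^ (2 * t) * z = 1 := by rw [← pow_succ, ← ht, pow_orderOf_eq_one]
    have h2 : (z⁻¹ * z⁻¹) ^ t = (z ^ (2 * t))⁻¹ := by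
      rw [← pow_two, ← pow_mul, inv_pow]
    rw [h2]
    exact inv_eq_of_mul_eq_one_right h1
  have hGz : Good φ W V₀ z := by
    rw [← hzpow]; exact Good.pow φ hG2 t
  have hGzk : ∀ k : ℕ, Good φ W V₀ (z ^ k) := fun k => Good.pow φ hGz k
  have hfixW : ∀ g : Γ, φ g u = u → φ g u' = u' → ∀ w ∈ W, φ g w = w := by
    intro g h1 h2 w hw
    rcases hWcases w hw with rfl | rfl | rfl | rfl
    · exact map_one _
    · exact h1
    · exact h2
    · rw [map_mul, h1, h2]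
  -- Claim A
  have hA : ∀ k : ℕ, (∀ w ∈ W, φ (z ^ k) w = w) → z ^ k = 1 := by
    intro k hk
    have h1 := Good.sq_trivial φ hV2 (hGzk k) hk
    have h2 : z ^ (k + k) = 1 := by
      apply hAB (k + k)
      intro v hv
      rw [pow_add]
      exact h1 v hv
    apply hoddz k
    rw [pow_two, ← pow_add]
    exact h2
  -- Claim B
  have hBne : u' ≠ u := by
    intro h
    have h1 : φ z u = u := by rw [← hu', h]
    have h2 : φ z u' = u' := by rw [h, h1]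
    have h3 := hA 1 (by rw [pow_one]; exact hfixW z h1 h2)
    rw [pow_one] at h3
    exact hz1 h3
  -- Claim C
  have hzu : φ z u = u' := hu'.symm
  have hC : φ z u' = u * u' := by
    have hmem : φ z u' ∈ W := Good.invariant φ hWV₀ hGz u' hu'W
    rcases hWcases _ hmem with h | h | h | h
    · exact absurd ((MulEquiv.map_eq_one_iff (φ z)).mp h) hu'1
    · exfalso
      have h1 : φ (z ^ 2) u = u := by rw [pow_two, act_mul, hzu, h]
      have h2 : φ (z ^ 2) u' = u' := by rw [pow_two, act_mul, h, hzu]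
      have h3 := hA 2 (hfixW _ h1 h2)
      have h4 := hoddz 1 (by rw [pow_one]; exact h3)
      rw [pow_one] at h4
      exact hz1 h4
    · exfalso
      apply hBne
      have h1 : φ z u' = φ z u := by rw [h, hzu]
      exact (φ z).injective h1
    · exact h
  have hC' : φ z (u * u') = u := by
    rw [map_mul, hzu, hC, mul_left_comm, hVmul, mul_one]
  -- Claim D: `z` acts without fixed points on `W`
  have hfpf : ∀ w ∈ W, φ z w = w → w = 1 := by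
    intro w hw hfix
    rcases hWcases w hw with rfl | rfl | rfl | rfl
    · rfl
    · exfalso; exact hBne (hzu.symm.trans hfix)
    · exfalso
      rw [hC] at hfix
      exact hu1 (mul_eq_right.mp hfix)
    · exfalso
      rw [hC'] at hfix
      apply hu'1
      have h1 : u * 1 = u * u' := by rw [mul_one]; exact hfix
      exact (mul_left_cancel h1).symm
  -- Claim E: `z ^ 3 = 1`
  have hz3 : z ^ 3 = 1 := by
    apply hA 3
    have e3 : z ^ 3 = z * (z * z) := by rw [pow_succ, pow_two, mul_assoc]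
    apply hfixW
    · rw [e3, act_mul, act_mul, hzu, hC, hC']
    · rw [e3, act_mul, act_mul, hC, hC', hzu]
  -- the order of `W`
  have hcardW : Nat.card W = 4 := by
    have hou : orderOf u = 2 := orderOf_eq_prime (hV2 u) hu1
    have hou' : orderOf u' = 2 := orderOf_eq_prime (hV2 u') hu'1
    have hdisj : Subgroup.zpowers u ⊓ Subgroup.zpowers u' = ⊥ := by
      rw [eq_bot_iff]
      intro x hx
      rw [Subgroup.mem_bot]
      obtain ⟨hx1, hx2⟩ := Subgroup.mem_inf.mp hx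
      rcases mem_zpowers_of_mul_self (hVmul u) hx1 with h | h
      · exact h
      · rcases mem_zpowers_of_mul_self (hVmul u') hx2 with h' | h'
        · exact h'
        · exact absurd (h'.symm.trans h) hBne
    rw [hW, Cfsg.Agent.Lib.Helper10.card_sup_of_commute_of_disjoint _ _
      (fun a _ b _ => mul_comm a b) hdisj, Nat.card_zpowers, Nat.card_zpowers, hou, hou']
  exact ⟨W, hcardW, hz3, Good.invariant φ hWV₀ hGd₁, Good.invariant φ hWV₀ hGz, hfpf⟩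

/-- **The offender lemma in characteristic `2`.** -/
theorem offender_two [Finite Γ] [Finite V] (hφ : ∀ g, φ g = 1 → g = 1)
    (hV2 : ∀ v : V, v ^ 2 = 1) (D Z : Subgroup Γ) (hDne : D ≠ ⊥)
    (hDab : ∀ a ∈ D, ∀ b ∈ D, a * b = b * a)
    (hquad : ∀ a ∈ D, ∀ b ∈ D, ∀ v : V, φ a (φ b v / v) = φ b v / v)
    (hZab : ∀ a ∈ Z, ∀ b ∈ Z, a * b = b * a) (hZodd : (Nat.card Z).Coprime 2)
    (hDZ : ∀ d ∈ D, ∀ z ∈ Z, d * z * d⁻¹ ∈ Z)
    (hfaith : ∀ d ∈ D, (∀ z ∈ Z, d * z = z * d) → d = 1)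
    (hoff : ∀ D₀ : Subgroup Γ, D₀ ≤ D → 2 * Nat.card D₀ = Nat.card D →
      Nat.card (fixV φ D₀) ≤ 2 * Nat.card (fixV φ D)) :
    ∃ d ∈ D, ∃ z ∈ Z, ∃ W : Subgroup V, Nat.card W = 4 ∧ z ^ 3 = 1 ∧ d * z * d⁻¹ = z⁻¹ ∧
      (∀ w ∈ W, φ d w ∈ W) ∧ (∀ w ∈ W, φ z w ∈ W) ∧ (∀ w ∈ W, φ z w = w → w = 1) := by
  have hD2 : ∀ d ∈ D, d ^ 2 = 1 := fun d hd =>
    sq_eq_one_of_quad φ hφ hV2 d (hquad d hd d hd)
  obtain ⟨d₁, hd₁, D₀, z, hzZ, hD₀D, hcard, hcover, hz1, hinv, hcomm⟩ :=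
    stage1 D Z hDne hDab hD2 hZab hZodd hDZ hfaith
  have hzodd : (orderOf z).Coprime 2 :=
    Nat.Coprime.coprime_dvd_left (Subgroup.orderOf_dvd_natCard Z hzZ) hZodd
  obtain ⟨W, h1, h2, h3, h4, h5⟩ := stage2 φ hφ hV2 D D₀ hDab hD2 hquad hD₀D d₁ hd₁ hcover z hz1
    hzodd hinv hcomm (hoff D₀ hD₀D hcard)
  exact ⟨d₁, hd₁, z, hzZ, W, h1, h2, hinv, h3, h4, h5⟩

end Cfsg.Agent.Lib.Helper18.OffenderTwo
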