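import Mathlib
import Cfsg.Agent.Lib.Helper18.OffenderTwo
import Cfsg.Agent.Lib.Helper12.Generation
import Cfsg.Agent.Lib.Helper1.Fitting

set_option autoImplicit false

/-!
# Quadratic offenders in characteristic `2`, second version

* `stage2w`: the module-theoretic part of `OffenderTwo.offender_two` (`OffenderTwo.stage2`), with
  faithfulness of the action only assumed on the powers of the inverted element `z`.
* `stage1s`: in a finite solvable group `Γ` with `O₂(Γ) = 1`, a nontrivial elementary abelian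
  `2`-subgroup `D` contains `d₁` and a complement `D₀` to `⟨d₁⟩` such that some `z ≠ 1` of odd order
  is inverted by `d₁` and centralized by `D₀`.
-/

namespace Cfsg.Agent.Lib.Helper18.OffenderTwoB

open Subgroup Cfsg.Agent.Lib.Helper18.OffenderTwo

section Stage2

variable {Γ : Type*} [Group Γ] {V : Type*} [CommGroup V] (φ : Γ →* MulAut V)

/-- Stage 2: the module-theoretic part. -/
theorem stage2w [Finite Γ] [Finite V] (hV2 : ∀ v : V, v ^ 2 = 1)
    (D D₀ : Subgroup Γ) (hDab : ∀ a ∈ D, ∀ b ∈ D, a * b = b * a) (hD2 : ∀ d ∈ D, d ^ 2 = 1)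
    (hquad : ∀ a ∈ D, ∀ b ∈ D, ∀ v : V, φ a (φ b v / v) = φ b v / v)
    (hD₀D : D₀ ≤ D) (d₁ : Γ) (hd₁ : d₁ ∈ D)
    (z : Γ) (hz1 : z ≠ 1) (hzodd : (orderOf z).Coprime 2) (hinv : d₁ * z * d₁⁻¹ = z⁻¹)
    (hcomm : ∀ e ∈ D₀, e * z = z * e) (hφz : ∀ k : ℕ, φ (z ^ k) = 1 → z ^ k = 1)
    (hoff : Nat.card (fixV φ D₀) ≤ 2 * Nat.card (fixV φ D)) :
    ∃ W : Subgroup V, Nat.card W = 4 ∧ z ^ 3 = 1 ∧ (∀ w ∈ W, φ d₁ w ∈ W) ∧
      (∀ w ∈ W, φ z w ∈ W) ∧ (∀ w ∈ W, φ z w = w → w = 1) := by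
  classical
  have hp2 : Fact (Nat.Prime 2) := ⟨Nat.prime_two⟩
  have hVinv : ∀ v : V, v⁻¹ = v := fun v =>
    inv_eq_of_mul_eq_one_right (by rw [← pow_two]; exact hV2 v)
  have hVmul : ∀ v : V, v * v = 1 := fun v => by rw [← pow_two]; exact hV2 v
  have hd₁sq : d₁ * d₁ = 1 := by rw [← pow_two]; exact hD2 d₁ hd₁
  have hd₁inv : d₁⁻¹ = d₁ := inv_eq_of_mul_eq_one_right hd₁sq
  have hoddz : ∀ k : ℕ, (z ^ k) ^ 2 = 1 → z ^ k = 1 := by
    intro k h
    have h1 : orderOf (z ^ k) ∣ 2 := orderOf_dvd_of_pow_eq_one h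
    have h2 : orderOf (z ^ k) ∣ orderOf z := orderOf_pow_dvd k
    have h3 : orderOf (z ^ k) = 1 := Nat.eq_one_of_dvd_coprimes hzodd h2 h1
    exact orderOf_eq_one_iff.mp h3
  obtain ⟨V₀, hV₀⟩ : ∃ V₀ : Subgroup V, V₀ = fixV φ D₀ := ⟨_, rfl⟩
  have hV₀mem : ∀ v, v ∈ V₀ ↔ ∀ e ∈ D₀, φ e v = v := by
    intro v; rw [hV₀]; exact Iff.rfl
  have hzkcomm : ∀ (k : ℕ), ∀ e ∈ D₀, e * z ^ k = z ^ k * e := by
    intro k e he
    have hc : Commute e z := hcomm e he
    exact (hc.pow_right k).eq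
  have hzV₀ : ∀ k : ℕ, ∀ v ∈ V₀, φ (z ^ k) v ∈ V₀ := by
    intro k v hv
    rw [hV₀mem] at hv ⊢
    intro e he
    rw [← act_mul, hzkcomm k e he, act_mul, hv e he]
  have hzV₀' : ∀ v ∈ V₀, φ z v ∈ V₀ := by
    intro v hv
    have := hzV₀ 1 v hv
    rwa [pow_one] at this
  have hzinvV₀ : ∀ v ∈ V₀, φ z⁻¹ v ∈ V₀ := by
    intro v hv
    rw [hV₀mem] at hv ⊢
    intro e he
    have hc : Commute e z := hcomm e he
    rw [← act_mul, (hc.inv_right).eq, act_mul, hv e he]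
  have hDV₀ : ∀ d ∈ D, ∀ v ∈ V₀, φ d v ∈ V₀ := by
    intro d hd v hv
    rw [hV₀mem] at hv ⊢
    intro e he
    rw [← act_mul, hDab e (hD₀D he) d hd, act_mul, hv e he]
  have hD₀ab : ∀ a ∈ D₀, ∀ b ∈ D₀, a * b = b * a := fun a ha b hb =>
    hDab a (hD₀D ha) b (hD₀D hb)
  have hD₀2 : ∀ e ∈ D₀, e ^ 2 = 1 := fun e he => hD2 e (hD₀D he)
  -- the `A × B` argument: a power of `z` acting trivially on `V₀` is trivial
  have hAB : ∀ k : ℕ, (∀ v ∈ V₀, φ (z ^ k) v = v) → z ^ k = 1 := by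
    intro k hk
    apply hφz k
    ext v
    rw [MulAut.one_apply]
    by_contra hne
    let κ : V →* V :=
      { toFun := fun v => φ (z ^ k) v / v
        map_one' := by rw [map_one, div_one]
        map_mul' := fun a b => by rw [map_mul, mul_div_mul_comm] }
    have hκ : ∀ a, κ a = φ (z ^ k) a / a := fun a => rfl
    have hUne : κ.range ≠ ⊥ := by
      intro hbot
      have h1 : κ v ∈ κ.range := ⟨v, rfl⟩
      rw [hbot, Subgroup.mem_bot, hκ] at h1
      exact hne (div_eq_one.mp h1)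
    have hUE : ∀ e ∈ D₀, ∀ u ∈ κ.range, φ e u ∈ κ.range := by
      rintro e he _ ⟨a, rfl⟩
      refine ⟨φ e a, ?_⟩
      have h1 : φ (z ^ k) (φ e a) = φ e (φ (z ^ k) a) := by
        rw [← act_mul, ← act_mul, hzkcomm k e he]
      rw [hκ, hκ, map_div, h1]
    obtain ⟨u₀, hu₀U, hu₀1, hu₀fix⟩ :=
      exists_fixed_of_invariant φ hV2 D₀ hD₀ab hD₀2 κ.range hUne hUE
    have hu₀V₀ : u₀ ∈ V₀ := (hV₀mem u₀).mpr hu₀fix
    obtain ⟨v₀, hv₀⟩ := hu₀U
    rw [hκ] at hv₀
    have hv₀' : φ (z ^ k) v₀ = u₀ * v₀ := div_eq_iff_eq_mul.mp hv₀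
    have hiter : ∀ j : ℕ, φ ((z ^ k) ^ j) v₀ = u₀ ^ j * v₀ := by
      intro j
      induction j with
      | zero => rw [pow_zero, pow_zero, act_one, one_mul]
      | succ j ih =>
        rw [pow_succ, act_mul, hv₀', map_mul, ih,
          act_pow_fixed φ (z ^ k) u₀ (hk u₀ hu₀V₀) j, pow_succ, mul_assoc, mul_left_comm,
          ← mul_assoc]
    have h1 := hiter (orderOf (z ^ k))
    rw [pow_orderOf_eq_one, act_one] at h1
    have h2 : u₀ ^ orderOf (z ^ k) = 1 := by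
      have := h1.symm
      rwa [mul_eq_right] at this
    have h3 : orderOf u₀ ∣ orderOf (z ^ k) := orderOf_dvd_of_pow_eq_one h2
    have h4 : orderOf u₀ ∣ 2 := orderOf_dvd_of_pow_eq_one (hV2 u₀)
    have h5 : orderOf u₀ = 1 :=
      Nat.eq_one_of_dvd_coprimes hzodd (h3.trans (orderOf_pow_dvd k)) h4
    exact hu₀1 (orderOf_eq_one_iff.mp h5)
  -- `d₁` acts nontrivially on `V₀`
  obtain ⟨v₁, hv₁, hv₁ne⟩ : ∃ v ∈ V₀, φ d₁ v ≠ v := by
    by_contra hcon
    push Not at hcon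
    have h2 : z ^ 2 = 1 := by
      apply hAB 2
      intro v hv
      have h3 : φ z⁻¹ v = φ z v := by
        rw [← hinv, act_mul, act_mul, hd₁inv, hcon v hv, hcon _ (hzV₀' v hv)]
      rw [pow_two, act_mul, ← h3, act_act_inv]
    have h3 := hoddz 1 (by rw [pow_one]; exact h2)
    rw [pow_one] at h3
    exact hz1 h3
  -- the transvection property
  let K : V₀ →* V :=
    { toFun := fun v => φ d₁ (v : V) / (v : V)
      map_one' := by rw [Subgroup.coe_one, map_one, div_one]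
      map_mul' := fun a b => by rw [Subgroup.coe_mul, map_mul, mul_div_mul_comm] }
  have hKapp : ∀ v : V₀, K v = φ d₁ (v : V) / (v : V) := fun v => rfl
  have hfixle : fixV φ D ≤ V₀ := by
    intro v hv
    rw [hV₀mem]
    intro e he
    exact (mem_fixV φ).mp hv e (hD₀D he)
  have hker_card : Nat.card (fixV φ D) ≤ Nat.card K.ker := by
    have hι : ∀ v : fixV φ D, (⟨(v : V), hfixle v.2⟩ : V₀) ∈ K.ker := by
      intro v
      rw [MonoidHom.mem_ker, hKapp]
      show φ d₁ (v : V) / (v : V) = 1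
      rw [(mem_fixV φ).mp v.2 d₁ hd₁, div_self']
    apply Nat.card_le_card_of_injective (fun v : fixV φ D => (⟨⟨(v : V), hfixle v.2⟩, hι v⟩ : K.ker))
    intro a b hab
    have h1 := congrArg (fun x : K.ker => ((x : V₀) : V)) hab
    exact Subtype.ext h1
  have hrange : Nat.card K.range ≤ 2 := by
    have h1 : Nat.card K.ker * Nat.card K.range = Nat.card V₀ := by
      rw [← Subgroup.index_ker K]; exact Subgroup.card_mul_index K.ker
    have hpos : 0 < Nat.card K.ker := Nat.card_pos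
    have h2 : Nat.card K.ker * Nat.card K.range ≤ Nat.card K.ker * 2 := by
      rw [h1]
      calc Nat.card V₀ ≤ 2 * Nat.card (fixV φ D) := by rw [hV₀]; exact hoff
        _ ≤ 2 * Nat.card K.ker := Nat.mul_le_mul_left 2 hker_card
        _ = Nat.card K.ker * 2 := mul_comm _ _
    exact Nat.le_of_mul_le_mul_left h2 hpos
  have hv₁k : (⟨v₁, hv₁⟩ : V₀) ∉ K.ker := by
    rw [MonoidHom.mem_ker, hKapp]
    exact fun h => hv₁ne (div_eq_one.mp h)
  have hKidx : K.ker.index = 2 := by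
    rw [Subgroup.index_ker]
    have h0 : 0 < Nat.card K.range := Nat.card_pos
    have h1 : Nat.card K.range ≠ 1 := by
      intro h
      rw [Subgroup.card_eq_one] at h
      have h2 : K ⟨v₁, hv₁⟩ ∈ K.range := ⟨_, rfl⟩
      rw [h, Subgroup.mem_bot, ← MonoidHom.mem_ker] at h2
      exact hv₁k h2
    omega
  obtain ⟨u, hu⟩ : ∃ u : V, u = φ d₁ v₁ / v₁ := ⟨_, rfl⟩
  have hu1 : u ≠ 1 := by
    rw [hu]; exact fun h => hv₁ne (div_eq_one.mp h)
  have hd₁u : φ d₁ u = u := by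
    rw [hu]; exact hquad d₁ hd₁ d₁ hd₁ v₁
  have huV₀ : u ∈ V₀ := by
    rw [hu]; exact V₀.div_mem (hDV₀ d₁ hd₁ v₁ hv₁) hv₁
  have hd₁V₀ : ∀ v ∈ V₀, φ d₁ v = v ∨ φ d₁ v = v * u := by
    intro v hv
    by_cases hvk : (⟨v, hv⟩ : V₀) ∈ K.ker
    · left
      rw [MonoidHom.mem_ker, hKapp] at hvk
      exact div_eq_one.mp hvk
    · right
      have hmem : (⟨v, hv⟩ : V₀) * ⟨v₁, hv₁⟩ ∈ K.ker := by
        rw [Subgroup.mul_mem_iff_of_index_two hKidx]
        exact iff_of_false hvk hv₁k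
      rw [MonoidHom.mem_ker, map_mul, hKapp, hKapp] at hmem
      have hmem' : (φ d₁ v / v) * (φ d₁ v₁ / v₁) = 1 := hmem
      rw [← hu] at hmem'
      have h1 : φ d₁ v / v = u := by
        rw [eq_inv_of_mul_eq_one_left hmem', hVinv]
      rw [div_eq_iff_eq_mul] at h1
      rw [h1, mul_comm]
  obtain ⟨u', hu'⟩ : ∃ u' : V, u' = φ z u := ⟨_, rfl⟩
  have hu'1 : u' ≠ 1 := by
    intro h
    apply hu1
    rw [hu'] at h
    exact (MulEquiv.map_eq_one_iff (φ z)).mp h
  have hu'V₀ : u' ∈ V₀ := by rw [hu']; exact hzV₀' u huV₀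
  have hd'V₀ : ∀ v ∈ V₀, φ (z * d₁ * z⁻¹) v = v ∨ φ (z * d₁ * z⁻¹) v = v * u' := by
    intro v hv
    rw [act_mul, act_mul]
    rcases hd₁V₀ _ (hzinvV₀ v hv) with h | h
    · left; rw [h, act_act_inv]
    · right; rw [h, map_mul, act_act_inv, hu']
  have hprod : d₁ * (z * d₁ * z⁻¹) = z⁻¹ * z⁻¹ := by
    calc d₁ * (z * d₁ * z⁻¹) = (d₁ * z * d₁) * z⁻¹ := by group
      _ = (d₁ * z * d₁⁻¹) * z⁻¹ := by rw [hd₁inv]
      _ = z⁻¹ * z⁻¹ := by rw [hinv]
  -- the four-group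
  obtain ⟨W, hW⟩ : ∃ W : Subgroup V, W = Subgroup.zpowers u ⊔ Subgroup.zpowers u' := ⟨_, rfl⟩
  have huW : u ∈ W := by
    rw [hW]; exact (le_sup_left : Subgroup.zpowers u ≤ _) (Subgroup.mem_zpowers u)
  have hu'W : u' ∈ W := by
    rw [hW]; exact (le_sup_right : Subgroup.zpowers u' ≤ _) (Subgroup.mem_zpowers u')
  have hWcases : ∀ w ∈ W, w = 1 ∨ w = u ∨ w = u' ∨ w = u * u' := by
    intro w hw
    rw [hW, Subgroup.mem_sup] at hw
    obtain ⟨a, ha, b, hb, rfl⟩ := hw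
    rcases mem_zpowers_of_mul_self (hVmul u) ha with rfl | rfl <;>
      rcases mem_zpowers_of_mul_self (hVmul u') hb with rfl | rfl
    · left; rw [one_mul]
    · right; right; left; rw [one_mul]
    · right; left; rw [mul_one]
    · right; right; right; rfl
  have hWV₀ : W ≤ V₀ := by
    rw [hW]
    apply sup_le
    · rw [Subgroup.zpowers_le]; exact huV₀
    · rw [Subgroup.zpowers_le]; exact hu'V₀
  have hGd₁ : Good φ W V₀ d₁ := by
    intro v hv
    refine ⟨hDV₀ d₁ hd₁ v hv, ?_⟩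
    rcases hd₁V₀ v hv with h | h
    · rw [h, div_self']; exact W.one_mem
    · rw [h, mul_div_cancel_left]; exact huW
  have hGd' : Good φ W V₀ (z * d₁ * z⁻¹) := by
    intro v hv
    rcases hd'V₀ v hv with h | h
    · rw [h, div_self']; exact ⟨hv, W.one_mem⟩
    · rw [h, mul_div_cancel_left]; exact ⟨V₀.mul_mem hv hu'V₀, hu'W⟩
  have hG2 : Good φ W V₀ (z⁻¹ * z⁻¹) := by
    rw [← hprod]; exact Good.mul φ hGd₁ hGd'
  obtain ⟨t, ht⟩ := (Nat.coprime_two_right.mp hzodd)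
  have hzpow : (z⁻¹ * z⁻¹) ^ t = z := by
    have h1 : z ^ (2 * t) * z = 1 := by rw [← pow_succ, ← ht, pow_orderOf_eq_one]
    have h2 : (z⁻¹ * z⁻¹) ^ t = (z ^ (2 * t))⁻¹ := by
      rw [← pow_two, ← pow_mul, inv_pow]
    rw [h2]
    exact inv_eq_of_mul_eq_one_right h1
  have hGz : Good φ W V₀ z := by
    rw [← hzpow]; exact Good.pow φ hG2 t
  have hGzk : ∀ k : ℕ, Good φ W V₀ (z ^ k) := fun k => Good.pow φ hGz k
  have hfixW : ∀ g : Γ, φ g u = u → φ g u' = u' → ∀ w ∈ W, φ g w = w := by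
    intro g h1 h2 w hw
    rcases hWcases w hw with rfl | rfl | rfl | rfl
    · exact map_one _
    · exact h1
    · exact h2
    · rw [map_mul, h1, h2]
  -- Claim A
  have hA : ∀ k : ℕ, (∀ w ∈ W, φ (z ^ k) w = w) → z ^ k = 1 := by
    intro k hk
    have h1 := Good.sq_trivial φ hV2 (hGzk k) hk
    have h2 : z ^ (k + k) = 1 := by
      apply hAB (k + k)
      intro v hv
      rw [pow_add]
      exact h1 v hv
    apply hoddz k
    rw [pow_two, ← pow_add]
    exact h2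
  -- Claim B
  have hBne : u' ≠ u := by
    intro h
    have h1 : φ z u = u := by rw [← hu', h]
    have h2 : φ z u' = u' := by rw [h, h1]
    have h3 := hA 1 (by rw [pow_one]; exact hfixW z h1 h2)
    rw [pow_one] at h3
    exact hz1 h3
  -- Claim C
  have hzu : φ z u = u' := hu'.symm
  have hC : φ z u' = u * u' := by
    have hmem : φ z u' ∈ W := Good.invariant φ hWV₀ hGz u' hu'W
    rcases hWcases _ hmem with h | h | h | h
    · exact absurd ((MulEquiv.map_eq_one_iff (φ z)).mp h) hu'1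
    · exfalso
      have h1 : φ (z ^ 2) u = u := by rw [pow_two, act_mul, hzu, h]
      have h2 : φ (z ^ 2) u' = u' := by rw [pow_two, act_mul, h, hzu]
      have h3 := hA 2 (hfixW _ h1 h2)
      have h4 := hoddz 1 (by rw [pow_one]; exact h3)
      rw [pow_one] at h4
      exact hz1 h4
    · exfalso
      apply hBne
      have h1 : φ z u' = φ z u := by rw [h, hzu]
      exact (φ z).injective h1
    · exact h
  have hC' : φ z (u * u') = u := by
    rw [map_mul, hzu, hC, mul_left_comm, hVmul, mul_one]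
  -- Claim D: `z` acts without fixed points on `W`
  have hfpf : ∀ w ∈ W, φ z w = w → w = 1 := by
    intro w hw hfix
    rcases hWcases w hw with rfl | rfl | rfl | rfl
    · rfl
    · exfalso; exact hBne (hzu.symm.trans hfix)
    · exfalso
      rw [hC] at hfix
      exact hu1 (mul_eq_right.mp hfix)
    · exfalso
      rw [hC'] at hfix
      apply hu'1
      have h1 : u * 1 = u * u' := by rw [mul_one]; exact hfix
      exact (mul_left_cancel h1).symm
  -- Claim E: `z ^ 3 = 1`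
  have hz3 : z ^ 3 = 1 := by
    apply hA 3
    have e3 : z ^ 3 = z * (z * z) := by rw [pow_succ, pow_two, mul_assoc]
    apply hfixW
    · rw [e3, act_mul, act_mul, hzu, hC, hC']
    · rw [e3, act_mul, act_mul, hC, hC', hzu]
  -- the order of `W`
  have hcardW : Nat.card W = 4 := by
    have hou : orderOf u = 2 := orderOf_eq_prime (hV2 u) hu1
    have hou' : orderOf u' = 2 := orderOf_eq_prime (hV2 u') hu'1
    have hdisj : Subgroup.zpowers u ⊓ Subgroup.zpowers u' = ⊥ := by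
      rw [eq_bot_iff]
      intro x hx
      rw [Subgroup.mem_bot]
      obtain ⟨hx1, hx2⟩ := Subgroup.mem_inf.mp hx
      rcases mem_zpowers_of_mul_self (hVmul u) hx1 with h | h
      · exact h
      · rcases mem_zpowers_of_mul_self (hVmul u') hx2 with h' | h'
        · exact h'
        · exact absurd (h'.symm.trans h) hBne
    rw [hW, Cfsg.Agent.Lib.Helper10.card_sup_of_commute_of_disjoint _ _
      (fun a _ b _ => mul_comm a b) hdisj, Nat.card_zpowers, Nat.card_zpowers, hou, hou']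
  exact ⟨W, hcardW, hz3, Good.invariant φ hWV₀ hGd₁, Good.invariant φ hWV₀ hGz, hfpf⟩

end Stage2

section Stage1

universe u

variable {Γ : Type u} [Group Γ] [Finite Γ]

omit [Finite Γ] in
theorem mem_zpowers_of_mul_self' {a : Γ} (ha : a * a = 1) {x : Γ}
    (hx : x ∈ Subgroup.zpowers a) : x = 1 ∨ x = a := by
  obtain ⟨k, rfl⟩ := Subgroup.mem_zpowers_iff.mp hx
  obtain ⟨m, hm | hm⟩ := Int.even_or_odd' k
  · left; rw [hm, zpow_mul, zpow_two, ha, one_zpow]
  · right; rw [hm, zpow_add, zpow_mul, zpow_two, ha, one_zpow, one_mul, zpow_one]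

/-- In a finite solvable group with trivial `2`-core, the `2'`-core contains its centralizer. -/
theorem centralizer_pPrimeCore_two_le [Group.IsSolvable Γ] (hO : Cfsg.pCore 2 Γ = ⊥) :
    centralizer ((Cfsg.pPrimeCore 2 Γ : Subgroup Γ) : Set Γ) ≤ Cfsg.pPrimeCore 2 Γ := by
  have hF : Cfsg.fittingSubgroup Γ ≤ Cfsg.pPrimeCore 2 Γ := by
    rw [Cfsg.Agent.Lib.Helper1.fittingSubgroup_eq_iSup_primes]
    refine iSup_le fun q => ?_
    by_cases hq : (q : ℕ) = 2
    · rw [hq, hO]; exact bot_le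
    · have : Fact (q : ℕ).Prime := ⟨q.2⟩
      apply Cfsg.Agent.Lib.Helper1.le_pPrimeCore (Cfsg.Agent.Lib.Helper1.pCore_normal _)
      obtain ⟨k, hk⟩ := (Cfsg.Agent.Lib.Helper1.pCore_isPGroup (G := Γ) (q : ℕ)).exists_card_eq
      rw [hk]
      exact Nat.Coprime.pow_left k ((Nat.coprime_primes q.2 Nat.prime_two).mpr hq)
  exact (Subgroup.centralizer_le hF).trans
    (Cfsg.Agent.Lib.Helper1.centralizer_fittingSubgroup_le.trans hF)

/-- Stage 1, solvable version: in a finite solvable group `Γ` with `O₂(Γ) = 1`, a nontrivial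
elementary abelian `2`-subgroup `D` contains `d₁` and a subgroup `D₀` of index `2` such that some
`z = x⁻¹ x^{d₁} ≠ 1` of odd order is inverted by `d₁` and centralized by `D₀`. -/
theorem stage1s [Group.IsSolvable Γ] (hO : Cfsg.pCore 2 Γ = ⊥) (D : Subgroup Γ) (hDne : D ≠ ⊥)
    (hDab : ∀ a ∈ D, ∀ b ∈ D, a * b = b * a) (hD2 : ∀ d ∈ D, d ^ 2 = 1) :
    ∃ d₁ ∈ D, ∃ D₀ : Subgroup Γ, ∃ x z : Γ, z = x⁻¹ * (d₁ * x * d₁⁻¹) ∧ D₀ ≤ D ∧
      2 * Nat.card D₀ = Nat.card D ∧ z ≠ 1 ∧ (orderOf z).Coprime 2 ∧ d₁ * z * d₁⁻¹ = z⁻¹ ∧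
      ∀ e ∈ D₀, e * z = z * e := by
  classical
  have hp2 : Fact (Nat.Prime 2) := ⟨Nat.prime_two⟩
  obtain ⟨K, hK⟩ : ∃ K : Subgroup Γ, K = Cfsg.pPrimeCore 2 Γ := ⟨_, rfl⟩
  have hKn : K.Normal := by rw [hK]; exact Cfsg.Agent.Lib.Helper1.pPrimeCore_normal 2
  have hKcop : (Nat.card K).Coprime 2 := by
    rw [hK]; exact Cfsg.Agent.Lib.Helper1.pPrimeCore_coprime 2
  have hCK : centralizer (K : Set Γ) ≤ K := by
    rw [hK]; exact centralizer_pPrimeCore_two_le hO
  have hDK : D ≤ normalizer (K : Set Γ) := by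
    rw [Subgroup.normalizer_eq_top_iff.mpr hKn]; exact le_top
  have hpK : ¬ 2 ∣ Nat.card K := by
    intro h
    have h1 : (2 : ℕ) ∣ Nat.gcd (Nat.card K) 2 := Nat.dvd_gcd h dvd_rfl
    rw [hKcop] at h1
    exact absurd h1 (by norm_num)
  have hgen := Cfsg.Agent.Lib.Helper12.le_iSup_inf_centralizer_cohyper (p := 2) hDab hD2
    (Nat.card K) K rfl hDK hpK
  -- some hyperplane centralizer in `K` is not centralized by `D`
  have hex : ∃ D₀ : Subgroup Γ, Cfsg.Agent.Lib.Helper12.IsCohyper D D₀ ∧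
      ∃ x ∈ K ⊓ centralizer (D₀ : Set Γ), x ∉ centralizer (D : Set Γ) := by
    by_contra hcon
    push Not at hcon
    have h1 : K ≤ centralizer (D : Set Γ) := by
      refine hgen.trans (iSup_le fun D₀ => ?_)
      intro x hx
      exact hcon D₀.1 D₀.2 x hx
    have h2 : D ≤ K := (Subgroup.le_centralizer_iff.mp h1).trans hCK
    apply hDne
    rw [eq_bot_iff]
    intro d hd
    rw [Subgroup.mem_bot]
    have h3 : orderOf d ∣ 2 := orderOf_dvd_of_pow_eq_one (hD2 d hd)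
    have h4 : orderOf d ∣ Nat.card K := Subgroup.orderOf_dvd_natCard K (h2 hd)
    exact orderOf_eq_one_iff.mp (Nat.eq_one_of_dvd_coprimes hKcop h4 h3)
  obtain ⟨D₀, ⟨hD₀D, e, heD, hsup⟩, x, hx, hxD⟩ := hex
  obtain ⟨hxK, hxC⟩ := Subgroup.mem_inf.mp hx
  have hxD₀ : ∀ f ∈ D₀, f * x = x * f := fun f hf => Subgroup.mem_centralizer_iff.mp hxC f hf
  have hesq : e * e = 1 := by rw [← pow_two]; exact hD2 e heD
  have heinv : e⁻¹ = e := inv_eq_of_mul_eq_one_right hesq
  -- `x` does not commute with `e`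
  have hex' : e * x ≠ x * e := by
    intro hc
    apply hxD
    rw [Subgroup.mem_centralizer_iff]
    have hle : D ≤ centralizer ({x} : Set Γ) := by
      rw [← hsup]
      refine sup_le ?_ ?_
      · intro f hf
        rw [Subgroup.mem_centralizer_singleton_iff]
        exact hxD₀ f hf
      · rw [Subgroup.zpowers_le, Subgroup.mem_centralizer_singleton_iff]
        exact hc
    intro d hd
    exact Subgroup.mem_centralizer_singleton_iff.mp (hle hd)
  have heD₀ : e ∉ D₀ := fun h => hex' (hxD₀ e h)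
  have he1 : e ≠ 1 := by
    rintro rfl
    exact hex' (by rw [one_mul, mul_one])
  obtain ⟨z, hz⟩ : ∃ z : Γ, z = x⁻¹ * (e * x * e⁻¹) := ⟨_, rfl⟩
  have hzK : z ∈ K := by
    rw [hz]
    exact K.mul_mem (K.inv_mem hxK) (hKn.conj_mem x hxK e)
  refine ⟨e, heD, D₀, x, z, hz, hD₀D, ?_, ?_, ?_, ?_, ?_⟩
  · -- the index
    have hcomm : ∀ a ∈ D₀, ∀ b ∈ zpowers e, a * b = b * a := fun a ha b hb =>
      hDab a (hD₀D ha) b ((Subgroup.zpowers_le.mpr heD) hb)
    have hdisj : D₀ ⊓ zpowers e = ⊥ := by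
      rw [eq_bot_iff]
      intro y hy
      obtain ⟨hy1, hy2⟩ := Subgroup.mem_inf.mp hy
      rw [Subgroup.mem_bot]
      rcases mem_zpowers_of_mul_self' hesq hy2 with h | h
      · exact h
      · rw [h] at hy1; exact absurd hy1 heD₀
    have h1 := Cfsg.Agent.Lib.Helper10.card_sup_of_commute_of_disjoint D₀ (zpowers e) hcomm hdisj
    rw [hsup, Nat.card_zpowers] at h1
    have h2 : orderOf e = 2 := orderOf_eq_prime (by rw [pow_two]; exact hesq) he1
    rw [h1, h2, mul_comm]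
  · intro h1
    apply hex'
    rw [hz] at h1
    have h2 : e * x * e⁻¹ = x := by
      have := congrArg (fun t => x * t) h1
      simpa using this
    calc e * x = (e * x * e⁻¹) * e := by group
      _ = x * e := by rw [h2]
  · exact Nat.Coprime.coprime_dvd_left (Subgroup.orderOf_dvd_natCard K hzK) hKcop
  · rw [hz, heinv]
    have h1 : (x⁻¹ * (e * x * e))⁻¹ = e⁻¹ * x⁻¹ * e⁻¹ * x := by group
    rw [h1, heinv]
    calc e * (x⁻¹ * (e * x * e)) * e = e * x⁻¹ * e * x * (e * e) := by group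
      _ = e * x⁻¹ * e * x := by rw [hesq, mul_one]
  · intro f hf
    have h1 : f * x = x * f := hxD₀ f hf
    have h2 : f * e = e * f := hDab f (hD₀D hf) e heD
    have h3 : f * x⁻¹ = x⁻¹ * f := by
      calc f * x⁻¹ = x⁻¹ * (x * f) * x⁻¹ := by group
        _ = x⁻¹ * (f * x) * x⁻¹ := by rw [h1]
        _ = x⁻¹ * f := by group
    rw [hz, heinv]
    calc f * (x⁻¹ * (e * x * e)) = (f * x⁻¹) * e * x * e := by group
      _ = x⁻¹ * (f * e) * x * e := by rw [h3]; group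
      _ = x⁻¹ * e * (f * x) * e := by rw [h2]; group
      _ = x⁻¹ * e * x * (f * e) := by rw [h1]; group
      _ = x⁻¹ * (e * x * e) * f := by rw [h2]; group

end Stage1

end Cfsg.Agent.Lib.Helper18.OffenderTwoB
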