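import Mathlib
import Cfsg.Prelude.Def_LocalEven
import Cfsg.Agent.Lib.Helper27.Involves
import Cfsg.Agent.Lib.Helper10.Basic
import Cfsg.Agent.Lib.Helper18.Conj
import Cfsg.Agent.Lib.Helper18.ProductFormula
import Cfsg.Agent.Lib.Helper18.S4Section

set_option autoImplicit false

/-!
# Finding a section isomorphic to `S₄`, second version

`involves_s4_of_normal_klein'` / `involves_s4_of_klein'`: as in `S4Section`, but the element `y`
need not have order `3`: it is enough that `y ^ 3` centralizes the four-group `W`.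
-/

namespace Cfsg.Agent.Lib.Helper18

open Subgroup

universe u

section S4B

variable {G : Type u} [Group G] [Finite G]

/-- A normal four-group `W`, an element `y` acting fixed-point-freely on `W` with `y ^ 3`
centralizing `W`, and an element `x` inverting `y` generate a subgroup mapping onto `S₄`. -/
theorem involves_s4_of_normal_klein' (W : Subgroup G) [hWn : W.Normal] (y x : G)
    (hW4 : Nat.card W = 4) (hy3 : y ^ 3 ∈ centralizer (W : Set G)) (hxy : x * y * x⁻¹ = y⁻¹)
    (hfpf : ∀ w ∈ W, y * w * y⁻¹ = w → w = 1) :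
    Cfsg.Involves (Equiv.Perm (Fin 4)) G := by
  classical
  have hp3 : Fact (Nat.Prime 3) := ⟨by norm_num⟩
  have hp2 : Fact (Nat.Prime 2) := ⟨by norm_num⟩
  set Y : Subgroup G := Subgroup.zpowers y with hY
  have hyY : y ∈ Y := Subgroup.mem_zpowers y
  -- `x` normalizes `Y`
  have hxY : x ∈ normalizer (Y : Set G) := by
    apply mem_normalizer_of_forall_conj_mem
    intro n hn
    obtain ⟨k, rfl⟩ := Subgroup.mem_zpowers_iff.mp hn
    have e : x * y ^ k * x⁻¹ = (y⁻¹) ^ k := by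
      rw [← hxy, conj_zpow]
    rw [e]
    exact Subgroup.zpow_mem _ (Subgroup.inv_mem _ hyY) k
  set K₀ : Subgroup G := Y ⊔ Subgroup.zpowers x with hK₀
  have hyK : y ∈ K₀ := (le_sup_left : Y ≤ K₀) hyY
  have hxK : x ∈ K₀ := (le_sup_right : Subgroup.zpowers x ≤ K₀) (Subgroup.mem_zpowers x)
  have hKY : K₀ ≤ normalizer (Y : Set G) := by
    apply sup_le Subgroup.le_normalizer
    rw [Subgroup.zpowers_le]; exact hxY
  have hWY : W ⊓ Y = ⊥ := by
    rw [eq_bot_iff]
    intro w hw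
    rw [Subgroup.mem_bot]
    obtain ⟨hwW, hwY⟩ := Subgroup.mem_inf.mp hw
    apply hfpf w hwW
    obtain ⟨k, rfl⟩ := Subgroup.mem_zpowers_iff.mp hwY
    have hc : Commute y (y ^ k) := (Commute.refl y).zpow_right k
    rw [hc.eq, mul_inv_cancel_right]
  have hWK : W ⊓ K₀ = ⊥ := by
    rw [eq_bot_iff]
    intro w hw
    rw [Subgroup.mem_bot]
    have hw1 : w ∈ W := (Subgroup.mem_inf.mp hw).1
    have hw2 : w ∈ K₀ := (Subgroup.mem_inf.mp hw).2
    apply hfpf w hw1
    have h1 : y * w * y⁻¹ * w⁻¹ ∈ W ⊓ Y := by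
      refine Subgroup.mem_inf.mpr ⟨W.mul_mem (hWn.conj_mem w hw1 y) (W.inv_mem hw1), ?_⟩
      have h2 : w * y⁻¹ * w⁻¹ ∈ Y :=
        (Subgroup.mem_normalizer_iff.mp (hKY hw2) y⁻¹).mp (Y.inv_mem hyY)
      have e : y * w * y⁻¹ * w⁻¹ = y * (w * y⁻¹ * w⁻¹) := by group
      rw [e]
      exact Y.mul_mem hyY h2
    rw [hWY, Subgroup.mem_bot] at h1
    exact mul_inv_eq_one.mp h1
  -- the subgroup `H = K₀ W`
  set H : Subgroup G := K₀ ⊔ W with hH
  have hK₀H : K₀ ≤ H := le_sup_left
  have hWH : W ≤ H := le_sup_right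
  have hcardH : Nat.card H = 4 * Nat.card K₀ := by
    rw [hH, card_sup_eq_card_mul_relIndex K₀ W, Subgroup.relIndex_sup_right K₀ W, hW4]
    have h1 := card_eq_card_inf_mul_relIndex K₀ W
    rw [inf_comm, hWK, Subgroup.card_bot, one_mul] at h1
    rw [h1]
  set K₀' : Subgroup H := K₀.subgroupOf H with hK₀'
  have hcardK₀' : Nat.card K₀' = Nat.card K₀ :=
    Nat.card_congr (Subgroup.subgroupOfEquivOfLe hK₀H).toEquiv
  have hidx : K₀'.index = 4 := by
    have h1 := Subgroup.card_mul_index K₀'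
    rw [hcardK₀', hcardH] at h1
    have hpos : 0 < Nat.card K₀ := Nat.card_pos
    exact Nat.eq_of_mul_eq_mul_left hpos (h1.trans (mul_comm 4 _))
  have hΩ : Nat.card (H ⧸ K₀') = 4 := by
    rw [← Subgroup.index_eq_card]; exact hidx
  set f : H →* Equiv.Perm (H ⧸ K₀') := MulAction.toPermHom H (H ⧸ K₀') with hf
  have hperm : Nat.card (Equiv.Perm (H ⧸ K₀')) = 24 := by
    rw [Nat.card_perm, hΩ]; rfl
  have hker : f.ker = K₀'.normalCore := (Subgroup.normalCore_eq_ker K₀').symm
  have hkerle : f.ker ≤ K₀' := by rw [hker]; exact Subgroup.normalCore_le K₀'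
  have hkern : f.ker.Normal := inferInstance
  have hcardrange : Nat.card f.ker * Nat.card f.range = Nat.card H := by
    rw [← Subgroup.index_ker f]; exact Subgroup.card_mul_index f.ker
  set N₁ : Subgroup G := f.ker.map H.subtype with hN₁
  have hN₁card : Nat.card N₁ = Nat.card f.ker :=
    Subgroup.card_map_of_injective H.subtype_injective
  have hN₁K : N₁ ≤ K₀ := by
    rintro _ ⟨n, hn, rfl⟩
    exact Subgroup.mem_subgroupOf.mp (hkerle hn)
  have hN₁C : N₁ ≤ centralizer (W : Set G) := by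
    rintro _ ⟨n, hn, rfl⟩
    rw [Subgroup.mem_centralizer_iff]
    intro w hw
    have hwH : w ∈ H := hWH hw
    have h1 : (⟨w, hwH⟩ : H) * n⁻¹ * (⟨w, hwH⟩ : H)⁻¹ ∈ f.ker :=
      hkern.conj_mem _ (f.ker.inv_mem hn) _
    have h2 : (n : G) * (w * (n : G)⁻¹ * w⁻¹) ∈ K₀ := by
      have h3 := Subgroup.mem_subgroupOf.mp (hkerle (f.ker.mul_mem hn h1))
      simpa using h3
    have h4 : (n : G) * (w * (n : G)⁻¹ * w⁻¹) ∈ W := by
      have e : (n : G) * (w * (n : G)⁻¹ * w⁻¹) = ((n : G) * w * (n : G)⁻¹) * w⁻¹ := by group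
      rw [e]
      exact W.mul_mem (hWn.conj_mem w hw n) (W.inv_mem hw)
    have h5 : (n : G) * (w * (n : G)⁻¹ * w⁻¹) ∈ W ⊓ K₀ := Subgroup.mem_inf.mpr ⟨h4, h2⟩
    rw [hWK, Subgroup.mem_bot] at h5
    show w * (H.subtype n) = (H.subtype n) * w
    rw [Subgroup.coe_subtype]
    calc w * (n : G) = ((n : G) * (w * (n : G)⁻¹ * w⁻¹))⁻¹ * ((n : G) * w) := by group
      _ = (n : G) * w := by rw [h5, inv_one, one_mul]
  -- the quotient `K₀ / C_{K₀}(W)` has order divisible by `6`
  set C₀' : Subgroup K₀ := (centralizer (W : Set G)).subgroupOf K₀ with hC₀'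
  have hCn : C₀'.Normal := Subgroup.Normal.subgroupOf Subgroup.normal_centralizer K₀
  set π := QuotientGroup.mk' C₀' with hπ
  have hπ1 : ∀ a : K₀, π a = 1 ↔ (a : G) ∈ centralizer (W : Set G) := by
    intro a
    rw [hπ, QuotientGroup.mk'_apply, QuotientGroup.eq_one_iff, hC₀', Subgroup.mem_subgroupOf]
  set ybar : K₀ ⧸ C₀' := π ⟨y, hyK⟩ with hybar
  set xbar : K₀ ⧸ C₀' := π ⟨x, hxK⟩ with hxbar
  have hybar3 : ybar ^ 3 = 1 := by
    rw [hybar, ← map_pow, hπ1]
    simpa using hy3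
  obtain ⟨w₀, hw₀, hw₀1⟩ : ∃ w ∈ W, w ≠ 1 := by
    by_contra hcon
    push Not at hcon
    have : W = ⊥ := (Subgroup.eq_bot_iff_forall W).mpr hcon
    rw [this, Subgroup.card_bot] at hW4
    omega
  have hybar1 : ybar ≠ 1 := by
    intro h
    rw [hybar, hπ1] at h
    apply hw₀1
    apply hfpf w₀ hw₀
    have h2 := Subgroup.mem_centralizer_iff.mp h w₀ hw₀
    show y * w₀ * y⁻¹ = w₀
    rw [← h2, mul_inv_cancel_right]
  have hoy : orderOf ybar = 3 := orderOf_eq_prime hybar3 hybar1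
  have hconj : xbar * ybar * xbar⁻¹ = ybar⁻¹ := by
    rw [hxbar, hybar, ← map_inv, ← map_mul, ← map_mul, ← map_inv]
    congr 1
    exact Subtype.ext (by simpa using hxy)
  have hyne : ybar ≠ ybar⁻¹ := by
    intro h
    apply hybar1
    have h2 : ybar ^ 2 = 1 := by
      rw [pow_two]
      nth_rewrite 1 [h]
      exact inv_mul_cancel _
    calc ybar = ybar ^ 3 * (ybar ^ 2)⁻¹ := by group
      _ = 1 := by rw [hybar3, h2]; simp
  have hcomm2 : Commute (xbar ^ 2) ybar := by
    have h1 : xbar * ybar = ybar⁻¹ * xbar := by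
      calc xbar * ybar = (xbar * ybar * xbar⁻¹) * xbar := by group
        _ = ybar⁻¹ * xbar := by rw [hconj]
    have h2 : xbar * ybar⁻¹ = ybar * xbar := by
      calc xbar * ybar⁻¹ = (xbar * ybar * xbar⁻¹)⁻¹ * xbar := by group
        _ = ybar * xbar := by rw [hconj, inv_inv]
    show xbar ^ 2 * ybar = ybar * xbar ^ 2
    rw [pow_two, mul_assoc, h1, ← mul_assoc, h2, mul_assoc]
  have hxeven : 2 ∣ orderOf xbar := by
    by_contra hodd
    have hodd' : Odd (orderOf xbar) := Nat.odd_iff.mpr (Nat.two_dvd_ne_zero.mp hodd)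
    obtain ⟨t, ht⟩ := hodd'
    have h1 : xbar ^ (2 * t) * xbar = 1 := by rw [← pow_succ, ← ht, pow_orderOf_eq_one]
    have h2 : Commute (xbar ^ (2 * t)) ybar := by rw [pow_mul]; exact hcomm2.pow_left t
    have h3 : xbar = (xbar ^ (2 * t))⁻¹ := eq_inv_of_mul_eq_one_right h1
    have h4 : Commute xbar ybar := by rw [h3]; exact h2.inv_left
    apply hyne
    rw [← hconj, h4.eq, mul_inv_cancel_right]
  have h6 : 6 ∣ Nat.card (K₀ ⧸ C₀') := by
    have h3 : 3 ∣ Nat.card (K₀ ⧸ C₀') := by rw [← hoy]; exact orderOf_dvd_natCard ybar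
    have h2 : 2 ∣ Nat.card (K₀ ⧸ C₀') := hxeven.trans (orderOf_dvd_natCard xbar)
    exact Nat.Coprime.mul_dvd_of_dvd_of_dvd (by decide : Nat.Coprime 2 3) h2 h3
  have hcardK : Nat.card K₀ = Nat.card (K₀ ⧸ C₀') * Nat.card C₀' :=
    Subgroup.card_eq_card_quotient_mul_card_subgroup C₀'
  have hC₀card : Nat.card C₀' = Nat.card ↥(centralizer (W : Set G) ⊓ K₀) := by
    rw [hC₀', ← Subgroup.inf_subgroupOf_right]
    exact Nat.card_congr (Subgroup.subgroupOfEquivOfLe inf_le_right).toEquiv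
  have hN₁le : Nat.card f.ker ≤ Nat.card C₀' := by
    rw [hC₀card, ← hN₁card]
    exact Subgroup.card_le_of_le (le_inf hN₁C hN₁K)
  have hr : 24 ≤ Nat.card f.range := by
    obtain ⟨t, ht⟩ := h6
    have hqpos : 0 < Nat.card (K₀ ⧸ C₀') := Nat.card_pos
    have htpos : 1 ≤ t := by
      rcases Nat.eq_zero_or_pos t with h | h
      · rw [h, mul_zero] at ht; omega
      · exact h
    have hapos : 0 < Nat.card f.ker := Nat.card_pos
    have h1 : Nat.card f.ker * 24 ≤ Nat.card f.ker * Nat.card f.range := by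
      rw [hcardrange, hcardH, hcardK, ht]
      calc Nat.card f.ker * 24 ≤ Nat.card C₀' * 24 := Nat.mul_le_mul_right _ hN₁le
        _ = 24 * 1 * Nat.card C₀' := by ring
        _ ≤ 24 * t * Nat.card C₀' := by gcongr
        _ = 4 * (6 * t * Nat.card C₀') := by ring
    exact Nat.le_of_mul_le_mul_left h1 hapos
  have hrle : Nat.card f.range ≤ 24 := by
    rw [← hperm]; exact Subgroup.card_le_card_group _
  have htop : f.range = ⊤ := (Subgroup.card_eq_iff_eq_top _).mp (by rw [hperm]; omega)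
  have hfsurj : Function.Surjective f := MonoidHom.range_eq_top.mp htop
  let e : (H ⧸ K₀') ≃ Fin 4 := Finite.equivFinOfCardEq hΩ
  rw [Cfsg.Agent.Lib.Helper27.involves_iff]
  refine ⟨H, (Equiv.permCongrHom e).toMonoidHom.comp f, ?_⟩
  exact (Equiv.permCongrHom e).surjective.comp hfsurj

/-- The same with `W` not necessarily normal: `x` and `y` normalize `W`. -/
theorem involves_s4_of_klein' (W : Subgroup G) (y x : G) (hyW : y ∈ normalizer (W : Set G))
    (hxW : x ∈ normalizer (W : Set G)) (hW4 : Nat.card W = 4)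
    (hy3 : y ^ 3 ∈ centralizer (W : Set G))
    (hxy : x * y * x⁻¹ = y⁻¹) (hfpf : ∀ w ∈ W, y * w * y⁻¹ = w → w = 1) :
    Cfsg.Involves (Equiv.Perm (Fin 4)) G := by
  have hWM : W ≤ normalizer (W : Set G) := Subgroup.le_normalizer
  have hn : (W.subgroupOf (normalizer (W : Set G))).Normal := Subgroup.normal_in_normalizer
  have hcard : Nat.card (W.subgroupOf (normalizer (W : Set G))) = 4 := by
    rw [Nat.card_congr (Subgroup.subgroupOfEquivOfLe hWM).toEquiv]; exact hW4
  have h := involves_s4_of_normal_klein' (G := ↥(normalizer (W : Set G)))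
    (W.subgroupOf (normalizer (W : Set G))) ⟨y, hyW⟩ ⟨x, hxW⟩ hcard
    (by
      rw [Subgroup.mem_centralizer_iff]
      intro w hw
      have h1 := Subgroup.mem_centralizer_iff.mp hy3 (w : G) (Subgroup.mem_subgroupOf.mp hw)
      exact Subtype.ext (by simpa using h1))
    (Subtype.ext (by simpa using hxy))
    (by
      intro w hw hfix
      have h1 := hfpf (w : G) (Subgroup.mem_subgroupOf.mp hw)
        (by simpa using congrArg Subtype.val hfix)
      exact Subtype.ext h1)
  exact Cfsg.Agent.Lib.Helper27.involves_of_injective (normalizer (W : Set G)).subtype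
    (Subgroup.subtype_injective _) h


end S4B

end Cfsg.Agent.Lib.Helper18
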