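import Mathlib
import Cfsg.Agent.Lib.Helper18.S4Section
import Cfsg.Agent.Lib.Helper18.S3Section
import Cfsg.Agent.Lib.Helper21.BaerSuzuki
import Cfsg.Agent.H5.Cores
import Cfsg.Agent.S2759

set_option autoImplicit false

/-!
# Transvections in groups not involving `S₄`

Let `V` be an abelian normal `2`-subgroup of the finite group `X` and `a ∈ X` with `|V : C_V(a)| ≤ 2`.
If the symmetric group of degree `4` is not involved in `X`, then the image of `a` in `X / C_X(V)`
lies in `O_2(X / C_X(V))`.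
-/

namespace Cfsg.Agent.Lib.Helper18.Transvection

open Subgroup Cfsg Cfsg.Agent.Lib.Helper18

variable {X : Type*} [Group X]

theorem isPGroup_zpowers_two {Y : Type*} [Group Y] (y : Y) (n : ℕ) (h : y ^ 2 ^ n = 1) :
    IsPGroup 2 (zpowers y) := by
  apply IsPGroup.of_card_dvd_pow (n := n)
  rw [Nat.card_zpowers]
  exact orderOf_dvd_of_pow_eq_one h

/-- two involutions whose product has order a power of `2` generate a `2`-group -/
theorem isPGroup_closure_pair {Y : Type*} [Group Y] (e f : Y) (he : e * e = 1) (hf : f * f = 1) (k : ℕ)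
    (hk : (e * f) ^ 2 ^ k = 1) : IsPGroup 2 (closure ({e, f} : Set Y)) := by
  haveI : Fact (Nat.Prime 2) := ⟨Nat.prime_two⟩
  have heinv : e⁻¹ = e := inv_eq_of_mul_eq_one_right he
  have hfinv : f⁻¹ = f := inv_eq_of_mul_eq_one_right hf
  have h1 : IsPGroup 2 (zpowers e) := isPGroup_zpowers_two e 1 (by rw [pow_one, pow_two]; exact he)
  have h2 : IsPGroup 2 (zpowers (e * f)) := isPGroup_zpowers_two (e * f) k hk
  have hconj : ∀ y ∈ zpowers (e * f), e * y * e⁻¹ ∈ zpowers (e * f) := by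
    intro y hy
    obtain ⟨n, rfl⟩ := mem_zpowers_iff.mp hy
    have e1 : e * (e * f) ^ n * e⁻¹ = (e * (e * f) * e⁻¹) ^ n := by
      have := map_zpow (MulAut.conj e) (e * f) n
      simpa [MulAut.conj_apply] using this.symm
    have e2 : e * (e * f) * e⁻¹ = (e * f)⁻¹ := by
      rw [heinv, mul_inv_rev, heinv, hfinv]
      calc e * (e * f) * e = (e * e) * f * e := by group
        _ = f * e := by rw [he, one_mul]
    rw [e1, e2]
    exact zpow_mem (inv_mem (mem_zpowers _)) n
  have hnorm : zpowers e ≤ normalizer ((zpowers (e * f) : Subgroup Y) : Set Y) := by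
    rw [zpowers_le]
    apply Cfsg.Agent.Lib.Helper21.mem_normalizer_of_conj_mem hconj
    intro y hy
    have := hconj y hy
    rw [heinv] at this ⊢
    exact this
  have h3 : IsPGroup 2 (zpowers e ⊔ zpowers (e * f) : Subgroup Y) :=
    h1.to_sup_of_normal_right' h2 hnorm
  apply h3.to_le
  rw [closure_le]
  intro y hy
  rcases hy with h | h
  · rw [h]
    exact (le_sup_left : zpowers e ≤ zpowers e ⊔ zpowers (e * f)) (mem_zpowers e)
  · rw [Set.mem_singleton_iff] at h
    have hf' : e⁻¹ * (e * f) ∈ zpowers e ⊔ zpowers (e * f) :=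
      mul_mem ((le_sup_left : zpowers e ≤ zpowers e ⊔ zpowers (e * f)) (inv_mem (mem_zpowers e)))
        ((le_sup_right : zpowers (e * f) ≤ zpowers e ⊔ zpowers (e * f)) (mem_zpowers _))
    rw [h]
    simpa using hf'

/-- The structure of an element acting as a transvection on the abelian normal subgroup `V`. -/
theorem transvection_data [Finite X] (V : Subgroup X) [hVn : V.Normal]
    (hVab : ∀ a ∈ V, ∀ b ∈ V, a * b = b * a) (a : X)
    (ha : Nat.card V ≤ 2 * Nat.card ↥(V ⊓ centralizer ({a} : Set X)))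
    (haC : a ∉ centralizer (V : Set X)) :
    ∃ c ∈ V, c ≠ 1 ∧ c * c = 1 ∧ a * c * a⁻¹ = c ∧
      ∀ v ∈ V, a * v * a⁻¹ = v ∨ a * v * a⁻¹ = c * v := by
  obtain ⟨H, hH⟩ : ∃ H : Subgroup ↥V, H = (V ⊓ centralizer ({a} : Set X)).subgroupOf V := ⟨_, rfl⟩
  have hmemH : ∀ v : ↥V, v ∈ H ↔ a * (v : X) = (v : X) * a := by
    intro v
    rw [hH, mem_subgroupOf, mem_inf, mem_centralizer_iff]
    constructor
    · intro h
      exact h.2 a rfl
    · intro h
      refine ⟨v.2, ?_⟩
      intro y hy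
      rw [Set.mem_singleton_iff] at hy
      rw [hy]; exact h
  have hcardH : Nat.card H = Nat.card ↥(V ⊓ centralizer ({a} : Set X)) := by
    rw [hH]
    exact Nat.card_congr (subgroupOfEquivOfLe inf_le_left).toEquiv
  have hHne : H ≠ ⊤ := by
    intro htop
    apply haC
    rw [mem_centralizer_iff]
    intro v hv
    have : (⟨v, hv⟩ : ↥V) ∈ H := htop ▸ mem_top _
    exact ((hmemH ⟨v, hv⟩).mp this).symm
  have hidx : H.index = 2 := by
    have h1 := H.index_mul_card
    have h2 : H.index ≠ 1 := fun h => hHne (index_eq_one.mp h)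
    have h3 : H.index ≠ 0 := index_ne_zero_of_finite
    have hpos : 0 < Nat.card H := Nat.card_pos
    rw [← hcardH] at ha
    have h4 : H.index * Nat.card H ≤ 2 * Nat.card H := by rw [h1]; exact ha
    have h5 : H.index ≤ 2 := Nat.le_of_mul_le_mul_right h4 hpos
    omega
  obtain ⟨v₀, hv₀⟩ : ∃ v₀ : ↥V, v₀ ∉ H := by
    by_contra hcon
    push Not at hcon
    exact hHne (eq_top_iff.mpr fun v _ => hcon v)
  obtain ⟨c, hc⟩ : ∃ c : X, c = a * (v₀ : X) * a⁻¹ * (v₀ : X)⁻¹ := ⟨_, rfl⟩
  have hcV : c ∈ V := by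
    rw [hc]
    exact V.mul_mem (hVn.conj_mem _ v₀.2 a) (V.inv_mem v₀.2)
  have hav₀ : a * (v₀ : X) * a⁻¹ = c * (v₀ : X) := by rw [hc]; group
  have hc1 : c ≠ 1 := by
    intro h1
    apply hv₀
    rw [hmemH]
    rw [h1, one_mul] at hav₀
    calc a * (v₀ : X) = (a * (v₀ : X) * a⁻¹) * a := by group
      _ = (v₀ : X) * a := by rw [hav₀]
  have hall : ∀ v ∈ V, a * v * a⁻¹ = v ∨ a * v * a⁻¹ = c * v := by
    intro v hv
    by_cases hvH : (⟨v, hv⟩ : ↥V) ∈ H
    · left
      have := (hmemH ⟨v, hv⟩).mp hvH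
      rw [this]; group
    · right
      have hv₀inv : v₀⁻¹ ∉ H := fun h => hv₀ (by simpa using H.inv_mem h)
      have h1 : (⟨v, hv⟩ : ↥V) * v₀⁻¹ ∈ H := by
        rw [mul_mem_iff_of_index_two hidx]
        exact ⟨fun h => absurd h hvH, fun h => absurd h hv₀inv⟩
      have h2 := (hmemH _).mp h1
      simp only [Subgroup.coe_mul, Subgroup.coe_inv] at h2
      have hu : v * (v₀ : X)⁻¹ ∈ V := V.mul_mem hv (V.inv_mem v₀.2)
      have h3 : (v * (v₀ : X)⁻¹) * c = c * (v * (v₀ : X)⁻¹) := hVab _ hu c hcV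
      calc a * v * a⁻¹ = (a * (v * (v₀ : X)⁻¹)) * (v₀ : X) * a⁻¹ := by group
        _ = ((v * (v₀ : X)⁻¹) * a) * (v₀ : X) * a⁻¹ := by rw [h2]
        _ = (v * (v₀ : X)⁻¹) * (a * (v₀ : X) * a⁻¹) := by group
        _ = (v * (v₀ : X)⁻¹) * (c * (v₀ : X)) := by rw [hav₀]
        _ = ((v * (v₀ : X)⁻¹) * c) * (v₀ : X) := by group
        _ = (c * (v * (v₀ : X)⁻¹)) * (v₀ : X) := by rw [h3]
        _ = c * v := by group
  have hcc : c * c = 1 := by
    have h1 : v₀ * v₀ ∈ H := by
      rw [mul_mem_iff_of_index_two hidx]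
    have h2 := (hmemH _).mp h1
    simp only [Subgroup.coe_mul] at h2
    have h3 : (c * (v₀ : X)) * (c * (v₀ : X)) = (v₀ : X) * (v₀ : X) := by
      rw [← hav₀]
      calc a * (v₀ : X) * a⁻¹ * (a * (v₀ : X) * a⁻¹) = (a * ((v₀ : X) * (v₀ : X))) * a⁻¹ := by group
        _ = (((v₀ : X) * (v₀ : X)) * a) * a⁻¹ := by rw [h2]
        _ = (v₀ : X) * (v₀ : X) := by group
    have h4 : (v₀ : X) * c = c * (v₀ : X) := hVab _ v₀.2 c hcV
    have h5 : (c * (v₀ : X)) * (c * (v₀ : X)) = (c * c) * ((v₀ : X) * (v₀ : X)) := by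
      calc (c * (v₀ : X)) * (c * (v₀ : X)) = c * ((v₀ : X) * c) * (v₀ : X) := by group
        _ = c * (c * (v₀ : X)) * (v₀ : X) := by rw [h4]
        _ = (c * c) * ((v₀ : X) * (v₀ : X)) := by group
    rw [h5] at h3
    exact mul_eq_right.mp h3
  refine ⟨c, hcV, hc1, hcc, ?_, hall⟩
  rcases hall c hcV with h | h
  · exact h
  · exfalso
    rw [hcc] at h
    apply hc1
    have : c = a⁻¹ * (a * c * a⁻¹) * a := by group
    rw [this, h]; group


theorem conj_closure_mem' {S : Set X} {K : Subgroup X} (t : X) (h : ∀ s ∈ S, t * s * t⁻¹ ∈ K) :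
    ∀ x ∈ closure S, t * x * t⁻¹ ∈ K := by
  intro x hx
  induction hx using Subgroup.closure_induction with
  | mem y hy => exact h y hy
  | one => simp
  | mul y z _ _ hy hz =>
    have e : t * (y * z) * t⁻¹ = (t * y * t⁻¹) * (t * z * t⁻¹) := by group
    rw [e]; exact K.mul_mem hy hz
  | inv y _ hy =>
    have e : t * y⁻¹ * t⁻¹ = (t * y * t⁻¹)⁻¹ := by group
    rw [e]; exact K.inv_mem hy

/-- **Transvections lie in `O_2` modulo the centralizer** in a group not involving `S₄`. -/
theorem transvection_mem_pCore [Finite X] (hfree : ¬ Cfsg.Involves (Equiv.Perm (Fin 4)) X)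
    (V : Subgroup X) [hVn : V.Normal] (hV2 : IsPGroup 2 V)
    (hVab : ∀ a ∈ V, ∀ b ∈ V, a * b = b * a) (a : X)
    (ha : Nat.card V ≤ 2 * Nat.card ↥(V ⊓ centralizer ({a} : Set X))) :
    QuotientGroup.mk' (centralizer (V : Set X)) a ∈ Cfsg.pCore 2 (X ⧸ centralizer (V : Set X)) := by
  classical
  haveI : Fact (Nat.Prime 2) := ⟨Nat.prime_two⟩
  by_contra hnot
  have hker : ∀ y : X, QuotientGroup.mk' (centralizer (V : Set X)) y = 1 ↔ y ∈ centralizer (V : Set X) :=
    fun y => QuotientGroup.eq_one_iff y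
  have haC : a ∉ centralizer (V : Set X) := by
    intro h
    apply hnot
    rw [(hker a).mpr h]
    exact one_mem _
  -- Baer–Suzuki
  obtain ⟨gbar, hg⟩ : ∃ g : X ⧸ centralizer (V : Set X),
      ¬ IsPGroup 2 (closure ({QuotientGroup.mk' (centralizer (V : Set X)) a,
        g * QuotientGroup.mk' (centralizer (V : Set X)) a * g⁻¹} : Set (X ⧸ centralizer (V : Set X)))) := by
    by_contra hcon
    push Not at hcon
    obtain ⟨N, hNn, hNp, haN⟩ := Cfsg.Agent.Lib.Helper21.baer_suzuki_element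
      (QuotientGroup.mk' (centralizer (V : Set X)) a) hcon
    exact hnot (Cfsg.H5.le_pCore hNn hNp haN)
  obtain ⟨g, rfl⟩ := QuotientGroup.mk'_surjective _ gbar
  obtain ⟨b, hb⟩ : ∃ b, b = g * a * g⁻¹ := ⟨_, rfl⟩
  have hπb : QuotientGroup.mk' (centralizer (V : Set X)) b =
      QuotientGroup.mk' (centralizer (V : Set X)) g * QuotientGroup.mk' (centralizer (V : Set X)) a *
        (QuotientGroup.mk' (centralizer (V : Set X)) g)⁻¹ := by
    rw [hb, map_mul, map_mul, map_inv]
  rw [← hπb] at hg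
  -- the transvection data
  obtain ⟨ca, hcaV, hca1, hcaca, haca, hacta⟩ := transvection_data V hVab a ha haC
  obtain ⟨cb, hcb⟩ : ∃ cb, cb = g * ca * g⁻¹ := ⟨_, rfl⟩
  have hcbV : cb ∈ V := hcb ▸ hVn.conj_mem ca hcaV g
  have hcbcb : cb * cb = 1 := by
    rw [hcb]
    calc g * ca * g⁻¹ * (g * ca * g⁻¹) = g * (ca * ca) * g⁻¹ := by group
      _ = 1 := by rw [hcaca]; group
  have hbcb : b * cb * b⁻¹ = cb := by
    rw [hb, hcb]
    calc g * a * g⁻¹ * (g * ca * g⁻¹) * (g * a * g⁻¹)⁻¹ = g * (a * ca * a⁻¹) * g⁻¹ := by group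
      _ = g * ca * g⁻¹ := by rw [haca]
  have hactb : ∀ v ∈ V, b * v * b⁻¹ = v ∨ b * v * b⁻¹ = cb * v := by
    intro v hv
    have hv' : g⁻¹ * v * g ∈ V := by simpa using hVn.conj_mem v hv g⁻¹
    rcases hacta _ hv' with h | h
    · left
      rw [hb]
      calc g * a * g⁻¹ * v * (g * a * g⁻¹)⁻¹ = g * (a * (g⁻¹ * v * g) * a⁻¹) * g⁻¹ := by group
        _ = g * (g⁻¹ * v * g) * g⁻¹ := by rw [h]
        _ = v := by group
    · right
      rw [hb, hcb]
      calc g * a * g⁻¹ * v * (g * a * g⁻¹)⁻¹ = g * (a * (g⁻¹ * v * g) * a⁻¹) * g⁻¹ := by group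
        _ = g * (ca * (g⁻¹ * v * g)) * g⁻¹ := by rw [h]
        _ = g * ca * g⁻¹ * v := by group
  -- squares act trivially
  have hsq : ∀ t c : X, (∀ v ∈ V, t * v * t⁻¹ = v ∨ t * v * t⁻¹ = c * v) → c * c = 1 →
      t * c * t⁻¹ = c → t * t ∈ centralizer (V : Set X) := by
    intro t c hact hcc htc
    rw [mem_centralizer_iff]
    intro v hv
    have h2 : (t * t) * v * (t * t)⁻¹ = v := by
      have e : (t * t) * v * (t * t)⁻¹ = t * (t * v * t⁻¹) * t⁻¹ := by group
      rw [e]
      rcases hact v hv with h | h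
      · rw [h, h]
      · rw [h]
        have e2 : t * (c * v) * t⁻¹ = (t * c * t⁻¹) * (t * v * t⁻¹) := by group
        rw [e2, htc, h, ← mul_assoc, hcc, one_mul]
    calc v * (t * t) = ((t * t) * v * (t * t)⁻¹) * (t * t) := by rw [h2]
      _ = (t * t) * v := by group
  have haa : a * a ∈ centralizer (V : Set X) := hsq a ca hacta hcaca haca
  have hbb : b * b ∈ centralizer (V : Set X) := hsq b cb hactb hcbcb hbcb
  -- the subgroup `W`
  obtain ⟨W, hW⟩ : ∃ W : Subgroup X, W = closure ({ca, cb} : Set X) := ⟨_, rfl⟩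
  have hcaW : ca ∈ W := hW ▸ subset_closure (Set.mem_insert _ _)
  have hcbW : cb ∈ W := hW ▸ subset_closure (Set.mem_insert_of_mem _ rfl)
  have hWV : W ≤ V := by
    rw [hW, closure_le]
    intro y hy
    rcases hy with h | h
    · rw [h]; exact hcaV
    · rw [Set.mem_singleton_iff] at h
      rw [h]; exact hcbV
  have hW2 : ∀ w ∈ W, w * w = 1 := by
    intro w hw
    have key : w ∈ V ∧ w * w = 1 := by
      rw [hW] at hw
      induction hw using Subgroup.closure_induction with
      | mem y hy =>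
        rcases hy with h | h
        · rw [h]; exact ⟨hcaV, hcaca⟩
        · rw [Set.mem_singleton_iff] at h
          rw [h]; exact ⟨hcbV, hcbcb⟩
      | one => exact ⟨V.one_mem, mul_one 1⟩
      | mul y z _ _ hy hz =>
        refine ⟨V.mul_mem hy.1 hz.1, ?_⟩
        have h1 : z * y = y * z := hVab z hz.1 y hy.1
        calc y * z * (y * z) = y * (z * y) * z := by group
          _ = y * (y * z) * z := by rw [h1]
          _ = (y * y) * (z * z) := by group
          _ = 1 := by rw [hy.2, hz.2, one_mul]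
      | inv y _ hy =>
        refine ⟨V.inv_mem hy.1, ?_⟩
        calc y⁻¹ * y⁻¹ = (y * y)⁻¹ := by group
          _ = 1 := by rw [hy.2, inv_one]
    exact key.2
  have hWp : IsPGroup 2 W := hV2.to_le hWV
  have hCW : centralizer (V : Set X) ≤ centralizer (W : Set X) :=
    centralizer_le (SetLike.coe_subset_coe.mpr hWV)
  -- the action of `a` and `b` on the generators of `W`
  have hacb : a * cb * a⁻¹ = cb ∨ a * cb * a⁻¹ = ca * cb := hacta cb hcbV
  have hbca : b * ca * b⁻¹ = ca ∨ b * ca * b⁻¹ = cb * ca := hactb ca hcaV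
  have hcab : ca * cb = cb * ca := hVab ca hcaV cb hcbV
  have haW : ∀ w ∈ W, a * w * a⁻¹ ∈ W := by
    rw [hW]
    apply conj_closure_mem'
    intro y hy
    rw [← hW]
    rcases hy with h | h
    · rw [h, haca]; exact hcaW
    · rw [Set.mem_singleton_iff] at h
      rw [h]
      rcases hacb with h' | h'
      · rw [h']; exact hcbW
      · rw [h']; exact W.mul_mem hcaW hcbW
  have hbW : ∀ w ∈ W, b * w * b⁻¹ ∈ W := by
    rw [hW]
    apply conj_closure_mem'
    intro y hy
    rw [← hW]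
    rcases hy with h | h
    · rw [h]
      rcases hbca with h' | h'
      · rw [h']; exact hcaW
      · rw [h']; exact W.mul_mem hcbW hcaW
    · rw [Set.mem_singleton_iff] at h
      rw [h, hbcb]; exact hcbW
  have hzW : ∀ w ∈ W, (a * b) * w * (a * b)⁻¹ ∈ W := by
    intro w hw
    have e : (a * b) * w * (a * b)⁻¹ = a * (b * w * b⁻¹) * a⁻¹ := by group
    rw [e]
    exact haW _ (hbW w hw)
  -- membership in the centralizer of `W` is checked on the generators
  have hcentW : ∀ y : X, y * ca * y⁻¹ = ca → y * cb * y⁻¹ = cb → y ∈ centralizer (W : Set X) := by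
    intro y h1 h2
    have h3 : W ≤ centralizer ({y} : Set X) := by
      rw [hW, closure_le]
      intro w hw
      rw [SetLike.mem_coe, mem_centralizer_iff]
      intro t ht
      rw [Set.mem_singleton_iff] at ht
      rw [ht]
      rcases hw with h | h
      · rw [h]
        calc y * ca = (y * ca * y⁻¹) * y := by group
          _ = ca * y := by rw [h1]
      · rw [Set.mem_singleton_iff] at h
        rw [h]
        calc y * cb = (y * cb * y⁻¹) * y := by group
          _ = cb * y := by rw [h2]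
    rw [mem_centralizer_iff]
    intro w hw
    have := mem_centralizer_iff.mp (h3 hw) y rfl
    exact this.symm
  -- commutators with `V` lie in `W`
  have hTa : ∀ v ∈ V, a * v * a⁻¹ * v⁻¹ ∈ W := by
    intro v hv
    rcases hacta v hv with h | h
    · rw [h, mul_inv_cancel]; exact W.one_mem
    · rw [h, mul_inv_cancel_right]; exact hcaW
  have hTb : ∀ v ∈ V, b * v * b⁻¹ * v⁻¹ ∈ W := by
    intro v hv
    rcases hactb v hv with h | h
    · rw [h, mul_inv_cancel]; exact W.one_mem
    · rw [h, mul_inv_cancel_right]; exact hcbW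
  have hTmul : ∀ t₁ t₂ : X, (∀ w ∈ W, t₁ * w * t₁⁻¹ ∈ W) → (∀ v ∈ V, t₁ * v * t₁⁻¹ * v⁻¹ ∈ W) →
      (∀ v ∈ V, t₂ * v * t₂⁻¹ * v⁻¹ ∈ W) → ∀ v ∈ V, (t₁ * t₂) * v * (t₁ * t₂)⁻¹ * v⁻¹ ∈ W := by
    intro t₁ t₂ h1 h2 h3 v hv
    have e : (t₁ * t₂) * v * (t₁ * t₂)⁻¹ * v⁻¹ =
        (t₁ * (t₂ * v * t₂⁻¹ * v⁻¹) * t₁⁻¹) * (t₁ * v * t₁⁻¹ * v⁻¹) := by group
    rw [e]
    exact W.mul_mem (h1 _ (h3 v hv)) (h2 v hv)
  have hTz : ∀ v ∈ V, (a * b) * v * (a * b)⁻¹ * v⁻¹ ∈ W := hTmul a b haW hTa hTb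
  have hTzz : ∀ v ∈ V, ((a * b) * (a * b)) * v * ((a * b) * (a * b))⁻¹ * v⁻¹ ∈ W :=
    hTmul (a * b) (a * b) hzW hTz hTz
  -- an element acting trivially on `W` and on `V / W` has its square in the centralizer of `V`
  have hSQ : ∀ y : X, (∀ v ∈ V, y * v * y⁻¹ * v⁻¹ ∈ W) → y ∈ centralizer (W : Set X) →
      y * y ∈ centralizer (V : Set X) := by
    intro y h1 h2
    rw [mem_centralizer_iff]
    intro v hv
    obtain ⟨w, hw⟩ : ∃ w, w = y * v * y⁻¹ * v⁻¹ := ⟨_, rfl⟩
    have hwW : w ∈ W := hw ▸ h1 v hv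
    have h3 : y * v * y⁻¹ = w * v := by rw [hw]; group
    have h4 : y * w * y⁻¹ = w := by
      have := mem_centralizer_iff.mp h2 w hwW
      calc y * w * y⁻¹ = (w * y) * y⁻¹ := by rw [this]
        _ = w := by group
    have h5 : (y * y) * v * (y * y)⁻¹ = v := by
      have e : (y * y) * v * (y * y)⁻¹ = y * (y * v * y⁻¹) * y⁻¹ := by group
      rw [e, h3]
      have e2 : y * (w * v) * y⁻¹ = (y * w * y⁻¹) * (y * v * y⁻¹) := by group
      rw [e2, h4, h3, ← mul_assoc, hW2 w hwW, one_mul]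
    calc v * (y * y) = ((y * y) * v * (y * y)⁻¹) * (y * y) := by rw [h5]
      _ = (y * y) * v := by group
  -- the degenerate cases: `(a b)⁴` centralizes `V`, and the images of `a` and `b` generate a `2`-group
  have hdeg : ((a * b) * (a * b)) ∈ centralizer (W : Set X) → False := by
    intro hzz
    have h4 := hSQ _ hTzz hzz
    apply hg
    apply isPGroup_closure_pair _ _ _ _ 2
    · rw [← map_mul, ← map_pow, hker]
      have e : (a * b) ^ 2 ^ 2 = ((a * b) * (a * b)) * ((a * b) * (a * b)) := by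
        norm_num [pow_succ]
        group
      rw [e]; exact h4
    · rw [← map_mul, hker]; exact haa
    · rw [← map_mul, hker]; exact hbb
  have hzconj : ∀ w : X, (a * b) * w * (a * b)⁻¹ = a * (b * w * b⁻¹) * a⁻¹ := by
    intro w; group
  have hzzconj : ∀ w : X, ((a * b) * (a * b)) * w * ((a * b) * (a * b))⁻¹ =
      (a * b) * ((a * b) * w * (a * b)⁻¹) * (a * b)⁻¹ := by
    intro w; group
  have hconjmul : ∀ t x y : X, t * (x * y) * t⁻¹ = (t * x * t⁻¹) * (t * y * t⁻¹) := by
    intro t x y; group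
  rcases hacb with hε | hε
  · -- `a` centralizes `c_b`
    apply hdeg
    have hzcb : (a * b) * cb * (a * b)⁻¹ = cb := by rw [hzconj, hbcb, hε]
    apply hcentW
    · rw [hzzconj]
      rcases hbca with hδ | hδ
      · have hzca : (a * b) * ca * (a * b)⁻¹ = ca := by rw [hzconj, hδ, haca]
        rw [hzca, hzca]
      · have hzca : (a * b) * ca * (a * b)⁻¹ = cb * ca := by
          rw [hzconj, hδ, hconjmul, hε, haca]
        rw [hzca, hconjmul, hzcb, hzca, ← mul_assoc, hcbcb, one_mul]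
    · rw [hzzconj, hzcb, hzcb]
  · rcases hbca with hδ | hδ
    · -- `b` centralizes `c_a`
      apply hdeg
      have hzca : (a * b) * ca * (a * b)⁻¹ = ca := by rw [hzconj, hδ, haca]
      have hzcb : (a * b) * cb * (a * b)⁻¹ = ca * cb := by rw [hzconj, hbcb, hε]
      apply hcentW
      · rw [hzzconj, hzca, hzca]
      · rw [hzzconj, hzcb, hconjmul, hzca, hzcb, ← mul_assoc, hcaca, one_mul]
    · -- the nondegenerate case: `S₃` acts on the four-group `W`
      have hzca : (a * b) * ca * (a * b)⁻¹ = cb := by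
        rw [hzconj, hδ, hconjmul, hε, haca, hcab, mul_assoc, hcaca, mul_one]
      have hzcb : (a * b) * cb * (a * b)⁻¹ = ca * cb := by rw [hzconj, hbcb, hε]
      have hne : ca ≠ cb := by
        intro h
        apply hca1
        have h1 : a * cb * a⁻¹ = cb := by rw [← h]; exact haca
        rw [hε, ← h, hcaca] at h1
        exact h1.symm
      have haN : a ∈ normalizer (W : Set X) := mem_normalizer_of_forall_conj_mem a W haW
      have hzN : a * b ∈ normalizer (W : Set X) := mem_normalizer_of_forall_conj_mem (a * b) W hzW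
      have hzcacb : (a * b) * (ca * cb) * (a * b)⁻¹ = ca := by
        rw [hconjmul, hzca, hzcb]
        calc cb * (ca * cb) = cb * (cb * ca) := by rw [hcab]
          _ = (cb * cb) * ca := by group
          _ = ca := by rw [hcbcb, one_mul]
      have hz3 : (a * b) * (a * b) * (a * b) ∈ centralizer (W : Set X) := by
        have e : ∀ w : X, ((a * b) * (a * b) * (a * b)) * w * ((a * b) * (a * b) * (a * b))⁻¹ =
            (a * b) * ((a * b) * ((a * b) * w * (a * b)⁻¹) * (a * b)⁻¹) * (a * b)⁻¹ := by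
          intro w; group
        apply hcentW
        · rw [e, hzca, hzcb, hzcacb]
        · rw [e, hzcb, hzcacb, hzca]
      -- the quotient `N(W) / C(W)`
      obtain ⟨π', hπ'⟩ : ∃ π' : ↥(normalizer (W : Set X)) →*
          ↥(normalizer (W : Set X)) ⧸ (centralizer (W : Set X)).subgroupOf (normalizer (W : Set X)),
          π' = QuotientGroup.mk' _ := ⟨_, rfl⟩
      have hker' : ∀ y : ↥(normalizer (W : Set X)), π' y = 1 ↔ (y : X) ∈ centralizer (W : Set X) := by
        intro y
        rw [hπ', QuotientGroup.mk'_apply, QuotientGroup.eq_one_iff, mem_subgroupOf]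
      have he2 : (π' ⟨a, haN⟩) ^ 2 = 1 := by
        rw [← map_pow, hker']
        show a ^ 2 ∈ centralizer (W : Set X)
        rw [pow_two]
        exact hCW haa
      have hz1 : π' ⟨a * b, hzN⟩ ≠ 1 := by
        intro h
        rw [hker'] at h
        have h1 : (a * b) ∈ centralizer (W : Set X) := h
        have h2 := mem_centralizer_iff.mp h1 ca hcaW
        apply hne
        rw [← hzca, ← h2]
        group
      have hz3' : (π' ⟨a * b, hzN⟩) ^ 3 = 1 := by
        rw [← map_pow, hker']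
        show (a * b) ^ 3 ∈ centralizer (W : Set X)
        have e : (a * b) ^ 3 = (a * b) * (a * b) * (a * b) := by
          rw [pow_succ, pow_succ, pow_one]
        rw [e]
        exact hz3
      have hinv : π' ⟨a, haN⟩ * π' ⟨a * b, hzN⟩ * (π' ⟨a, haN⟩)⁻¹ = (π' ⟨a * b, hzN⟩)⁻¹ := by
        apply eq_inv_of_mul_eq_one_left
        rw [← map_inv, ← map_mul, ← map_mul, ← map_mul, hker']
        show a * (a * b) * a⁻¹ * (a * b) ∈ centralizer (W : Set X)
        have e : a * (a * b) * a⁻¹ * (a * b) = (a * a) * (b * b) := by group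
        rw [e]
        exact hCW (mul_mem haa hbb)
      have h3 := Cfsg.Agent.Lib.Helper18.S3Section.involves_s3_of_inverted _ _ he2 hz1 hz3' hinv
      exact hfree ((Cfsg.Agent.S2759.result).mpr ⟨W, hWp, h3⟩)

end Cfsg.Agent.Lib.Helper18.Transvection
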