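import Mathlib
import Cfsg.Agent.Lib.Helper18.ThompsonRepl
import Cfsg.Agent.Lib.Helper18.Transvection
import Cfsg.Agent.Lib.Helper18.FusionCR
import Cfsg.Agent.Lib.Helper13.RelSylow

set_option autoImplicit false

/-!
# No orbits of length two

Let `X` be a finite group not involving `S₄`, `S` a Sylow `2`-subgroup, `V ≤ S` an abelian normal subgroup
of `X`, and `M ≥ S C_X(V)` a subgroup all of whose normal subgroups of `X` centralize `V`.
If `A` is an abelian subgroup of largest order of `S`, normalized by `V`, not centralizing `V`, and with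
`|A ∩ V|` as large as possible among such subgroups, then `|A : C_A(v)| ≠ 2` for every `v ∈ V`.
-/

namespace Cfsg.Agent.Lib.Helper18.GlaubermanTwo

open Subgroup Cfsg Cfsg.Agent.Lib.Helper18 Cfsg.Agent.Lib.Helper18.ThompsonRepl
  Cfsg.Agent.Lib.Helper18.Transvection
open scoped commutatorElement

variable {X : Type*} [Group X]

/-- if a subgroup `A₁ ≤ C_X(V)` of index at most two of `A` exists, then `A` centralizes `V` -/
theorem le_centralizer_of_half [Finite X] (hfree : ¬ Cfsg.Involves (Equiv.Perm (Fin 4)) X)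
    (S : Sylow 2 X) (V : Subgroup X) [hVn : V.Normal] (hVS : V ≤ (S : Subgroup X))
    (hVab : ∀ a ∈ V, ∀ b ∈ V, a * b = b * a) (M : Subgroup X) (hSM : (S : Subgroup X) ≤ M)
    (hCM : centralizer (V : Set X) ≤ M)
    (hcore : ∀ R : Subgroup X, R.Normal → R ≤ M → R ≤ centralizer (V : Set X))
    (A : Subgroup X) (hA : IsMaxAbIn (S : Subgroup X) A) (A₁ : Subgroup X) (hA₁A : A₁ ≤ A)
    (hA₁C : A₁ ≤ centralizer (V : Set X)) (hcard : Nat.card A ≤ 2 * Nat.card A₁) :
    A ≤ centralizer (V : Set X) := by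
  classical
  haveI : Fact (Nat.Prime 2) := ⟨Nat.prime_two⟩
  have hV2 : IsPGroup 2 V := S.isPGroup'.to_le hVS
  have h1 : Cfsg.H5.mm V A₁ ≤ Cfsg.H5.mm V A := mm_le_of_isMaxAbIn hVS hVab hA A₁ hA₁A
  have h1' : Nat.card A₁ * Nat.card (Cfsg.H5.fix V A₁) ≤ Nat.card A * Nat.card (Cfsg.H5.fix V A) := h1
  have hVfix : V ≤ Cfsg.H5.fix V A₁ := by
    intro v hv
    exact Subgroup.mem_inf.mpr ⟨hv, (Subgroup.le_centralizer_iff.mp hA₁C) hv⟩
  have h2 : Nat.card V ≤ Nat.card (Cfsg.H5.fix V A₁) := Subgroup.card_le_of_le hVfix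
  have hpos : 0 < Nat.card A₁ := Nat.card_pos
  have h3 : Nat.card V ≤ 2 * Nat.card (Cfsg.H5.fix V A) := by
    have h4 : Nat.card A₁ * Nat.card V ≤ Nat.card A₁ * (2 * Nat.card (Cfsg.H5.fix V A)) := by
      calc Nat.card A₁ * Nat.card V ≤ Nat.card A₁ * Nat.card (Cfsg.H5.fix V A₁) :=
            Nat.mul_le_mul_left _ h2
        _ ≤ Nat.card A * Nat.card (Cfsg.H5.fix V A) := h1'
        _ ≤ (2 * Nat.card A₁) * Nat.card (Cfsg.H5.fix V A) := Nat.mul_le_mul_right _ hcard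
        _ = Nat.card A₁ * (2 * Nat.card (Cfsg.H5.fix V A)) := by ring
    exact Nat.le_of_mul_le_mul_left h4 hpos
  have hmem : ∀ a ∈ A, QuotientGroup.mk' (centralizer (V : Set X)) a ∈
      Cfsg.pCore 2 (X ⧸ centralizer (V : Set X)) := by
    intro a ha
    apply transvection_mem_pCore hfree V hV2 hVab a
    have h5 : Cfsg.H5.fix V A ≤ V ⊓ centralizer ({a} : Set X) := by
      apply inf_le_inf_left
      apply Subgroup.centralizer_le
      intro y hy
      rw [Set.mem_singleton_iff] at hy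
      rw [hy]; exact ha
    exact h3.trans (Nat.mul_le_mul_left _ (Subgroup.card_le_of_le h5))
  obtain ⟨R, hR⟩ : ∃ R : Subgroup X, R = (Cfsg.pCore 2 (X ⧸ centralizer (V : Set X))).comap
      (QuotientGroup.mk' (centralizer (V : Set X))) := ⟨_, rfl⟩
  have hRn : R.Normal := by
    rw [hR]
    haveI : (Cfsg.pCore 2 (X ⧸ centralizer (V : Set X))).Normal :=
      Cfsg.Agent.Lib.Helper16.pCore_normal
    exact Subgroup.Normal.comap inferInstance _
  have hRM : R ≤ M := by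
    intro r hr
    rw [hR, Subgroup.mem_comap] at hr
    have h6 := Cfsg.Agent.Lib.Helper16.pCore_le_sylow
      (S.mapSurjective (QuotientGroup.mk'_surjective (centralizer (V : Set X)))) hr
    rw [Sylow.coe_mapSurjective] at h6
    obtain ⟨s, hs, hsr⟩ := h6
    have h7 : s⁻¹ * r ∈ centralizer (V : Set X) := QuotientGroup.eq.mp hsr
    have e : r = s * (s⁻¹ * r) := by group
    rw [e]; exact M.mul_mem (hSM hs) (hCM h7)
  have hRC := hcore R hRn hRM
  intro a ha
  apply hRC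
  rw [hR, Subgroup.mem_comap]
  exact hmem a ha

/-- **No orbits of length two.** -/
theorem no_two_orbit [Finite X] (hfree : ¬ Cfsg.Involves (Equiv.Perm (Fin 4)) X)
    (S : Sylow 2 X) (V : Subgroup X) [hVn : V.Normal] (hVS : V ≤ (S : Subgroup X))
    (hVab : ∀ a ∈ V, ∀ b ∈ V, a * b = b * a) (M : Subgroup X) (hSM : (S : Subgroup X) ≤ M)
    (hCM : centralizer (V : Set X) ≤ M)
    (hcore : ∀ R : Subgroup X, R.Normal → R ≤ M → R ≤ centralizer (V : Set X))
    (A : Subgroup X) (hA : IsMaxAbIn (S : Subgroup X) A) (hVA : ⁅V, A⁆ ≤ A)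
    (hAC : ¬ A ≤ centralizer (V : Set X))
    (hμ : ∀ A' : Subgroup X, IsMaxAbIn (S : Subgroup X) A' → ⁅V, A'⁆ ≤ A' →
      ¬ A' ≤ centralizer (V : Set X) → Nat.card ↥(A' ⊓ V) ≤ Nat.card ↥(A ⊓ V))
    (v : X) (hv : v ∈ V) : 2 * Nat.card ↥(A ⊓ centralizer ({v} : Set X)) ≠ Nat.card A := by
  intro hcard
  obtain ⟨A₁, hA₁⟩ : ∃ A₁ : Subgroup X, A₁ = A ⊓ centralizer ({v} : Set X) := ⟨_, rfl⟩
  rw [← hA₁] at hcard
  have hA₁A : A₁ ≤ A := hA₁ ▸ inf_le_left
  by_cases hA₁C : A₁ ≤ centralizer (V : Set X)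
  · exact hAC (le_centralizer_of_half hfree S V hVS hVab M hSM hCM hcore A hA A₁ hA₁A hA₁C
      (le_of_eq hcard.symm))
  -- the second case: replace `A` by `A₁ ⟨v⟩`
  have hA₁v : ∀ a ∈ A₁, a * v = v * a := by
    intro a ha
    rw [hA₁] at ha
    exact (Subgroup.mem_centralizer_iff.mp (Subgroup.mem_inf.mp ha).2 v (Set.mem_singleton v)).symm
  have hvA : v ∉ A := by
    intro hvA
    have h1 : A ≤ A₁ := by
      intro a ha
      rw [hA₁]
      refine Subgroup.mem_inf.mpr ⟨ha, ?_⟩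
      rw [Subgroup.mem_centralizer_iff]
      intro y hy
      rw [Set.mem_singleton_iff] at hy
      rw [hy]
      exact hA.2.1 v hvA a ha
    have h2 := Subgroup.card_le_of_le h1
    have hpos : 0 < Nat.card A₁ := Nat.card_pos
    omega
  have hAV₁ : A ⊓ V ≤ A₁ := by
    intro y hy
    obtain ⟨hyA, hyV⟩ := Subgroup.mem_inf.mp hy
    rw [hA₁]
    refine Subgroup.mem_inf.mpr ⟨hyA, ?_⟩
    rw [Subgroup.mem_centralizer_iff]
    intro z hz
    rw [Set.mem_singleton_iff] at hz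
    rw [hz]
    exact hVab v hv y hyV
  obtain ⟨A', hA'⟩ : ∃ A' : Subgroup X, A' = A₁ ⊔ zpowers v := ⟨_, rfl⟩
  have hcomm : ∀ a ∈ A₁, ∀ b ∈ zpowers v, a * b = b * a := by
    intro a ha b hb
    obtain ⟨k, rfl⟩ := Subgroup.mem_zpowers_iff.mp hb
    have hc : Commute a v := hA₁v a ha
    exact (hc.zpow_right k).eq
  have hmemA' : ∀ y, y ∈ A' ↔ ∃ a ∈ A₁, ∃ b ∈ zpowers v, y = a * b := by
    intro y; rw [hA']; exact Cfsg.Agent.Lib.Helper10.mem_sup_of_commute A₁ _ hcomm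
  have hA'ab : ∀ x ∈ A', ∀ y ∈ A', x * y = y * x := by
    intro x hx y hy
    obtain ⟨a, ha, b, hb, rfl⟩ := (hmemA' x).mp hx
    obtain ⟨a', ha', b', hb', rfl⟩ := (hmemA' y).mp hy
    have h1 : a * a' = a' * a := hA.2.1 a (hA₁A ha) a' (hA₁A ha')
    have h3 : a * b' = b' * a := hcomm a ha b' hb'
    have h4 : a' * b = b * a' := hcomm a' ha' b hb
    have h2 : b * b' = b' * b := by
      obtain ⟨k, hk⟩ := Subgroup.mem_zpowers_iff.mp hb
      obtain ⟨k', hk'⟩ := Subgroup.mem_zpowers_iff.mp hb'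
      rw [← hk, ← hk', ← zpow_add, ← zpow_add, add_comm]
    calc a * b * (a' * b') = a * (b * a') * b' := by group
      _ = a * (a' * b) * b' := by rw [h4]
      _ = (a * a') * (b * b') := by group
      _ = (a' * a) * (b' * b) := by rw [h1, h2]
      _ = a' * (a * b') * b := by group
      _ = a' * (b' * a) * b := by rw [h3]
      _ = a' * b' * (a * b) := by group
  have hA'S : A' ≤ (S : Subgroup X) := by
    rw [hA']
    apply sup_le (hA₁A.trans hA.1)
    rw [Subgroup.zpowers_le]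
    exact hVS hv
  have hA₁A' : A₁ ≤ A' := hA' ▸ le_sup_left
  have hvA' : v ∈ A' := by
    rw [hA']
    exact (le_sup_right : zpowers v ≤ A₁ ⊔ zpowers v) (Subgroup.mem_zpowers v)
  have hvA₁ : v ∉ A₁ := fun h => hvA (hA₁A h)
  have hlt : A₁ < A' := lt_of_le_of_ne hA₁A' (fun h => hvA₁ (by rw [h]; exact hvA'))
  have hcardA' : Nat.card A ≤ Nat.card A' := by
    have hdvd : Nat.card A₁ ∣ Nat.card A' := Subgroup.card_dvd_of_le hA₁A'
    have hlt' : Nat.card A₁ < Nat.card A' := Cfsg.Agent.Lib.Helper13.card_lt_card_of_lt hlt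
    obtain ⟨k, hk⟩ := hdvd
    have hk2 : 2 ≤ k := by
      by_contra hk'
      push Not at hk'
      interval_cases k
      · omega
      · omega
    calc Nat.card A = 2 * Nat.card A₁ := hcard.symm
      _ ≤ k * Nat.card A₁ := Nat.mul_le_mul_right _ hk2
      _ = Nat.card A' := by rw [hk, mul_comm]
  have hA'max : IsMaxAbIn (S : Subgroup X) A' := by
    refine ⟨hA'S, hA'ab, ?_⟩
    intro C hC hCab
    exact (hA.2.2 C hC hCab).trans hcardA'
  have hVA' : ⁅V, A'⁆ ≤ A' := by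
    rw [Subgroup.commutator_le]
    intro u hu y hy
    obtain ⟨a, ha, b, hb, rfl⟩ := (hmemA' y).mp hy
    have hbV : b ∈ V := (Subgroup.zpowers_le.mpr hv) hb
    have hub : u * b = b * u := hVab u hu b hbV
    have e : ⁅u, a * b⁆ = ⁅u, a⁆ := by
      rw [commutatorElement_def, commutatorElement_def]
      have hub' : b * u⁻¹ * b⁻¹ = u⁻¹ := by
        calc b * u⁻¹ * b⁻¹ = (b * u * b⁻¹)⁻¹ := by group
          _ = (u * b * b⁻¹)⁻¹ := by rw [hub]
          _ = u⁻¹ := by group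
      calc u * (a * b) * u⁻¹ * (a * b)⁻¹ = u * a * (b * u⁻¹ * b⁻¹) * a⁻¹ := by group
        _ = u * a * u⁻¹ * a⁻¹ := by rw [hub']
    rw [e]
    apply hA₁A'
    have h1 : ⁅u, a⁆ ∈ A := hVA (Subgroup.commutator_mem_commutator hu (hA₁A ha))
    have h2 : ⁅u, a⁆ ∈ V := by
      rw [commutatorElement_def]
      have h3 : a * u⁻¹ * a⁻¹ ∈ V := hVn.conj_mem _ (V.inv_mem hu) a
      have e2 : u * a * u⁻¹ * a⁻¹ = u * (a * u⁻¹ * a⁻¹) := by group
      rw [e2]; exact V.mul_mem hu h3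
    exact hAV₁ (Subgroup.mem_inf.mpr ⟨h1, h2⟩)
  have hA'C : ¬ A' ≤ centralizer (V : Set X) := fun h => hA₁C (hA₁A'.trans h)
  have h5 := hμ A' hA'max hVA' hA'C
  have h6 : A ⊓ V < A' ⊓ V := by
    refine lt_of_le_of_ne (le_inf (hAV₁.trans hA₁A') inf_le_right) ?_
    intro heq
    apply hvA
    have h7 : v ∈ A' ⊓ V := Subgroup.mem_inf.mpr ⟨hvA', hv⟩
    rw [← heq] at h7
    exact (Subgroup.mem_inf.mp h7).1
  have h7 := Cfsg.Agent.Lib.Helper13.card_lt_card_of_lt h6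
  omega

end Cfsg.Agent.Lib.Helper18.GlaubermanTwo
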