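import Mathlib
import Cfsg.Agent.Lib.Helper1.Frattini
import Cfsg.Agent.Lib.Helper17.TransferGen

set_option autoImplicit false

/-!
# Products over the orbits of a `p`-group generated by a family of subgroups

* `prod_orbit_split`: an orbit splits along a normal subgroup of prime index containing the stabilizer;
* `prod_orbit_eq_one_of_hom`: if a `2`-group `B` acts and `F (b • ω) = χ b * F ω` for a homomorphism `χ` to a
  group of exponent `2`, then the product of `F` over the orbit of `ω` is trivial as soon as the orbit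
  has more than two points;
* `prod_eq_of_family`: a `p`-group generated by a family of subgroups all of whose nontrivial orbits have
  trivial product, with a unique fixed point: the total product is the value at the fixed point.
-/

namespace Cfsg.Agent.Lib.Helper18.OrbitProd

open Cfsg.Agent.Lib.Helper1

variable {Wg Ω E : Type*} [Group Wg] [MulAction Wg Ω] [Fintype Ω] [CommGroup E]

/-- an orbit splits along a normal subgroup `K` of prime index containing the stabilizer -/
theorem prod_orbit_split {p : ℕ} [Fact p.Prime] (F : Ω → E) (ω₀ : Ω) (K : Subgroup Wg) [K.Normal]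
    (hKi : K.index = p) (hStK : MulAction.stabilizer Wg ω₀ ≤ K) (u : Wg) (huK : u ∉ K)
    [DecidablePred (fun y => y ∈ MulAction.orbit Wg ω₀)]
    [DecidablePred (fun y => ∃ k ∈ K, k • ω₀ = y)] :
    ∏ y ∈ Finset.univ.filter (fun y => y ∈ MulAction.orbit Wg ω₀), F y =
      ∏ b ∈ Finset.univ.filter (fun y => ∃ k ∈ K, k • ω₀ = y), ∏ i ∈ Finset.range p, F (u ^ i • b) := by
  classical
  have hbij := Cfsg.Agent.Lib.Helper17.pow_bijective_of_index_prime hKi huK
  rw [← Finset.prod_product']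
  symm
  apply Finset.prod_bij (fun x _ => u ^ x.2 • x.1)
  · rintro ⟨b, i⟩ hx
    obtain ⟨hb, -⟩ := Finset.mem_product.mp hx
    obtain ⟨k, -, hkb⟩ := (Finset.mem_filter.mp hb).2
    refine Finset.mem_filter.mpr ⟨Finset.mem_univ _, u ^ i * k, ?_⟩
    show (u ^ i * k) • ω₀ = u ^ i • b
    rw [mul_smul, hkb]
  · rintro ⟨b, i⟩ hx ⟨b', j⟩ hx' heq
    obtain ⟨hb, hi⟩ := Finset.mem_product.mp hx
    obtain ⟨hb', hj⟩ := Finset.mem_product.mp hx'
    obtain ⟨k, hk, hkb⟩ := (Finset.mem_filter.mp hb).2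
    obtain ⟨k', hk', hkb'⟩ := (Finset.mem_filter.mp hb').2
    have hi' : i < p := Finset.mem_range.mp hi
    have hj' : j < p := Finset.mem_range.mp hj
    have heq' : u ^ i • k • ω₀ = u ^ j • k' • ω₀ := by rw [hkb, hkb']; exact heq
    have h1 : (u ^ j * k')⁻¹ * (u ^ i * k) ∈ MulAction.stabilizer Wg ω₀ := by
      have e : (u ^ j * k')⁻¹ * u ^ j * k' = 1 := by group
      rw [MulAction.mem_stabilizer_iff, mul_smul, mul_smul, heq', ← mul_smul, ← mul_smul, e, one_smul]
    have h2 := hStK h1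
    have h3 : (u ^ j)⁻¹ * u ^ i ∈ K := by
      have e : (u ^ j)⁻¹ * u ^ i = k' * ((u ^ j * k')⁻¹ * (u ^ i * k)) * k⁻¹ := by group
      rw [e]; exact K.mul_mem (K.mul_mem hk' h2) (K.inv_mem hk)
    have h4 : ((u ^ j : Wg) : Wg ⧸ K) = ((u ^ i : Wg) : Wg ⧸ K) := QuotientGroup.eq.mpr h3
    have h5 : (⟨j, hj'⟩ : Fin p) = ⟨i, hi'⟩ := hbij.1 h4
    have hij : j = i := congrArg Fin.val h5
    subst hij
    have h6 : b = b' := by
      have := congrArg (fun y => (u ^ j)⁻¹ • y) heq
      simpa using this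
    rw [h6]
  · intro y hy
    obtain ⟨g, hg⟩ := (Finset.mem_filter.mp hy).2
    obtain ⟨i, hi⟩ := hbij.2 ((g : Wg) : Wg ⧸ K)
    have h1 : (u ^ (i : ℕ))⁻¹ * g ∈ K := QuotientGroup.eq.mp hi
    refine ⟨(((u ^ (i : ℕ))⁻¹ * g) • ω₀, (i : ℕ)), ?_, ?_⟩
    · exact Finset.mem_product.mpr ⟨Finset.mem_filter.mpr ⟨Finset.mem_univ _, _, h1, rfl⟩,
        Finset.mem_range.mpr i.2⟩
    · show u ^ (i : ℕ) • ((u ^ (i : ℕ))⁻¹ * g) • ω₀ = y
      rw [← mul_smul, mul_inv_cancel_left]
      exact hg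
  · intro a _
    rfl

/-- a `2`-group acting with `F (b • ω₀) = χ b * F ω₀`, `χ` a homomorphism to a group of exponent `2`: the
product over the orbit of `ω₀` is trivial when the stabilizer has index different from `1` and `2` -/
theorem prod_orbit_eq_one_of_hom [Finite Wg] (hWp : IsPGroup 2 Wg) (F : Ω → E) (hE : ∀ e : E, e * e = 1)
    (ω₀ : Ω) (χ : Wg →* E) (hχ : ∀ b : Wg, F (b • ω₀) = χ b * F ω₀)
    (hst1 : MulAction.stabilizer Wg ω₀ ≠ ⊤) (hst2 : (MulAction.stabilizer Wg ω₀).index ≠ 2)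
    [DecidablePred (fun y => y ∈ MulAction.orbit Wg ω₀)] :
    ∏ y ∈ Finset.univ.filter (fun y => y ∈ MulAction.orbit Wg ω₀), F y = 1 := by
  classical
  haveI : Fact (Nat.Prime 2) := ⟨Nat.prime_two⟩
  obtain ⟨K, hKco, hStK⟩ := (eq_top_or_exists_le_coatom _).resolve_left hst1
  haveI hKn : K.Normal := IsPGroup.normal_of_isCoatom hWp hKco
  have hKi : K.index = 2 := IsPGroup.index_of_isCoatom hWp hKco
  obtain ⟨u, huK⟩ : ∃ u : Wg, u ∉ K := by
    by_contra hcon
    push Not at hcon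
    exact hKco.1 (eq_top_iff.mpr fun g _ => hcon g)
  rw [prod_orbit_split F ω₀ K hKi hStK u huK]
  -- each inner product is `χ u`
  have hinner : ∀ b ∈ Finset.univ.filter (fun y => ∃ k ∈ K, k • ω₀ = y),
      ∏ i ∈ Finset.range 2, F (u ^ i • b) = χ u := by
    intro b hb
    obtain ⟨k, -, rfl⟩ := (Finset.mem_filter.mp hb).2
    rw [Finset.prod_range_succ, Finset.prod_range_one, pow_zero, one_smul, pow_one, ← mul_smul, hχ, hχ,
      map_mul]
    calc χ k * F ω₀ * (χ u * χ k * F ω₀) = χ u * ((χ k * F ω₀) * (χ k * F ω₀)) := by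
          rw [mul_comm (χ u) (χ k)]
          simp only [mul_assoc, mul_comm, mul_left_comm]
      _ = χ u := by rw [hE, mul_one]
  rw [Finset.prod_congr rfl hinner, Finset.prod_const]
  -- the number of points in the `K`-orbit is even
  have hne : ∃ k ∈ K, k • ω₀ ≠ ω₀ := by
    by_contra hcon
    push Not at hcon
    apply hst2
    have : K = MulAction.stabilizer Wg ω₀ :=
      le_antisymm (fun k hk => MulAction.mem_stabilizer_iff.mpr (hcon k hk)) hStK
    rw [← this]; exact hKi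
  obtain ⟨k₀, hk₀K, hk₀⟩ := hne
  have hKp : IsPGroup 2 ↥K := hWp.to_subgroup K
  obtain ⟨n, hn⟩ := hKp.card_orbit (α := Ω) ω₀
  have hcard : (Finset.univ.filter (fun y => ∃ k ∈ K, k • ω₀ = y)).card =
      Nat.card (MulAction.orbit ↥K ω₀) := by
    rw [Nat.card_eq_fintype_card, Fintype.card_subtype]
    congr 1
    ext y
    simp only [Finset.mem_filter, Finset.mem_univ, true_and]
    constructor
    · rintro ⟨k, hk, rfl⟩
      exact ⟨⟨k, hk⟩, rfl⟩
    · rintro ⟨k, rfl⟩
      exact ⟨k.1, k.2, rfl⟩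
  rw [hcard, hn]
  have hn0 : n ≠ 0 := by
    rintro rfl
    rw [pow_zero] at hn
    have h1 : Subsingleton (MulAction.orbit ↥K ω₀) := (Nat.card_eq_one_iff_unique.mp hn).1
    have h2 : (⟨(⟨k₀, hk₀K⟩ : ↥K) • ω₀, MulAction.mem_orbit _ _⟩ : MulAction.orbit ↥K ω₀) =
        ⟨ω₀, MulAction.mem_orbit_self _⟩ := Subsingleton.elim _ _
    exact hk₀ (congrArg Subtype.val h2)
  obtain ⟨m, rfl⟩ := Nat.exists_eq_succ_of_ne_zero hn0
  rw [pow_succ, pow_mul', pow_two, hE, one_pow]

/-- a `p`-group generated by a family of subgroups whose nontrivial orbits all have trivial product, with a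
unique fixed point: the total product is the value at the fixed point -/
theorem prod_eq_of_family [Finite Wg] {p : ℕ} [Fact p.Prime] (hWp : IsPGroup p Wg) (F : Ω → E)
    (𝔉 : Set (Subgroup Wg)) (hgen : ∀ K : Subgroup Wg, (∀ B ∈ 𝔉, B ≤ K) → K = ⊤)
    (h𝔉 : ∀ B ∈ 𝔉, ∀ ω : Ω, (∃ b ∈ B, b • ω ≠ ω) → ∀ [DecidablePred (fun y => ∃ b ∈ B, b • ω = y)],
      ∏ y ∈ Finset.univ.filter (fun y => ∃ b ∈ B, b • ω = y), F y = 1)
    (q₀ : Ω) (hfix : ∀ ω, (∀ g : Wg, g • ω = ω) ↔ ω = q₀) : ∏ ω, F ω = F q₀ := by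
  classical
  rw [← Finset.mul_prod_erase Finset.univ F (Finset.mem_univ q₀),
    Finset.prod_cancels_of_partition_cancels (MulAction.orbitRel Wg Ω), mul_one]
  intro x hx
  have hxq : x ≠ q₀ := Finset.ne_of_mem_erase hx
  have hx' : ∃ g : Wg, g • x ≠ x := by
    by_contra h
    push Not at h
    exact hxq ((hfix x).mp h)
  -- the filter is the orbit of `x`
  have hfilter : (Finset.univ.erase q₀).filter (fun a => (MulAction.orbitRel Wg Ω) a x) =
      Finset.univ.filter (fun y => y ∈ MulAction.orbit Wg x) := by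
    ext a
    simp only [Finset.mem_filter, Finset.mem_erase, Finset.mem_univ, and_true, true_and]
    rw [MulAction.orbitRel_apply]
    constructor
    · rintro ⟨_, h⟩; exact h
    · intro h
      refine ⟨?_, h⟩
      rintro rfl
      obtain ⟨g, hg⟩ := h
      apply hxq
      have e : x = g⁻¹ • a := by rw [← hg, inv_smul_smul]
      rw [e, (hfix a).mpr rfl]
  rw [hfilter]
  -- a normal maximal subgroup containing the stabilizer, and a member of the family outside it
  have hSt : MulAction.stabilizer Wg x ≠ ⊤ := by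
    intro h
    obtain ⟨g, hg⟩ := hx'
    apply hg
    have : g ∈ MulAction.stabilizer Wg x := h ▸ Subgroup.mem_top g
    exact MulAction.mem_stabilizer_iff.mp this
  obtain ⟨K, hKco, hStK⟩ := (eq_top_or_exists_le_coatom _).resolve_left hSt
  have hKn : K.Normal := IsPGroup.normal_of_isCoatom hWp hKco
  obtain ⟨B, hB𝔉, hBK⟩ : ∃ B ∈ 𝔉, ¬ B ≤ K := by
    by_contra hcon
    push Not at hcon
    exact hKco.1 (hgen K hcon)
  obtain ⟨b₀, hb₀B, hb₀K⟩ := SetLike.not_le_iff_exists.mp hBK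
  -- partition the orbit of `x` into orbits of `B`
  apply Finset.prod_cancels_of_partition_cancels (MulAction.orbitRel ↥B Ω)
  intro y hy
  obtain ⟨g, rfl⟩ := (Finset.mem_filter.mp hy).2
  have hfilter2 : (Finset.univ.filter (fun y => y ∈ MulAction.orbit Wg x)).filter
      (fun a => (MulAction.orbitRel ↥B Ω) a (g • x)) =
      Finset.univ.filter (fun z => ∃ b ∈ B, b • (g • x) = z) := by
    ext a
    simp only [Finset.mem_filter, Finset.mem_univ, true_and]
    rw [MulAction.orbitRel_apply]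
    constructor
    · rintro ⟨-, ⟨b, hb⟩⟩
      exact ⟨b.1, b.2, hb⟩
    · rintro ⟨b, hb, rfl⟩
      refine ⟨⟨b * g, by show (b * g) • x = b • g • x; rw [mul_smul]⟩, ⟨⟨b, hb⟩, rfl⟩⟩
  rw [hfilter2]
  apply h𝔉 B hB𝔉 (g • x)
  refine ⟨b₀, hb₀B, ?_⟩
  intro hfixed
  apply hb₀K
  have h1 : g⁻¹ * b₀ * g ∈ MulAction.stabilizer Wg x := by
    rw [MulAction.mem_stabilizer_iff, mul_smul, mul_smul, hfixed, inv_smul_smul]
  have h2 := hKn.conj_mem _ (hStK h1) g
  have e : g * (g⁻¹ * b₀ * g) * g⁻¹ = b₀ := by group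
  rw [e] at h2
  exact h2

end Cfsg.Agent.Lib.Helper18.OrbitProd
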