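import Mathlib
import Cfsg.Agent.Lib.Helper18.GlaubermanTwoA
import Cfsg.Agent.Lib.Helper18.OrbitProd
import Cfsg.Agent.Lib.Helper16.SylowInf
import Cfsg.Agent.S2006

set_option autoImplicit false

/-!
# Glauberman's weak closure theorem for `p = 2` in groups not involving `S₄`: the normal case

`normal_two`: let `X` be a finite group not involving `S₄`, `S` a Sylow `2`-subgroup, and `x ∈ Z(S) ∩ O_2(X)`
an element centralized by every proper subgroup of `X` containing `S`. If `J(S)` is not normal in `X`, then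
`x` is central in `X`.
-/

namespace Cfsg.Agent.Lib.Helper18.GlaubermanTwo

open Cfsg Cfsg.Agent.Lib.Helper18 Cfsg.Agent.Lib.Helper18.ThompsonRepl
  Cfsg.Agent.Lib.Helper18.OrbitProd Cfsg.Agent.Lib.Helper13 Cfsg.Agent.Lib.Helper18.FusionCR
open scoped commutatorElement

variable {X : Type*} [Group X]

open scoped IsMulCommutative in
/-- the conjugates of `x`, indexed by the cosets of `C_X(x)`; their product is central -/
theorem exists_cjf [Finite X] (V : Subgroup X) [hVn : V.Normal] [hVc : IsMulCommutative ↥V] (x : X)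
    (hxV : x ∈ V) (M : Subgroup X) (hM : M = Subgroup.centralizer {x}) [Fintype (X ⧸ M)] :
    ∃ cjf : X ⧸ M → ↥V, (∀ c : X, cjf (c : X ⧸ M) = ⟨c * x * c⁻¹, hVn.conj_mem x hxV c⟩) ∧
      ((∏ q : X ⧸ M, cjf q : ↥V) : X) ∈ Subgroup.center X := by
  classical
  have hMx : ∀ y ∈ M, y * x = x * y := by
    intro y hy
    rw [hM, Subgroup.mem_centralizer_iff] at hy
    exact (hy x rfl).symm
  have hconjV : ∀ c : X, c * x * c⁻¹ ∈ V := fun c => hVn.conj_mem x hxV c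
  obtain ⟨cj, hcjdef⟩ : ∃ cj : X ⧸ M → ↥V, cj = fun q =>
      ⟨Quotient.out q * x * (Quotient.out q)⁻¹, hconjV _⟩ := ⟨_, rfl⟩
  have hcj : ∀ c : X, cj (c : X ⧸ M) = ⟨c * x * c⁻¹, hconjV c⟩ := by
    intro c
    obtain ⟨m, hm⟩ := QuotientGroup.mk_out_eq_mul M c
    rw [hcjdef]
    apply Subtype.ext
    show Quotient.out (c : X ⧸ M) * x * (Quotient.out (c : X ⧸ M))⁻¹ = c * x * c⁻¹
    rw [hm]
    have hmx : (m : X) * x = x * m := hMx m m.2
    calc c * m * x * (c * m)⁻¹ = c * (m * x) * (m : X)⁻¹ * c⁻¹ := by group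
      _ = c * (x * m) * (m : X)⁻¹ * c⁻¹ := by rw [hmx]
      _ = c * x * c⁻¹ := by group
  refine ⟨cj, hcj, ?_⟩
  obtain ⟨n, hn⟩ : ∃ n : ↥V, n = ∏ q : X ⧸ M, cj q := ⟨_, rfl⟩
  rw [← hn]
  rw [Subgroup.mem_center_iff]
  intro h
  have h1 : (MulAut.conjNormal h : MulAut ↥V) n = n := by
    have h2 : (MulAut.conjNormal h : MulAut ↥V) n =
        ∏ q : X ⧸ M, (MulAut.conjNormal h : MulAut ↥V) (cj q) := by
      rw [hn]
      exact map_prod ((MulAut.conjNormal h : MulAut ↥V) : ↥V →* ↥V) cj Finset.univ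
    have h3 : ∀ q : X ⧸ M, (MulAut.conjNormal h : MulAut ↥V) (cj q) = cj (h • q) := by
      intro q
      induction q using QuotientGroup.induction_on with
      | H c =>
        have e : (h • ((c : X) : X ⧸ M)) = (((h * c : X)) : X ⧸ M) := rfl
        rw [e, hcj, hcj]
        apply Subtype.ext
        rw [MulAut.conjNormal_apply]
        show h * (c * x * c⁻¹) * h⁻¹ = h * c * x * (h * c)⁻¹
        group
    rw [h2, hn]
    rw [Finset.prod_congr rfl (fun q _ => h3 q)]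
    exact Equiv.prod_comp (MulAction.toPerm h : Equiv.Perm (X ⧸ M)) cj
  have h4 : h * (n : X) * h⁻¹ = (n : X) := by
    rw [← MulAut.conjNormal_apply, h1]
  calc h * (n : X) = (h * (n : X) * h⁻¹) * h := by group
    _ = (n : X) * h := by rw [h4]

open scoped IsMulCommutative in
/-- the product of the images in `V / Y` of the conjugates of `x` over a nontrivial orbit of `A` is trivial -/
theorem orbit_prod_eq_one [Finite X] (V Y : Subgroup X) [hVn : V.Normal] [hYn : Y.Normal]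
    [hVc : IsMulCommutative ↥V] (hexp : ∀ v ∈ V, v * v ∈ Y) (x : X) (hxV : x ∈ V)
    (M : Subgroup X) (hM : M = Subgroup.centralizer {x})
    (A : Subgroup X) (hA2 : IsPGroup 2 A) (hAab : ∀ a ∈ A, ∀ b ∈ A, a * b = b * a) (hVA : ⁅V, A⁆ ≤ A)
    (hno2 : ∀ v ∈ V, 2 * Nat.card ↥(A ⊓ Subgroup.centralizer ({v} : Set X)) ≠ Nat.card A)
    (cjf : X ⧸ M → ↥V) (hcjf : ∀ c : X, cjf (c : X ⧸ M) = ⟨c * x * c⁻¹, hVn.conj_mem x hxV c⟩)
    (ω : X ⧸ M) (hω : ∃ a ∈ A, a • ω ≠ ω) [Fintype (X ⧸ M)]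
    [DecidablePred (fun y : X ⧸ M => ∃ a ∈ A, a • ω = y)] :
    ∏ y ∈ Finset.univ.filter (fun y : X ⧸ M => ∃ a ∈ A, a • ω = y),
      (QuotientGroup.mk' (Y.subgroupOf V) (cjf y) : ↥V ⧸ Y.subgroupOf V) = 1 := by
  classical
  have hVab := (isMulCommutative_iff_forall V).mp hVc
  obtain ⟨c, rfl⟩ := QuotientGroup.mk_surjective ω
  obtain ⟨v, hv⟩ : ∃ v : X, v = c * x * c⁻¹ := ⟨_, rfl⟩
  have hvV : v ∈ V := hv ▸ hVn.conj_mem x hxV c
  obtain ⟨ψ, hψ⟩ : ∃ ψ : ↥V →* ↥V ⧸ (Y.subgroupOf V), ψ = QuotientGroup.mk' _ := ⟨_, rfl⟩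
  rw [← hψ]
  have hψker : ∀ y : ↥V, ψ y = 1 ↔ (y : X) ∈ Y := by
    intro y
    rw [hψ, QuotientGroup.mk'_apply, QuotientGroup.eq_one_iff, Subgroup.mem_subgroupOf]
  have hE : ∀ e : ↥V ⧸ (Y.subgroupOf V), e * e = 1 := by
    intro e
    obtain ⟨u, rfl⟩ := QuotientGroup.mk'_surjective (Y.subgroupOf V) e
    rw [← hψ, ← map_mul, hψker]
    exact hexp u u.2
  have hcommA : ∀ a ∈ A, a * v * a⁻¹ * v⁻¹ ∈ A := by
    intro a ha
    have h1 : ⁅a, v⁆ ∈ ⁅A, V⁆ := Subgroup.commutator_mem_commutator ha hvV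
    rw [Subgroup.commutator_comm] at h1
    have h2 := hVA h1
    rwa [commutatorElement_def] at h2
  have hcommV : ∀ a : X, a * v * a⁻¹ * v⁻¹ ∈ V := by
    intro a
    exact V.mul_mem (hVn.conj_mem v hvV a) (V.inv_mem hvV)
  obtain ⟨χ, hχdef⟩ : ∃ χ : ↥A →* ↥V ⧸ (Y.subgroupOf V),
      ∀ a : ↥A, χ a = ψ ⟨(a : X) * v * (a : X)⁻¹ * v⁻¹, hcommV a⟩ := by
    refine ⟨MonoidHom.mk' (fun a : ↥A => ψ ⟨(a : X) * v * (a : X)⁻¹ * v⁻¹, hcommV a⟩) ?_,
      fun a => rfl⟩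
    intro a b
    rw [← map_mul]
    apply congrArg ψ
    apply Subtype.ext
    show ((a : X) * (b : X)) * v * ((a : X) * (b : X))⁻¹ * v⁻¹ =
      ((a : X) * v * (a : X)⁻¹ * v⁻¹) * ((b : X) * v * (b : X)⁻¹ * v⁻¹)
    have h1 : (a : X) * ((b : X) * v * (b : X)⁻¹ * v⁻¹) = ((b : X) * v * (b : X)⁻¹ * v⁻¹) * (a : X) :=
      hAab _ a.2 _ (hcommA b b.2)
    have h2 : ((a : X) * v * (a : X)⁻¹ * v⁻¹) * ((b : X) * v * (b : X)⁻¹ * v⁻¹) =
        ((b : X) * v * (b : X)⁻¹ * v⁻¹) * ((a : X) * v * (a : X)⁻¹ * v⁻¹) :=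
      hVab _ (hcommV a) _ (hcommV b)
    calc ((a : X) * (b : X)) * v * ((a : X) * (b : X))⁻¹ * v⁻¹
        = ((a : X) * ((b : X) * v * (b : X)⁻¹ * v⁻¹)) * (a : X)⁻¹ * ((a : X) * v * (a : X)⁻¹ * v⁻¹) := by
          group
      _ = (((b : X) * v * (b : X)⁻¹ * v⁻¹) * (a : X)) * (a : X)⁻¹ * ((a : X) * v * (a : X)⁻¹ * v⁻¹) := by
          rw [h1]
      _ = ((b : X) * v * (b : X)⁻¹ * v⁻¹) * ((a : X) * v * (a : X)⁻¹ * v⁻¹) := by group
      _ = _ := h2.symm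
  obtain ⟨F, hF⟩ : ∃ F : X ⧸ M → ↥V ⧸ (Y.subgroupOf V), F = fun q => ψ (cjf q) := ⟨_, rfl⟩
  have hχ : ∀ b : ↥A, F (b • ((c : X) : X ⧸ M)) = χ b * F ((c : X) : X ⧸ M) := by
    intro b
    have e : (b • ((c : X) : X ⧸ M)) = ((((b : X) * c : X)) : X ⧸ M) := rfl
    rw [e, hF, hχdef]
    show ψ (cjf ((((b : X) * c : X)) : X ⧸ M)) = ψ _ * ψ (cjf ((c : X) : X ⧸ M))
    rw [hcjf, hcjf, ← map_mul]
    apply congrArg ψ
    apply Subtype.ext
    show (b : X) * c * x * ((b : X) * c)⁻¹ = ((b : X) * v * (b : X)⁻¹ * v⁻¹) * (c * x * c⁻¹)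
    rw [hv]; group
  have hstab : ∀ a : ↥A, a ∈ MulAction.stabilizer ↥A ((c : X) : X ⧸ M) ↔
      (a : X) * v = v * (a : X) := by
    intro a
    rw [MulAction.mem_stabilizer_iff]
    have e : (a • ((c : X) : X ⧸ M)) = ((((a : X) * c : X)) : X ⧸ M) := rfl
    rw [e]
    obtain ⟨w, hw⟩ : ∃ w : X, w = ((a : X) * c)⁻¹ * c := ⟨_, rfl⟩
    constructor
    · intro h
      have h1 : w ∈ M := by rw [hw]; exact QuotientGroup.eq.mp h
      rw [hM, Subgroup.mem_centralizer_iff] at h1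
      have hxw : x * w = w * x := h1 x rfl
      calc (a : X) * v = (a : X) * c * (x * w) * w⁻¹ * c⁻¹ := by rw [hv]; group
        _ = (a : X) * c * (w * x) * w⁻¹ * c⁻¹ := by rw [hxw]
        _ = v * (a : X) := by rw [hv, hw]; group
    · intro h
      apply QuotientGroup.eq.mpr
      rw [← hw, hM, Subgroup.mem_centralizer_iff]
      intro z hz
      rw [Set.mem_singleton_iff] at hz
      rw [hz]
      calc x * w = c⁻¹ * (a : X)⁻¹ * ((a : X) * v) * (a : X)⁻¹ * c := by rw [hv, hw]; group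
        _ = c⁻¹ * (a : X)⁻¹ * (v * (a : X)) * (a : X)⁻¹ * c := by rw [h]
        _ = w * x := by rw [hv, hw]; group
  have hst1 : MulAction.stabilizer ↥A ((c : X) : X ⧸ M) ≠ ⊤ := by
    intro htop
    obtain ⟨a, ha, hne⟩ := hω
    apply hne
    have h1 : (⟨a, ha⟩ : ↥A) ∈ MulAction.stabilizer ↥A ((c : X) : X ⧸ M) := by rw [htop]; trivial
    exact MulAction.mem_stabilizer_iff.mp h1
  have hst2 : (MulAction.stabilizer ↥A ((c : X) : X ⧸ M)).index ≠ 2 := by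
    intro hidx
    have hmap : (MulAction.stabilizer ↥A ((c : X) : X ⧸ M)).map A.subtype =
        A ⊓ Subgroup.centralizer ({v} : Set X) := by
      ext y
      constructor
      · rintro ⟨a, ha, rfl⟩
        refine Subgroup.mem_inf.mpr ⟨a.2, ?_⟩
        rw [Subgroup.mem_centralizer_iff]
        intro z hz
        rw [Set.mem_singleton_iff] at hz
        rw [hz]
        exact ((hstab a).mp ha).symm
      · intro hy
        obtain ⟨hyA, hyC⟩ := Subgroup.mem_inf.mp hy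
        refine ⟨⟨y, hyA⟩, (hstab _).mpr ?_, rfl⟩
        exact (Subgroup.mem_centralizer_iff.mp hyC v (Set.mem_singleton v)).symm
    have hcard1 : Nat.card ↥(A ⊓ Subgroup.centralizer ({v} : Set X)) =
        Nat.card (MulAction.stabilizer ↥A ((c : X) : X ⧸ M)) := by
      rw [← hmap]
      exact Subgroup.card_map_of_injective A.subtype_injective
    have hcard2 := Subgroup.card_mul_index (MulAction.stabilizer ↥A ((c : X) : X ⧸ M))
    rw [hidx] at hcard2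
    apply hno2 v hvV
    rw [hcard1, ← hcard2, mul_comm]
  have hfil : Finset.univ.filter (fun y : X ⧸ M => ∃ a ∈ A, a • ((c : X) : X ⧸ M) = y) =
      Finset.univ.filter (fun y => y ∈ MulAction.orbit ↥A ((c : X) : X ⧸ M)) := by
    ext y
    simp only [Finset.mem_filter, Finset.mem_univ, true_and]
    rw [MulAction.mem_orbit_iff]
    constructor
    · rintro ⟨a, ha, h⟩
      exact ⟨⟨a, ha⟩, h⟩
    · rintro ⟨a, h⟩
      exact ⟨a, a.2, h⟩
  have hmain := prod_orbit_eq_one_of_hom (Wg := ↥A) hA2 F hE ((c : X) : X ⧸ M) χ hχ hst1 hst2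
  rw [hF] at hmain
  refine Eq.trans ?_ hmain
  apply Finset.prod_congr ?_ (fun _ _ => rfl)
  ext y
  simp only [Finset.mem_filter, Finset.mem_univ, true_and]
  rw [MulAction.mem_orbit_iff]
  constructor
  · rintro ⟨a, ha, h⟩
    exact ⟨⟨a, ha⟩, h⟩
  · rintro ⟨a, h⟩
    exact ⟨a, a.2, h⟩

end Cfsg.Agent.Lib.Helper18.GlaubermanTwo
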