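import Mathlib
import Cfsg.Agent.Lib.Helper18.GlaubermanTwoB

set_option autoImplicit false

/-!
# Glauberman's weak closure theorem for `p = 2` in groups not involving `S₄`: the normal case

`normal_two`: let `X` be a finite group not involving `S₄`, `S` a Sylow `2`-subgroup, and `x ∈ Z(S) ∩ O_2(X)`
an element centralized by every proper subgroup of `X` containing `S`. If `J(S)` is not normal in `X`, then
`x` is central in `X`.
-/

namespace Cfsg.Agent.Lib.Helper18.GlaubermanTwo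

open Cfsg Cfsg.Agent.Lib.Helper18 Cfsg.Agent.Lib.Helper18.ThompsonRepl
  Cfsg.Agent.Lib.Helper18.OrbitProd Cfsg.Agent.Lib.Helper13 Cfsg.Agent.Lib.Helper18.FusionCR
open scoped commutatorElement

variable {X : Type*} [Group X]

open scoped IsMulCommutative in
theorem normal_two [Finite X] (hfree : ¬ Cfsg.Involves (Equiv.Perm (Fin 4)) X) (S : Sylow 2 X) (x : X)
    (hxC : x ∈ Subgroup.centralizer ((S : Subgroup X) : Set X))
    (hxQ : x ∈ Cfsg.pCore 2 X)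
    (hmax : ∀ L : Subgroup X, (S : Subgroup X) ≤ L → L ≠ ⊤ → L ≤ Subgroup.centralizer ({x} : Set X))
    (hJ : ¬ (Cfsg.thompsonSubgroupAOf (S : Subgroup X)).Normal) : x ∈ Subgroup.center X := by
  classical
  haveI : Fact (Nat.Prime 2) := ⟨Nat.prime_two⟩
  by_contra hxcen
  obtain ⟨M, hM⟩ : ∃ M : Subgroup X, M = Subgroup.centralizer ({x} : Set X) := ⟨_, rfl⟩
  rw [← hM] at hmax
  have hmemM : ∀ g : X, g ∈ M ↔ x * g = g * x := by
    intro g
    rw [hM, Subgroup.mem_centralizer_iff]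
    constructor
    · intro h; exact h x rfl
    · intro h z hz
      rw [Set.mem_singleton_iff] at hz
      rw [hz]; exact h
  have hMne : M ≠ ⊤ := by
    intro htop
    apply hxcen
    rw [Subgroup.mem_center_iff]
    intro g
    have hg : g ∈ M := by rw [htop]; trivial
    exact ((hmemM g).mp hg).symm
  have hSM : (S : Subgroup X) ≤ M := by
    intro s hs
    rw [hmemM]
    exact (Subgroup.mem_centralizer_iff.mp hxC s hs).symm
  -- `O_2(X)`
  obtain ⟨Q, hQ⟩ : ∃ Q : Subgroup X, Q = Cfsg.pCore 2 X := ⟨_, rfl⟩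
  rw [← hQ] at hxQ
  haveI hQn : Q.Normal := hQ ▸ Cfsg.Agent.Lib.Helper16.pCore_normal
  have hQS : Q ≤ (S : Subgroup X) := hQ ▸ Cfsg.Agent.Lib.Helper16.pCore_le_sylow S
  have hle_Q : ∀ N : Subgroup X, N.Normal → IsPGroup 2 N → N ≤ Q :=
    fun N h1 h2 => hQ ▸ Cfsg.H5.le_pCore h1 h2
  obtain ⟨ZQ, hZQ⟩ : ∃ ZQ : Subgroup X, ZQ = Q ⊓ Subgroup.centralizer (Q : Set X) := ⟨_, rfl⟩
  have hZQn : ZQ.Normal := by rw [hZQ]; exact Subgroup.normal_inf_normal _ _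
  have hxZQ : x ∈ ZQ := by
    rw [hZQ]
    exact Subgroup.mem_inf.mpr ⟨hxQ, Subgroup.centralizer_le (SetLike.coe_subset_coe.mpr hQS) hxC⟩
  -- the normal closure of `x`
  obtain ⟨V, hV⟩ : ∃ V : Subgroup X, V = Subgroup.normalClosure {x} := ⟨_, rfl⟩
  haveI hVn : V.Normal := hV ▸ Subgroup.normalClosure_normal
  have hxV : x ∈ V := hV ▸ Subgroup.subset_normalClosure (Set.mem_singleton x)
  have hVle : ∀ N : Subgroup X, N.Normal → x ∈ N → V ≤ N := by
    intro N hN hxN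
    rw [hV]
    apply Subgroup.normalClosure_le_normal
    intro y hy
    rw [Set.mem_singleton_iff] at hy
    rw [hy]; exact hxN
  have hVZQ : V ≤ ZQ := hVle ZQ hZQn hxZQ
  have hVQ : V ≤ Q := hVZQ.trans (hZQ ▸ inf_le_left)
  have hVS : V ≤ (S : Subgroup X) := hVQ.trans hQS
  have hVab : ∀ a ∈ V, ∀ b ∈ V, a * b = b * a := by
    intro a ha b hb
    have ha' := hVZQ ha
    have hb' := hVZQ hb
    rw [hZQ] at ha' hb'
    exact Subgroup.mem_centralizer_iff.mp (Subgroup.mem_inf.mp hb').2 a (Subgroup.mem_inf.mp ha').1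
  have hV2 : IsPGroup 2 V := S.isPGroup'.to_le hVS
  haveI hVc : IsMulCommutative ↥V := (isMulCommutative_iff_forall V).mpr hVab
  -- the centralizer of `V`
  have hCn : (Subgroup.centralizer (V : Set X)).Normal := inferInstance
  have hCM : Subgroup.centralizer (V : Set X) ≤ M := by
    intro c hc
    rw [Subgroup.mem_centralizer_iff] at hc
    exact (hmemM c).mpr (hc x hxV)
  have hQC : Q ≤ Subgroup.centralizer (V : Set X) := by
    rw [Subgroup.le_centralizer_iff]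
    exact hVZQ.trans (hZQ ▸ inf_le_right)
  have hcore : ∀ R : Subgroup X, R.Normal → R ≤ M → R ≤ Subgroup.centralizer (V : Set X) := by
    intro R hRn hRM
    rw [Subgroup.le_centralizer_iff]
    haveI := hRn
    apply hVle _ inferInstance
    rw [Subgroup.mem_centralizer_iff]
    intro r hr
    exact ((hmemM r).mp (hRM hr)).symm
  -- an abelian subgroup of largest order not centralizing `V`
  have hexB : ∃ B : Subgroup X, IsMaxAbIn (S : Subgroup X) B ∧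
      ¬ B ≤ Subgroup.centralizer (V : Set X) := by
    by_contra hcon
    push Not at hcon
    obtain ⟨P, hP⟩ : ∃ P : Subgroup X, P = (S : Subgroup X) ⊓ Subgroup.centralizer (V : Set X) :=
      ⟨_, rfl⟩
    have hPS : P ≤ (S : Subgroup X) := hP ▸ inf_le_left
    have hSN : (S : Subgroup X) ≤ Subgroup.normalizer (P : Set X) := by
      intro s hs
      apply mem_normalizer_of_conj_mem
      intro t ht
      rw [hP] at ht ⊢
      obtain ⟨ht1, ht2⟩ := Subgroup.mem_inf.mp ht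
      exact Subgroup.mem_inf.mpr ⟨Subgroup.mul_mem _ (Subgroup.mul_mem _ hs ht1)
        (Subgroup.inv_mem _ hs), hCn.conj_mem t ht2 s⟩
    have hNtop : Subgroup.normalizer (P : Set X) = ⊤ := by
      by_contra hne
      have hNM := hmax _ hSN hne
      apply hMne
      rw [eq_top_iff]
      intro g _
      obtain ⟨a, ha, c, hc, rfl⟩ := Cfsg.Agent.Lib.Helper16.frattini_inf_normal S
        (Subgroup.centralizer (V : Set X)) g
      rw [← hP] at ha
      exact M.mul_mem (hNM ha) (hCM hc)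
    haveI hPn : P.Normal := Subgroup.normalizer_eq_top_iff.mp hNtop
    exact hJ (thompsonSubgroupAOf_normal_of_le (S : Subgroup X) P hPS
      (fun B hB => by rw [hP]; exact le_inf hB.1 (hcon B hB)))
  obtain ⟨B, hB, hBC⟩ := hexB
  obtain ⟨A₀, hA₀, hVA₀, hA₀C⟩ := replacement_maxAb (p := 2) S.isPGroup' hVS hVab hB
  have hA₀C' : ¬ A₀ ≤ Subgroup.centralizer (V : Set X) := fun h => hBC (hA₀C h)
  -- the family
  obtain ⟨𝔉₀, h𝔉₀⟩ : ∃ 𝔉₀ : Set (Subgroup X), 𝔉₀ = {A | IsMaxAbIn (S : Subgroup X) A ∧ ⁅V, A⁆ ≤ A ∧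
      ¬ A ≤ Subgroup.centralizer (V : Set X)} := ⟨_, rfl⟩
  have hmem𝔉₀ : ∀ A, A ∈ 𝔉₀ ↔ IsMaxAbIn (S : Subgroup X) A ∧ ⁅V, A⁆ ≤ A ∧
      ¬ A ≤ Subgroup.centralizer (V : Set X) := by
    intro A; rw [h𝔉₀]; rfl
  obtain ⟨A, hA𝔉₀, hAmax⟩ := Set.exists_max_image 𝔉₀ (fun A => Nat.card ↥(A ⊓ V)) (Set.toFinite _)
    ⟨A₀, (hmem𝔉₀ A₀).mpr ⟨hA₀, hVA₀, hA₀C'⟩⟩
  obtain ⟨hAmaxab, hVA, hAC⟩ := (hmem𝔉₀ A).mp hA𝔉₀
  obtain ⟨𝔉, h𝔉⟩ : ∃ 𝔉 : Set (Subgroup X), 𝔉 = {A' | A' ∈ 𝔉₀ ∧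
      Nat.card ↥(A' ⊓ V) = Nat.card ↥(A ⊓ V)} := ⟨_, rfl⟩
  have hmem𝔉 : ∀ A', A' ∈ 𝔉 ↔ A' ∈ 𝔉₀ ∧ Nat.card ↥(A' ⊓ V) = Nat.card ↥(A ⊓ V) := by
    intro A'; rw [h𝔉]; rfl
  have hA𝔉 : A ∈ 𝔉 := (hmem𝔉 A).mpr ⟨hA𝔉₀, rfl⟩
  have hno2 : ∀ A' ∈ 𝔉, ∀ v ∈ V,
      2 * Nat.card ↥(A' ⊓ Subgroup.centralizer ({v} : Set X)) ≠ Nat.card A' := by
    intro A' hA' v hv
    obtain ⟨hA'0, hA'card⟩ := (hmem𝔉 A').mp hA'
    obtain ⟨h1, h2, h3⟩ := (hmem𝔉₀ A').mp hA'0
    apply no_two_orbit hfree S V hVS hVab M hSM hCM hcore A' h1 h2 h3 _ v hv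
    intro A'' g1 g2 g3
    rw [hA'card]
    exact hAmax A'' ((hmem𝔉₀ A'').mpr ⟨g1, g2, g3⟩)
  obtain ⟨W₀, hW₀⟩ : ∃ W₀ : Subgroup X, W₀ = sSup 𝔉 := ⟨_, rfl⟩
  have h𝔉S : ∀ A' ∈ 𝔉, A' ≤ (S : Subgroup X) :=
    fun A' hA' => ((hmem𝔉₀ A').mp ((hmem𝔉 A').mp hA').1).1.1
  have h𝔉W : ∀ A' ∈ 𝔉, A' ≤ W₀ := fun A' hA' => by rw [hW₀]; exact le_sSup hA'
  have hW₀S : W₀ ≤ (S : Subgroup X) := by rw [hW₀]; exact sSup_le h𝔉S
  have hW₀p : IsPGroup 2 W₀ := S.isPGroup'.to_le hW₀S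
  have hAW₀ : A ≤ W₀ := h𝔉W A hA𝔉
  -- conjugation invariance of the family
  have hVconj : ∀ g : X, V.map (MulAut.conj g).toMonoidHom = V := fun g =>
    (map_conj_eq_self_iff_mem_normalizer V g).mpr
      (by rw [Subgroup.normalizer_eq_top_iff.mpr hVn]; trivial)
  have hinv : ∀ g : X, ∀ A' ∈ 𝔉, A'.map (MulAut.conj g).toMonoidHom ≤ (S : Subgroup X) →
      A'.map (MulAut.conj g).toMonoidHom ∈ 𝔉 := by
    intro g A' hA' hle
    obtain ⟨hA'0, hA'card⟩ := (hmem𝔉 A').mp hA'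
    obtain ⟨h1, h2, h3⟩ := (hmem𝔉₀ A').mp hA'0
    rw [hmem𝔉, hmem𝔉₀]
    refine ⟨⟨⟨hle, ?_, ?_⟩, ?_, ?_⟩, ?_⟩
    · rintro _ ⟨a, ha, rfl⟩ _ ⟨b, hb, rfl⟩
      have hab := h1.2.1 a ha b hb
      show g * a * g⁻¹ * (g * b * g⁻¹) = g * b * g⁻¹ * (g * a * g⁻¹)
      calc g * a * g⁻¹ * (g * b * g⁻¹) = g * (a * b) * g⁻¹ := by group
        _ = g * (b * a) * g⁻¹ := by rw [hab]
        _ = g * b * g⁻¹ * (g * a * g⁻¹) := by group
    · intro C' hC' hCc
      rw [card_map_conj]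
      exact h1.2.2 C' hC' hCc
    · rw [Subgroup.commutator_le]
      intro u hu y hy
      obtain ⟨a, ha, rfl⟩ := hy
      have hu' : g⁻¹ * u * g ∈ V := by
        have := hVn.conj_mem u hu g⁻¹
        rwa [inv_inv] at this
      have h4 : ⁅g⁻¹ * u * g, a⁆ ∈ A' := h2 (Subgroup.commutator_mem_commutator hu' ha)
      have e : ⁅u, (MulAut.conj g).toMonoidHom a⁆ = g * ⁅g⁻¹ * u * g, a⁆ * g⁻¹ := by
        rw [commutatorElement_def, commutatorElement_def]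
        show u * (g * a * g⁻¹) * u⁻¹ * (g * a * g⁻¹)⁻¹ = _
        group
      rw [e]
      exact conj_mem_map_conj A' g h4
    · intro hle'
      apply h3
      intro a ha
      have h5 := hle' (conj_mem_map_conj A' g ha)
      have h6 := hCn.conj_mem _ h5 g⁻¹
      have e2 : g⁻¹ * (g * a * g⁻¹) * g⁻¹⁻¹ = a := by group
      rw [e2] at h6
      exact h6
    · rw [← hA'card]
      have e : A'.map (MulAut.conj g).toMonoidHom ⊓ V = (A' ⊓ V).map (MulAut.conj g).toMonoidHom := by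
        rw [Subgroup.map_inf _ _ _ (MulAut.conj g).injective, hVconj]
      rw [e, card_map_conj]
  have hnormW : ∀ g : X, (∀ A' ∈ 𝔉, A'.map (MulAut.conj g).toMonoidHom ≤ (S : Subgroup X)) →
      g ∈ Subgroup.normalizer (W₀ : Set X) := by
    intro g hg
    apply mem_normalizer_of_conj_mem
    have h1 : sSup 𝔉 ≤ W₀.comap (MulAut.conj g).toMonoidHom := by
      apply sSup_le
      intro A' hA'
      rw [← Subgroup.map_le_iff_le_comap]
      exact h𝔉W _ (hinv g A' hA' (hg A' hA'))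
    intro t ht
    exact h1 ((le_of_eq hW₀) ht)
  have hSNW : (S : Subgroup X) ≤ Subgroup.normalizer (W₀ : Set X) := by
    intro s hs
    apply hnormW
    intro A' hA'
    rw [map_conj_le_iff]
    intro y hy
    exact Subgroup.mul_mem _ (Subgroup.mul_mem _ hs (h𝔉S A' hA' hy)) (Subgroup.inv_mem _ hs)
  have hNWne : Subgroup.normalizer (W₀ : Set X) ≠ ⊤ := by
    intro h
    have hWn : W₀.Normal := Subgroup.normalizer_eq_top_iff.mp h
    exact hAC (hAW₀.trans ((hle_Q W₀ hWn hW₀p).trans hQC))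
  have hNWM : Subgroup.normalizer (W₀ : Set X) ≤ M := hmax _ hSNW hNWne
  have hW₀M : W₀ ≤ M := hW₀S.trans hSM
  have hfix : ∀ y : X, (∀ w ∈ W₀, y⁻¹ * w * y ∈ M) → y ∈ M := by
    intro y hy
    have hB : W₀.map (MulAut.conj y⁻¹).toMonoidHom ≤ M := by
      rw [map_conj_le_iff]
      intro w hw
      simpa using hy w hw
    obtain ⟨m, hmM, hmc⟩ := exists_conj_le_of_relIndex M (S : Subgroup X)
      (W₀.map (MulAut.conj y⁻¹).toMonoidHom) S.isPGroup' (sylow_not_dvd_relIndex S M hSM) hB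
      (hW₀p.map _)
    have hg : m * y⁻¹ ∈ Subgroup.normalizer (W₀ : Set X) := by
      apply hnormW
      intro A' hA'
      rw [map_conj_le_iff]
      intro a ha
      have h1 := hmc _ (conj_mem_map_conj W₀ y⁻¹ (h𝔉W A' hA' ha))
      have e : m * y⁻¹ * a * (m * y⁻¹)⁻¹ = m * (y⁻¹ * a * y⁻¹⁻¹) * m⁻¹ := by group
      rw [e]; exact h1
    have h2 := hNWM hg
    have e : y = (m * y⁻¹)⁻¹ * m := by group
    rw [e]; exact M.mul_mem (M.inv_mem h2) hmM
  -- a maximal normal subgroup `Y` with `V ∩ Z(X) ≤ Y < V`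
  obtain ⟨C₀, hC₀⟩ : ∃ C₀ : Subgroup X, C₀ = V ⊓ Subgroup.center X := ⟨_, rfl⟩
  have hC₀n : C₀.Normal := by rw [hC₀]; exact Subgroup.normal_inf_normal _ _
  have hC₀lt : C₀ < V := by
    refine lt_of_le_of_ne (hC₀ ▸ inf_le_left) ?_
    intro heq
    apply hxcen
    have hx0 : x ∈ C₀ := heq ▸ hxV
    rw [hC₀] at hx0
    exact (Subgroup.mem_inf.mp hx0).2
  let s : Set (Subgroup X) := {N | N.Normal ∧ C₀ ≤ N ∧ N < V}
  have hs : s.Nonempty := ⟨C₀, hC₀n, le_rfl, hC₀lt⟩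
  obtain ⟨Y, hYs, hYmax⟩ := wellFounded_gt.has_min s hs
  obtain ⟨hYn, hC₀Y, hYlt⟩ := hYs
  haveI := hYn
  have hchief : ∀ N : Subgroup X, N.Normal → Y ≤ N → N ≤ V → N = Y ∨ N = V := by
    intro N hNn hYN hNV
    by_cases hNeq : N = V
    · right; exact hNeq
    · left
      have hNs : N ∈ s := ⟨hNn, hC₀Y.trans hYN, lt_of_le_of_ne hNV hNeq⟩
      have h1 := hYmax N hNs
      by_contra hne
      exact h1 (lt_of_le_of_ne hYN (Ne.symm hne))
  have hexp : ∀ v ∈ V, v * v ∈ Y := by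
    intro v hv
    have h1 := Cfsg.Agent.S2006.chief_exp (p := 2) V Y hVn hYlt hchief hV2 (QuotientGroup.mk' Y v)
      (Subgroup.mem_map_of_mem _ hv)
    rw [← map_pow] at h1
    have h2 := (QuotientGroup.eq_one_iff _).mp h1
    rwa [pow_two] at h2
  -- the product over all cosets of `M`
  have : Fintype (X ⧸ M) := Fintype.ofFinite _
  obtain ⟨cjf, hcjf, hncen⟩ := exists_cjf V x hxV M hM
  obtain ⟨ψ, hψ⟩ : ∃ ψ : ↥V →* ↥V ⧸ (Y.subgroupOf V), ψ = QuotientGroup.mk' _ := ⟨_, rfl⟩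
  have hψker : ∀ y : ↥V, ψ y = 1 ↔ (y : X) ∈ Y := by
    intro y
    rw [hψ, QuotientGroup.mk'_apply, QuotientGroup.eq_one_iff, Subgroup.mem_subgroupOf]
  obtain ⟨F, hF⟩ : ∃ F : X ⧸ M → ↥V ⧸ (Y.subgroupOf V), F = fun q => ψ (cjf q) := ⟨_, rfl⟩
  have hkey : ∏ q : X ⧸ M, F q = F ((1 : X) : X ⧸ M) := by
    apply prod_eq_of_family (Wg := ↥W₀) (p := 2) hW₀p F
      ((fun A' : Subgroup X => A'.subgroupOf W₀) '' 𝔉)
    · intro K hK
      rw [eq_top_iff]
      have h0 : ∀ A' ∈ 𝔉, A' ≤ K.map W₀.subtype := by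
        intro A' hA' a ha
        exact ⟨⟨a, h𝔉W A' hA' ha⟩, hK _ ⟨A', hA', rfl⟩ (Subgroup.mem_subgroupOf.mpr ha), rfl⟩
      have h1 : W₀ ≤ K.map W₀.subtype := (le_of_eq hW₀).trans (sSup_le h0)
      intro g _
      obtain ⟨k, hk, hkg⟩ := h1 g.2
      have hkg' : k = g := Subtype.ext hkg
      rw [← hkg']; exact hk
    · rintro _ ⟨A', hA', rfl⟩ ω hω inst
      have hω' : ∃ a ∈ A', a • ω ≠ ω := by
        obtain ⟨b, hb, h⟩ := hω
        exact ⟨(b : X), Subgroup.mem_subgroupOf.mp hb, h⟩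
      obtain ⟨hA'0, -⟩ := (hmem𝔉 A').mp hA'
      obtain ⟨g1, g2, g3⟩ := (hmem𝔉₀ A').mp hA'0
      have h1 := orbit_prod_eq_one V Y hexp x hxV M hM A' (S.isPGroup'.to_le g1.1) g1.2.1 g2
        (hno2 A' hA') cjf hcjf ω hω'
      refine Eq.trans ?_ h1
      apply Finset.prod_congr ?_ ?_
      · ext y
        simp only [Finset.mem_filter, Finset.mem_univ, true_and]
        constructor
        · rintro ⟨b, hb, h⟩
          exact ⟨(b : X), Subgroup.mem_subgroupOf.mp hb, h⟩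
        · rintro ⟨a, ha, h⟩
          exact ⟨⟨a, h𝔉W A' hA' ha⟩, Subgroup.mem_subgroupOf.mpr ha, h⟩
      · intro y _
        rw [hF, hψ]
    · intro ω
      induction ω using QuotientGroup.induction_on with
      | H c =>
        constructor
        · intro h
          have hxM : c ∈ M := by
            apply hfix
            intro w hw
            have h1 := h ⟨w, hw⟩
            have h2 : (((w * c : X)) : X ⧸ M) = ((c : X) : X ⧸ M) := h1
            have h3 := QuotientGroup.eq.mp h2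
            have e : c⁻¹ * w * c = ((w * c)⁻¹ * c)⁻¹ := by group
            rw [e]; exact M.inv_mem h3
          apply QuotientGroup.eq.mpr
          simpa using M.inv_mem hxM
        · intro h g
          have hxM : c ∈ M := by
            have := QuotientGroup.eq.mp h
            simpa using M.inv_mem this
          show ((((g : X) * c : X)) : X ⧸ M) = ((c : X) : X ⧸ M)
          apply QuotientGroup.eq.mpr
          exact M.mul_mem (M.inv_mem (M.mul_mem (hW₀M g.2) hxM)) hxM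
  have hF1 : F ((1 : X) : X ⧸ M) = ψ ⟨x, hxV⟩ := by
    rw [hF]
    show ψ (cjf ((1 : X) : X ⧸ M)) = _
    rw [hcjf]
    apply congrArg ψ
    apply Subtype.ext
    simp
  obtain ⟨n, hn⟩ : ∃ n : ↥V, n = ∏ q : X ⧸ M, cjf q := ⟨_, rfl⟩
  rw [← hn] at hncen
  have hψn : ψ n = ∏ q : X ⧸ M, F q := by
    rw [hn, map_prod, hF]
  have hnY : (n : X) ∈ Y := hC₀Y (by rw [hC₀]; exact Subgroup.mem_inf.mpr ⟨n.2, hncen⟩)
  have h5 : ψ ⟨x, hxV⟩ = 1 := by
    rw [← hF1, ← hkey, ← hψn]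
    exact (hψker n).mpr hnY
  have hxY : x ∈ Y := (hψker ⟨x, hxV⟩).mp h5
  exact (not_le_of_gt hYlt) (hVle Y hYn hxY)

end Cfsg.Agent.Lib.Helper18.GlaubermanTwo
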