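import Mathlib
import Cfsg.Prelude.Def_ConjugacyFunctors
import Cfsg.Prelude.Def_Amalgam
import Cfsg.Agent.Lib.Helper18.FusionCR
import Cfsg.Agent.Lib.Helper13.RelSylow
import Cfsg.Agent.Lib.Helper13.SylowRel
import Cfsg.Agent.Lib.Helper17.CharP

/-!
# Weak closure of central subgroups and conjugacy functors: reduction to the normal case

* `agp_threshold`: the centric-radical Alperin-Goldschmidt principle for subgroups of order `> t`;
* `agp_rel`: the same inside a subgroup `H` of `G`, with a relative Sylow subgroup `T` of `H`;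
* `reduction`: `W` a conjugacy functor with `Z(P) ≤ W(P)`, `𝒵` a selector of central subgroups
  (`𝒵 P ≤ Z(P)`, monotone); if the weak-closure property `WCl` holds in all proper subgroups of `H`, and
  `A ≤ 𝒵 T` is normalized by `N_H(W T)`, then `A` is weakly closed in `T` with respect to `H`, provided the
  "normal case" is settled: if `Z(T) ≤ O_p(H)` and all proper overgroups of `T` normalize `A` then `A ⊴ H`.
-/

set_option autoImplicit false

namespace Cfsg.Agent.Lib.Helper18.WeakClosure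

open Cfsg Cfsg.Agent.Lib.Helper13 Cfsg.Agent.Lib.Helper18.FusionCR

variable {G : Type*} [Group G]

section finite

variable [Finite G] {p : ℕ} [Fact p.Prime]

/-- the Alperin-Goldschmidt principle above a threshold -/
theorem agp_threshold (S : Sylow p G) (M : Subgroup G) (t : ℕ)
    (hM : ∀ U : Subgroup G, U ≤ (S : Subgroup G) → t < Nat.card U → IsFN p (S : Subgroup G) U →
      IsCR p (S : Subgroup G) U →
      ∀ x ∈ Subgroup.normalizer (U : Set G), ∃ m ∈ M, ∀ u ∈ U, m * u * m⁻¹ = x * u * x⁻¹) :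
    ∀ (T : Subgroup G) (g : G), T ≤ (S : Subgroup G) → t < Nat.card T →
      (∀ y ∈ T, g * y * g⁻¹ ∈ (S : Subgroup G)) →
      ∃ m ∈ M, ∀ y ∈ T, m * y * m⁻¹ = g * y * g⁻¹ := by
  have key : ∀ (n : ℕ) (T : Subgroup G) (g : G), T ≤ (S : Subgroup G) → t < Nat.card T →
      (∀ y ∈ T, g * y * g⁻¹ ∈ (S : Subgroup G)) → Nat.card (S : Subgroup G) - Nat.card T = n →
      ∃ m ∈ M, ∀ y ∈ T, m * y * m⁻¹ = g * y * g⁻¹ := by
    intro n
    induction n using Nat.strong_induction_on with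
    | _ n ih =>
    intro T g hTS htT hTg hn
    by_cases hT : T = (S : Subgroup G)
    · subst hT
      exact hM _ le_rfl htT (isFN_sylow S) (isCR_self _) g (mem_normalizer_of_conj_mem _ hTg)
    · have hTlt : T < (S : Subgroup G) := lt_of_le_of_ne hTS hT
      have IH : ∀ (V : Subgroup G) (b : G), V ≤ (S : Subgroup G) → (∀ v ∈ V, b * v * b⁻¹ ∈ (S : Subgroup G)) →
          Nat.card T < Nat.card V → ∃ m ∈ M, ∀ v ∈ V, m * v * m⁻¹ = b * v * b⁻¹ := by
        intro V b hVS hVb hcard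
        have hVle : Nat.card V ≤ Nat.card (S : Subgroup G) := Subgroup.card_le_of_le hVS
        have hTle : Nat.card T ≤ Nat.card (S : Subgroup G) := Subgroup.card_le_of_le hTS
        exact ih (Nat.card (S : Subgroup G) - Nat.card V) (by omega) V b hVS (lt_trans htT hcard) hVb rfl
      obtain ⟨n0, hn0S, hn0FN⟩ := exists_conj_normalizer_sylow S T
      obtain ⟨U, hUdef⟩ : ∃ U : Subgroup G, U = T.map (MulAut.conj n0).toMonoidHom := ⟨_, rfl⟩
      rw [← hUdef] at hn0FN
      have hUFN : IsFN p (S : Subgroup G) U := hn0FN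
      have hUS : U ≤ (S : Subgroup G) := by
        rw [hUdef]
        exact (Subgroup.map_mono (le_inf hTS Subgroup.le_normalizer)).trans hn0S
      have hUcard : Nat.card U = Nat.card T := by rw [hUdef]; exact card_map_conj _ _
      obtain ⟨a1, ha1, ha1N⟩ := Cfsg.Agent.S1965.step_X S U T n0 hn0FN hUdef.symm
      have hNT : T < (S : Subgroup G) ⊓ Subgroup.normalizer (T : Set G) :=
        lt_inf_normalizer_of_lt (S : Subgroup G) T S.isPGroup' hTlt
      obtain ⟨m1, hm1M, hm1⟩ := IH _ a1 inf_le_left (fun v hv => (Subgroup.mem_inf.mp (ha1N v hv)).1)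
        (card_lt_card_of_lt hNT)
      obtain ⟨T2, hT2⟩ : ∃ T2 : Subgroup G, T2 = T.map (MulAut.conj g).toMonoidHom := ⟨_, rfl⟩
      have hT2S : T2 ≤ (S : Subgroup G) := by
        rw [hT2, map_conj_le_iff]; exact hTg
      have hT2card : Nat.card T2 = Nat.card T := by rw [hT2]; exact card_map_conj _ _
      have hT2ne : T2 ≠ (S : Subgroup G) := by
        intro heq
        have h1 : Nat.card T < Nat.card (S : Subgroup G) := card_lt_card_of_lt hTlt
        rw [← heq, hT2card] at h1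
        exact lt_irrefl _ h1
      have hT2lt : T2 < (S : Subgroup G) := lt_of_le_of_ne hT2S hT2ne
      have hT2U : T2.map (MulAut.conj (n0 * g⁻¹)).toMonoidHom = U := by
        rw [hT2, ← map_conj_mul, hUdef]
        have : n0 * g⁻¹ * g = n0 := by group
        rw [this]
      obtain ⟨a2, ha2, ha2N⟩ := Cfsg.Agent.S1965.step_X S U T2 (n0 * g⁻¹) hn0FN hT2U
      have hNT2 : T2 < (S : Subgroup G) ⊓ Subgroup.normalizer (T2 : Set G) :=
        lt_inf_normalizer_of_lt (S : Subgroup G) T2 S.isPGroup' hT2lt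
      obtain ⟨m2, hm2M, hm2⟩ := IH _ a2 inf_le_left (fun v hv => (Subgroup.mem_inf.mp (ha2N v hv)).1)
        (by rw [← hT2card]; exact card_lt_card_of_lt hNT2)
      obtain ⟨mid, hmid⟩ : ∃ mid : G, mid = a2 * g * a1⁻¹ := ⟨_, rfl⟩
      have hmidN : mid ∈ Subgroup.normalizer (U : Set G) := by
        rw [← map_conj_eq_self_iff_mem_normalizer]
        have e1 : U.map (MulAut.conj a1⁻¹).toMonoidHom = T := by
          rw [← ha1, map_conj_inv_map_conj]
        rw [hmid, map_conj_mul, map_conj_mul, e1, ← hT2, ha2]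
      have hmidM : ∃ m ∈ M, ∀ u ∈ U, m * u * m⁻¹ = mid * u * mid⁻¹ := by
        by_cases hCR : IsCR p (S : Subgroup G) U
        · exact hM U hUS (hUcard ▸ htT) hUFN hCR mid hmidN
        · unfold IsCR at hCR
          push Not at hCR
          obtain ⟨K, hK, hKU⟩ := hCR
          obtain ⟨c, hc, y, hy, hxy⟩ := frattini_pover S hUFN hK hmidN
          obtain ⟨hyU, hyR⟩ := Subgroup.mem_inf.mp hy
          obtain ⟨U', hU'⟩ : ∃ U' : Subgroup G, U' = U ⊔ ((S : Subgroup G) ⊓ K) := ⟨_, rfl⟩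
          have hU'S : U' ≤ (S : Subgroup G) := by rw [hU']; exact sup_le hUS inf_le_left
          have hUlt : U < U' := by
            rw [hU']
            refine lt_of_le_of_ne le_sup_left ?_
            intro heq
            apply hKU
            rw [heq]; exact le_sup_right
          have hyU' : y ∈ Subgroup.normalizer (U' : Set G) := by
            rw [← map_conj_eq_self_iff_mem_normalizer, hU', Subgroup.map_sup,
              (map_conj_eq_self_iff_mem_normalizer U y).mpr hyU,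
              (map_conj_eq_self_iff_mem_normalizer _ y).mpr hyR]
          have hyconj : ∀ v ∈ U', y * v * y⁻¹ ∈ (S : Subgroup G) := fun v hv =>
            hU'S ((Subgroup.mem_normalizer_iff.mp hyU' v).mp hv)
          obtain ⟨my, hmyM, hmy⟩ := IH U' y hU'S hyconj (by rw [← hUcard]; exact card_lt_card_of_lt hUlt)
          refine ⟨my, hmyM, ?_⟩
          intro u hu
          rw [hmy u (hUlt.le hu), hxy]
          have hyu : y * u * y⁻¹ ∈ U := (Subgroup.mem_normalizer_iff.mp hyU u).mp hu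
          have h1 := Subgroup.mem_centralizer_iff.mp hc _ hyu
          calc y * u * y⁻¹ = (y * u * y⁻¹) * c * c⁻¹ := by group
            _ = c * (y * u * y⁻¹) * c⁻¹ := by rw [h1]
            _ = c * y * u * (c * y)⁻¹ := by group
      obtain ⟨mm, hmmM, hmm⟩ := hmidM
      refine ⟨m2⁻¹ * mm * m1, M.mul_mem (M.mul_mem (M.inv_mem hm2M) hmmM) hm1M, ?_⟩
      intro v hv
      have htN : v ∈ (S : Subgroup G) ⊓ Subgroup.normalizer (T : Set G) := hNT.le hv
      have h1 := hm1 v htN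
      have hu1 : a1 * v * a1⁻¹ ∈ U := by
        rw [← ha1]; exact conj_mem_map_conj T a1 hv
      have h2 := hmm _ hu1
      have ht2 : g * v * g⁻¹ ∈ T2 := by
        rw [hT2]; exact conj_mem_map_conj T g hv
      have h3 := hm2 _ (hNT2.le ht2)
      have e : mid * (a1 * v * a1⁻¹) * mid⁻¹ = a2 * (g * v * g⁻¹) * a2⁻¹ := by
        rw [hmid]; group
      calc m2⁻¹ * mm * m1 * v * (m2⁻¹ * mm * m1)⁻¹
          = m2⁻¹ * (mm * (m1 * v * m1⁻¹) * mm⁻¹) * m2 := by group
        _ = m2⁻¹ * (m2 * (g * v * g⁻¹) * m2⁻¹) * m2 := by rw [h1, h2, e, h3]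
        _ = g * v * g⁻¹ := by group
  intro T g hTS htT hTg
  exact key _ T g hTS htT hTg rfl

/-- the Alperin-Goldschmidt principle inside a subgroup `H`, for fully normalized centric subgroups of a
relative Sylow subgroup `T` of `H` -/
theorem agp_rel (H T M : Subgroup G) (hTH : T ≤ H) (hTp : IsPGroup p T) (hTi : ¬ p ∣ T.relIndex H) (t : ℕ)
    (hM : ∀ U : Subgroup G, U ≤ T → t < Nat.card U →
      ¬ p ∣ (T ⊓ Subgroup.normalizer (U : Set G)).relIndex (H ⊓ Subgroup.normalizer (U : Set G)) →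
      T ⊓ Subgroup.centralizer (U : Set G) ≤ U →
      ∀ x ∈ H ⊓ Subgroup.normalizer (U : Set G), ∃ m ∈ M ⊓ H, ∀ u ∈ U, m * u * m⁻¹ = x * u * x⁻¹) :
    ∀ (T' : Subgroup G) (g : G), T' ≤ T → t < Nat.card T' → g ∈ H → (∀ y ∈ T', g * y * g⁻¹ ∈ T) →
      ∃ m ∈ M, ∀ y ∈ T', m * y * m⁻¹ = g * y * g⁻¹ := by
  have hS'p : IsPGroup p (T.subgroupOf H) := hTp.comap_subtype
  let S' : Sylow p ↥H := hS'p.toSylow hTi
  have hS' : (S' : Subgroup ↥H) = T.subgroupOf H := rfl
  have hinj : Function.Injective H.subtype := H.subtype_injective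
  have key := agp_threshold S' (M.subgroupOf H) t (by
    intro U' hU'S htU' hFN hCR x' hx'
    obtain ⟨U, hU⟩ : ∃ U : Subgroup G, U = U'.map H.subtype := ⟨_, rfl⟩
    have hUH : U ≤ H := hU ▸ Subgroup.map_subtype_le _
    have hU' : U' = U.subgroupOf H := by
      rw [hU]; exact (Subgroup.comap_map_eq_self_of_injective hinj U').symm
    have hUT : U ≤ T := by
      rw [hU]
      rintro _ ⟨y, hy, rfl⟩
      exact Subgroup.mem_subgroupOf.mp (hU'S hy)
    have hcard : Nat.card U = Nat.card U' := by rw [hU]; exact Subgroup.card_map_of_injective hinj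
    have hN : Subgroup.normalizer ((U' : Subgroup ↥H) : Set ↥H) =
        (Subgroup.normalizer (U : Set G)).subgroupOf H := by
      rw [hU', Subgroup.subgroupOf_normalizer_eq hUH]
    have hFN' : ¬ p ∣ (T ⊓ Subgroup.normalizer (U : Set G)).relIndex (H ⊓ Subgroup.normalizer (U : Set G)) := by
      intro hdvd
      apply hFN
      rw [hS', hN]
      have e1 : T.subgroupOf H ⊓ (Subgroup.normalizer (U : Set G)).subgroupOf H =
          (T ⊓ Subgroup.normalizer (U : Set G)).subgroupOf H := by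
        ext y; simp [Subgroup.mem_subgroupOf]
      have e2 : (Subgroup.normalizer (U : Set G)).subgroupOf H =
          (H ⊓ Subgroup.normalizer (U : Set G)).subgroupOf H := (Subgroup.inf_subgroupOf_left _ _).symm
      rw [e1, e2, Subgroup.relIndex_subgroupOf inf_le_left]
      exact hdvd
    have hcen : T ⊓ Subgroup.centralizer (U : Set G) ≤ U := by
      intro y hy
      obtain ⟨hyT, hyC⟩ := Subgroup.mem_inf.mp hy
      have h1 : (⟨y, hTH hyT⟩ : ↥H) ∈ (S' : Subgroup ↥H) ⊓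
          Subgroup.centralizer ((U' : Subgroup ↥H) : Set ↥H) := by
        refine Subgroup.mem_inf.mpr ⟨Subgroup.mem_subgroupOf.mpr hyT, ?_⟩
        rw [Subgroup.mem_centralizer_iff]
        intro u hu
        apply Subtype.ext
        have huU : (u : G) ∈ U := by rw [hU]; exact ⟨u, hu, rfl⟩
        exact Subgroup.mem_centralizer_iff.mp hyC _ huU
      have h2 := isCR_centric hCR h1
      rw [hU]
      exact ⟨_, h2, rfl⟩
    have hx : (x' : G) ∈ H ⊓ Subgroup.normalizer (U : Set G) := by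
      refine Subgroup.mem_inf.mpr ⟨x'.2, ?_⟩
      rw [hN] at hx'
      exact Subgroup.mem_subgroupOf.mp hx'
    obtain ⟨m, hm, hmu⟩ := hM U hUT (hcard ▸ htU') hFN' hcen (x' : G) hx
    obtain ⟨hmM, hmH⟩ := Subgroup.mem_inf.mp hm
    refine ⟨⟨m, hmH⟩, Subgroup.mem_subgroupOf.mpr hmM, ?_⟩
    intro u hu
    apply Subtype.ext
    have huU : (u : G) ∈ U := by rw [hU]; exact ⟨u, hu, rfl⟩
    exact hmu _ huU)
  intro T' g hT'T htT' hgH hT'g
  have hT'H : T' ≤ H := hT'T.trans hTH
  have hc : Nat.card (T'.subgroupOf H) = Nat.card T' := by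
    have h1 : (T'.subgroupOf H).map H.subtype = T' := by
      rw [Subgroup.subgroupOf_map_subtype, inf_eq_left.mpr hT'H]
    rw [← Subgroup.card_map_of_injective hinj (K := T'.subgroupOf H), h1]
  obtain ⟨m', hm', hm'y⟩ := key (T'.subgroupOf H) ⟨g, hgH⟩
    (by
      intro y hy
      rw [hS', Subgroup.mem_subgroupOf]
      exact hT'T (Subgroup.mem_subgroupOf.mp hy))
    (hc ▸ htT')
    (by
      intro y hy
      rw [hS', Subgroup.mem_subgroupOf]
      exact hT'g _ (Subgroup.mem_subgroupOf.mp hy))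
  refine ⟨(m' : G), Subgroup.mem_subgroupOf.mp hm', ?_⟩
  intro y hy
  have := hm'y ⟨y, hT'H hy⟩ (Subgroup.mem_subgroupOf.mpr hy)
  exact congrArg Subtype.val this

/-- some `H`-conjugate of `V` is fully normalized in `T` relative to `H`, with `N_T(V)` carried into `T` -/
theorem exists_conj_fn_rel (H T : Subgroup G) (hTH : T ≤ H) (hTp : IsPGroup p T) (hTi : ¬ p ∣ T.relIndex H)
    (V : Subgroup G) :
    ∃ k ∈ H, (T ⊓ Subgroup.normalizer (V : Set G)).map (MulAut.conj k).toMonoidHom ≤ T ∧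
      ¬ p ∣ (T ⊓ Subgroup.normalizer ((V.map (MulAut.conj k).toMonoidHom : Subgroup G) : Set G)).relIndex
        (H ⊓ Subgroup.normalizer ((V.map (MulAut.conj k).toMonoidHom : Subgroup G) : Set G)) := by
  obtain ⟨N, hN⟩ : ∃ N : Subgroup G, N = H ⊓ Subgroup.normalizer (V : Set G) := ⟨_, rfl⟩
  have hAN : T ⊓ Subgroup.normalizer (V : Set G) ≤ N := hN ▸ inf_le_inf_right _ hTH
  obtain ⟨P', hAP', hP'N, hP'p, hP'i⟩ := exists_relSylow_ge N (T ⊓ Subgroup.normalizer (V : Set G))
    (hTp.to_le inf_le_left) hAN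
  have hP'H : P' ≤ H := hP'N.trans (hN ▸ inf_le_left)
  obtain ⟨k, hkH, hk⟩ := exists_conj_le_of_relIndex H T P' hTp hTi hP'H hP'p
  have hP'k : P'.map (MulAut.conj k).toMonoidHom ≤ T := by
    rw [map_conj_le_iff]; exact hk
  have hHk : H.map (MulAut.conj k).toMonoidHom = H :=
    (map_conj_eq_self_iff_mem_normalizer H k).mpr (Subgroup.le_normalizer hkH)
  have hNk : N.map (MulAut.conj k).toMonoidHom =
      H ⊓ Subgroup.normalizer ((V.map (MulAut.conj k).toMonoidHom : Subgroup G) : Set G) := by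
    rw [hN, Subgroup.map_inf _ _ _ (MulAut.conj k).injective, hHk, normalizer_map_conj]
  refine ⟨k, hkH, (Subgroup.map_mono hAP').trans hP'k, ?_⟩
  have h1 : ¬ p ∣ (P'.map (MulAut.conj k).toMonoidHom).relIndex
      (H ⊓ Subgroup.normalizer ((V.map (MulAut.conj k).toMonoidHom : Subgroup G) : Set G)) := by
    rw [← hNk, relIndex_map_conj]; exact hP'i
  apply not_dvd_relIndex_of_le _ _ _ ?_ h1
  refine le_inf hP'k ?_
  have : P'.map (MulAut.conj k).toMonoidHom ≤ N.map (MulAut.conj k).toMonoidHom := Subgroup.map_mono hP'N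
  rw [hNk] at this
  exact this.trans inf_le_right

end finite

/-! ### The reduction -/

/-- a selector of central subgroups of `p`-subgroups -/
structure ZSel (p : ℕ) (𝒵 : Subgroup G → Subgroup G) : Prop where
  le_center : ∀ P : Subgroup G, IsPGroup p P → 𝒵 P ≤ P ⊓ Subgroup.centralizer (P : Set G)
  mono : ∀ P P' : Subgroup G, IsPGroup p P → P' ≤ P → P ⊓ Subgroup.centralizer (P : Set G) ≤ P' →
    𝒵 P ≤ 𝒵 P'

/-- a notion of stabilizer of a subgroup (`N(A)` or `C(A)`): contained in the normalizer and determined by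
the action on `A` -/
structure Stab (𝔑 : Subgroup G → Subgroup G) : Prop where
  le_normalizer : ∀ A : Subgroup G, 𝔑 A ≤ Subgroup.normalizer (A : Set G)
  centralizer_le : ∀ A : Subgroup G, Subgroup.centralizer (A : Set G) ≤ 𝔑 A
  of_action : ∀ (A : Subgroup G) (k m : G), m ∈ 𝔑 A → (∀ a ∈ A, k * a * k⁻¹ = m * a * m⁻¹) → k ∈ 𝔑 A

theorem stab_normalizer : Stab (fun A : Subgroup G => Subgroup.normalizer (A : Set G)) where
  le_normalizer := fun _ => le_rfl
  centralizer_le := fun _ => Subgroup.centralizer_le_normalizer _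
  of_action := by
    intro A k m hm h
    rw [Subgroup.mem_normalizer_iff] at hm ⊢
    intro a
    constructor
    · intro ha
      rw [h a ha]; exact (hm a).mp ha
    · intro ha
      have h1 : m * (m⁻¹ * (k * a * k⁻¹) * m) * m⁻¹ ∈ A := by
        have e : m * (m⁻¹ * (k * a * k⁻¹) * m) * m⁻¹ = k * a * k⁻¹ := by group
        rw [e]; exact ha
      have h2 : m⁻¹ * (k * a * k⁻¹) * m ∈ A := (hm _).mpr h1
      have h3 := h _ h2
      have h4 : k * (m⁻¹ * (k * a * k⁻¹) * m) * k⁻¹ = k * a * k⁻¹ := by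
        rw [h3]; group
      have h5 : m⁻¹ * (k * a * k⁻¹) * m = a := by
        have := congrArg (fun y => k⁻¹ * y * k) h4
        simpa [mul_assoc] using this
      rw [← h5]; exact h2

theorem stab_centralizer : Stab (fun A : Subgroup G => Subgroup.centralizer (A : Set G)) where
  le_normalizer := fun _ => Subgroup.centralizer_le_normalizer _
  centralizer_le := fun _ => le_rfl
  of_action := by
    intro A k m hm h
    rw [Subgroup.mem_centralizer_iff] at hm ⊢
    intro a ha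
    have h1 := h a ha
    have h2 : m * a * m⁻¹ = a := by rw [← hm a ha]; group
    rw [h2] at h1
    calc a * k = (k * a * k⁻¹) * k := by rw [h1]
      _ = k * a := by group

/-- subgroups of `𝒵 T` stabilized by `N_L(W T)` are weakly closed in `T` with respect to `L`, for all relative
Sylow subgroups `T` of `L` -/
def WCl (p : ℕ) (W 𝒵 𝔑 : Subgroup G → Subgroup G) (L : Subgroup G) : Prop :=
  ∀ T : Subgroup G, T ≤ L → IsPGroup p T → ¬ p ∣ T.relIndex L → ∀ A : Subgroup G, A ≤ 𝒵 T →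
    L ⊓ Subgroup.normalizer ((W T : Subgroup G) : Set G) ≤ 𝔑 A →
    ∀ l ∈ L, A.map (MulAut.conj l).toMonoidHom ≤ T → l ∈ 𝔑 A

section reduction

variable [Finite G] {p : ℕ} [Fact p.Prime]

theorem reduction (W 𝒵 𝔑 : Subgroup G → Subgroup G) (hW : IsConjugacyFunctor p W)
    (hWZ : ∀ P : Subgroup G, IsPGroup p P → P ⊓ Subgroup.centralizer (P : Set G) ≤ W P)
    (h𝒵 : ZSel p 𝒵) (h𝔑 : Stab 𝔑) (H : Subgroup G) (hsub : ∀ L : Subgroup G, L < H → WCl p W 𝒵 𝔑 L)
    (T : Subgroup G) (hTH : T ≤ H) (hTp : IsPGroup p T) (hTi : ¬ p ∣ T.relIndex H)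
    (A : Subgroup G) (hA : A ≤ 𝒵 T)
    (hAN : H ⊓ Subgroup.normalizer ((W T : Subgroup G) : Set G) ≤ 𝔑 A)
    (hNC : T ⊓ Subgroup.centralizer (T : Set G) ≤ pCoreOf p H →
      (∀ L : Subgroup G, T ≤ L → L < H → L ≤ 𝔑 A) → H ≤ 𝔑 A) :
    ∀ l ∈ H, A.map (MulAut.conj l).toMonoidHom ≤ T → l ∈ 𝔑 A := by
  obtain ⟨ZT, hZT⟩ : ∃ ZT : Subgroup G, ZT = T ⊓ Subgroup.centralizer (T : Set G) := ⟨_, rfl⟩
  rw [← hZT] at hNC
  have hZTT : ZT ≤ T := hZT ▸ inf_le_left
  have hZTC : ZT ≤ Subgroup.centralizer (T : Set G) := hZT ▸ inf_le_right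
  have hAZ : A ≤ ZT := hZT ▸ hA.trans (h𝒵.le_center T hTp)
  obtain ⟨Q, hQ⟩ : ∃ Q : Subgroup G, Q = pCoreOf p H := ⟨_, rfl⟩
  rw [← hQ] at hNC
  have hQH : Q ≤ H := hQ ▸ Cfsg.Agent.Lib.Helper17.pCoreOf_le H
  have hQp : IsPGroup p Q := hQ ▸ Cfsg.Agent.Lib.Helper17.pCoreOf_isPGroup H
  have hHQ : H ≤ Subgroup.normalizer (Q : Set G) := hQ ▸ Cfsg.Agent.Lib.Helper17.le_normalizer_pCoreOf H
  have hQT : Q ≤ T := by
    have h1 : IsPGroup p (T ⊔ Q : Subgroup G) := hTp.to_sup_of_normal_right' hQp (hTH.trans hHQ)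
    have h2 := eq_of_le_of_not_dvd_relIndex H T (T ⊔ Q) le_sup_left (sup_le hTH hQH) h1 hTi
    rw [← h2]; exact le_sup_right
  have hle_Q : ∀ V : Subgroup G, V ≤ H → H ≤ Subgroup.normalizer (V : Set G) → IsPGroup p V → V ≤ Q :=
    fun V h1 h2 h3 => hQ ▸ Cfsg.Agent.Lib.Helper17.le_pCoreOf h1 h2 h3
  have hZTcen : ∀ V : Subgroup G, V ≤ T → ZT ≤ Subgroup.centralizer (V : Set G) :=
    fun V hV => hZTC.trans (Subgroup.centralizer_le (SetLike.coe_subset_coe.mpr hV))
  -- proper overgroups of `T` stabilize `A` when `Z(T) ≤ O_p(H)`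
  have hover : ZT ≤ Q → ∀ L : Subgroup G, T ≤ L → L < H → L ≤ 𝔑 A := by
    intro hZQ L hTL hLH
    have hTiL : ¬ p ∣ T.relIndex L := not_dvd_relIndex_of_le_right H L T hTL hLH.le hTi
    have hwc := hsub L hLH T hTL hTp hTiL A hA ((inf_le_inf_right _ hLH.le).trans hAN)
    intro l hl
    apply hwc l hl
    rw [map_conj_le_iff]
    intro a ha
    apply hQT
    exact (Subgroup.mem_normalizer_iff.mp (hHQ (hLH.le hl)) a).mp (hZQ (hAZ ha))
  have hnormal : ZT ≤ Q → H ≤ 𝔑 A := fun h => hNC h (hover h)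
  -- the step from the tower to the fully normalized centric subgroups
  have hF : ∀ t : ℕ, (∀ R' : Subgroup G, R' ≤ T → ZT ≤ R' → t < Nat.card R' →
        H ⊓ Subgroup.normalizer ((W R' : Subgroup G) : Set G) ≤ 𝔑 A) →
      ∀ U : Subgroup G, U ≤ T → t < Nat.card U →
        ¬ p ∣ (T ⊓ Subgroup.normalizer (U : Set G)).relIndex (H ⊓ Subgroup.normalizer (U : Set G)) →
        T ⊓ Subgroup.centralizer (U : Set G) ≤ U →
        ∀ x ∈ H ⊓ Subgroup.normalizer (U : Set G), ∃ m ∈ 𝔑 A ⊓ H,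
          ∀ u ∈ U, m * u * m⁻¹ = x * u * x⁻¹ := by
    intro t IHP U hUT htU hFN hcen x hx
    have hZU : ZT ≤ U := (le_inf hZTT (hZTcen U hUT)).trans hcen
    refine ⟨x, Subgroup.mem_inf.mpr ⟨?_, (Subgroup.mem_inf.mp hx).1⟩, fun _ _ => rfl⟩
    by_cases hUn : H ≤ Subgroup.normalizer (U : Set G)
    · exact hnormal (hZU.trans (hle_Q U (hUT.trans hTH) hUn (hTp.to_le hUT))) (Subgroup.mem_inf.mp hx).1
    · obtain ⟨L, hL⟩ : ∃ L : Subgroup G, L = H ⊓ Subgroup.normalizer (U : Set G) := ⟨_, rfl⟩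
      have hLH : L < H := by
        rw [hL]
        refine lt_of_le_of_ne inf_le_left ?_
        intro h
        exact hUn (inf_eq_left.mp h)
      obtain ⟨T₁, hT₁⟩ : ∃ T₁ : Subgroup G, T₁ = T ⊓ Subgroup.normalizer (U : Set G) := ⟨_, rfl⟩
      have hT₁T : T₁ ≤ T := hT₁ ▸ inf_le_left
      have hUT₁ : U ≤ T₁ := hT₁ ▸ le_inf hUT Subgroup.le_normalizer
      have hT₁L : T₁ ≤ L := by rw [hT₁, hL]; exact inf_le_inf_right _ hTH
      have hZT₁ : ZT ≤ T₁ := hZU.trans hUT₁
      have hcard : t < Nat.card T₁ := lt_of_lt_of_le htU (Subgroup.card_le_of_le hUT₁)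
      have hFN' : ¬ p ∣ T₁.relIndex L := by rw [hT₁, hL]; exact hFN
      have hwc := hsub L hLH T₁ hT₁L (hTp.to_le hT₁T) hFN' A
        (hA.trans (h𝒵.mono T T₁ hTp hT₁T (hZT ▸ hZT₁)))
        ((inf_le_inf_right _ hLH.le).trans (IHP T₁ hT₁T hZT₁ hcard))
      apply hwc x (hL ▸ hx)
      rw [map_conj_le_iff]
      intro a ha
      apply hUT₁
      exact (Subgroup.mem_normalizer_iff.mp (Subgroup.mem_inf.mp hx).2 a).mp (hZU (hAZ ha))
  -- the tower
  have hP : ∀ (m : ℕ) (R : Subgroup G), R ≤ T → ZT ≤ R → Nat.card T - Nat.card R = m →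
      H ⊓ Subgroup.normalizer ((W R : Subgroup G) : Set G) ≤ 𝔑 A := by
    intro m
    induction m using Nat.strong_induction_on with
    | _ m ih =>
    intro R hRT hZR hm
    by_cases hRtop : R = T
    · rw [hRtop]; exact hAN
    have hRlt : R < T := lt_of_le_of_ne hRT hRtop
    have hRp : IsPGroup p R := hTp.to_le hRT
    have hcardRT : Nat.card R ≤ Nat.card T := Subgroup.card_le_of_le hRT
    have IHP : ∀ R' : Subgroup G, R' ≤ T → ZT ≤ R' → Nat.card R < Nat.card R' →
        H ⊓ Subgroup.normalizer ((W R' : Subgroup G) : Set G) ≤ 𝔑 A := by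
      intro R' hR'T hZR' hcard
      have hR'le : Nat.card R' ≤ Nat.card T := Subgroup.card_le_of_le hR'T
      exact ih (Nat.card T - Nat.card R') (by omega) R' hR'T hZR' rfl
    obtain ⟨V, hV⟩ : ∃ V : Subgroup G, V = W R := ⟨_, rfl⟩
    rw [← hV]
    have hVR : V ≤ R := hV ▸ (hW R hRp).1
    have hVT : V ≤ T := hVR.trans hRT
    have hZV : ZT ≤ V := by
      rw [hV]
      exact (le_inf hZR (hZTcen R hRT)).trans (hWZ R hRp)
    by_cases hVn : H ≤ Subgroup.normalizer (V : Set G)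
    · exact inf_le_left.trans (hnormal (hZV.trans (hle_Q V (hVT.trans hTH) hVn (hTp.to_le hVT))))
    obtain ⟨A', hA'⟩ : ∃ A' : Subgroup G, A' = T ⊓ Subgroup.normalizer (V : Set G) := ⟨_, rfl⟩
    have hNRNV : T ⊓ Subgroup.normalizer (R : Set G) ≤ A' := by
      rw [hA']
      apply inf_le_inf_left
      intro y hy
      rw [← map_conj_eq_self_iff_mem_normalizer] at hy ⊢
      rw [hV, ← (hW R hRp).2.2 y, hy]
    have hRA' : R < A' := lt_of_lt_of_le (lt_inf_normalizer_of_lt T R hTp hRlt) hNRNV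
    have hcardA' : Nat.card R < Nat.card A' := card_lt_card_of_lt hRA'
    have hA'T : A' ≤ T := hA' ▸ inf_le_left
    have hVA' : V ≤ A' := hA' ▸ le_inf hVT Subgroup.le_normalizer
    obtain ⟨k, hkH, hkA', hkFN⟩ := exists_conj_fn_rel H T hTH hTp hTi V
    rw [← hA'] at hkA'
    -- `k` stabilizes `A`
    have hkA : k ∈ 𝔑 A := by
      obtain ⟨m', hm', hm'y⟩ := agp_rel H T (𝔑 A) hTH hTp hTi (Nat.card R)
        (hF (Nat.card R) IHP) A' k hA'T hcardA' hkH
        (fun y hy => hkA' (conj_mem_map_conj A' k hy))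
      exact h𝔑.of_action A k m' hm' (fun a ha => (hm'y a (hVA' (hZV (hAZ ha)))).symm)
    have hkNA : k ∈ Subgroup.normalizer (A : Set G) := h𝔑.le_normalizer A hkA
    obtain ⟨V', hV'⟩ : ∃ V' : Subgroup G, V' = V.map (MulAut.conj k).toMonoidHom := ⟨_, rfl⟩
    rw [← hV'] at hkFN
    obtain ⟨K', hK'⟩ : ∃ K' : Subgroup G, K' = H ⊓ Subgroup.normalizer (V' : Set G) := ⟨_, rfl⟩
    obtain ⟨T₂, hT₂⟩ : ∃ T₂ : Subgroup G, T₂ = T ⊓ Subgroup.normalizer (V' : Set G) := ⟨_, rfl⟩
    have hV'T : V' ≤ T := by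
      rw [hV']; exact (Subgroup.map_mono hVA').trans hkA'
    have hV'T₂ : V' ≤ T₂ := hT₂ ▸ le_inf hV'T Subgroup.le_normalizer
    have hA'T₂ : A'.map (MulAut.conj k).toMonoidHom ≤ T₂ := by
      rw [hT₂]
      refine le_inf hkA' ?_
      rw [hV', normalizer_map_conj]
      exact Subgroup.map_mono (hA' ▸ inf_le_right)
    have hcardT₂ : Nat.card R < Nat.card T₂ := by
      have h1 : Nat.card (A'.map (MulAut.conj k).toMonoidHom) ≤ Nat.card T₂ := Subgroup.card_le_of_le hA'T₂
      rw [card_map_conj] at h1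
      omega
    have hT₂T : T₂ ≤ T := hT₂ ▸ inf_le_left
    have hZT₂ : ZT ≤ T₂ := by
      rw [hT₂]
      exact le_inf hZTT ((hZTcen V' hV'T).trans (Subgroup.centralizer_le_normalizer _))
    have hK'H : K' < H := by
      rw [hK']
      refine lt_of_le_of_ne inf_le_left ?_
      intro h
      apply hVn
      have hHV' : H ≤ Subgroup.normalizer (V' : Set G) := inf_eq_left.mp h
      intro y hy
      have h1 : k * y * k⁻¹ ∈ Subgroup.normalizer (V' : Set G) :=
        hHV' (H.mul_mem (H.mul_mem hkH hy) (H.inv_mem hkH))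
      rw [hV', normalizer_map_conj, mem_map_conj_iff] at h1
      have e : k⁻¹ * (k * y * k⁻¹) * k = y := by group
      rw [e] at h1; exact h1
    have hT₂K' : T₂ ≤ K' := by rw [hT₂, hK']; exact inf_le_inf_right _ hTH
    have hFN' : ¬ p ∣ T₂.relIndex K' := by rw [hT₂, hK']; exact hkFN
    have hwc := hsub K' hK'H T₂ hT₂K' (hTp.to_le hT₂T) hFN' A
      (hA.trans (h𝒵.mono T T₂ hTp hT₂T (hZT ▸ hZT₂)))
      ((inf_le_inf_right _ hK'H.le).trans (IHP T₂ hT₂T hZT₂ hcardT₂))
    have hAV' : A ≤ V' := by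
      have h1 : A.map (MulAut.conj k).toMonoidHom = A := (map_conj_eq_self_iff_mem_normalizer A k).mpr hkNA
      rw [← h1, hV']
      exact Subgroup.map_mono (hAZ.trans hZV)
    have hK'A : K' ≤ 𝔑 A := by
      intro l hl
      apply hwc l hl
      rw [map_conj_le_iff]
      intro a ha
      apply hV'T₂
      have hlN : l ∈ Subgroup.normalizer (V' : Set G) := (Subgroup.mem_inf.mp (hK' ▸ hl)).2
      exact (Subgroup.mem_normalizer_iff.mp hlN a).mp (hAV' ha)
    intro n hn
    obtain ⟨hnH, hnV⟩ := Subgroup.mem_inf.mp hn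
    have h1 : k * n * k⁻¹ ∈ K' := by
      rw [hK']
      refine Subgroup.mem_inf.mpr ⟨H.mul_mem (H.mul_mem hkH hnH) (H.inv_mem hkH), ?_⟩
      rw [hV', normalizer_map_conj]
      exact conj_mem_map_conj _ k hnV
    have h2 := hK'A h1
    have e : n = k⁻¹ * (k * n * k⁻¹) * k := by group
    rw [e]
    exact Subgroup.mul_mem _ (Subgroup.mul_mem _ (Subgroup.inv_mem _ hkA) h2) hkA
  -- conclusion
  intro l hl hlT
  have hcardA : 0 < Nat.card A := Nat.card_pos
  obtain ⟨m', hm', hm'y⟩ := agp_rel H T (𝔑 A) hTH hTp hTi 0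
    (hF 0 (fun R' hR'T hZR' _ => hP _ R' hR'T hZR' rfl)) A l (hAZ.trans hZTT) hcardA hl
    (fun y hy => hlT (conj_mem_map_conj A l hy))
  exact h𝔑.of_action A l m' hm' (fun a ha => (hm'y a ha).symm)

end reduction

end Cfsg.Agent.Lib.Helper18.WeakClosure
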