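import Mathlib
import Cfsg.Agent.Lib.Helper18.GlaubermanTwoC
import Cfsg.Agent.Lib.Helper27.LG2CenterQuad
import Cfsg.Agent.Lib.Helper27.Involves
import Cfsg.Agent.S1973

set_option autoImplicit false

/-!
# Glauberman's weak closure theorem for the Thompson subgroup

`weak_closure_J`: let `p` be odd, or `p = 2` and `G` a finite group not involving `S₄`. If `T` is a Sylow
`p`-subgroup of the subgroup `H` of `G`, then every element of `T` centralized by `N_H(J(T))` is weakly closed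
in `T` with respect to `H`.
`groupCenter_J`: if moreover `C_G(O_p(G)) ≤ O_p(G)` then `Z(N_G(J(P))) ∩ Z(P) ≤ Z(G)`.
-/

namespace Cfsg.Agent.Lib.Helper18.GlaubermanTwo

open Cfsg Cfsg.Agent.Lib.Helper18 Cfsg.Agent.Lib.Helper13 Cfsg.Agent.Lib.Helper18.FusionCR
  Cfsg.Agent.Lib.Helper18.WeakClosure Cfsg.Agent.Lib.Helper27.LG2 Cfsg.Agent.Lib.Helper18.ThompsonRepl

universe u

variable {G : Type u} [Group G]

theorem wsub_thompsonA (P : Subgroup G) :
    wsub (fun (Q : Type u) [Group Q] => Cfsg.thompsonSubgroupA Q) P = Cfsg.thompsonSubgroupAOf P := rfl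

/-- `J(T)` computed inside a subgroup `H ≥ T` -/
theorem map_thompsonSubgroupAOf_subgroupOf [Finite G] {p : ℕ} [Fact p.Prime] (H T : Subgroup G)
    (hTH : T ≤ H) (hTp : IsPGroup p T) :
    (Cfsg.thompsonSubgroupAOf (T.subgroupOf H)).map H.subtype = Cfsg.thompsonSubgroupAOf T := by
  have hTHp : IsPGroup p ↥(T.subgroupOf H) :=
    hTp.of_injective (Subgroup.subgroupOfEquivOfLe hTH).toMonoidHom
      (Subgroup.subgroupOfEquivOfLe hTH).injective
  have hinj : Function.Injective (H.subtype.comp (T.subgroupOf H).subtype) := by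
    intro a b hab
    apply Subtype.ext
    apply Subtype.ext
    exact hab
  have hT : T = (H.subtype.comp (T.subgroupOf H).subtype).range := by
    rw [MonoidHom.range_eq_map, ← Subgroup.map_map, ← MonoidHom.range_eq_map, Subgroup.range_subtype]
    ext y
    constructor
    · intro hy
      exact ⟨⟨y, hTH hy⟩, Subgroup.mem_subgroupOf.mpr hy, rfl⟩
    · rintro ⟨z, hz, rfl⟩
      exact Subgroup.mem_subgroupOf.mp hz
  have h1 := map_wsub (isCharPFunctor_thompsonA.{u} p) hTHp hinj hT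
  show ((Cfsg.thompsonSubgroupA ↥(T.subgroupOf H)).map (T.subgroupOf H).subtype).map H.subtype =
    wsub (fun (Q : Type u) [Group Q] => Cfsg.thompsonSubgroupA Q) T
  rw [Subgroup.map_map]
  exact h1

/-- the quadratic element outside `O_p(H)` when `J(T)` is not normal in `H` -/
theorem hloc_quadratic [Finite G] {p : ℕ} [Fact p.Prime] (H T : Subgroup G) (hTH : T ≤ H)
    (hTp : IsPGroup p ↥T) (hidx : ¬ p ∣ T.relIndex H)
    (hnn : ¬ H ≤ Subgroup.normalizer ((Cfsg.thompsonSubgroupAOf T : Subgroup G) : Set G)) :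
    ∃ g : G, g ∈ T ∧ g ∉ pCoreOf p H ∧
      ⁅⁅pCoreOf p H ⊓ Subgroup.centralizer ((pCoreOf p H : Subgroup G) : Set G),
        Subgroup.zpowers g⁆, Subgroup.zpowers g⁆ = ⊥ := by
  have hTHp : IsPGroup p ↥(T.subgroupOf H) :=
    hTp.of_injective (Subgroup.subgroupOfEquivOfLe hTH).toMonoidHom
      (Subgroup.subgroupOfEquivOfLe hTH).injective
  obtain ⟨PH, hPH⟩ : ∃ PH : Sylow p ↥H, (PH : Subgroup ↥H) = T.subgroupOf H :=
    ⟨hTHp.toSylow hidx, IsPGroup.toSylow_coe hTHp hidx⟩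
  have hnn' : ¬ (Cfsg.thompsonSubgroupAOf (PH : Subgroup ↥H)).Normal := by
    intro hnorm
    rw [hPH] at hnorm
    apply hnn
    intro h hh
    apply mem_normalizer_of_conj_mem
    intro y hy
    rw [← map_thompsonSubgroupAOf_subgroupOf H T hTH hTp] at hy ⊢
    obtain ⟨y', hy', rfl⟩ := hy
    exact ⟨⟨h, hh⟩ * y' * ⟨h, hh⟩⁻¹, hnorm.conj_mem y' hy' ⟨h, hh⟩, rfl⟩
  obtain ⟨g, hgP, hgQ, hgq⟩ := exists_quadratic PH hnn'
  refine ⟨(g : G), ?_, ?_, ?_⟩
  · have : g ∈ T.subgroupOf H := by rw [← hPH]; exact hgP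
    exact Subgroup.mem_subgroupOf.mp this
  · rintro ⟨y, hy, hyg⟩
    have : y = g := Subtype.ext hyg
    rw [this] at hy
    exact hgQ hy
  · rw [← map_center_pCore H]
    have hz : Subgroup.zpowers (g : G) = (Subgroup.zpowers g).map H.subtype := by
      rw [MonoidHom.map_zpowers]
      rfl
    rw [hz, ← Subgroup.map_commutator, ← Subgroup.map_commutator, hgq, Subgroup.map_bot]

theorem iterCommutator_eq_bot {L : Type*} [Group L] (N K : Subgroup L) (h : ⁅⁅N, K⁆, K⁆ = ⊥) :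
    ∀ n : ℕ, 2 ≤ n → Cfsg.iterCommutator N K n = ⊥ := by
  intro n hn
  induction n, hn using Nat.le_induction with
  | base =>
    have e : Cfsg.iterCommutator N K 2 = ⁅⁅N, K⁆, K⁆ := rfl
    rw [e]; exact h
  | succ n hn ih =>
    have e : Cfsg.iterCommutator N K (n + 1) = ⁅Cfsg.iterCommutator N K n, K⁆ := rfl
    rw [e, ih]; exact Subgroup.commutator_bot_left K

/-- the local hypothesis of the weak closure theorem for conjugacy functors, for `J` and odd `p` -/
theorem hloc_chief [Finite G] {p : ℕ} [Fact p.Prime] (hp : p ≠ 2) (H T : Subgroup G) (hTH : T ≤ H)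
    (hTp : IsPGroup p ↥T) (hidx : ¬ p ∣ T.relIndex H)
    (hnn : ¬ H ≤ Subgroup.normalizer ((Cfsg.thompsonSubgroupAOf T : Subgroup G) : Set G)) :
    ∃ g : G, g ∈ T ∧ g ∉ Cfsg.pCoreOf p H ∧
      ∀ U V : Subgroup ↥H, Cfsg.IsChiefFactor U V →
        U.map H.subtype ≤ Cfsg.pCoreOf p H ⊓
          Subgroup.centralizer ((Cfsg.pCoreOf p H : Subgroup G) : Set G) →
        Cfsg.iterCommutator (U.map H.subtype) (Subgroup.zpowers g) (p - 1) ≤ V.map H.subtype := by
  obtain ⟨g, hgT, hgQ, hgq⟩ := hloc_quadratic H T hTH hTp hidx hnn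
  refine ⟨g, hgT, hgQ, ?_⟩
  intro U V _ hU
  have h1 : ⁅⁅U.map H.subtype, Subgroup.zpowers g⁆, Subgroup.zpowers g⁆ = ⊥ := by
    rw [eq_bot_iff]
    exact le_of_le_of_eq (Subgroup.commutator_mono (Subgroup.commutator_mono hU le_rfl) le_rfl) hgq
  have hp2 : 2 ≤ p - 1 := by
    have := (Fact.out : p.Prime).two_le
    omega
  rw [iterCommutator_eq_bot _ _ h1 (p - 1) hp2]
  exact bot_le

theorem isConjugacyFunctor_J [Finite G] (p : ℕ) [Fact p.Prime] :
    Cfsg.IsConjugacyFunctor p (fun P : Subgroup G => Cfsg.thompsonSubgroupAOf P) :=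
  isConjugacyFunctor_wsub (isCharPFunctor_thompsonA.{u} p) G

theorem center_le_J [Finite G] (p : ℕ) [Fact p.Prime] (P : Subgroup G) (hP : IsPGroup p P) :
    P ⊓ Subgroup.centralizer ((P : Subgroup G) : Set G) ≤ Cfsg.thompsonSubgroupAOf P :=
  center_le_wsub (W := fun (Q : Type u) [Group Q] => Cfsg.thompsonSubgroupA Q)
    (fun Q _ _ _ => center_le_thompsonSubgroupA Q) P hP

/-- the normal case for `p = 2`, inside a subgroup `H` -/
theorem normal_case_two [Finite G] (hfree : ¬ Cfsg.Involves (Equiv.Perm (Fin 4)) G)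
    (H T : Subgroup G) (hTH : T ≤ H) (hTp : IsPGroup 2 T)
    (hTi : ¬ 2 ∣ T.relIndex H) (A : Subgroup G) (hA : A ≤ T ⊓ Subgroup.centralizer (T : Set G))
    (hAN : H ⊓ Subgroup.normalizer ((Cfsg.thompsonSubgroupAOf T : Subgroup G) : Set G) ≤
      Subgroup.centralizer (A : Set G))
    (hZQ : T ⊓ Subgroup.centralizer (T : Set G) ≤ pCoreOf 2 H)
    (hover : ∀ L : Subgroup G, T ≤ L → L < H → L ≤ Subgroup.centralizer (A : Set G)) :
    H ≤ Subgroup.centralizer (A : Set G) := by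
  haveI : Fact (Nat.Prime 2) := ⟨Nat.prime_two⟩
  by_cases hWn : H ≤ Subgroup.normalizer ((Cfsg.thompsonSubgroupAOf T : Subgroup G) : Set G)
  · exact (le_inf le_rfl hWn).trans hAN
  by_contra hcon
  rw [SetLike.le_def] at hcon
  push Not at hcon
  obtain ⟨h, hhH, hhC⟩ := hcon
  rw [Subgroup.mem_centralizer_iff] at hhC
  push Not at hhC
  obtain ⟨x, hxA, hxh⟩ := hhC
  have hxT : x ∈ T := (Subgroup.mem_inf.mp (hA hxA)).1
  have hxCT : x ∈ Subgroup.centralizer (T : Set G) := (Subgroup.mem_inf.mp (hA hxA)).2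
  obtain ⟨x', hx'⟩ : ∃ x' : ↥H, x' = ⟨x, hTH hxT⟩ := ⟨_, rfl⟩
  obtain ⟨h', hh'⟩ : ∃ h' : ↥H, h' = ⟨h, hhH⟩ := ⟨_, rfl⟩
  have hx'c : (x' : G) = x := by rw [hx']
  have hh'c : (h' : G) = h := by rw [hh']
  have hTi' : ¬ 2 ∣ (T.subgroupOf H).index := hTi
  obtain ⟨S, hS⟩ : ∃ S : Sylow 2 ↥H, (S : Subgroup ↥H) = T.subgroupOf H :=
    ⟨(hTp.comap_subtype (K := H)).toSylow hTi', rfl⟩
  have hfree' : ¬ Cfsg.Involves (Equiv.Perm (Fin 4)) ↥H := fun hinv =>
    hfree (Cfsg.Agent.Lib.Helper27.involves_of_injective H.subtype H.subtype_injective hinv)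
  have hx'C : x' ∈ Subgroup.centralizer ((S : Subgroup ↥H) : Set ↥H) := by
    rw [Subgroup.mem_centralizer_iff]
    intro s hs
    rw [SetLike.mem_coe, hS, Subgroup.mem_subgroupOf] at hs
    apply Subtype.ext
    have h1 := Subgroup.mem_centralizer_iff.mp hxCT (s : G) hs
    show (s : G) * (x' : G) = (x' : G) * (s : G)
    rw [hx'c]; exact h1
  have hx'Q : x' ∈ Cfsg.pCore 2 ↥H := by
    have h1 : x ∈ (Cfsg.pCore 2 ↥H).map H.subtype := hZQ (hA hxA)
    obtain ⟨y', hy', hyy⟩ := h1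
    have h2 : y' = x' := Subtype.ext (by rw [hx'c]; exact hyy)
    rw [← h2]; exact hy'
  have hmax' : ∀ L : Subgroup ↥H, (S : Subgroup ↥H) ≤ L → L ≠ ⊤ →
      L ≤ Subgroup.centralizer ({x'} : Set ↥H) := by
    intro L hSL hLne
    have hTL : T ≤ L.map H.subtype := by
      intro t ht
      refine ⟨⟨t, hTH ht⟩, hSL ?_, rfl⟩
      rw [hS, Subgroup.mem_subgroupOf]; exact ht
    have hLH : L.map H.subtype < H := by
      refine lt_of_le_of_ne (Subgroup.map_subtype_le _) ?_
      intro heq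
      apply hLne
      rw [eq_top_iff]
      intro y _
      have hy : (y : G) ∈ L.map H.subtype := by rw [heq]; exact y.2
      obtain ⟨l, hl, hly⟩ := hy
      have h2 : l = y := Subtype.ext hly
      rw [← h2]; exact hl
    have h1 := hover _ hTL hLH
    intro l hl
    rw [Subgroup.mem_centralizer_iff]
    intro z hz
    rw [Set.mem_singleton_iff] at hz
    rw [hz]
    have h2 : (l : G) ∈ Subgroup.centralizer (A : Set G) := h1 ⟨l, hl, rfl⟩
    have h3 := Subgroup.mem_centralizer_iff.mp h2 x hxA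
    apply Subtype.ext
    show (x' : G) * (l : G) = (l : G) * (x' : G)
    rw [hx'c]; exact h3
  have hJ' : ¬ (Cfsg.thompsonSubgroupAOf (S : Subgroup ↥H)).Normal := by
    intro hnorm
    rw [hS] at hnorm
    apply hWn
    intro k hk
    apply mem_normalizer_of_conj_mem
    intro y hy
    rw [← map_thompsonSubgroupAOf_subgroupOf H T hTH hTp] at hy ⊢
    obtain ⟨y', hy', rfl⟩ := hy
    exact ⟨⟨k, hk⟩ * y' * ⟨k, hk⟩⁻¹, hnorm.conj_mem y' hy' ⟨k, hk⟩, rfl⟩
  have hcen := normal_two hfree' S x' hx'C hx'Q hmax' hJ'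
  rw [Subgroup.mem_center_iff] at hcen
  have h1 := hcen h'
  apply hxh
  have h2 := congrArg Subtype.val h1
  simp only [Subgroup.coe_mul] at h2
  rw [hx'c, hh'c] at h2
  exact h2.symm

/-- the weak closure property for `J`, in all subgroups -/
theorem wcl_J [Finite G] {p : ℕ} [Fact p.Prime]
    (h : p ≠ 2 ∨ ¬ Cfsg.Involves (Equiv.Perm (Fin 4)) G) :
    ∀ n : ℕ, ∀ H : Subgroup G, Nat.card H = n →
      WCl p (fun P : Subgroup G => Cfsg.thompsonSubgroupAOf P)
        (fun P : Subgroup G => P ⊓ Subgroup.centralizer (P : Set G))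
        (fun A : Subgroup G => Subgroup.centralizer (A : Set G)) H := by
  by_cases hp : p = 2
  · subst hp
    have hfree : ¬ Cfsg.Involves (Equiv.Perm (Fin 4)) G := h.resolve_left (fun h' => h' rfl)
    intro n
    induction n using Nat.strong_induction_on with
    | _ n ih =>
    intro H hn T hTH hTp hTi A hA hAN
    apply reduction (fun P : Subgroup G => Cfsg.thompsonSubgroupAOf P)
      (fun P : Subgroup G => P ⊓ Subgroup.centralizer (P : Set G))
      (fun A : Subgroup G => Subgroup.centralizer (A : Set G)) (isConjugacyFunctor_J 2)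
      (center_le_J 2) (Cfsg.Agent.S1973.zsel_center 2) stab_centralizer H
      (fun L hL => ih (Nat.card L) (hn ▸ card_lt_card_of_lt hL) L rfl) T hTH hTp hTi A hA hAN
    intro hZQ hover
    exact normal_case_two hfree H T hTH hTp hTi A hA hAN hZQ hover
  · exact Cfsg.Agent.S1973.wcl_all (fun P : Subgroup G => Cfsg.thompsonSubgroupAOf P)
      (isConjugacyFunctor_J p) (center_le_J p)
      (fun H T a b c d => hloc_chief hp H T a b c d)

/-- **Glauberman's weak closure theorem** for `J`: `p` odd, or `p = 2` and `S₄` not involved. -/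
theorem weak_closure_J [Finite G] {p : ℕ} [Fact p.Prime]
    (h : p ≠ 2 ∨ ¬ Cfsg.Involves (Equiv.Perm (Fin 4)) G)
    (H T : Subgroup G) (hTH : T ≤ H) (hTp : IsPGroup p T) (hTi : ¬ p ∣ T.relIndex H) (x : G)
    (hx : x ∈ T ⊓ Subgroup.centralizer
      ((H ⊓ Subgroup.normalizer ((Cfsg.thompsonSubgroupAOf T : Subgroup G) : Set G) : Subgroup G) : Set G)) :
    ∀ k ∈ H, k * x * k⁻¹ ∈ T → k * x * k⁻¹ = x := by
  intro k hk hkx
  obtain ⟨hxT, hxC⟩ := Subgroup.mem_inf.mp hx
  have hTN : T ≤ H ⊓ Subgroup.normalizer ((Cfsg.thompsonSubgroupAOf T : Subgroup G) : Set G) := by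
    refine le_inf hTH ?_
    intro t ht
    rw [← map_conj_eq_self_iff_mem_normalizer, ← (isConjugacyFunctor_J p T hTp).2.2 t]
    congr 1
    exact (map_conj_eq_self_iff_mem_normalizer T t).mpr (Subgroup.le_normalizer ht)
  have hxZ : x ∈ T ⊓ Subgroup.centralizer (T : Set G) := by
    refine Subgroup.mem_inf.mpr ⟨hxT, ?_⟩
    rw [Subgroup.mem_centralizer_iff]
    intro t ht
    exact Subgroup.mem_centralizer_iff.mp hxC t (hTN ht)
  have hwc := wcl_J h _ H rfl T hTH hTp hTi (Subgroup.zpowers x)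
    (by rw [Subgroup.zpowers_le]; exact hxZ)
    (by
      intro n hn
      rw [Subgroup.mem_centralizer_iff]
      intro y hy
      have hy' : y ∈ Subgroup.centralizer
          ((H ⊓ Subgroup.normalizer ((Cfsg.thompsonSubgroupAOf T : Subgroup G) : Set G) :
          Subgroup G) : Set G) := (Subgroup.zpowers_le.mpr hxC) hy
      exact (Subgroup.mem_centralizer_iff.mp hy' n hn).symm)
    k hk
    (by rw [MonoidHom.map_zpowers, Subgroup.zpowers_le]; exact hkx)
  have h1 := Subgroup.mem_centralizer_iff.mp hwc x (Subgroup.mem_zpowers x)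
  rw [← h1]; group

/-- `Z(P) ∩ Z(N_G(J(P))) ≤ Z(G)` when `C_G(O_p(G)) ≤ O_p(G)` -/
theorem groupCenter_J [Finite G] {p : ℕ} [Fact p.Prime]
    (h : p ≠ 2 ∨ ¬ Cfsg.Involves (Equiv.Perm (Fin 4)) G) (P : Sylow p G)
    (hcen : Subgroup.centralizer ((Cfsg.pCore p G : Subgroup G) : Set G) ≤ Cfsg.pCore p G) (x : G)
    (hx : x ∈ (P : Subgroup G) ⊓ Subgroup.centralizer ((P : Subgroup G) : Set G))
    (hxc : x ∈ Subgroup.centralizer ((Subgroup.normalizer
      ((Cfsg.thompsonSubgroupAOf (P : Subgroup G) : Subgroup G) : Set G) : Subgroup G) : Set G)) :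
    x ∈ Subgroup.center G := by
  have hPi : ¬ p ∣ (P : Subgroup G).relIndex ⊤ := by
    rw [Subgroup.relIndex_top_right]; exact P.not_dvd_index
  have key := weak_closure_J h ⊤ (P : Subgroup G) le_top P.isPGroup' hPi x
    (Subgroup.mem_inf.mpr ⟨hx.1, by rw [top_inf_eq]; exact hxc⟩)
  have hle : Cfsg.pCore p G ≤ (P : Subgroup G) := Cfsg.Agent.Lib.Helper16.pCore_le_sylow P
  have hxQ : x ∈ Cfsg.pCore p G := hcen (Subgroup.centralizer_le hle hx.2)
  haveI hQn : (Cfsg.pCore p G).Normal := Cfsg.Agent.Lib.Helper16.pCore_normal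
  rw [Subgroup.mem_center_iff]
  intro g
  have h1 := key g (Subgroup.mem_top g) (hle (hQn.conj_mem x hxQ g))
  calc g * x = (g * x * g⁻¹) * g := by group
    _ = x * g := by rw [h1]

end Cfsg.Agent.Lib.Helper18.GlaubermanTwo
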