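import Mathlib
import Cfsg.Prelude.Def_Characters
import Cfsg.Prelude.Def_Solvable
import Cfsg.Agent.Lib.Helper2.Induction
import Cfsg.Agent.Lib.Helper2.Column
import Cfsg.Agent.Lib.Helper2.BurnsidePQ
import Cfsg.Agent.Lib.Helper11.GenChar
import Cfsg.Agent.Lib.Helper11.Clifford2
import Cfsg.Agent.Lib.Helper25.Kernel
import Cfsg.Agent.Lib.Helper1.Frobenius

/-!
# Frobenius' theorem (helper18 library)

`frobenius_kernel_subgroup`: for a Frobenius complement `H` of a finite group `G`, the Frobenius
kernel is (the carrier of) a normal subgroup complementing `H`.  Character-theoretic proof on top of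
the Helper2 / Helper11 / Helper25 character libraries and Helper1.Frobenius (counting).
-/

set_option autoImplicit false

namespace Cfsg.Agent.Lib.Helper18
open Cfsg.Agent.Lib.Helper2 Cfsg.Agent.Lib.Helper11 Cfsg.Agent.Lib.Helper1
open scoped ComplexConjugate Pointwise

section FrobExt

variable {G : Type*} [Group G] [Fintype G] {H : Subgroup G}

/-- TI property of a Frobenius complement. -/
theorem mem_of_conj_mem (hH : Cfsg.IsFrobeniusComplement H) {h x : G} (hh : h ∈ H) (h1 : h ≠ 1)
    (hx : x⁻¹ * h * x ∈ H) : x ∈ H :=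
  mem_of_mem_conj_of_mem hH h1 hh (mem_conj_smul.mpr hx)

theorem indFun_one_of_apply_one_eq_zero (φ : H → ℂ) (hφ1 : φ 1 = 0) :
    Cfsg.indFun H φ (1 : G) = 0 := by
  rw [indFun_apply]
  have : ∀ x : G, Cfsg.extendByZero H φ (x⁻¹ * 1 * x) = 0 := by
    intro x
    have e : x⁻¹ * 1 * x = ((1 : H) : G) := by simp
    rw [e, extendByZero_coe, hφ1]
  rw [Finset.sum_congr rfl (fun x _ => this x)]
  simp

/-- On a Frobenius complement, induction of a class function vanishing at `1` restricts back
to the function. -/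
theorem indFun_apply_coe_of_frobenius (hH : Cfsg.IsFrobeniusComplement H) (φ : H → ℂ)
    (hφ : Cfsg.IsClassFunction H φ) (hφ1 : φ 1 = 0) (h : H) :
    Cfsg.indFun H φ (h : G) = φ h := by
  classical
  by_cases h1 : h = 1
  · rw [h1, Subgroup.coe_one, indFun_one_of_apply_one_eq_zero φ hφ1, hφ1]
  · have h1' : (h : G) ≠ 1 := fun e => h1 (Subtype.ext e)
    rw [indFun_apply]
    have key : ∀ x : G, Cfsg.extendByZero H φ (x⁻¹ * (h : G) * x) =
        Cfsg.extendByZero H (fun _ => φ h) x := by
      intro x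
      by_cases hx : x ∈ H
      · have hm : x⁻¹ * (h : G) * x ∈ H := H.mul_mem (H.mul_mem (H.inv_mem hx) h.2) hx
        rw [extendByZero_of_mem H _ hm, extendByZero_of_mem H _ hx]
        have e : (⟨x⁻¹ * (h : G) * x, hm⟩ : H) = (⟨x, hx⟩ : H)⁻¹ * h * (⟨x, hx⟩ : H)⁻¹⁻¹ := by
          apply Subtype.ext; simp
        rw [e]
        exact hφ h _
      · have hm : x⁻¹ * (h : G) * x ∉ H := fun hm => hx (mem_of_conj_mem hH h.2 h1' hm)
        rw [extendByZero_of_not_mem H _ hm, extendByZero_of_not_mem H _ hx]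
    simp only [key]
    haveI : Fintype H := Fintype.ofFinite H
    rw [sum_extendByZero, Finset.sum_const, Finset.card_univ, nsmul_eq_mul,
      ← Nat.card_eq_fintype_card]
    have hne : (Nat.card H : ℂ) ≠ 0 := card_subgroup_ne_zero H
    field_simp

/-- Induction of a function vanishing at `1` vanishes on the Frobenius kernel. -/
theorem indFun_apply_of_mem_kernel (φ : H → ℂ) (hφ1 : φ 1 = 0) {g : G}
    (hg : g ∈ Cfsg.frobeniusKernel H) : Cfsg.indFun H φ g = 0 := by
  rcases hg with rfl | hg
  · exact indFun_one_of_apply_one_eq_zero φ hφ1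
  · rw [indFun_apply]
    have : ∀ x : G, Cfsg.extendByZero H φ (x⁻¹ * g * x) = 0 := by
      intro x
      apply extendByZero_of_not_mem
      intro hm
      exact hg x (mem_conj_smul.mpr hm)
    rw [Finset.sum_congr rfl (fun x _ => this x)]
    simp

/-- The Frobenius extension of a function on the complement. -/
noncomputable def frobExt (H : Subgroup G) (θ : H → ℂ) : G → ℂ :=
  Cfsg.indFun H (fun h => θ h - θ 1) + fun _ => θ 1

theorem frobExt_coe (hH : Cfsg.IsFrobeniusComplement H) (θ : H → ℂ)
    (hθ : Cfsg.IsClassFunction H θ) (h : H) : frobExt H θ (h : G) = θ h := by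
  unfold frobExt
  rw [Pi.add_apply, indFun_apply_coe_of_frobenius hH _ _ (by simp)]
  · ring
  · intro g k
    simp only []
    rw [hθ g k]

theorem frobExt_of_mem_kernel (θ : H → ℂ) {g : G} (hg : g ∈ Cfsg.frobeniusKernel H) :
    frobExt H θ g = θ 1 := by
  unfold frobExt
  rw [Pi.add_apply, indFun_apply_of_mem_kernel _ (by simp) hg, zero_add]

theorem frobExt_one (θ : H → ℂ) : frobExt H θ 1 = θ 1 :=
  frobExt_of_mem_kernel θ (one_mem_frobeniusKernel H)

theorem frobExt_isGeneralizedCharacter (θ : H → ℂ) (hθ : Cfsg.IsCharacter H θ) :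
    Cfsg.IsGeneralizedCharacter G (frobExt H θ) := by
  obtain ⟨n, hn⟩ := IsCharacter.apply_one hθ
  have h1G : Cfsg.IsCharacter G (fun _ => (1 : ℂ)) :=
    IsIrrCharacter.isCharacter isIrrCharacter_one
  have h1H : Cfsg.IsCharacter H (fun _ => (1 : ℂ)) :=
    IsIrrCharacter.isCharacter isIrrCharacter_one
  refine ⟨Cfsg.indFun H θ + n • (fun _ => (1 : ℂ)), n • Cfsg.indFun H (fun _ => (1 : ℂ)),
    isCharacter_add (indFun_isCharacter H θ hθ) (isCharacter_nsmul n h1G),
    isCharacter_nsmul n (indFun_isCharacter H _ h1H), ?_⟩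
  unfold frobExt
  have e : (fun h : H => θ h - θ 1) = θ + (-(n : ℂ)) • (fun _ : H => (1 : ℂ)) := by
    funext h
    simp [hn, sub_eq_add_neg]
  rw [e, indFun_add, indFun_smul]
  funext g
  simp [hn]
  ring

theorem classInner_self_of_isIrrCharacter {K : Type*} [Group K] [Fintype K] {χ : K → ℂ}
    (hχ : Cfsg.IsIrrCharacter K χ) : Cfsg.classInner χ χ = 1 :=
  classInner_irrCharacter_self ⟨χ, hχ⟩

theorem classInner_frobExt_self [Fintype H] (hH : Cfsg.IsFrobeniusComplement H) (θ : H → ℂ)
    (hθ : Cfsg.IsIrrCharacter H θ) :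
    Cfsg.classInner (frobExt H θ) (frobExt H θ) = 1 := by
  obtain ⟨n, _, hn⟩ := IsIrrCharacter.apply_one hθ
  have hθc : Cfsg.IsCharacter H θ := IsIrrCharacter.isCharacter hθ
  have hθcl : Cfsg.IsClassFunction H θ := IsCharacter.isClassFunction hθc
  have h1H : Cfsg.IsIrrCharacter H (fun _ => (1 : ℂ)) := isIrrCharacter_one
  have h1G : Cfsg.IsIrrCharacter G (fun _ => (1 : ℂ)) := isIrrCharacter_one
  obtain ⟨m, hm⟩ := classInner_isCharacter_nat hθc (IsIrrCharacter.isCharacter h1H)
  have hm' : Cfsg.classInner (fun _ : H => (1 : ℂ)) θ = (m : ℂ) := by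
    rw [← classInner_conj_symm, hm, Complex.conj_natCast]
  set φ : H → ℂ := fun h => θ h - θ 1 with hφ
  have hφe : φ = θ + (-(n : ℂ)) • (fun _ : H => (1 : ℂ)) := by
    funext h
    simp [hφ, hn, sub_eq_add_neg]
  have hφcl : Cfsg.IsClassFunction H φ := by
    intro g k
    simp only [hφ]
    rw [hθcl g k]
  have hφ1 : φ 1 = 0 := by simp [hφ]
  set A : G → ℂ := Cfsg.indFun H φ with hA
  have hAcl : Cfsg.IsClassFunction G A := indFun_isClassFunction H φ
  have hAres : (fun h : H => A h) = φ := by
    funext h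
    exact indFun_apply_coe_of_frobenius hH φ hφcl hφ1 h
  have hconj : conj (-(n : ℂ)) = -(n : ℂ) := by simp
  have i0 : Cfsg.classInner φ φ = 1 - 2 * n * m + n ^ 2 := by
    rw [hφe]
    simp only [classInner_add_left, classInner_add_right, classInner_smul_left,
      classInner_smul_right, hconj, hm, hm', classInner_self_of_isIrrCharacter hθ,
      classInner_self_of_isIrrCharacter h1H]
    ring
  have i0' : Cfsg.classInner φ (fun _ : H => (1 : ℂ)) = m - n := by
    rw [hφe]
    simp only [classInner_add_left, classInner_smul_left, hm,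
      classInner_self_of_isIrrCharacter h1H]
    ring
  have i1 : Cfsg.classInner A A = 1 - 2 * n * m + n ^ 2 := by
    rw [hA, frobenius_reciprocity H φ (Cfsg.indFun H φ) hAcl, ← hA, hAres, i0]
  have i2 : Cfsg.classInner A (fun _ : G => (1 : ℂ)) = m - n := by
    rw [hA, frobenius_reciprocity H φ _ (IsCharacter.isClassFunction
      (IsIrrCharacter.isCharacter h1G))]
    exact i0'
  have i2' : Cfsg.classInner (fun _ : G => (1 : ℂ)) A = m - n := by
    rw [← classInner_conj_symm, i2]
    simp
  have hfe : frobExt H θ = A + (n : ℂ) • (fun _ : G => (1 : ℂ)) := by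
    funext g
    simp [frobExt, hA, hφ, hn]
  have hconj' : conj (n : ℂ) = (n : ℂ) := Complex.conj_natCast n
  rw [hfe]
  simp only [classInner_add_left, classInner_add_right, classInner_smul_left,
    classInner_smul_right, hconj', i1, i2, i2', classInner_self_of_isIrrCharacter h1G]
  ring

theorem frobExt_isIrrCharacter [Fintype H] (hH : Cfsg.IsFrobeniusComplement H) (θ : H → ℂ)
    (hθ : Cfsg.IsIrrCharacter H θ) : Cfsg.IsIrrCharacter G (frobExt H θ) := by
  have hgen := frobExt_isGeneralizedCharacter (G := G) θ (IsIrrCharacter.isCharacter hθ)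
  have hnorm := classInner_frobExt_self hH θ hθ
  rcases IsGeneralizedCharacter.isSignedIrr_of_norm_one hgen hnorm with h | h
  · exact h
  · exfalso
    obtain ⟨n, hn0, hn⟩ := IsIrrCharacter.apply_one hθ
    obtain ⟨k, hk0, hk⟩ := IsIrrCharacter.apply_one h
    rw [Pi.neg_apply, frobExt_one, hn] at hk
    have : ((n : ℂ) + (k : ℂ)) = 0 := by rw [← hk]; ring
    have h2 : ((n + k : ℕ) : ℂ) = 0 := by push_cast; exact this
    have h3 : n + k = 0 := by exact_mod_cast h2
    omega

end FrobExt

/-- **Frobenius' theorem**: the Frobenius kernel is a normal subgroup complementing `H`. -/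
theorem frobenius_kernel_subgroup {G : Type*} [Group G] [Finite G] (H : Subgroup G)
    (hH : Cfsg.IsFrobeniusComplement H) :
    ∃ N : Subgroup G, (N : Set G) = Cfsg.frobeniusKernel H ∧ N.Normal ∧
      Subgroup.IsComplement' N H := by
  classical
  haveI : Fintype G := Fintype.ofFinite G
  haveI : Fintype H := Fintype.ofFinite H
  have hker : ∀ θ : Cfsg.IrrCharacter H, ∃ K : Subgroup G, K.Normal ∧
      ∀ g, g ∈ K ↔ frobExt H θ.1 g = frobExt H θ.1 1 := fun θ =>
    Cfsg.Agent.Lib.Helper25.exists_kernel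
      (IsIrrCharacter.isCharacter (frobExt_isIrrCharacter hH θ.1 θ.2))
  choose K hKn hK using hker
  set N : Subgroup G := ⨅ θ, K θ with hN
  have hNn : N.Normal := Subgroup.normal_iInf_normal hKn
  have h1 : Cfsg.frobeniusKernel H ⊆ (N : Set G) := by
    intro g hg
    rw [SetLike.mem_coe, hN, Subgroup.mem_iInf]
    intro θ
    rw [hK, frobExt_of_mem_kernel _ hg, frobExt_one]
  have h2 : N ⊓ H = ⊥ := by
    rw [eq_bot_iff]
    rintro h ⟨hhN, hhH⟩
    rw [Subgroup.mem_bot]
    have hc : IsConj (⟨h, hhH⟩ : H) 1 := by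
      rw [isConj_iff_forall_irrCharacter]
      intro θ
      have h3 : h ∈ K θ := (Subgroup.mem_iInf.mp hhN) θ
      have h4 := (hK θ h).mp h3
      rw [frobExt_one] at h4
      have h5 := frobExt_coe hH θ.1 (IrrCharacter.isClassFunction θ) ⟨h, hhH⟩
      rw [← h5]
      exact h4
    exact congrArg Subtype.val (isConj_one_left.mp hc)
  have h3 : (N : Set G) ⊆ Cfsg.frobeniusKernel H := by
    intro k hk
    by_cases hk1 : k = 1
    · left; exact hk1
    · right
      intro g hg
      rw [mem_conj_smul] at hg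
      have h4 : g⁻¹ * k * g ∈ N ⊓ H := by
        refine ⟨?_, hg⟩
        have := hNn.conj_mem k hk g⁻¹
        simpa using this
      rw [h2, Subgroup.mem_bot] at h4
      apply hk1
      have : k = g * (g⁻¹ * k * g) * g⁻¹ := by group
      rw [this, h4]
      group
  have heq : (N : Set G) = Cfsg.frobeniusKernel H := Set.Subset.antisymm h3 h1
  refine ⟨N, heq, hNn, ?_⟩
  apply Subgroup.isComplement'_of_card_mul_and_disjoint
  · have hc : Nat.card N = H.index := by
      rw [← IsFrobeniusComplement.card_kernel hH, ← heq]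
      rfl
    rw [hc, mul_comm, Subgroup.card_mul_index]
  · exact disjoint_iff.mpr h2

end Cfsg.Agent.Lib.Helper18
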