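import Mathlib
import Cfsg.Agent.Lib.Helper7.SylowBasic
import Cfsg.Agent.Lib.Helper25.NS720a
import Cfsg.Agent.Lib.Helper25.NS720b

/-!
# Order 720, ten Sylow 3-subgroups: the configuration and its first consequences
-/

set_option autoImplicit false

namespace Cfsg.Agent.Lib.Helper18.Ord720

open Subgroup MulAction

variable {G : Type*} [Group G] [Finite G]

/-- the standing configuration: order `720`, ten Sylow `3`-subgroups of order `9` with pairwise
trivial intersections, faithful conjugation action, no homomorphism onto `ℤˣ` -/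
structure Cfg (G : Type*) [Group G] : Prop where
  card : Nat.card G = 720
  cardP : ∀ P : Sylow 3 G, Nat.card P = 9
  n3 : Nat.card (Sylow 3 G) = 10
  faithful : ∀ g : G, (∀ Q : Sylow 3 G, g • Q = Q) → g = 1
  ti : ∀ P Q : Sylow 3 G, P ≠ Q → (P : Subgroup G) ⊓ Q = ⊥
  hom : ∀ (f : G →* ℤˣ) (g : G), f g = 1

omit [Finite G] in
theorem smul_self_of_mem (P : Sylow 3 G) (y : G) (hy : y ∈ (P : Subgroup G)) : y • P = P :=
  Sylow.smul_eq_iff_mem_normalizer.mpr (Subgroup.le_normalizer hy)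

/-- an element of `P` normalizing another Sylow subgroup is trivial -/
theorem eq_one_of_smul_eq (c : Cfg G) (P Q : Sylow 3 G)
    (h : P ≠ Q) (y : G) (hy : y ∈ (P : Subgroup G)) (hQ : y • Q = Q) : y = 1 := by
  have hz : IsPGroup 3 (zpowers y) := P.2.to_le (zpowers_le.mpr hy)
  have h1 := hz.inf_normalizer_sylow Q
  have hmem : y ∈ zpowers y ⊓ (Q : Subgroup G) := by
    rw [← h1]
    exact ⟨mem_zpowers y, Sylow.smul_eq_iff_mem_normalizer.mp hQ⟩
  have h2 : y ∈ (P : Subgroup G) ⊓ Q := ⟨hy, hmem.2⟩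
  rw [c.ti P Q h] at h2
  exact Subgroup.mem_bot.mp h2

/-- `P` is transitive on the other Sylow subgroups -/
theorem exists_smul_eq (c : Cfg G) (P Q R : Sylow 3 G) (hQ : Q ≠ P) (hR : R ≠ P) :
    ∃ y ∈ (P : Subgroup G), y • Q = R := by
  have hf : ∀ y : ↥(P : Subgroup G), (y : G) • Q ≠ P := by
    intro y h
    apply hQ
    have h1 : Q = (y : G)⁻¹ • P := by rw [eq_inv_smul_iff]; exact h
    rw [h1]
    exact smul_self_of_mem P _ (inv_mem y.2)
  let f : ↥(P : Subgroup G) → {R : Sylow 3 G // R ≠ P} := fun y => ⟨(y : G) • Q, hf y⟩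
  have hinj : Function.Injective f := by
    intro y y' h
    have h' : (y : G) • Q = (y' : G) • Q := congrArg Subtype.val h
    have h2 : ((y' : G)⁻¹ * (y : G)) • Q = Q := by
      rw [mul_smul, h', inv_smul_smul]
    have h3 := eq_one_of_smul_eq c P Q hQ.symm _ (mul_mem (inv_mem y'.2) y.2) h2
    apply Subtype.ext
    rw [inv_mul_eq_one] at h3
    exact h3.symm
  have hcard : Nat.card {R : Sylow 3 G // R ≠ P} ≤ Nat.card (P : Subgroup G) := by
    have h1 : Nat.card {R : Sylow 3 G // R ≠ P} = Set.ncard ({P}ᶜ : Set (Sylow 3 G)) := by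
      rw [← Nat.card_coe_set_eq]
      rfl
    rw [h1, Set.ncard_compl, Set.ncard_singleton, c.n3, c.cardP P]
  obtain ⟨y, hy⟩ := (hinj.bijective_of_nat_card_le hcard).2 ⟨R, hR⟩
  exact ⟨y, y.2, congrArg Subtype.val hy⟩

/-- the action on the Sylow `3`-subgroups is doubly transitive -/
theorem exists_smul_pair (c : Cfg G) (P Q P' Q' : Sylow 3 G) (h : P ≠ Q) (h' : P' ≠ Q') :
    ∃ g : G, g • P = P' ∧ g • Q = Q' := by
  obtain ⟨g1, hg1⟩ := MulAction.exists_smul_eq G P P'
  have hne : g1⁻¹ • Q' ≠ P := by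
    intro h2
    apply h'
    rw [inv_smul_eq_iff] at h2
    rw [h2, hg1]
  obtain ⟨x, hx, hxQ⟩ := exists_smul_eq c P Q (g1⁻¹ • Q') h.symm hne
  refine ⟨g1 * x, ?_, ?_⟩
  · rw [mul_smul, smul_self_of_mem P x hx, hg1]
  · rw [mul_smul, hxQ, smul_inv_smul]

end Cfsg.Agent.Lib.Helper18.Ord720
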