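import Mathlib
import Cfsg.Agent.Lib.Helper18.Ord720A

/-!
# Order 720, ten Sylow 3-subgroups: involutions fix exactly two Sylow 3-subgroups
-/

set_option autoImplicit false

namespace Cfsg.Agent.Lib.Helper18.Ord720

open Subgroup MulAction

variable {G : Type*} [Group G] [Finite G]

/-- the number of Sylow subgroups moved by an involution is divisible by four -/
theorem four_dvd_moved (c : Cfg G) (t : G) (ht : t ^ 2 = 1) :
    4 ∣ Nat.card {R : Sylow 3 G // t • R ≠ R} := by
  classical
  haveI : Fintype (Sylow 3 G) := Fintype.ofFinite _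
  set σ : Equiv.Perm (Sylow 3 G) := MulAction.toPerm t with hσ
  have h2 : σ ^ 2 = 1 := by
    have e1 : σ = MulAction.toPermHom G (Sylow 3 G) t := rfl
    rw [e1, ← map_pow, ht, map_one]
  have hs : Equiv.Perm.sign σ = 1 :=
    c.hom (Equiv.Perm.sign.comp (MulAction.toPermHom G (Sylow 3 G))) t
  have h4 := Cfsg.Agent.Lib.Helper25.NS720.four_dvd_card_support_of_sq_eq_one σ h2 hs
  have e : Nat.card {R : Sylow 3 G // t • R ≠ R} = σ.support.card := by
    rw [Nat.card_eq_fintype_card, Fintype.card_subtype]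
    congr 1
  rw [e]
  exact h4

omit [Finite G] in
theorem conj_mem_of_smul_eq (P : Sylow 3 G) (t x : G) (hP : t • P = P)
    (hx : x ∈ (P : Subgroup G)) : t * x * t⁻¹ ∈ (P : Subgroup G) := by
  have htN : t ∈ normalizer ((P : Subgroup G) : Set G) := Sylow.smul_eq_iff_mem_normalizer.mp hP
  exact (mem_normalizer_iff.mp htN x).mp hx

/-- the Sylow subgroups other than `P` fixed by `t` (which fixes `P` and `Q`) correspond to
`C_P(t)` -/
theorem card_fixed_eq (c : Cfg G) (t : G) (P Q : Sylow 3 G) (hPQ : P ≠ Q) (hP : t • P = P)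
    (hQ : t • Q = Q) :
    Nat.card {R : Sylow 3 G // R ≠ P ∧ t • R = R} =
      Nat.card ↥((P : Subgroup G) ⊓ centralizer {t}) := by
  have hf : ∀ x : ↥((P : Subgroup G) ⊓ centralizer {t}),
      (x : G) • Q ≠ P ∧ t • ((x : G) • Q) = (x : G) • Q := by
    intro x
    have hx1 : (x : G) ∈ (P : Subgroup G) := x.2.1
    have hx2 : t * (x : G) = (x : G) * t := (mem_centralizer_singleton_iff.mp x.2.2).symm
    constructor
    · intro h
      apply hPQ
      have h1 : Q = (x : G)⁻¹ • P := by rw [eq_inv_smul_iff]; exact h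
      rw [h1]
      exact (smul_self_of_mem P _ (inv_mem hx1)).symm
    · rw [← mul_smul, hx2, mul_smul, hQ]
  symm
  refine Nat.card_congr (Equiv.ofBijective (fun x => ⟨(x : G) • Q, hf x⟩) ⟨?_, ?_⟩)
  · intro y y' h
    have h' : (y : G) • Q = (y' : G) • Q := congrArg Subtype.val h
    have h2 : ((y' : G)⁻¹ * (y : G)) • Q = Q := by
      rw [mul_smul, h', inv_smul_smul]
    have h3 := eq_one_of_smul_eq c P Q hPQ _ (mul_mem (inv_mem y'.2.1) y.2.1) h2
    apply Subtype.ext
    rw [inv_mul_eq_one] at h3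
    exact h3.symm
  · rintro ⟨R, hRP, hR⟩
    obtain ⟨x, hx, hxQ⟩ := exists_smul_eq c P Q R hPQ.symm hRP
    have hconj := conj_mem_of_smul_eq P t x hP hx
    have htinv : t⁻¹ • Q = Q := by rw [inv_smul_eq_iff, hQ]
    have h1 : (x⁻¹ * (t * x * t⁻¹)) • Q = Q := by
      rw [mul_smul, mul_smul, mul_smul, htinv, hxQ, hR, ← hxQ, inv_smul_smul]
    have h2 := eq_one_of_smul_eq c P Q hPQ _ (mul_mem (inv_mem hx) hconj) h1
    have h3 : t * x = x * t := by
      rw [inv_mul_eq_one] at h2
      calc t * x = (t * x * t⁻¹) * t := by group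
        _ = x * t := by rw [← h2]
    refine ⟨⟨x, hx, mem_centralizer_singleton_iff.mpr h3.symm⟩, ?_⟩
    exact Subtype.ext hxQ

/-- a nontrivial involution normalizes exactly two Sylow `3`-subgroups -/
theorem invol_fixed (c : Cfg G) (t : G) (ht : t ^ 2 = 1) (ht1 : t ≠ 1) :
    ∃ P Q : Sylow 3 G, P ≠ Q ∧ t • P = P ∧ t • Q = Q ∧
      ∀ R : Sylow 3 G, t • R = R → R = P ∨ R = Q := by
  classical
  haveI : Fintype (Sylow 3 G) := Fintype.ofFinite _
  have hcard : Fintype.card (Sylow 3 G) = 10 := by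
    rw [← Nat.card_eq_fintype_card]; exact c.n3
  set F : Finset (Sylow 3 G) := Finset.univ.filter (fun R => t • R = R) with hF
  have hFc : Fᶜ = Finset.univ.filter (fun R => t • R ≠ R) := by
    ext R; simp [hF]
  have h4 : 4 ∣ Fᶜ.card := by
    have := four_dvd_moved c t ht
    rwa [Nat.card_eq_fintype_card, Fintype.card_subtype, ← hFc] at this
  have hne : Fᶜ.card ≠ 0 := by
    intro h0
    apply ht1
    apply c.faithful
    intro R
    have : R ∉ Fᶜ := by
      rw [Finset.card_eq_zero.mp h0]; exact Finset.notMem_empty R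
    rw [Finset.mem_compl, not_not, hF, Finset.mem_filter] at this
    exact this.2
  have hsum : F.card + Fᶜ.card = 10 := by
    rw [Finset.card_add_card_compl, hcard]
  have h26 : F.card = 2 ∨ F.card = 6 := by
    obtain ⟨k, hk⟩ := h4
    omega
  have h1lt : 1 < F.card := by omega
  obtain ⟨P, hP, Q, hQ, hPQ⟩ := Finset.one_lt_card.mp h1lt
  have hP' : t • P = P := (Finset.mem_filter.mp hP).2
  have hQ' : t • Q = Q := (Finset.mem_filter.mp hQ).2
  have hce := card_fixed_eq c t P Q hPQ hP' hQ'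
  have hdvd : Nat.card ↥((P : Subgroup G) ⊓ centralizer {t}) ∣ 9 := by
    have := Subgroup.card_dvd_of_le (inf_le_left : (P : Subgroup G) ⊓ centralizer {t} ≤ P)
    rwa [c.cardP P] at this
  have herase : Nat.card {R : Sylow 3 G // R ≠ P ∧ t • R = R} = (F.erase P).card := by
    rw [Nat.card_eq_fintype_card, Fintype.card_subtype]
    congr 1
    ext R
    simp [hF, Finset.mem_erase]
  have hcard2 : (F.erase P).card = F.card - 1 := Finset.card_erase_of_mem hP
  have hF2 : F.card = 2 := by
    rcases h26 with h | h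
    · exact h
    · exfalso
      rw [← hce, herase, hcard2, h] at hdvd
      norm_num at hdvd
  obtain ⟨x, y, hxy, hFxy⟩ := Finset.card_eq_two.mp hF2
  have hx : x ∈ F := by rw [hFxy]; simp
  have hy : y ∈ F := by rw [hFxy]; simp
  refine ⟨x, y, hxy, (Finset.mem_filter.mp hx).2, (Finset.mem_filter.mp hy).2, ?_⟩
  intro R hR
  have : R ∈ F := Finset.mem_filter.mpr ⟨Finset.mem_univ R, hR⟩
  rw [hFxy] at this
  simpa using this

end Cfsg.Agent.Lib.Helper18.Ord720
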