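import Mathlib
import Cfsg.Agent.Lib.Helper18.Ord720B

/-!
# Order 720, ten Sylow 3-subgroups: the two-point stabilizer `K`
-/

set_option autoImplicit false

namespace Cfsg.Agent.Lib.Helper18.Ord720

open Subgroup MulAction

variable {G : Type*} [Group G] [Finite G]

/-- the two-point stabilizer -/
def Kgrp (P Q : Sylow 3 G) : Subgroup G := stabilizer G P ⊓ stabilizer G Q

omit [Finite G] in
theorem mem_Kgrp {P Q : Sylow 3 G} {g : G} : g ∈ Kgrp P Q ↔ g • P = P ∧ g • Q = Q := Iff.rfl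

theorem card_Kgrp (c : Cfg G) (P Q : Sylow 3 G) (hPQ : P ≠ Q) : Nat.card (Kgrp P Q) = 8 := by
  classical
  haveI : Fintype (Sylow 3 G) := Fintype.ofFinite _
  have hcard : Fintype.card (Sylow 3 G) = 10 := by
    rw [← Nat.card_eq_fintype_card]; exact c.n3
  have hstab : stabilizer G ((P, Q) : Sylow 3 G × Sylow 3 G) = Kgrp P Q := by
    ext g
    rw [mem_stabilizer_iff, mem_Kgrp, Prod.smul_mk, Prod.mk.injEq]
  have horb : orbit G ((P, Q) : Sylow 3 G × Sylow 3 G) = {p | p.1 ≠ p.2} := by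
    ext ⟨P', Q'⟩
    constructor
    · rintro ⟨g, hg⟩
      have hg' : (g • P, g • Q) = (P', Q') := hg
      rw [Prod.mk.injEq] at hg'
      show P' ≠ Q'
      rw [← hg'.1, ← hg'.2]
      intro h
      exact hPQ (smul_left_cancel g h)
    · intro h
      obtain ⟨g, hg1, hg2⟩ := exists_smul_pair c P Q P' Q' hPQ h
      exact ⟨g, by show (g • P, g • Q) = (P', Q'); rw [hg1, hg2]⟩
  have hn : Set.ncard {p : Sylow 3 G × Sylow 3 G | p.1 ≠ p.2} = 90 := by
    have e : {p : Sylow 3 G × Sylow 3 G | p.1 ≠ p.2} =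
        ↑((Finset.univ : Finset (Sylow 3 G)).offDiag) := by
      ext p; simp
    rw [e, Set.ncard_coe_finset, Finset.offDiag_card, Finset.card_univ, hcard]
  have h1 := MulAction.index_stabilizer G ((P, Q) : Sylow 3 G × Sylow 3 G)
  rw [horb, hn, hstab] at h1
  have h2 := Subgroup.card_mul_index (Kgrp P Q)
  rw [h1, c.card] at h2
  omega

/-- Sylow `3`-subgroups are abelian -/
theorem P_comm (c : Cfg G) (P : Sylow 3 G) (a b : G) (ha : a ∈ (P : Subgroup G))
    (hb : b ∈ (P : Subgroup G)) : a * b = b * a := by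
  have h9 : Nat.card ↥(P : Subgroup G) = 3 ^ 2 := by rw [c.cardP P]; norm_num
  have hc : IsMulCommutative ↥(P : Subgroup G) := IsPGroup.isMulCommutative_of_card_eq_prime_sq h9
  have := hc.is_comm.comm (⟨a, ha⟩ : ↥(P : Subgroup G)) ⟨b, hb⟩
  exact congrArg Subtype.val this

/-- the fixed points of a nontrivial involution of `K` are exactly `P` and `Q` -/
theorem invol_K_fixed (c : Cfg G) (P Q : Sylow 3 G) (hPQ : P ≠ Q) (z : G)
    (hz : z ∈ Kgrp P Q) (hz2 : z ^ 2 = 1) (hz1 : z ≠ 1) (R : Sylow 3 G) (hR : z • R = R) :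
    R = P ∨ R = Q := by
  obtain ⟨P', Q', hne, -, -, hall⟩ := invol_fixed c z hz2 hz1
  have hP := hall P hz.1
  have hQ := hall Q hz.2
  have hR' := hall R hR
  rcases hP with hP | hP <;> rcases hQ with hQ | hQ <;> rcases hR' with hR' | hR'
  all_goals first
    | (exfalso; exact hPQ (hP.trans hQ.symm))
    | (left; exact hR'.trans hP.symm)
    | (right; exact hR'.trans hQ.symm)

/-- a nontrivial involution of `K` centralizes no nontrivial element of `P` -/
theorem invol_K_cent (c : Cfg G) (P Q : Sylow 3 G) (hPQ : P ≠ Q) (z : G)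
    (hz : z ∈ Kgrp P Q) (hz2 : z ^ 2 = 1) (hz1 : z ≠ 1) (x : G) (hx : x ∈ (P : Subgroup G))
    (hzx : z * x = x * z) : x = 1 := by
  have h1 : z • (x • Q) = x • Q := by
    rw [← mul_smul, hzx, mul_smul, hz.2]
  rcases invol_K_fixed c P Q hPQ z hz hz2 hz1 _ h1 with h | h
  · exfalso
    apply hPQ
    have h2 : Q = x⁻¹ • P := by rw [eq_inv_smul_iff]; exact h
    rw [h2]
    exact (smul_self_of_mem P _ (inv_mem hx)).symm
  · exact eq_one_of_smul_eq c P Q hPQ x hx h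

/-- a nontrivial involution of `K` inverts `P` -/
theorem invol_K_inverts (c : Cfg G) (P Q : Sylow 3 G) (hPQ : P ≠ Q) (z : G)
    (hz : z ∈ Kgrp P Q) (hz2 : z ^ 2 = 1) (hz1 : z ≠ 1) (x : G) (hx : x ∈ (P : Subgroup G)) :
    z * x * z⁻¹ = x⁻¹ := by
  have hconj := conj_mem_of_smul_eq P z x hz.1 hx
  have e2 : z * z = 1 := by rw [← pow_two, hz2]
  have hw : x * (z * x * z⁻¹) ∈ (P : Subgroup G) := mul_mem hx hconj
  have e1 : z * (x * (z * x * z⁻¹)) * z⁻¹ = (z * x * z⁻¹) * (z * z * x * (z * z)⁻¹) := by group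
  rw [e2, one_mul, inv_one, mul_one, P_comm c P _ _ hconj hx] at e1
  have hcomm : z * (x * (z * x * z⁻¹)) = (x * (z * x * z⁻¹)) * z := by
    calc z * (x * (z * x * z⁻¹)) = (z * (x * (z * x * z⁻¹)) * z⁻¹) * z := by group
      _ = (x * (z * x * z⁻¹)) * z := by rw [e1]
  have h1 := invol_K_cent c P Q hPQ z hz hz2 hz1 _ hw hcomm
  exact eq_inv_of_mul_eq_one_right h1

theorem exists_invol_K (c : Cfg G) (P Q : Sylow 3 G) (hPQ : P ≠ Q) :
    ∃ z ∈ Kgrp P Q, z ^ 2 = 1 ∧ z ≠ 1 := by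
  haveI : Fact (Nat.Prime 2) := ⟨Nat.prime_two⟩
  have hdvd : 2 ∣ Nat.card (Kgrp P Q) := by rw [card_Kgrp c P Q hPQ]; norm_num
  obtain ⟨x, hx⟩ := exists_prime_orderOf_dvd_card' 2 hdvd
  refine ⟨x, x.2, ?_, ?_⟩
  · have := pow_orderOf_eq_one x
    rw [hx] at this
    exact congrArg Subtype.val this
  · intro h
    have : x = 1 := Subtype.ext h
    rw [this, orderOf_one] at hx
    norm_num at hx

/-- `K` has a unique involution -/
theorem invol_K_unique (c : Cfg G) (P Q : Sylow 3 G) (hPQ : P ≠ Q) (z1 z2 : G)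
    (hz1 : z1 ∈ Kgrp P Q) (h12 : z1 ^ 2 = 1) (h11 : z1 ≠ 1)
    (hz2 : z2 ∈ Kgrp P Q) (h22 : z2 ^ 2 = 1) (h21 : z2 ≠ 1) : z1 = z2 := by
  have hprod : z1 * z2 = 1 := by
    apply c.faithful
    intro R
    have hcomm : ∀ x ∈ (P : Subgroup G), (z1 * z2) * x = x * (z1 * z2) := by
      intro x hx
      have i2 := invol_K_inverts c P Q hPQ z2 hz2 h22 h21 x hx
      have i1 := invol_K_inverts c P Q hPQ z1 hz1 h12 h11 x⁻¹ (inv_mem hx)
      rw [inv_inv] at i1
      have : z1 * z2 * x = z1 * (z2 * x * z2⁻¹) * z1⁻¹ * (z1 * z2) := by group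
      rw [this, i2, i1]
    by_cases hR : R = P
    · rw [hR, mul_smul, hz2.1, hz1.1]
    · obtain ⟨x, hx, hxQ⟩ := exists_smul_eq c P Q R hPQ.symm hR
      rw [← hxQ, ← mul_smul, hcomm x hx, mul_smul, mul_smul, hz2.2, hz1.2]
  have : z2⁻¹ = z2 := by
    rw [inv_eq_iff_mul_eq_one, ← pow_two, h22]
  rw [← this]
  exact eq_inv_of_mul_eq_one_left hprod

omit [Finite G] in
theorem pow_smul_of_smul {α : Type*} [MulAction G α] (g : G) (x : α) (h : g • x = x) (n : ℕ) :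
    g ^ n • x = x := by
  induction n with
  | zero => simp
  | succ n ih => rw [pow_succ, mul_smul, h, ih]

/-- orders of elements of `K` -/
theorem orderOf_K (c : Cfg G) (P Q : Sylow 3 G) (hPQ : P ≠ Q) (k : G) (hk : k ∈ Kgrp P Q) :
    ∃ m ≤ 3, orderOf k = 2 ^ m := by
  have h1 : orderOf (⟨k, hk⟩ : Kgrp P Q) ∣ 2 ^ 3 := by
    have := orderOf_dvd_natCard (⟨k, hk⟩ : Kgrp P Q)
    rwa [card_Kgrp c P Q hPQ] at this
  rw [← Subgroup.orderOf_coe] at h1
  exact (Nat.dvd_prime_pow Nat.prime_two).mp h1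

/-- `K` acts semiregularly off `P`, `Q` -/
theorem K_semiregular (c : Cfg G) (P Q : Sylow 3 G) (hPQ : P ≠ Q) (k : G)
    (hk : k ∈ Kgrp P Q) (hk1 : k ≠ 1) (R : Sylow 3 G) (hR : k • R = R) : R = P ∨ R = Q := by
  obtain ⟨m, hm3, hm⟩ := orderOf_K c P Q hPQ k hk
  have hm0 : m ≠ 0 := by
    rintro rfl
    rw [pow_zero, orderOf_eq_one_iff] at hm
    exact hk1 hm
  obtain ⟨n, rfl⟩ : ∃ n, m = n + 1 := ⟨m - 1, by omega⟩
  have hz2 : (k ^ 2 ^ n) ^ 2 = 1 := by
    rw [← pow_mul, ← pow_succ, ← hm, pow_orderOf_eq_one]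
  have hz1 : k ^ 2 ^ n ≠ 1 := by
    intro h
    have := orderOf_dvd_of_pow_eq_one h
    rw [hm] at this
    have h2 := Nat.le_of_dvd (by positivity) this
    have : 2 ^ n < 2 ^ (n + 1) := Nat.pow_lt_pow_right (by norm_num) (by omega)
    omega
  exact invol_K_fixed c P Q hPQ _ (pow_mem hk _) hz2 hz1 R (pow_smul_of_smul k R hR _)

end Cfsg.Agent.Lib.Helper18.Ord720
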