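import Mathlib
import Cfsg.Agent.Lib.Helper18.Ord720C

/-!
# Order 720, ten Sylow 3-subgroups: exponent of `K`, the stabilizer `S` of the pair
-/

set_option autoImplicit false

namespace Cfsg.Agent.Lib.Helper18.Ord720

open Subgroup MulAction

variable {G : Type*} [Group G] [Finite G]

/-- the support of a nontrivial element of `K` -/
theorem support_toPerm_K [Fintype (Sylow 3 G)] [DecidableEq (Sylow 3 G)] (c : Cfg G)
    (P Q : Sylow 3 G) (hPQ : P ≠ Q) (k : G) (hk : k ∈ Kgrp P Q) (hk1 : k ≠ 1) :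
    (MulAction.toPerm k : Equiv.Perm (Sylow 3 G)).support = ({P, Q} : Finset (Sylow 3 G))ᶜ := by
  ext R
  rw [Equiv.Perm.mem_support, Finset.mem_compl, Finset.mem_insert, Finset.mem_singleton]
  constructor
  · intro h hR
    apply h
    rcases hR with rfl | rfl
    · exact hk.1
    · exact hk.2
  · intro h hR
    exact h (K_semiregular c P Q hPQ k hk hk1 R hR)

/-- `K` has no element of order `8` -/
theorem K_no_order_eight (c : Cfg G) (P Q : Sylow 3 G) (hPQ : P ≠ Q) (k : G)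
    (hk : k ∈ Kgrp P Q) : orderOf k ≠ 8 := by
  classical
  intro h8
  haveI : Fintype (Sylow 3 G) := Fintype.ofFinite _
  have hcard : Fintype.card (Sylow 3 G) = 10 := by
    rw [← Nat.card_eq_fintype_card]; exact c.n3
  have hk1 : k ≠ 1 := by
    rintro rfl
    rw [orderOf_one] at h8
    norm_num at h8
  have hk41 : k ^ 4 ≠ 1 := by
    intro h
    have := orderOf_dvd_of_pow_eq_one h
    rw [h8] at this
    norm_num at this
  set σ : Equiv.Perm (Sylow 3 G) := MulAction.toPerm k with hσ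
  have e1 : σ = MulAction.toPermHom G (Sylow 3 G) k := rfl
  have hσ8 : σ ^ 8 = 1 := by
    rw [e1, ← map_pow, ← h8, pow_orderOf_eq_one, map_one]
  have hσ4 : σ ^ 4 = MulAction.toPerm (k ^ 4) := by
    rw [e1, ← map_pow]; rfl
  have hc8 : (({P, Q} : Finset (Sylow 3 G))ᶜ).card = 8 := by
    rw [Finset.card_compl, hcard, Finset.card_pair hPQ]
  have hs1 : σ.support.card = 8 := by
    rw [hσ, support_toPerm_K c P Q hPQ k hk hk1, hc8]
  have hs2 : (σ ^ 4).support.card = 8 := by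
    rw [hσ4, support_toPerm_K c P Q hPQ (k ^ 4) (pow_mem hk 4) hk41, hc8]
  have hneg := Cfsg.Agent.Lib.Helper25.NS720.sign_eq_neg_one_of_eight σ hσ8 hs1 hs2
  have hs : Equiv.Perm.sign σ = 1 :=
    c.hom (Equiv.Perm.sign.comp (MulAction.toPermHom G (Sylow 3 G))) k
  rw [hs] at hneg
  exact absurd hneg (by decide)

/-- every element of `K` has fourth power `1` -/
theorem K_pow_four (c : Cfg G) (P Q : Sylow 3 G) (hPQ : P ≠ Q) (k : G)
    (hk : k ∈ Kgrp P Q) : k ^ 4 = 1 := by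
  obtain ⟨m, hm3, hm⟩ := orderOf_K c P Q hPQ k hk
  have h8 := K_no_order_eight c P Q hPQ k hk
  have hm2 : m ≤ 2 := by
    by_contra h
    have : m = 3 := by omega
    rw [this] at hm
    exact h8 (by rw [hm]; norm_num)
  apply orderOf_dvd_iff_pow_eq_one.mp
  rw [hm]
  exact pow_dvd_pow 2 hm2

/-- the setwise stabilizer of `{P, Q}` -/
def Sgrp (P Q : Sylow 3 G) : Subgroup G where
  carrier := {g | (g • P = P ∧ g • Q = Q) ∨ (g • P = Q ∧ g • Q = P)}
  one_mem' := Or.inl ⟨one_smul _ _, one_smul _ _⟩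
  mul_mem' := by
    rintro a b (⟨ha1, ha2⟩ | ⟨ha1, ha2⟩) (⟨hb1, hb2⟩ | ⟨hb1, hb2⟩)
    · left; rw [mul_smul, mul_smul, hb1, hb2]; exact ⟨ha1, ha2⟩
    · right; rw [mul_smul, mul_smul, hb1, hb2]; exact ⟨ha2, ha1⟩
    · right; rw [mul_smul, mul_smul, hb1, hb2]; exact ⟨ha1, ha2⟩
    · left; rw [mul_smul, mul_smul, hb1, hb2]; exact ⟨ha2, ha1⟩
  inv_mem' := by
    rintro a (⟨ha1, ha2⟩ | ⟨ha1, ha2⟩)
    · left; rw [inv_smul_eq_iff, inv_smul_eq_iff]; exact ⟨ha1.symm, ha2.symm⟩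
    · right; rw [inv_smul_eq_iff, inv_smul_eq_iff]; exact ⟨ha2.symm, ha1.symm⟩

omit [Finite G] in
theorem mem_Sgrp {P Q : Sylow 3 G} {g : G} :
    g ∈ Sgrp P Q ↔ (g • P = P ∧ g • Q = Q) ∨ (g • P = Q ∧ g • Q = P) := Iff.rfl

omit [Finite G] in
theorem Kgrp_le_Sgrp (P Q : Sylow 3 G) : Kgrp P Q ≤ Sgrp P Q := fun _ h => Or.inl h

omit [Finite G] in
/-- elements of `S` outside `K` swap `P` and `Q` -/
theorem swap_of_not_mem {P Q : Sylow 3 G} {g : G} (hg : g ∈ Sgrp P Q) (hgK : g ∉ Kgrp P Q) :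
    g • P = Q ∧ g • Q = P := by
  rcases hg with h | h
  · exact absurd h hgK
  · exact h

theorem exists_swap (c : Cfg G) (P Q : Sylow 3 G) (hPQ : P ≠ Q) :
    ∃ s ∈ Sgrp P Q, s ∉ Kgrp P Q := by
  obtain ⟨g, hg1, hg2⟩ := exists_smul_pair c P Q Q P hPQ hPQ.symm
  refine ⟨g, Or.inr ⟨hg1, hg2⟩, ?_⟩
  intro h
  exact hPQ (h.1.symm.trans hg1)

omit [Finite G] in
/-- the product of two elements of `S` outside `K` lies in `K` -/
theorem mul_mem_K_of_not_mem {P Q : Sylow 3 G} {a b : G} (ha : a ∈ Sgrp P Q)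
    (haK : a ∉ Kgrp P Q) (hb : b ∈ Sgrp P Q) (hbK : b ∉ Kgrp P Q) : a * b ∈ Kgrp P Q := by
  obtain ⟨ha1, ha2⟩ := swap_of_not_mem ha haK
  obtain ⟨hb1, hb2⟩ := swap_of_not_mem hb hbK
  exact mem_Kgrp.mpr ⟨by rw [mul_smul, hb1, ha2], by rw [mul_smul, hb2, ha1]⟩

theorem relIndex_K_S (c : Cfg G) (P Q : Sylow 3 G) (hPQ : P ≠ Q) :
    (Kgrp P Q).relIndex (Sgrp P Q) = 2 := by
  rw [Subgroup.relIndex_eq_two_iff_exists_notMem_and]
  obtain ⟨s, hs, hsK⟩ := exists_swap c P Q hPQ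
  refine ⟨s, hs, hsK, ?_⟩
  intro b hb
  by_cases hbK : b ∈ Kgrp P Q
  · exact Or.inr hbK
  · exact Or.inl (mul_mem_K_of_not_mem hb hbK hs hsK)

theorem card_Sgrp (c : Cfg G) (P Q : Sylow 3 G) (hPQ : P ≠ Q) : Nat.card (Sgrp P Q) = 16 := by
  have := Cfsg.Agent.Lib.Helper7.card_mul_relIndex (Kgrp_le_Sgrp P Q)
  rw [relIndex_K_S c P Q hPQ, card_Kgrp c P Q hPQ] at this
  omega

omit [Finite G] in
/-- `S` normalizes `K` -/
theorem conj_mem_K {P Q : Sylow 3 G} {s k : G} (hs : s ∈ Sgrp P Q) (hk : k ∈ Kgrp P Q) :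
    s * k * s⁻¹ ∈ Kgrp P Q := by
  by_cases hsK : s ∈ Kgrp P Q
  · exact mul_mem (mul_mem hsK hk) (inv_mem hsK)
  · have hs' : s⁻¹ ∉ Kgrp P Q := fun h => hsK (by simpa using inv_mem h)
    have h1 : k * s⁻¹ ∉ Kgrp P Q := fun h => hs' (by simpa using mul_mem (inv_mem hk) h)
    exact mul_assoc s k s⁻¹ ▸ mul_mem_K_of_not_mem hs hsK
      (mul_mem (Kgrp_le_Sgrp P Q hk) (inv_mem hs)) h1

/-- the centralizer of the involution of `K` is `S` -/
theorem centralizer_invol (c : Cfg G) (P Q : Sylow 3 G) (hPQ : P ≠ Q) (z : G)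
    (hz : z ∈ Kgrp P Q) (hz2 : z ^ 2 = 1) (hz1 : z ≠ 1) : centralizer {z} = Sgrp P Q := by
  ext g
  rw [mem_centralizer_singleton_iff]
  constructor
  · intro hg
    have hP : z • (g • P) = g • P := by rw [← mul_smul, ← hg, mul_smul, hz.1]
    have hQ : z • (g • Q) = g • Q := by rw [← mul_smul, ← hg, mul_smul, hz.2]
    have hne : g • P ≠ g • Q := fun h => hPQ (smul_left_cancel g h)
    rcases invol_K_fixed c P Q hPQ z hz hz2 hz1 _ hP with h1 | h1 <;>
      rcases invol_K_fixed c P Q hPQ z hz hz2 hz1 _ hQ with h2 | h2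
    · exact absurd (h1.trans h2.symm) hne
    · exact Or.inl ⟨h1, h2⟩
    · exact Or.inr ⟨h1, h2⟩
    · exact absurd (h1.trans h2.symm) hne
  · intro hg
    have h1 : g * z * g⁻¹ ∈ Kgrp P Q := conj_mem_K hg hz
    have h2 : (g * z * g⁻¹) ^ 2 = 1 := by
      rw [conj_pow, hz2]; group
    have h3 : g * z * g⁻¹ ≠ 1 := by
      intro h
      apply hz1
      have : z = g⁻¹ * (g * z * g⁻¹) * g := by group
      rw [this, h]; group
    have h4 := invol_K_unique c P Q hPQ _ z h1 h2 h3 hz hz2 hz1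
    calc g * z = (g * z * g⁻¹) * g := by group
      _ = z * g := by rw [h4]

end Cfsg.Agent.Lib.Helper18.Ord720
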