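import Mathlib
import Cfsg.Agent.Lib.Helper18.Ord720D

/-!
# Order 720, ten Sylow 3-subgroups: an involution outside `K` and its action on `K`
-/

set_option autoImplicit false

namespace Cfsg.Agent.Lib.Helper18.Ord720

open Subgroup MulAction

variable {G : Type*} [Group G] [Finite G]

theorem card_others (c : Cfg G) (P Q : Sylow 3 G) (hPQ : P ≠ Q) :
    Nat.card {R : Sylow 3 G // R ≠ P ∧ R ≠ Q} = 8 := by
  classical
  haveI : Fintype (Sylow 3 G) := Fintype.ofFinite _
  have hcard : Fintype.card (Sylow 3 G) = 10 := by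
    rw [← Nat.card_eq_fintype_card]; exact c.n3
  rw [Nat.card_eq_fintype_card, Fintype.card_subtype]
  have e : (Finset.univ.filter fun R : Sylow 3 G => R ≠ P ∧ R ≠ Q) =
      ({P, Q} : Finset (Sylow 3 G))ᶜ := by
    ext R; simp
  rw [e, Finset.card_compl, hcard, Finset.card_pair hPQ]

omit [Finite G] in
theorem smul_ne_of_mem_K {P Q : Sylow 3 G} {k : G} (hk : k ∈ Kgrp P Q) {R : Sylow 3 G}
    (hR : R ≠ P ∧ R ≠ Q) : k • R ≠ P ∧ k • R ≠ Q := by
  constructor
  · intro h
    apply hR.1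
    have : R = k⁻¹ • P := by rw [eq_inv_smul_iff]; exact h
    rw [this, inv_smul_eq_iff, hk.1]
  · intro h
    apply hR.2
    have : R = k⁻¹ • Q := by rw [eq_inv_smul_iff]; exact h
    rw [this, inv_smul_eq_iff, hk.2]

/-- `K` is transitive on the Sylow subgroups other than `P`, `Q` -/
theorem K_transitive (c : Cfg G) (P Q : Sylow 3 G) (hPQ : P ≠ Q) (R R' : Sylow 3 G)
    (hR : R ≠ P ∧ R ≠ Q) (hR' : R' ≠ P ∧ R' ≠ Q) : ∃ k ∈ Kgrp P Q, k • R = R' := by
  let f : ↥(Kgrp P Q) → {R : Sylow 3 G // R ≠ P ∧ R ≠ Q} :=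
    fun k => ⟨(k : G) • R, smul_ne_of_mem_K k.2 hR⟩
  have hinj : Function.Injective f := by
    intro k k' h
    have h' : (k : G) • R = (k' : G) • R := congrArg Subtype.val h
    have h2 : ((k' : G)⁻¹ * (k : G)) • R = R := by
      rw [mul_smul, h', inv_smul_smul]
    by_contra hne
    have h3 : (k' : G)⁻¹ * (k : G) ≠ 1 := by
      intro h4
      apply hne
      apply Subtype.ext
      rw [inv_mul_eq_one] at h4
      exact h4.symm
    rcases K_semiregular c P Q hPQ _ (mul_mem (inv_mem k'.2) k.2) h3 R h2 with h5 | h5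
    · exact hR.1 h5
    · exact hR.2 h5
  have hcard : Nat.card {R : Sylow 3 G // R ≠ P ∧ R ≠ Q} ≤ Nat.card ↥(Kgrp P Q) := by
    rw [card_others c P Q hPQ, card_Kgrp c P Q hPQ]
  obtain ⟨k, hk⟩ := (hinj.bijective_of_nat_card_le hcard).2 ⟨R', hR'⟩
  exact ⟨k, k.2, congrArg Subtype.val hk⟩

/-- an involution of `S` outside `K` fixing some point -/
theorem exists_invol_S (c : Cfg G) (P Q : Sylow 3 G) (hPQ : P ≠ Q) :
    ∃ t ∈ Sgrp P Q, t ∉ Kgrp P Q ∧ t * t = 1 ∧
      ∃ R : Sylow 3 G, (R ≠ P ∧ R ≠ Q) ∧ t • R = R := by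
  have hpos : 0 < Nat.card {R : Sylow 3 G // R ≠ P ∧ R ≠ Q} := by
    rw [card_others c P Q hPQ]; norm_num
  obtain ⟨⟨R, hR⟩⟩ := Nat.card_pos_iff.mp hpos |>.1
  obtain ⟨s, hs, hsK⟩ := exists_swap c P Q hPQ
  obtain ⟨hs1, hs2⟩ := swap_of_not_mem hs hsK
  have hsR : s • R ≠ P ∧ s • R ≠ Q := by
    constructor
    · intro h
      apply hR.2
      have : R = s⁻¹ • P := by rw [eq_inv_smul_iff]; exact h
      rw [this, inv_smul_eq_iff, hs2]
    · intro h
      apply hR.1
      have : R = s⁻¹ • Q := by rw [eq_inv_smul_iff]; exact h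
      rw [this, inv_smul_eq_iff, hs1]
  obtain ⟨k, hk, hkR⟩ := K_transitive c P Q hPQ (s • R) R hsR hR
  have htS : k * s ∈ Sgrp P Q := mul_mem (Kgrp_le_Sgrp P Q hk) hs
  have htK : k * s ∉ Kgrp P Q := by
    intro h
    apply hsK
    have := mul_mem (inv_mem hk) h
    simpa using this
  have htR : (k * s) • R = R := by rw [mul_smul, hkR]
  refine ⟨k * s, htS, htK, ?_, R, hR, htR⟩
  by_contra hne
  have h2 : ((k * s) * (k * s)) • R = R := by rw [mul_smul, htR, htR]
  rcases K_semiregular c P Q hPQ _ (mul_mem_K_of_not_mem htS htK htS htK) hne R h2 with h | h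
  · exact hR.1 h
  · exact hR.2 h

/-- the centralizer in `K` of an involution of `S` outside `K` with a fixed point is `{1, z}` -/
theorem cent_K_invol (c : Cfg G) (P Q : Sylow 3 G) (hPQ : P ≠ Q) (z : G)
    (hz : z ∈ Kgrp P Q) (hz2 : z ^ 2 = 1) (hz1 : z ≠ 1) (t : G) (ht : t ∈ Sgrp P Q)
    (htK : t ∉ Kgrp P Q) (htt : t * t = 1) (R : Sylow 3 G) (hR : R ≠ P ∧ R ≠ Q)
    (htR : t • R = R) (y : G) (hy : y ∈ Kgrp P Q) (hty : t * y = y * t) : y = 1 ∨ y = z := by
  by_contra hcon
  push Not at hcon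
  have ht1 : t ≠ 1 := by
    rintro rfl
    exact htK (one_mem _)
  have ht2 : t ^ 2 = 1 := by rw [pow_two]; exact htt
  obtain ⟨P', Q', hne, hP', hQ', hall⟩ := invol_fixed c t ht2 ht1
  have htz : t * z = z * t := by
    have : t ∈ centralizer {z} := by rw [centralizer_invol c P Q hPQ z hz hz2 hz1]; exact ht
    exact (mem_centralizer_singleton_iff.mp this)
  have hyR : t • (y • R) = y • R := by rw [← mul_smul, hty, mul_smul, htR]
  have hzR : t • (z • R) = z • R := by rw [← mul_smul, htz, mul_smul, htR]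
  have hyne : y • R ≠ R := by
    intro h
    rcases K_semiregular c P Q hPQ y hy hcon.1 R h with h | h
    · exact hR.1 h
    · exact hR.2 h
  have hzne : z • R ≠ R := by
    intro h
    rcases K_semiregular c P Q hPQ z hz hz1 R h with h | h
    · exact hR.1 h
    · exact hR.2 h
  have heq : y • R = z • R := by
    rcases hall R htR with h1 | h1 <;> rcases hall _ hyR with h2 | h2 <;>
      rcases hall _ hzR with h3 | h3
    · exact absurd (h2.trans h1.symm) hyne
    · exact absurd (h2.trans h1.symm) hyne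
    · exact absurd (h3.trans h1.symm) hzne
    · exact h2.trans h3.symm
    · exact h2.trans h3.symm
    · exact absurd (h3.trans h1.symm) hzne
    · exact absurd (h2.trans h1.symm) hyne
    · exact absurd (h2.trans h1.symm) hyne
  have h5 : (z⁻¹ * y) • R = R := by rw [mul_smul, heq, inv_smul_smul]
  have h6 : z⁻¹ * y = 1 := by
    by_contra h7
    rcases K_semiregular c P Q hPQ _ (mul_mem (inv_mem hz) hy) h7 R h5 with h | h
    · exact hR.1 h
    · exact hR.2 h
  apply hcon.2
  rw [inv_mul_eq_one] at h6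
  exact h6.symm

end Cfsg.Agent.Lib.Helper18.Ord720
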