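import Mathlib
import Cfsg.Agent.Lib.Helper18.Ord720E

/-!
# Order 720, ten Sylow 3-subgroups: an element of order four with normalizer of order eight
-/

set_option autoImplicit false

namespace Cfsg.Agent.Lib.Helper18.Ord720

open Subgroup MulAction

variable {G : Type*} [Group G] [Finite G]

/-- elements of `K` other than `1` and the involution have order four and square to it -/
theorem order_four_of_ne (c : Cfg G) (P Q : Sylow 3 G) (hPQ : P ≠ Q) (z : G)
    (hz : z ∈ Kgrp P Q) (hz2 : z ^ 2 = 1) (hz1 : z ≠ 1) (y : G) (hy : y ∈ Kgrp P Q)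
    (hy1 : y ≠ 1) (hyz : y ≠ z) : orderOf y = 4 ∧ y ^ 2 = z := by
  have h4 := K_pow_four c P Q hPQ y hy
  have hy2 : y ^ 2 ≠ 1 := by
    intro h
    exact hyz (invol_K_unique c P Q hPQ y z hy h hy1 hz hz2 hz1)
  constructor
  · have hd : orderOf y ∣ 2 ^ 2 := orderOf_dvd_of_pow_eq_one (by norm_num; exact h4)
    obtain ⟨m, hm2, hm⟩ := (Nat.dvd_prime_pow Nat.prime_two).mp hd
    interval_cases m
    · exfalso
      rw [pow_zero, orderOf_eq_one_iff] at hm
      exact hy1 hm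
    · exfalso
      apply hy2
      have := pow_orderOf_eq_one y
      rwa [hm] at this
    · rw [hm]; norm_num
  · have h22 : (y ^ 2) ^ 2 = 1 := by rw [← pow_mul]; exact h4
    exact invol_K_unique c P Q hPQ _ z (pow_mem hy 2) h22 hy2 hz hz2 hz1

/-- some cyclic subgroup of order four of `K` is not normalized by `t` -/
theorem exists_order_four (c : Cfg G) (P Q : Sylow 3 G) (hPQ : P ≠ Q) (z : G)
    (hz : z ∈ Kgrp P Q) (hz2 : z ^ 2 = 1) (hz1 : z ≠ 1) (t : G)
    (htz : t * z = z * t)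
    (hcent : ∀ y ∈ Kgrp P Q, t * y = y * t → y = 1 ∨ y = z) :
    ∃ y ∈ Kgrp P Q, orderOf y = 4 ∧ y ^ 2 = z ∧ t * y * t⁻¹ ∉ zpowers y := by
  classical
  by_contra hcon
  push Not at hcon
  have hzinv : z⁻¹ = z := by rw [inv_eq_iff_mul_eq_one, ← pow_two, hz2]
  -- `t` inverts `K`
  have hinv : ∀ y ∈ Kgrp P Q, t * y * t⁻¹ = y⁻¹ := by
    intro y hy
    by_cases hy1 : y = 1
    · rw [hy1]; group
    by_cases hyz : y = z
    · rw [hyz, htz, hzinv]; group
    obtain ⟨ho, hsq⟩ := order_four_of_ne c P Q hPQ z hz hz2 hz1 y hy hy1 hyz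
    have hmem := hcon y hy ho hsq
    have hfin : IsOfFinOrder y := orderOf_pos_iff.mp (by rw [ho]; norm_num)
    rw [hfin.mem_zpowers_iff_mem_range_orderOf, ho] at hmem
    obtain ⟨j, hj, hjeq⟩ := Finset.mem_image.mp hmem
    have hj4 : j < 4 := Finset.mem_range.mp hj
    have h4 : y ^ 4 = 1 := by rw [← ho]; exact pow_orderOf_eq_one y
    interval_cases j
    · exfalso
      apply hy1
      rw [pow_zero] at hjeq
      have : y = t⁻¹ * (t * y * t⁻¹) * t := by group
      rw [this, ← hjeq]; group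
    · exfalso
      rw [pow_one] at hjeq
      have : t * y = y * t := by
        calc t * y = (t * y * t⁻¹) * t := by group
          _ = y * t := by rw [← hjeq]
      rcases hcent y hy this with h | h
      · exact hy1 h
      · exact hyz h
    · exfalso
      apply hyz
      rw [hsq] at hjeq
      have : y = t⁻¹ * (t * y * t⁻¹) * t := by group
      rw [this, ← hjeq]
      calc t⁻¹ * z * t = t⁻¹ * (z * t) := by group
        _ = t⁻¹ * (t * z) := by rw [htz]
        _ = z := by group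
    · rw [← hjeq]
      apply eq_inv_of_mul_eq_one_left
      rw [← pow_succ]; exact h4
  -- hence `K` is abelian
  have hab : ∀ a ∈ Kgrp P Q, ∀ b ∈ Kgrp P Q, a * b = b * a := by
    intro a ha b hb
    have h1 := hinv (a * b) (mul_mem ha hb)
    have h2 : t * (a * b) * t⁻¹ = (t * a * t⁻¹) * (t * b * t⁻¹) := by group
    rw [h2, hinv a ha, hinv b hb, mul_inv_rev] at h1
    have h3 : (a⁻¹ * b⁻¹)⁻¹ = (b⁻¹ * a⁻¹)⁻¹ := by rw [h1]
    simpa using h3.symm
  -- an element outside `{1, z}`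
  have hoz : orderOf z = 2 := orderOf_eq_prime hz2 hz1
  obtain ⟨y0, hy0, hy01, hy0z⟩ : ∃ y0 ∈ Kgrp P Q, y0 ≠ 1 ∧ y0 ≠ z := by
    by_contra hno
    push Not at hno
    have hle : Kgrp P Q ≤ zpowers z := by
      intro y hy
      by_cases h1 : y = 1
      · rw [h1]; exact one_mem _
      · rw [hno y hy h1]; exact mem_zpowers z
    have := Subgroup.card_le_of_le hle
    rw [card_Kgrp c P Q hPQ, Nat.card_zpowers, hoz] at this
    omega
  obtain ⟨ho0, hsq0⟩ := order_four_of_ne c P Q hPQ z hz hz2 hz1 y0 hy0 hy01 hy0z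
  obtain ⟨y1, hy1, hy1n⟩ : ∃ y1 ∈ Kgrp P Q, y1 ∉ zpowers y0 := by
    by_contra hno
    push Not at hno
    have := Subgroup.card_le_of_le (show Kgrp P Q ≤ zpowers y0 from hno)
    rw [card_Kgrp c P Q hPQ, Nat.card_zpowers, ho0] at this
    omega
  have hy11 : y1 ≠ 1 := by
    rintro rfl
    exact hy1n (one_mem _)
  have hy1z : y1 ≠ z := by
    rintro rfl
    apply hy1n
    rw [← hsq0]
    exact pow_mem (mem_zpowers y0) 2
  obtain ⟨-, hsq1⟩ := order_four_of_ne c P Q hPQ z hz hz2 hz1 y1 hy1 hy11 hy1z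
  have hw : y1 * y0⁻¹ ∈ Kgrp P Q := mul_mem hy1 (inv_mem hy0)
  have hw2 : (y1 * y0⁻¹) ^ 2 = 1 := by
    have e : (y1 * y0⁻¹) ^ 2 = y1 * (y0⁻¹ * y1) * y0⁻¹ := by rw [pow_two]; group
    rw [e, ← hab y1 hy1 y0⁻¹ (inv_mem hy0)]
    have e2 : y1 * (y1 * y0⁻¹) * y0⁻¹ = y1 ^ 2 * (y0 ^ 2)⁻¹ := by
      rw [pow_two, pow_two]; group
    rw [e2, hsq1, hsq0, mul_inv_cancel]
  by_cases hw1 : y1 * y0⁻¹ = 1
  · apply hy1n
    rw [mul_inv_eq_one] at hw1
    rw [hw1]; exact mem_zpowers y0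
  · have hwz := invol_K_unique c P Q hPQ _ z hw hw2 hw1 hz hz2 hz1
    apply hy1n
    have : y1 = z * y0 := by rw [← hwz]; group
    rw [this, ← hsq0]
    exact mul_mem (pow_mem (mem_zpowers y0) 2) (mem_zpowers y0)

end Cfsg.Agent.Lib.Helper18.Ord720
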