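import Mathlib
import Cfsg.Agent.Lib.Helper18.Ord720F
import Cfsg.Agent.Lib.Helper1.Brodkey

/-!
# No simple group of order 720 has exactly ten Sylow 3-subgroups
-/

set_option autoImplicit false

namespace Cfsg.Agent.Lib.Helper18.Ord720

open Subgroup MulAction

variable {G : Type*} [Group G] [Finite G]

/-- the configuration is contradictory -/
theorem false_of_cfg (c : Cfg G) : False := by
  have hnt : Nontrivial (Sylow 3 G) := by
    rw [← Finite.one_lt_card_iff_nontrivial, c.n3]; norm_num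
  obtain ⟨P, Q, hPQ⟩ := exists_pair_ne (Sylow 3 G)
  obtain ⟨z, hz, hz2, hz1⟩ := exists_invol_K c P Q hPQ
  obtain ⟨t, ht, htK, htt, R, hR, htR⟩ := exists_invol_S c P Q hPQ
  have hcz := centralizer_invol c P Q hPQ z hz hz2 hz1
  have htz : t * z = z * t := by
    have : t ∈ centralizer {z} := by rw [hcz]; exact ht
    exact mem_centralizer_singleton_iff.mp this
  have hcent : ∀ y ∈ Kgrp P Q, t * y = y * t → y = 1 ∨ y = z := fun y hy hty =>
    cent_K_invol c P Q hPQ z hz hz2 hz1 t ht htK htt R hR htR y hy hty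
  obtain ⟨y, hy, ho, hsq, hnot⟩ := exists_order_four c P Q hPQ z hz hz2 hz1 t htz hcent
  have hzK : zpowers y ≤ Kgrp P Q := zpowers_le.mpr hy
  -- the normalizer of `⟨y⟩`
  have hNS : normalizer ((zpowers y : Subgroup G) : Set G) ≤ Sgrp P Q := by
    intro n hn
    rw [← hcz, mem_centralizer_singleton_iff]
    have hzy : z ∈ zpowers y := by rw [← hsq]; exact pow_mem (mem_zpowers y) 2
    have h1 : n * z * n⁻¹ ∈ zpowers y := (mem_normalizer_iff.mp hn z).mp hzy
    have h2 : (n * z * n⁻¹) ^ 2 = 1 := by rw [conj_pow, hz2]; group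
    have h3 : n * z * n⁻¹ ≠ 1 := by
      intro h
      apply hz1
      have : z = n⁻¹ * (n * z * n⁻¹) * n := by group
      rw [this, h]; group
    have h4 : orderOf (n * z * n⁻¹) = 2 := orderOf_eq_prime h2 h3
    have h5 := Cfsg.Agent.Lib.Helper25.NS720.eq_sq_of_mem_zpowers_of_orderOf_eq_two ho h1 h4
    rw [hsq] at h5
    calc n * z = (n * z * n⁻¹) * n := by group
      _ = z * n := by rw [h5]
  have hrel : (zpowers y).relIndex (Kgrp P Q) = 2 := by
    have := Cfsg.Agent.Lib.Helper7.card_mul_relIndex hzK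
    rw [Nat.card_zpowers, ho, card_Kgrp c P Q hPQ] at this
    omega
  have hKN : Kgrp P Q ≤ normalizer ((zpowers y : Subgroup G) : Set G) := by
    intro k hk
    haveI : ((zpowers y).subgroupOf (Kgrp P Q)).Normal := Subgroup.normal_of_index_eq_two hrel
    rw [Cfsg.Agent.Lib.Helper25.NS720.mem_normalizer_zpowers_iff]
    have h1 : (⟨y, hy⟩ : Kgrp P Q) ∈ (zpowers y).subgroupOf (Kgrp P Q) := by
      rw [mem_subgroupOf]; exact mem_zpowers y
    have h2 := Subgroup.Normal.conj_mem ‹_› _ h1 (⟨k⁻¹, inv_mem hk⟩ : Kgrp P Q)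
    rw [mem_subgroupOf] at h2
    simpa using h2
  have htinv : t⁻¹ = t := by rw [inv_eq_iff_mul_eq_one]; exact htt
  have htN : t ∉ normalizer ((zpowers y : Subgroup G) : Set G) := by
    rw [Cfsg.Agent.Lib.Helper25.NS720.mem_normalizer_zpowers_iff, htinv]
    rw [htinv] at hnot
    exact hnot
  have hcardN : Nat.card (normalizer ((zpowers y : Subgroup G) : Set G)) = 8 := by
    have h8 := Subgroup.card_dvd_of_le hKN
    have h16 := Subgroup.card_dvd_of_le hNS
    rw [card_Kgrp c P Q hPQ] at h8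
    rw [card_Sgrp c P Q hPQ] at h16
    have hne : Nat.card (normalizer ((zpowers y : Subgroup G) : Set G)) ≠ 16 := by
      intro h
      apply htN
      have := Subgroup.eq_of_le_of_card_ge hNS (by rw [h, card_Sgrp c P Q hPQ])
      rw [this]; exact ht
    obtain ⟨a, ha⟩ := h8
    have hle := Nat.le_of_dvd (by norm_num) h16
    have hpos : 0 < Nat.card (normalizer ((zpowers y : Subgroup G) : Set G)) := Nat.card_pos
    rw [ha] at hne hle hpos ⊢
    have : a = 1 := by omega
    rw [this]
  have hC : Nat.card (centralizer {y ^ 2}) = 16 := by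
    rw [hsq, hcz, card_Sgrp c P Q hPQ]
  exact Cfsg.Agent.Lib.Helper25.NS720.false_of_order_four c.hom y ho hC hcardN (by rw [c.card])

/-- a Sylow subgroup meeting `Q` trivially acts semiregularly on the orbit of `Q` -/
theorem eq_one_of_smul_eq' (P Q : Sylow 3 G) (h0 : (P : Subgroup G) ⊓ Q = ⊥) (y : G)
    (hy : y ∈ (P : Subgroup G)) (hQ : y • Q = Q) : y = 1 := by
  have hz : IsPGroup 3 (zpowers y) := P.2.to_le (zpowers_le.mpr hy)
  have h1 := hz.inf_normalizer_sylow Q
  have hmem : y ∈ zpowers y ⊓ (Q : Subgroup G) := by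
    rw [← h1]
    exact ⟨mem_zpowers y, Sylow.smul_eq_iff_mem_normalizer.mp hQ⟩
  have h2 : y ∈ (P : Subgroup G) ⊓ Q := ⟨hy, hmem.2⟩
  rw [h0] at h2
  exact Subgroup.mem_bot.mp h2

theorem exists_smul_eq' (hP9 : ∀ P : Sylow 3 G, Nat.card P = 9)
    (h10 : Nat.card (Sylow 3 G) = 10) (P Q R : Sylow 3 G)
    (h0 : (P : Subgroup G) ⊓ Q = ⊥) (hQ : Q ≠ P) (hR : R ≠ P) :
    ∃ y ∈ (P : Subgroup G), y • Q = R := by
  have hf : ∀ y : ↥(P : Subgroup G), (y : G) • Q ≠ P := by
    intro y h
    apply hQ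
    have h1 : Q = (y : G)⁻¹ • P := by rw [eq_inv_smul_iff]; exact h
    rw [h1]
    exact smul_self_of_mem P _ (inv_mem y.2)
  let f : ↥(P : Subgroup G) → {R : Sylow 3 G // R ≠ P} := fun y => ⟨(y : G) • Q, hf y⟩
  have hinj : Function.Injective f := by
    intro y y' h
    have h' : (y : G) • Q = (y' : G) • Q := congrArg Subtype.val h
    have h2 : ((y' : G)⁻¹ * (y : G)) • Q = Q := by
      rw [mul_smul, h', inv_smul_smul]
    have h3 := eq_one_of_smul_eq' P Q h0 _ (mul_mem (inv_mem y'.2) y.2) h2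
    apply Subtype.ext
    rw [inv_mul_eq_one] at h3
    exact h3.symm
  have hcard : Nat.card {R : Sylow 3 G // R ≠ P} ≤ Nat.card (P : Subgroup G) := by
    have h1 : Nat.card {R : Sylow 3 G // R ≠ P} = Set.ncard ({P}ᶜ : Set (Sylow 3 G)) := by
      rw [← Nat.card_coe_set_eq]
      rfl
    rw [h1, Set.ncard_compl, Set.ncard_singleton, h10, hP9 P]
  obtain ⟨y, hy⟩ := (hinj.bijective_of_nat_card_le hcard).2 ⟨R, hR⟩
  exact ⟨y, y.2, congrArg Subtype.val hy⟩

/-- the configuration holds in a simple group of order `720` with ten Sylow `3`-subgroups -/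
theorem cfg_of_simple [IsSimpleGroup G] (hG : Nat.card G = 720)
    (h10 : Nat.card (Sylow 3 G) = 10) : Cfg G := by
  have hP9 : ∀ P : Sylow 3 G, Nat.card P = 9 := by
    intro P
    have := Cfsg.Agent.Lib.Helper7.card_sylow_subgroup_eq P 2 80 (by rw [hG]; norm_num) (by norm_num)
    rw [this]; norm_num
  have hfaith : ∀ g : G, (∀ Q : Sylow 3 G, g • Q = Q) → g = 1 := by
    intro g hg
    have hker : g ∈ (MulAction.toPermHom G (Sylow 3 G)).ker := by
      rw [MonoidHom.mem_ker]
      apply Equiv.ext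
      intro Q
      exact hg Q
    rcases ((MulAction.toPermHom G (Sylow 3 G)).normal_ker).eq_bot_or_eq_top with h | h
    · rw [h] at hker
      exact Subgroup.mem_bot.mp hker
    · exfalso
      have hall : ∀ (a : G) (Q : Sylow 3 G), a • Q = Q := by
        intro a Q
        have ha : a ∈ (MulAction.toPermHom G (Sylow 3 G)).ker := by rw [h]; trivial
        rw [MonoidHom.mem_ker] at ha
        have := congrArg (fun σ : Equiv.Perm (Sylow 3 G) => σ Q) ha
        simpa using this
      have hss : Subsingleton (Sylow 3 G) := by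
        constructor
        intro P Q
        obtain ⟨a, ha⟩ := MulAction.exists_smul_eq G P Q
        rw [← ha, hall a P]
      have := Finite.card_le_one_iff_subsingleton.mpr hss
      omega
  have hcore : Cfsg.pCore 3 G = ⊥ := by
    rcases (Cfsg.Agent.Lib.Helper1.pCore_normal (G := G) 3).eq_bot_or_eq_top with h | h
    · exact h
    · exfalso
      obtain ⟨P⟩ : Nonempty (Sylow 3 G) := inferInstance
      have hle := Cfsg.Agent.Lib.Helper1.pCore_le_sylow P
      rw [h] at hle
      have : (P : Subgroup G) = ⊤ := top_le_iff.mp hle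
      have h9 := hP9 P
      rw [this, Subgroup.card_top, hG] at h9
      omega
  have hti : ∀ P Q : Sylow 3 G, P ≠ Q → (P : Subgroup G) ⊓ Q = ⊥ := by
    intro P Q hPQ
    have h9 : Nat.card ↥(P : Subgroup G) = 3 ^ 2 := by rw [hP9 P]; norm_num
    have hc : IsMulCommutative ↥(P : Subgroup G) :=
      IsPGroup.isMulCommutative_of_card_eq_prime_sq h9
    obtain ⟨g, hg⟩ := Cfsg.Agent.Lib.Helper1.brodkey 3 P hc hcore
    have hg' : (P : Subgroup G) ⊓ ((g • P : Sylow 3 G) : Subgroup G) = ⊥ := hg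
    have hne : g • P ≠ P := by
      intro h
      rw [h, inf_idem] at hg'
      have h9' := hP9 P
      rw [hg', Subgroup.card_bot] at h9'
      omega
    obtain ⟨y, hy, hyQ⟩ := exists_smul_eq' hP9 h10 P (g • P) Q hg' hne hPQ.symm
    rw [eq_bot_iff]
    intro a ha
    have ha2 : a ∈ ((y • (g • P) : Sylow 3 G) : Subgroup G) := by rw [hyQ]; exact ha.2
    rw [Sylow.smul_def, Sylow.pointwise_smul_def, Subgroup.mem_smul_pointwise_iff_exists] at ha2
    obtain ⟨s, hs, hsa⟩ := ha2
    rw [MulAut.smul_def, MulAut.conj_apply] at hsa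
    have hsP : s ∈ (P : Subgroup G) := by
      have : s = y⁻¹ * a * y := by rw [← hsa]; group
      rw [this]
      exact mul_mem (mul_mem (inv_mem hy) ha.1) hy
    have hs1 : s ∈ (P : Subgroup G) ⊓ ((g • P : Sylow 3 G) : Subgroup G) := ⟨hsP, hs⟩
    rw [hg', Subgroup.mem_bot] at hs1
    rw [Subgroup.mem_bot, ← hsa, hs1]; group
  exact
    { card := hG
      cardP := hP9
      n3 := h10
      faithful := hfaith
      ti := hti
      hom := Cfsg.Agent.Lib.Helper25.NS720.hom_units_trivial_of_simple (by rw [hG]; norm_num) }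

/-- **Part B of order 720**: a simple group of order `720` does not have exactly ten Sylow
`3`-subgroups. -/
theorem false_of_sylow3_ten [IsSimpleGroup G] (h : Nat.card G = 720)
    (h10 : Nat.card (Sylow 3 G) = 10) : False :=
  false_of_cfg (cfg_of_simple h h10)

end Cfsg.Agent.Lib.Helper18.Ord720
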