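import Cfsg.Prelude.Def_Solvable
import Cfsg.Agent.Lib.Helper18.Basic

set_option autoImplicit false

namespace Cfsg.Agent.Lib.Helper18

open Subgroup

/-- If a normal subgroup `K` is a complement of a Sylow `p`-subgroup `P`, then `O_{p'}(G) = K`. -/
theorem pPrimeCore_eq_of_isComplement' {G : Type*} [Group G] [Finite G] {p : ℕ} [Fact p.Prime]
    (P : Sylow p G) (K : Subgroup G) [hKn : K.Normal] (h : IsComplement' K (P : Subgroup G)) :
    Cfsg.pPrimeCore p G = K := by
  have hp : p.Prime := Fact.out
  have hidx : (P : Subgroup G).index = Nat.card K := h.index_eq_card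
  have hKcop : (Nat.card K).Coprime p := by
    rw [← hidx]
    exact ((Nat.Prime.coprime_iff_not_dvd hp).2 P.not_dvd_index).symm
  have hKidx : K.index = Nat.card (P : Subgroup G) := h.symm.index_eq_card
  apply le_antisymm
  · apply sSup_le
    rintro N ⟨hNn, hNcop⟩
    intro n hn
    -- the image of n in G ⧸ K has order a power of p and coprime to p
    have hq : IsPGroup p (G ⧸ K) := by
      obtain ⟨k, hk⟩ := IsPGroup.iff_card.mp P.2
      apply IsPGroup.of_card (n := k)
      rw [← Subgroup.index_eq_card, hKidx, hk]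
    obtain ⟨k, hk⟩ := hq (QuotientGroup.mk n : G ⧸ K)
    have h1 : orderOf (QuotientGroup.mk n : G ⧸ K) ∣ p ^ k := orderOf_dvd_of_pow_eq_one hk
    have h2 : orderOf (QuotientGroup.mk n : G ⧸ K) ∣ Nat.card N := by
      have h3 : orderOf (QuotientGroup.mk n : G ⧸ K) ∣ orderOf n :=
        orderOf_map_dvd (QuotientGroup.mk' K) n
      have h4 : orderOf n ∣ Nat.card N := by
        have := orderOf_dvd_natCard (⟨n, hn⟩ : N)
        rwa [Subgroup.orderOf_mk] at this
      exact h3.trans h4
    have h5 : orderOf (QuotientGroup.mk n : G ⧸ K) = 1 := by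
      have hc : (Nat.card N).Coprime (p ^ k) := Nat.Coprime.pow_right k hNcop
      exact Nat.eq_one_of_dvd_coprimes hc h2 h1
    rw [orderOf_eq_one_iff, QuotientGroup.eq_one_iff] at h5
    exact h5
  · exact le_sSup ⟨hKn, hKcop⟩

end Cfsg.Agent.Lib.Helper18
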