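import Mathlib
import Cfsg.Prelude.Def_GeometricClasses
import Cfsg.Agent.Lib.Helper18.AschC3

/-!
# The field block with forms (helper18): class 3 for the form hubs S5662 / S5663 / S5673

Generic in the index type `ι`.  `AdjForm f` : the form `f` is additive in both arguments, homogeneous in the
first, non-degenerate, every matrix has an adjoint and the adjoint relation is symmetric.

* (A) `adj_unique`, `isAdjointClosedFor_commutant`, `isAdjointClosedFor_subfieldOfDegree`, `adjK` (the adjoint as a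
  ring endomorphism of an adjoint-closed field subalgebra), `exists_field_of_not_absIrr`.
* (U) `odd_finrank_of_unitary`.
-/

set_option autoImplicit false

namespace Cfsg.Agent.Lib.Helper18.FormField

open Matrix Module Cfsg Cfsg.Geo Cfsg.Agent.Lib.Helper18.AschC3

variable {F : Type*} [Field F] {ι : Type} [Fintype ι] [DecidableEq ι]

/-- `k'` is an adjoint of `k` for `f` -/
def IsAdj (f : (ι → F) → (ι → F) → F) (k k' : Matrix ι ι F) : Prop :=
  ∀ u v, f (k *ᵥ u) v = f u (k' *ᵥ v)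

/-- the hypotheses on the form used by the field block -/
structure AdjForm (f : (ι → F) → (ι → F) → F) : Prop where
  add_left : ∀ x y v, f (x + y) v = f x v + f y v
  smul_left : ∀ (c : F) (x v : ι → F), f (c • x) v = c * f x v
  add_right : ∀ v x y, f v (x + y) = f v x + f v y
  nondeg : IsNondegenerateForm f
  adj : ∀ k : Matrix ι ι F, ∃ k' : Matrix ι ι F, IsAdj f k k'
  adj_symm : ∀ k k' : Matrix ι ι F, IsAdj f k k' → IsAdj f k' k

namespace AdjForm

variable {f : (ι → F) → (ι → F) → F}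

theorem zero_right (hf : AdjForm f) (v : ι → F) : f v 0 = 0 := by
  have := hf.add_right v 0 0
  rw [add_zero] at this
  exact left_eq_add.1 this

theorem zero_left (hf : AdjForm f) (v : ι → F) : f 0 v = 0 := by
  have := hf.add_left 0 0 v
  rw [add_zero] at this
  exact left_eq_add.1 this

theorem neg_right (hf : AdjForm f) (v x : ι → F) : f v (-x) = - f v x := by
  have := hf.add_right v x (-x)
  rw [add_neg_cancel, hf.zero_right] at this
  exact (neg_eq_of_add_eq_zero_right this.symm).symm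

theorem neg_left (hf : AdjForm f) (x v : ι → F) : f (-x) v = - f x v := by
  have := hf.add_left x (-x) v
  rw [add_neg_cancel, hf.zero_left] at this
  exact (neg_eq_of_add_eq_zero_right this.symm).symm

theorem sub_right (hf : AdjForm f) (v x y : ι → F) : f v (x - y) = f v x - f v y := by
  rw [sub_eq_add_neg, hf.add_right, hf.neg_right, sub_eq_add_neg]

theorem sub_left (hf : AdjForm f) (x y v : ι → F) : f (x - y) v = f x v - f y v := by
  rw [sub_eq_add_neg, hf.add_left, hf.neg_left, sub_eq_add_neg]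

/-- uniqueness of adjoints -/
theorem adj_unique (hf : AdjForm f) {a b : Matrix ι ι F} (h : ∀ u v, f u (a *ᵥ v) = f u (b *ᵥ v)) :
    a = b := by
  apply Matrix.mulVec_injective
  funext v
  by_contra hne
  have hw : a *ᵥ v - b *ᵥ v ≠ 0 := sub_ne_zero.2 hne
  obtain ⟨x, hx⟩ := (hf.nondeg _ hw).1
  apply hx
  rw [hf.sub_right, h, sub_self]

theorem eq_of_left (hf : AdjForm f) {a b : Matrix ι ι F} (h : ∀ u v, f (a *ᵥ u) v = f (b *ᵥ u) v) :
    a = b := by
  apply Matrix.mulVec_injective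
  funext v
  by_contra hne
  have hw : a *ᵥ v - b *ᵥ v ≠ 0 := sub_ne_zero.2 hne
  obtain ⟨x, hx⟩ := (hf.nondeg _ hw).2
  apply hx
  rw [hf.sub_left, h, sub_self]

theorem isAdj_unique (hf : AdjForm f) {k a b : Matrix ι ι F} (ha : IsAdj f k a) (hb : IsAdj f k b) :
    a = b :=
  hf.adj_unique (fun u v => by rw [← ha, ← hb])

end AdjForm

section isAdj
variable {f : (ι → F) → (ι → F) → F}

theorem IsAdj.one : IsAdj f (1 : Matrix ι ι F) 1 := fun u v => by rw [Matrix.one_mulVec, Matrix.one_mulVec]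

theorem IsAdj.mul {a a' b b' : Matrix ι ι F} (ha : IsAdj f a a') (hb : IsAdj f b b') :
    IsAdj f (a * b) (b' * a') := fun u v => by
  rw [← Matrix.mulVec_mulVec, ha, hb, Matrix.mulVec_mulVec]

theorem IsAdj.add (hf : AdjForm f) {a a' b b' : Matrix ι ι F} (ha : IsAdj f a a') (hb : IsAdj f b b') :
    IsAdj f (a + b) (a' + b') := fun u v => by
  rw [Matrix.add_mulVec, hf.add_left, ha, hb, Matrix.add_mulVec, hf.add_right]

theorem IsAdj.zero (hf : AdjForm f) : IsAdj f (0 : Matrix ι ι F) 0 := fun u v => by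
  rw [Matrix.zero_mulVec, Matrix.zero_mulVec, hf.zero_left, hf.zero_right]

theorem IsAdj.pow {a a' : Matrix ι ι F} (ha : IsAdj f a a') (N : ℕ) : IsAdj f (a ^ N) (a' ^ N) := by
  induction N with
  | zero => simpa using IsAdj.one
  | succ N ih =>
    rw [pow_succ, pow_succ']
    exact ih.mul ha

end isAdj

/-! ### (A) commutants and subfields -/

/-- the commutant of a group of isometries is closed under adjoints -/
theorem isAdjointClosedFor_commutant {f : (ι → F) → (ι → F) → F} (hf : AdjForm f) (H : Subgroup (GL ι F))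
    (hfix : FixesForm (matrixSet H) f) :
    IsAdjointClosedFor f (Subalgebra.centralizer F (matrixSet H)) := by
  intro k hk
  obtain ⟨k', hk'⟩ := hf.adj k
  refine ⟨k', ?_, hk'⟩
  rw [commutant_mem_iff] at hk ⊢
  rintro s ⟨h, hh, rfl⟩
  apply hf.adj_unique
  intro u v
  have hinv : ((h⁻¹ : GL ι F) : Matrix ι ι F) ∈ matrixSet H := ⟨h⁻¹, H.inv_mem hh, rfl⟩
  have hmem : (h : Matrix ι ι F) ∈ matrixSet H := ⟨h, hh, rfl⟩
  have e1 : (h : Matrix ι ι F) *ᵥ (((h⁻¹ : GL ι F) : Matrix ι ι F) *ᵥ u) = u := by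
    rw [Matrix.mulVec_mulVec, Units.mul_inv, Matrix.one_mulVec]
  calc f u (((h : Matrix ι ι F) * k') *ᵥ v)
      = f ((h : Matrix ι ι F) *ᵥ (((h⁻¹ : GL ι F) : Matrix ι ι F) *ᵥ u)) ((h : Matrix ι ι F) *ᵥ (k' *ᵥ v)) := by
        rw [e1, Matrix.mulVec_mulVec]
    _ = f (((h⁻¹ : GL ι F) : Matrix ι ι F) *ᵥ u) (k' *ᵥ v) := hfix _ hmem _ _
    _ = f (k *ᵥ (((h⁻¹ : GL ι F) : Matrix ι ι F) *ᵥ u)) v := (hk' _ _).symm
    _ = f (((h⁻¹ : GL ι F) : Matrix ι ι F) *ᵥ (k *ᵥ u)) v := by
        rw [Matrix.mulVec_mulVec, Matrix.mulVec_mulVec, hk _ hinv]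
    _ = f ((h : Matrix ι ι F) *ᵥ (((h⁻¹ : GL ι F) : Matrix ι ι F) *ᵥ (k *ᵥ u))) ((h : Matrix ι ι F) *ᵥ v) :=
        (hfix _ hmem _ _).symm
    _ = f (k *ᵥ u) ((h : Matrix ι ι F) *ᵥ v) := by
        rw [Matrix.mulVec_mulVec ((k *ᵥ u)), Units.mul_inv, Matrix.one_mulVec]
    _ = f u ((k' * (h : Matrix ι ι F)) *ᵥ v) := by rw [hk', Matrix.mulVec_mulVec]

section subfield
variable [Fintype F] [Nonempty ι]

/-- the subfield of degree `r` of an adjoint-closed field subalgebra is adjoint-closed -/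
theorem isAdjointClosedFor_subfieldOfDegree {f : (ι → F) → (ι → F) → F} (hf : AdjForm f) {d : ℕ}
    (E : Subalgebra F (Matrix ι ι F)) (hE : IsFieldSubalgebra d E) (hadj : IsAdjointClosedFor f E) (r : ℕ) :
    IsAdjointClosedFor f (subfieldOfDegree E hE r) := by
  intro k hk
  obtain ⟨hkE, hkp⟩ := (mem_subfieldOfDegree_iff E hE r k).1 hk
  obtain ⟨k', hk'E, hk'⟩ := hadj k hkE
  refine ⟨k', (mem_subfieldOfDegree_iff E hE r k').2 ⟨hk'E, ?_⟩, hk'⟩
  have h1 : IsAdj f (k ^ (Fintype.card F ^ r)) (k' ^ (Fintype.card F ^ r)) := IsAdj.pow hk' _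
  rw [hkp] at h1
  exact hf.isAdj_unique h1 hk'

/-- **(I2-shape ⇒ (c)-shape)** an irreducible, not absolutely irreducible group of isometries centralises an
adjoint-closed field subalgebra of prime degree -/
theorem exists_field_of_not_absIrr {f : (ι → F) → (ι → F) → F} (hf : AdjForm f) (H : Subgroup (GL ι F))
    (hfix : FixesForm (matrixSet H) f) (hirr : ActsIrreducibly (matrixSet H))
    (hnot : ¬ ActsAbsolutelyIrreducibly (matrixSet H)) :
    ∃ (r : ℕ) (K : Subalgebra F (Matrix ι ι F)), r.Prime ∧ IsFieldSubalgebra r K ∧ IsAdjointClosedFor f K ∧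
      (∀ k ∈ K, ∀ s ∈ matrixSet H, k * s = s * k) ∧ H ≤ subalgebraNormalizer K := by
  have hE := commutant_isFieldSubalgebra hirr
  set E := Subalgebra.centralizer F (matrixSet H) with hEdef
  obtain ⟨M, hMc, hMs⟩ : ∃ M : Matrix ι ι F, (∀ s ∈ matrixSet H, M * s = s * M) ∧
      ¬ ∃ c : F, M = c • (1 : Matrix ι ι F) := by
    by_contra hcon
    apply hnot
    refine ⟨hirr, fun M hM => ?_⟩
    by_contra hc
    exact hcon ⟨M, hM, hc⟩
  have hME : M ∈ E := (commutant_mem_iff _ M).2 (fun s hs => (hMc s hs).symm)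
  have hd1 : finrank F ↥E ≠ 1 := by
    intro h1
    have h1ne : (1 : ↥E) ≠ 0 := by
      intro h
      have := congrArg Subtype.val h
      exact one_ne_zero this
    obtain ⟨c, hc⟩ := (finrank_eq_one_iff_of_nonzero' (1 : ↥E) h1ne).1 h1 ⟨M, hME⟩
    apply hMs
    refine ⟨c, ?_⟩
    have := congrArg Subtype.val hc
    simpa using this.symm
  obtain ⟨r, hr, hrd⟩ := Nat.exists_prime_and_dvd hd1
  have hc : ∀ k ∈ subfieldOfDegree E hE r, ∀ s ∈ matrixSet H, k * s = s * k := by
    intro k hk s hs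
    exact ((commutant_mem_iff _ k).1 (subfieldOfDegree_le E hE r hk) s hs).symm
  exact ⟨r, subfieldOfDegree E hE r, hr, subfieldOfDegree_isFieldSubalgebra E hE hrd,
    isAdjointClosedFor_subfieldOfDegree hf E hE (isAdjointClosedFor_commutant hf H hfix) r, hc,
    le_normalizer_of_commute H _ hc⟩

end subfield

/-! ### the adjoint as a ring endomorphism of an adjoint-closed field subalgebra -/

section adjK
variable {f : (ι → F) → (ι → F) → F}

/-- the adjoint, as a map of an adjoint-closed subalgebra -/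
noncomputable def adjFun (K : Subalgebra F (Matrix ι ι F)) (hadj : IsAdjointClosedFor f K) (k : ↥K) : ↥K :=
  ⟨Classical.choose (hadj k k.2), (Classical.choose_spec (hadj k k.2)).1⟩

theorem adjFun_spec (K : Subalgebra F (Matrix ι ι F)) (hadj : IsAdjointClosedFor f K) (k : ↥K) :
    IsAdj f (k : Matrix ι ι F) (adjFun K hadj k : Matrix ι ι F) :=
  (Classical.choose_spec (hadj k k.2)).2

theorem adjFun_eq (hf : AdjForm f) (K : Subalgebra F (Matrix ι ι F)) (hadj : IsAdjointClosedFor f K) (k : ↥K)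
    (k' : Matrix ι ι F) (h : IsAdj f (k : Matrix ι ι F) k') : (adjFun K hadj k : Matrix ι ι F) = k' :=
  hf.isAdj_unique (adjFun_spec K hadj k) h

theorem adjFun_adjFun (hf : AdjForm f) (K : Subalgebra F (Matrix ι ι F)) (hadj : IsAdjointClosedFor f K) (k : ↥K) :
    adjFun K hadj (adjFun K hadj k) = k :=
  Subtype.ext (adjFun_eq hf K hadj _ _ (hf.adj_symm _ _ (adjFun_spec K hadj k)))

/-- the adjoint as a ring endomorphism of a commutative adjoint-closed subalgebra -/
noncomputable def adjK (hf : AdjForm f) (K : Subalgebra F (Matrix ι ι F))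
    (hcomm : ∀ x ∈ K, ∀ y ∈ K, x * y = y * x) (hadj : IsAdjointClosedFor f K) : ↥K →+* ↥K where
  toFun := adjFun K hadj
  map_one' := Subtype.ext (adjFun_eq hf K hadj 1 1 IsAdj.one)
  map_mul' a b := Subtype.ext (by
    have h1 : IsAdj f ((a * b : ↥K) : Matrix ι ι F)
        ((adjFun K hadj b : Matrix ι ι F) * (adjFun K hadj a : Matrix ι ι F)) :=
      (adjFun_spec K hadj a).mul (adjFun_spec K hadj b)
    rw [adjFun_eq hf K hadj (a * b) _ h1]
    exact hcomm _ (adjFun K hadj b).2 _ (adjFun K hadj a).2)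
  map_zero' := Subtype.ext (adjFun_eq hf K hadj 0 0 (IsAdj.zero hf))
  map_add' a b := Subtype.ext (adjFun_eq hf K hadj (a + b) _
    (IsAdj.add hf (adjFun_spec K hadj a) (adjFun_spec K hadj b)))

theorem adjK_apply (hf : AdjForm f) (K : Subalgebra F (Matrix ι ι F))
    (hcomm : ∀ x ∈ K, ∀ y ∈ K, x * y = y * x) (hadj : IsAdjointClosedFor f K) (k : ↥K) :
    adjK hf K hcomm hadj k = adjFun K hadj k := rfl

theorem isSelfAdjointFor_iff (hf : AdjForm f) (K : Subalgebra F (Matrix ι ι F))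
    (hadj : IsAdjointClosedFor f K) : IsSelfAdjointFor f K ↔ ∀ k : ↥K, adjFun K hadj k = k := by
  constructor
  · intro h k
    exact Subtype.ext (adjFun_eq hf K hadj k _ (h k k.2))
  · intro h k hk u v
    have := adjFun_spec K hadj ⟨k, hk⟩ u v
    rw [h ⟨k, hk⟩] at this
    exact this

end adjK

/-! ### (U) unitary forms: the degree is odd -/

section unitary
variable [Fintype F] [Nonempty ι] {f : (ι → F) → (ι → F) → F}

/-- **(U)** an adjoint-closed field subalgebra for a unitary form over `F = GF(q²)` has odd degree -/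
theorem odd_finrank_of_unitary {q : ℕ} (hF : Fintype.card F = q ^ 2) (hf : AdjForm f)
    (hsemi : ∀ (c : F) (u v : ι → F), f u (c • v) = c ^ q * f u v) {d : ℕ}
    (K : Subalgebra F (Matrix ι ι F)) (hK : IsFieldSubalgebra d K) (hadj : IsAdjointClosedFor f K) : Odd d := by
  letI := fieldOf K hK
  -- `q` is a power of the characteristic
  obtain ⟨p, hp⟩ := CharP.exists F
  haveI := hp
  haveI hpp : Fact p.Prime := ⟨CharP.char_is_prime F p⟩
  obtain ⟨e, he⟩ : ∃ e : ℕ, Fintype.card F = p ^ e := by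
    obtain ⟨⟨n, hn⟩, hn2⟩ := FiniteField.card F p
    exact ⟨n, hn2.2⟩
  obtain ⟨k, hk, hqk⟩ : ∃ k ≤ e, q = p ^ k := by
    have : q ∣ p ^ e := by
      rw [← he, hF]
      exact dvd_pow_self q (by norm_num)
    exact (Nat.dvd_prime_pow hpp.out).1 this
  haveI : CharP ↥K p := charP_of_injective_algebraMap (algebraMap F ↥K).injective p
  -- the adjoint
  set τ : ↥K →+* ↥K := adjK hf K hK.comm hadj with hτ
  have hττ : ∀ x, τ (τ x) = x := fun x => adjFun_adjFun hf K hadj x
  have hcq : ∀ c : F, (c ^ q) ^ q = c := by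
    intro c
    rw [← pow_mul, ← sq, ← hF, FiniteField.pow_card]
  have hτc : ∀ c : F, τ (algebraMap F ↥K c) = algebraMap F ↥K (c ^ q) := by
    intro c
    apply Subtype.ext
    apply adjFun_eq hf K hadj
    intro u v
    change f ((algebraMap F (Matrix ι ι F) c) *ᵥ u) v = f u ((algebraMap F (Matrix ι ι F) (c ^ q)) *ᵥ v)
    rw [Algebra.algebraMap_eq_smul_one, Algebra.algebraMap_eq_smul_one, Matrix.smul_mulVec, Matrix.smul_mulVec,
      Matrix.one_mulVec, Matrix.one_mulVec, hf.smul_left, hsemi, hcq]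
  -- `ρ = τ ∘ Frob_q` is an `F`-algebra endomorphism
  set fr : ↥K →+* ↥K := iterateFrobenius ↥K p k with hfr
  have hfrx : ∀ x : ↥K, fr x = x ^ q := by
    intro x
    rw [hfr, iterateFrobenius_def, hqk]
  let ρ : ↥K →ₐ[F] ↥K :=
    { (τ.comp fr) with
      commutes' := by
        intro c
        change τ (fr (algebraMap F ↥K c)) = algebraMap F ↥K c
        rw [hfrx, ← map_pow, hτc, hcq] }
  have hρx : ∀ x : ↥K, ρ x = τ (x ^ q) := by
    intro x
    change τ (fr x) = _
    rw [hfrx]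
  set φ := FiniteField.frobeniusAlgEquivOfAlgebraic F ↥K with hφ
  have hφx : ∀ x : ↥K, φ x = x ^ (Fintype.card F) := by
    intro x
    rw [hφ, FiniteField.coe_frobeniusAlgEquivOfAlgebraic]
  let ρ' : ↥K ≃ₐ[F] ↥K := AlgEquiv.ofBijective ρ (Algebra.IsAlgebraic.algHom_bijective ρ)
  have hρ'x : ∀ x : ↥K, ρ' x = τ (x ^ q) := fun x => hρx x
  obtain ⟨j, hj⟩ := (FiniteField.bijective_frobeniusAlgEquivOfAlgebraic_pow F ↥K).2 ρ'
  have hj' : φ ^ j.1 = ρ' := hj
  have hsq : ρ' * ρ' = φ := by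
    apply AlgEquiv.ext
    intro x
    rw [AlgEquiv.mul_apply, hρ'x, hρ'x, map_pow, hττ, hφx, hF, sq, pow_mul]
  rw [← hj', ← pow_add] at hsq
  have hord : orderOf φ = d := by
    rw [hφ, FiniteField.orderOf_frobeniusAlgEquivOfAlgebraic]
    exact hK.finrank_eq
  have hmod : j.1 + j.1 ≡ 1 [MOD d] := by
    rw [← hord]
    apply (pow_eq_pow_iff_modEq).1
    rw [hsq, pow_one]
  by_contra hodd
  rw [Nat.not_odd_iff_even] at hodd
  have h2 : j.1 + j.1 ≡ 1 [MOD 2] := hmod.of_dvd hodd.two_dvd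
  have : (j.1 + j.1) % 2 = 1 % 2 := h2
  omega

end unitary

end Cfsg.Agent.Lib.Helper18.FormField
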