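import Mathlib
import Cfsg.Prelude.Def_GeometricClasses
import Cfsg.Agent.Lib.Helper7.AschDefs
import Cfsg.Agent.Lib.Helper24.AschUDefs
import Cfsg.Agent.Lib.Helper2.FormRedU
import Cfsg.Agent.Lib.Helper18.FormField

/-!
# S5663 (unitary hub): block U2 `inClassU_of_not_absIrr` and the class-3 field exit (helper18)

Exact signature of `notes/S5663Skel_helper24.lean.txt`; from the generic `Lib/Helper18/FormField.lean`.
-/

set_option autoImplicit false

namespace Cfsg.Agent.Lib.Helper18.S5663U2

open Matrix Cfsg Cfsg.Geo Cfsg.Agent.Lib.Helper7.Asch Cfsg.Agent.Lib.Helper24.AschU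
open Cfsg.Agent.Lib.Helper18.FormField Cfsg.Agent.Lib.Helper2.FormRedU

variable {F : Type*} [Field F] [Fintype F] {n q : ℕ}

theorem hermForm_swap (hF : Fintype.card F = q ^ 2) (u v : Fin n → F) :
    hermForm n F q u v = (hermForm n F q v u) ^ q := by
  unfold hermForm
  rw [sum_pow_q hF]
  refine Finset.sum_congr rfl (fun i _ => ?_)
  rw [mul_pow, pow_card_sq hF, mul_comm]

theorem hermForm_smul_right (c : F) (u v : Fin n → F) :
    hermForm n F q u (c • v) = c ^ q * hermForm n F q u v := by
  unfold hermForm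
  rw [Finset.mul_sum]
  refine Finset.sum_congr rfl (fun i _ => ?_)
  rw [Pi.smul_apply, smul_eq_mul, mul_pow]
  ring

theorem hermForm_add_right (hF : Fintype.card F = q ^ 2) (v x y : Fin n → F) :
    hermForm n F q v (x + y) = hermForm n F q v x + hermForm n F q v y := by
  unfold hermForm
  rw [← Finset.sum_add_distrib]
  refine Finset.sum_congr rfl (fun i _ => ?_)
  rw [Pi.add_apply, add_pow_q hF, mul_add]

/-- `adjU q k` is the adjoint of `k` -/
theorem hermForm_adj (hF : Fintype.card F = q ^ 2) (k : Matrix (Fin n) (Fin n) F) (u v : Fin n → F) :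
    hermForm n F q (k *ᵥ u) v = hermForm n F q u (adjU q k *ᵥ v) := by
  unfold hermForm
  simp only [Matrix.mulVec, dotProduct, adjU_apply]
  have h : ∀ j, (∑ i, k i j ^ q * v i) ^ q = ∑ i, k i j * v i ^ q := by
    intro j
    rw [sum_pow_q hF]
    refine Finset.sum_congr rfl (fun i _ => ?_)
    rw [mul_pow, pow_card_sq hF]
  simp only [h]
  simp only [Finset.sum_mul, Finset.mul_sum]
  rw [Finset.sum_comm]
  refine Finset.sum_congr rfl (fun j _ => Finset.sum_congr rfl (fun i _ => ?_))
  ring

/-- the standard unitary form satisfies the hypotheses of the field block -/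
theorem adjForm_hermForm (hF : Fintype.card F = q ^ 2) : AdjForm (hermForm n F q) where
  add_left := (isUnitaryFormPow_hermForm hF).add_left
  smul_left := (isUnitaryFormPow_hermForm hF).smul_left
  add_right := hermForm_add_right hF
  nondeg := (isUnitaryFormPow_hermForm hF).nondegenerate
  adj := fun k => ⟨adjU q k, hermForm_adj hF k⟩
  adj_symm := by
    intro k k' h u v
    rw [hermForm_swap hF, ← h, ← hermForm_swap hF]

/-- **class-3 field exit** (for U2 and for the field branch (c) of Clifford-with-forms): a subgroup of `GU_n(q)`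
normalising an adjoint-closed field subalgebra of prime degree is in class 3 -/
theorem inClassU_of_field (hF : Fintype.card F = q ^ 2) (hn : 1 ≤ n) (H : Subgroup (GL (Fin n) F))
    (hHU : H ≤ GU n F q) (r : ℕ) (K : Subalgebra F (Matrix (Fin n) (Fin n) F)) (hr : r.Prime)
    (hK : IsFieldSubalgebra r K) (hadj : IsAdjointClosedFor (hermForm n F q) K)
    (hnorm : H ≤ subalgebraNormalizer K) : InClassU n q H := by
  haveI : Nonempty (Fin n) := ⟨⟨0, by omega⟩⟩
  exact InClassU.of_field H hHU r K hr
    (odd_finrank_of_unitary hF (adjForm_hermForm hF) hermForm_smul_right K hK hadj) hK hadj hnorm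

/-- **U2** irreducible, not absolutely irreducible: class 3 -/
theorem inClassU_of_not_absIrr (hF : Fintype.card F = q ^ 2) (hn : 3 ≤ n) (H : Subgroup (GL (Fin n) F))
    (hHU : H ≤ GU n F q) (h1 : Irr H) (h2 : ¬ AbsIrr H) : InClassU n q H := by
  haveI : Nonempty (Fin n) := ⟨⟨0, by omega⟩⟩
  obtain ⟨r, K, hr, hK, hadj, _, hnorm⟩ :=
    exists_field_of_not_absIrr (adjForm_hermForm hF) H (fixesForm_of_le_GU H hHU) h1 h2
  exact inClassU_of_field hF (by omega) H hHU r K hr hK hadj hnorm

end Cfsg.Agent.Lib.Helper18.S5663U2
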