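import Mathlib
import Cfsg.Prelude.Def_GeometricClasses
import Cfsg.Agent.Lib.Helper7.AschDefs
import Cfsg.Agent.Lib.Helper7.AschWrap
import Cfsg.Agent.Lib.Helper11.AschCliffDefs
import Cfsg.Agent.Lib.Helper18.S5630I2

/-!
# S5630, block I4 (Clifford theory): pieces CEN1, CEN2, CEN3 (helper18)

Exact signatures of `notes/S5630I4Skel_helper11.lean.txt`:
`le_normalizer_cenAlg`, `mem_cenAlg_kron`, `inClass_of_not_absIrr_block`.
-/

set_option autoImplicit false

namespace Cfsg.Agent.Lib.Helper18.S5630I4CEN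

open Matrix Cfsg Cfsg.Geo Cfsg.Agent.Lib.Helper7.Asch Cfsg.Agent.Lib.Helper11.Cliff
open scoped MatrixGroups Kronecker

variable {n : ℕ} {F : Type*} [Field F]

/-! ### CEN1 -/

theorem conj_mem_commAlg (G X : Subgroup (GL (Fin n) F)) (hX : NormBy G X) {g : GL (Fin n) F} (hg : g ∈ G)
    {M : Matrix (Fin n) (Fin n) F} (hM : M ∈ commAlg X) :
    (g : Matrix (Fin n) (Fin n) F) * M * ((g⁻¹ : GL (Fin n) F) : Matrix (Fin n) (Fin n) F) ∈ commAlg X := by
  rw [mem_commAlg_iff] at hM ⊢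
  intro x hx
  have hx' : g⁻¹ * x * g ∈ X := by
    have := hX g⁻¹ (G.inv_mem hg) x hx
    simpa using this
  have h := hM _ hx'
  simp only [Units.val_mul] at h
  have h2 := congrArg (fun Z => (g : Matrix (Fin n) (Fin n) F) * Z *
    ((g⁻¹ : GL (Fin n) F) : Matrix (Fin n) (Fin n) F)) h
  simp only [Matrix.mul_assoc, Units.mul_inv_cancel_left, Units.mul_inv, mul_one] at h2
  simpa only [Matrix.mul_assoc] using h2

theorem conj_mem_cenAlg (G X : Subgroup (GL (Fin n) F)) (hX : NormBy G X) {g : GL (Fin n) F} (hg : g ∈ G)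
    {M : Matrix (Fin n) (Fin n) F} (hM : M ∈ cenAlg X) :
    (g : Matrix (Fin n) (Fin n) F) * M * ((g⁻¹ : GL (Fin n) F) : Matrix (Fin n) (Fin n) F) ∈ cenAlg X := by
  rw [mem_cenAlg_iff] at hM ⊢
  refine ⟨conj_mem_commAlg G X hX hg hM.1, fun C hC => ?_⟩
  have hC' := conj_mem_commAlg G X hX (G.inv_mem hg) hC
  rw [inv_inv] at hC'
  have h := hM.2 _ hC'
  have h2 := congrArg (fun Z => (g : Matrix (Fin n) (Fin n) F) * Z *
    ((g⁻¹ : GL (Fin n) F) : Matrix (Fin n) (Fin n) F)) h
  simp only [Matrix.mul_assoc, Units.mul_inv_cancel_left, Units.mul_inv, mul_one] at h2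
  simpa only [Matrix.mul_assoc] using h2

/-- **CEN1**. -/
theorem le_normalizer_cenAlg (G X : Subgroup (GL (Fin n) F)) (hX : NormBy G X) :
    G ≤ subalgebraNormalizer (cenAlg X) := by
  intro g hg k
  constructor
  · intro hk
    exact conj_mem_cenAlg G X hX hg hk
  · intro hk
    have := conj_mem_cenAlg G X hX (G.inv_mem hg) hk
    rw [inv_inv] at this
    simpa only [Matrix.mul_assoc, Units.inv_mul_cancel_left, Units.mul_inv, Units.inv_mul, mul_one] using this

/-! ### Block calculus on `Fin d × Fin s` -/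

section blocks

variable {d s : ℕ}

/-- the `(a, b)` block of a matrix on `Fin d × Fin s` -/
def blk (A : Matrix (Fin d × Fin s) (Fin d × Fin s) F) (a b : Fin s) : Matrix (Fin d) (Fin d) F :=
  fun i i' => A (i, a) (i', b)

theorem blk_ext {A B : Matrix (Fin d × Fin s) (Fin d × Fin s) F} (h : ∀ a b, blk A a b = blk B a b) : A = B := by
  ext ⟨i, a⟩ ⟨i', b⟩
  exact congrFun (congrFun (h a b) i) i'

theorem blk_mul (A B : Matrix (Fin d × Fin s) (Fin d × Fin s) F) (a b : Fin s) :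
    blk (A * B) a b = ∑ c, blk A a c * blk B c b := by
  ext i i'
  simp only [blk, Matrix.mul_apply, Matrix.sum_apply, Fintype.sum_prod_type]
  rw [Finset.sum_comm]

theorem blk_kron (y : Matrix (Fin d) (Fin d) F) (m : Matrix (Fin s) (Fin s) F) (a b : Fin s) :
    blk (y ⊗ₖ m) a b = m a b • y := by
  ext i i'
  simp [blk, mul_comm]

theorem blk_kron_one_mul (y : Matrix (Fin d) (Fin d) F) (A : Matrix (Fin d × Fin s) (Fin d × Fin s) F)
    (a b : Fin s) : blk ((y ⊗ₖ (1 : Matrix (Fin s) (Fin s) F)) * A) a b = y * blk A a b := by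
  rw [blk_mul]
  simp [blk_kron, Matrix.one_apply]

theorem blk_mul_kron_one (y : Matrix (Fin d) (Fin d) F) (A : Matrix (Fin d × Fin s) (Fin d × Fin s) F)
    (a b : Fin s) : blk (A * (y ⊗ₖ (1 : Matrix (Fin s) (Fin s) F))) a b = blk A a b * y := by
  rw [blk_mul]
  simp [blk_kron, Matrix.one_apply]

theorem comm_kron_one_iff (y : Matrix (Fin d) (Fin d) F) (A : Matrix (Fin d × Fin s) (Fin d × Fin s) F) :
    (y ⊗ₖ (1 : Matrix (Fin s) (Fin s) F)) * A = A * (y ⊗ₖ (1 : Matrix (Fin s) (Fin s) F)) ↔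
      ∀ a b, y * blk A a b = blk A a b * y := by
  constructor
  · intro h a b
    rw [← blk_kron_one_mul, ← blk_mul_kron_one, h]
  · intro h
    apply blk_ext
    intro a b
    rw [blk_kron_one_mul, blk_mul_kron_one, h]

/-- the centre of the commutant of `{y ⊗ 1}` is `{c ⊗ 1 : c` commuting with the `y}`, provided that commutant is commutative -/
theorem kron_center (hs : 1 ≤ s) (S : Set (Matrix (Fin d) (Fin d) F))
    (hcomm : ∀ x y : Matrix (Fin d) (Fin d) F, (∀ t ∈ S, x * t = t * x) → (∀ t ∈ S, y * t = t * y) → x * y = y * x)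
    (A : Matrix (Fin d × Fin s) (Fin d × Fin s) F) :
    ((∀ y ∈ S, (y ⊗ₖ (1 : Matrix (Fin s) (Fin s) F)) * A = A * (y ⊗ₖ (1 : Matrix (Fin s) (Fin s) F))) ∧
      ∀ C : Matrix (Fin d × Fin s) (Fin d × Fin s) F,
        (∀ y ∈ S, (y ⊗ₖ (1 : Matrix (Fin s) (Fin s) F)) * C = C * (y ⊗ₖ (1 : Matrix (Fin s) (Fin s) F))) →
        C * A = A * C) ↔
    ∃ c : Matrix (Fin d) (Fin d) F, (∀ y ∈ S, c * y = y * c) ∧ A = c ⊗ₖ (1 : Matrix (Fin s) (Fin s) F) := by
  constructor
  · rintro ⟨h1, h2⟩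
    set j0 : Fin s := ⟨0, hs⟩ with hj0
    -- `A` commutes with every `1 ⊗ m`
    have hm : ∀ m : Matrix (Fin s) (Fin s) F,
        ((1 : Matrix (Fin d) (Fin d) F) ⊗ₖ m) * A = A * ((1 : Matrix (Fin d) (Fin d) F) ⊗ₖ m) := by
      intro m
      apply h2
      intro y _
      rw [← Matrix.mul_kronecker_mul, ← Matrix.mul_kronecker_mul, mul_one, one_mul, mul_one, one_mul]
    have hblk : ∀ (j k a b : Fin s),
        (if j = a then blk A k b else 0) = (if k = b then blk A a j else 0) := by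
      intro j k a b
      have h := congrArg (fun Z => blk Z a b) (hm (Matrix.single j k (1 : F)))
      simp only [blk_mul, blk_kron] at h
      simp only [Matrix.single_apply, ite_smul, one_smul, zero_smul, ite_mul, mul_ite, one_mul, zero_mul,
        mul_one, mul_zero] at h
      have e1 : (∑ x : Fin s, (if j = a ∧ k = x then blk A x b else 0)) = if j = a then blk A k b else 0 := by
        by_cases hja : j = a
        · simp [hja]
        · simp [hja]
      have e2 : (∑ x : Fin s, (if j = x ∧ k = b then blk A a x else 0)) = if k = b then blk A a j else 0 := by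
        by_cases hkb : k = b
        · simp [hkb]
        · simp [hkb]
      rw [e1, e2] at h
      exact h
    have hdiag : ∀ a, blk A a a = blk A j0 j0 := by
      intro a
      have := hblk j0 a j0 a
      simpa using this
    have hoff : ∀ a b, a ≠ b → blk A a b = 0 := by
      intro a b hab
      have := hblk a a b a
      simp only [if_true] at this
      rw [if_neg hab] at this
      -- this : 0 = blk A b a ; we want blk A a b: use the other instance
      have h' := hblk b b a b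
      simp only [if_true] at h'
      rw [if_neg (Ne.symm hab)] at h'
      exact h'.symm
    refine ⟨blk A j0 j0, ?_, ?_⟩
    · intro y hy
      exact (((comm_kron_one_iff y A).1 (h1 y hy)) j0 j0).symm
    · apply blk_ext
      intro a b
      rw [blk_kron, Matrix.one_apply]
      by_cases hab : a = b
      · subst hab
        simp [hdiag a]
      · simp [hab, hoff a b hab]
  · rintro ⟨c, hc, rfl⟩
    have hb : ∀ a b : Fin s, blk (c ⊗ₖ (1 : Matrix (Fin s) (Fin s) F)) a b = if a = b then c else 0 := by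
      intro a b
      rw [blk_kron, Matrix.one_apply]
      by_cases hab : a = b <;> simp [hab]
    refine ⟨fun y hy => ?_, fun C hC => ?_⟩
    · rw [comm_kron_one_iff]
      intro a b
      rw [hb]
      by_cases hab : a = b
      · simp [hab, hc y hy]
      · simp [hab]
    · have hCb : ∀ a b, ∀ t ∈ S, blk C a b * t = t * blk C a b := by
        intro a b t ht
        exact (((comm_kron_one_iff t C).1 (hC t ht)) a b).symm
      apply blk_ext
      intro a b
      rw [blk_mul_kron_one, blk_kron_one_mul]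
      exact hcomm _ _ (hCb a b) hc

end blocks

/-! ### Transport along `e` and `P` -/

section transport

variable {d s : ℕ}

/-- `A ↦ P · reindex A · P⁻¹` -/
def tau (e : Fin n ≃ Fin d × Fin s) (P : GL (Fin n) F) (A : Matrix (Fin d × Fin s) (Fin d × Fin s) F) :
    Matrix (Fin n) (Fin n) F :=
  (P : Matrix (Fin n) (Fin n) F) * Matrix.reindex e.symm e.symm A * ((P⁻¹ : GL (Fin n) F) : Matrix (Fin n) (Fin n) F)

/-- the inverse of `tau` -/
def tauInv (e : Fin n ≃ Fin d × Fin s) (P : GL (Fin n) F) (M : Matrix (Fin n) (Fin n) F) :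
    Matrix (Fin d × Fin s) (Fin d × Fin s) F :=
  Matrix.reindex e e (((P⁻¹ : GL (Fin n) F) : Matrix (Fin n) (Fin n) F) * M * (P : Matrix (Fin n) (Fin n) F))

theorem kronLM_eq_tau (e : Fin n ≃ Fin d × Fin s) (P : GL (Fin n) F) (c : Matrix (Fin d) (Fin d) F) :
    kronLM e P c = tau e P (c ⊗ₖ (1 : Matrix (Fin s) (Fin s) F)) := rfl

theorem tau_mul (e : Fin n ≃ Fin d × Fin s) (P : GL (Fin n) F) (A B : Matrix (Fin d × Fin s) (Fin d × Fin s) F) :
    tau e P (A * B) = tau e P A * tau e P B := by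
  unfold tau
  simp only [Matrix.reindex_apply, Equiv.symm_symm, Matrix.mul_assoc, Units.inv_mul_cancel_left]
  rw [← Matrix.submatrix_mul_equiv A B e e e]
  simp only [Matrix.mul_assoc]

theorem tauInv_mul (e : Fin n ≃ Fin d × Fin s) (P : GL (Fin n) F) (M N : Matrix (Fin n) (Fin n) F) :
    tauInv e P (M * N) = tauInv e P M * tauInv e P N := by
  unfold tauInv
  simp only [Matrix.reindex_apply]
  rw [Matrix.submatrix_mul_equiv]
  simp only [Matrix.mul_assoc, Units.mul_inv_cancel_left]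

theorem tau_tauInv (e : Fin n ≃ Fin d × Fin s) (P : GL (Fin n) F) (M : Matrix (Fin n) (Fin n) F) :
    tau e P (tauInv e P M) = M := by
  unfold tau tauInv
  simp only [Matrix.reindex_apply, Equiv.symm_symm, Matrix.submatrix_submatrix, Equiv.symm_comp_self,
    Matrix.submatrix_id_id, Matrix.mul_assoc, Units.mul_inv_cancel_left, Units.mul_inv, mul_one]

theorem tauInv_tau (e : Fin n ≃ Fin d × Fin s) (P : GL (Fin n) F) (A : Matrix (Fin d × Fin s) (Fin d × Fin s) F) :
    tauInv e P (tau e P A) = A := by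
  unfold tau tauInv
  simp only [Matrix.reindex_apply, Equiv.symm_symm, Matrix.mul_assoc, Units.inv_mul_cancel_left, Units.inv_mul,
    mul_one, Matrix.submatrix_submatrix, Equiv.self_comp_symm, Matrix.submatrix_id_id]

theorem tau_injective (e : Fin n ≃ Fin d × Fin s) (P : GL (Fin n) F) : Function.Injective (tau (F := F) e P) :=
  Function.LeftInverse.injective (tauInv_tau e P)

theorem tau_one (e : Fin n ≃ Fin d × Fin s) (P : GL (Fin n) F) : tau e P 1 = 1 := by
  unfold tau
  simp [Matrix.submatrix_one_equiv]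

theorem tau_smul (e : Fin n ≃ Fin d × Fin s) (P : GL (Fin n) F) (a : F) (A : Matrix (Fin d × Fin s) (Fin d × Fin s) F) :
    tau e P (a • A) = a • tau e P A := by
  unfold tau
  simp [Matrix.submatrix_smul]

theorem mem_commAlg_map_iff (e : Fin n ≃ Fin d × Fin s) (P : GL (Fin n) F) (Y : Subgroup (GL (Fin d) F))
    (M : Matrix (Fin n) (Fin n) F) :
    M ∈ commAlg (Y.map (kronL e P)) ↔
      ∀ y ∈ matrixSet Y, (y ⊗ₖ (1 : Matrix (Fin s) (Fin s) F)) * tauInv e P M =
        tauInv e P M * (y ⊗ₖ (1 : Matrix (Fin s) (Fin s) F)) := by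
  rw [mem_commAlg_iff]
  constructor
  · rintro h _ ⟨g, hg, rfl⟩
    have h1 := h (kronL e P g) (Subgroup.mem_map_of_mem _ hg)
    rw [kronL_val, kronLM_eq_tau] at h1
    have h2 := congrArg (tauInv e P) h1
    rwa [tauInv_mul, tauInv_mul, tauInv_tau] at h2
  · rintro h _ ⟨g, hg, rfl⟩
    have h1 := h _ ⟨g, hg, rfl⟩
    rw [kronL_val, kronLM_eq_tau]
    have h2 := congrArg (tau e P) h1
    rwa [tau_mul, tau_mul, tau_tauInv] at h2

end transport

/-- **CEN2** (the centre of the commutant in block form). -/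
theorem mem_cenAlg_kron [Fintype F] {d s : ℕ} (hs : 1 ≤ s) (e : Fin n ≃ Fin d × Fin s) (P : GL (Fin n) F)
    (Y : Subgroup (GL (Fin d) F)) (hY : Irr Y) (M : Matrix (Fin n) (Fin n) F) :
    M ∈ cenAlg (Y.map (kronL e P)) ↔
      ∃ c : Matrix (Fin d) (Fin d) F, (∀ y ∈ matrixSet Y, c * y = y * c) ∧ M = kronLM e P c := by
  have hcomm : ∀ x y : Matrix (Fin d) (Fin d) F, (∀ t ∈ matrixSet Y, x * t = t * x) →
      (∀ t ∈ matrixSet Y, y * t = t * y) → x * y = y * x := fun x y hx hy =>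
    Cfsg.Agent.Lib.Helper18.S5630I2.centralizer_comm (matrixSet Y) hY x y hx hy
  have key := kron_center hs (matrixSet Y) hcomm (tauInv e P M)
  rw [mem_cenAlg_iff, mem_commAlg_map_iff]
  constructor
  · rintro ⟨h1, h2⟩
    obtain ⟨c, hc, hA⟩ := key.1 ⟨h1, fun C hC => by
      have hC' : tau e P C ∈ commAlg (Y.map (kronL e P)) := by
        rw [mem_commAlg_map_iff, tauInv_tau]
        exact hC
      have h3 := congrArg (tauInv e P) (h2 _ hC')
      rwa [tauInv_mul, tauInv_mul, tauInv_tau] at h3⟩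
    refine ⟨c, hc, ?_⟩
    rw [kronLM_eq_tau, ← hA, tau_tauInv]
  · rintro ⟨c, hc, hM⟩
    have hA : tauInv e P M = c ⊗ₖ (1 : Matrix (Fin s) (Fin s) F) := by
      rw [hM, kronLM_eq_tau, tauInv_tau]
    obtain ⟨h1, h2⟩ := key.2 ⟨c, hc, hA⟩
    refine ⟨h1, fun C hC => ?_⟩
    rw [mem_commAlg_map_iff] at hC
    have h3 := congrArg (tau e P) (h2 _ hC)
    rwa [tau_mul, tau_mul, tau_tauInv, tau_tauInv] at h3

/-! ### CEN3 -/

section kronLMlemmas

variable {d s : ℕ}

theorem kronLM_mul (e : Fin n ≃ Fin d × Fin s) (P : GL (Fin n) F) (c c' : Matrix (Fin d) (Fin d) F) :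
    kronLM e P (c * c') = kronLM e P c * kronLM e P c' := by
  rw [kronLM_eq_tau, kronLM_eq_tau, kronLM_eq_tau, ← tau_mul, ← Matrix.mul_kronecker_mul, mul_one]

theorem kronLM_one (e : Fin n ≃ Fin d × Fin s) (P : GL (Fin n) F) : kronLM e P (1 : Matrix (Fin d) (Fin d) F) = 1 := by
  rw [kronLM_eq_tau, Matrix.one_kronecker_one, tau_one]

theorem kronLM_zero (e : Fin n ≃ Fin d × Fin s) (P : GL (Fin n) F) : kronLM e P (0 : Matrix (Fin d) (Fin d) F) = 0 := by
  rw [kronLM_eq_tau, Matrix.zero_kronecker]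
  unfold tau
  simp

theorem kronLM_smul_one (e : Fin n ≃ Fin d × Fin s) (P : GL (Fin n) F) (a : F) :
    kronLM e P (a • (1 : Matrix (Fin d) (Fin d) F)) = a • 1 := by
  rw [kronLM_eq_tau, Matrix.smul_kronecker, Matrix.one_kronecker_one, tau_smul, tau_one]

theorem kronLM_injective (hs : 1 ≤ s) (e : Fin n ≃ Fin d × Fin s) (P : GL (Fin n) F) :
    Function.Injective (kronLM (F := F) e P) := by
  intro c c' h
  rw [kronLM_eq_tau, kronLM_eq_tau] at h
  have h1 := tau_injective e P h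
  have h2 := congrArg (fun Z => blk Z (⟨0, hs⟩ : Fin s) ⟨0, hs⟩) h1
  simpa [blk_kron] using h2

end kronLMlemmas

/-- **CEN3** (exit C3). -/
theorem inClass_of_not_absIrr_block [Fintype F] (G X : Subgroup (GL (Fin n) F)) (hX : NormBy G X)
    {d s : ℕ} (hs : 1 ≤ s) (e : Fin n ≃ Fin d × Fin s) (P : GL (Fin n) F) (Y : Subgroup (GL (Fin d) F))
    (hY : Irr Y) (hnY : ¬ AbsIrr Y) (hXY : X = Y.map (kronL e P)) : InClass G := by
  subst hXY
  have hmem := mem_cenAlg_kron hs e P Y hY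
  have hcommE : ∀ x ∈ cenAlg (Y.map (kronL e P)), ∀ y ∈ cenAlg (Y.map (kronL e P)), x * y = y * x := by
    intro x hx y hy
    obtain ⟨c, hc, rfl⟩ := (hmem x).1 hx
    obtain ⟨c', hc', rfl⟩ := (hmem y).1 hy
    rw [← kronLM_mul, ← kronLM_mul,
      Cfsg.Agent.Lib.Helper18.S5630I2.centralizer_comm (matrixSet Y) hY c c' hc hc']
  have hinvE : ∀ x ∈ cenAlg (Y.map (kronL e P)), x ≠ 0 → ∃ y ∈ cenAlg (Y.map (kronL e P)), x * y = 1 := by
    intro x hx hx0
    obtain ⟨c, hc, rfl⟩ := (hmem x).1 hx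
    have hc0 : c ≠ 0 := by
      rintro rfl
      exact hx0 (kronLM_zero e P)
    obtain ⟨y, hy, h1, _⟩ :=
      Cfsg.Agent.Lib.Helper18.S5630I2.exists_inv_of_mem_centralizer (matrixSet Y) hY c hc hc0
    refine ⟨kronLM e P y, (hmem _).2 ⟨y, hy, rfl⟩, ?_⟩
    rw [← kronLM_mul, h1, kronLM_one]
  have hneE : ∃ x ∈ cenAlg (Y.map (kronL e P)), ∀ a : F, x ≠ a • (1 : Matrix (Fin n) (Fin n) F) := by
    have h2 : ¬ ∀ M : Matrix (Fin d) (Fin d) F, (∀ t ∈ matrixSet Y, M * t = t * M) →
        ∃ c : F, M = c • (1 : Matrix (Fin d) (Fin d) F) := fun h => hnY ⟨hY, h⟩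
    push Not at h2
    obtain ⟨M, hM, hMs⟩ := h2
    refine ⟨kronLM e P M, (hmem _).2 ⟨M, hM, rfl⟩, fun a ha => ?_⟩
    rw [← kronLM_smul_one e P a] at ha
    exact hMs a (kronLM_injective hs e P ha)
  obtain ⟨r, K, hr, hK, hcanon⟩ :=
    Cfsg.Agent.Lib.Helper18.S5630I2.exists_prime_field_subalgebra (cenAlg (Y.map (kronL e P))) hcommE hinvE hneE
  have h1 := le_normalizer_cenAlg G (Y.map (kronL e P)) hX
  have h2 := Cfsg.Agent.Lib.Helper18.S5630I2.normalizer_le_of_canonical (cenAlg (Y.map (kronL e P))) K _ hcanon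
  exact InClass.of_field G r K hr hK (h1.trans h2)

end Cfsg.Agent.Lib.Helper18.S5630I4CEN
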