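import Mathlib
import Cfsg.Prelude.Def_GeometricClasses
import Cfsg.Agent.Lib.Helper7.AschDefs
import Cfsg.Agent.Lib.Helper11.AschCliffDefs
import Cfsg.Agent.Lib.Helper18.S5630I4CEN

/-!
# S5630, block I4 (Clifford theory): pieces ED1, ED2 (helper18)

Exact signatures of `notes/S5630I4Skel_helper11.lean.txt`: `map_kronL_le_scalars`, `absIrr_map_kronL`.
-/

set_option autoImplicit false

namespace Cfsg.Agent.Lib.Helper18.S5630I4ED

open Matrix Cfsg Cfsg.Geo Cfsg.Agent.Lib.Helper7.Asch Cfsg.Agent.Lib.Helper11.Cliff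
  Cfsg.Agent.Lib.Helper18.S5630I4CEN
open scoped MatrixGroups Kronecker

variable {n : ℕ} {F : Type*} [Field F]

/-- **ED1**.  Degree-one constituent: `X` is scalar. -/
theorem map_kronL_le_scalars {s : ℕ} (e : Fin n ≃ Fin 1 × Fin s) (P : GL (Fin n) F)
    (Y : Subgroup (GL (Fin 1) F)) : Y.map (kronL e P) ≤ scalars (Fin n) F := by
  rintro _ ⟨y, _, rfl⟩
  rw [mem_scalars_iff]
  refine ⟨Matrix.GeneralLinearGroup.det y, ?_⟩
  rw [kronL_val]
  have h1 : (y : Matrix (Fin 1) (Fin 1) F) =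
      ((Matrix.GeneralLinearGroup.det y : Fˣ) : F) • (1 : Matrix (Fin 1) (Fin 1) F) := by
    ext i j
    have hi : i = 0 := Subsingleton.elim _ _
    have hj : j = 0 := Subsingleton.elim _ _
    subst hi hj
    simp
  rw [h1, kronLM_smul_one]

/-- for multiplicity one, `kronLM e P c = P · (reindexed c) · P⁻¹` -/
theorem kronLM_one_eq {d : ℕ} (e : Fin n ≃ Fin d × Fin 1) (P : GL (Fin n) F) (c : Matrix (Fin d) (Fin d) F) :
    kronLM e P c = (P : Matrix (Fin n) (Fin n) F) *
      c.submatrix (e.trans (Equiv.prodUnique (Fin d) (Fin 1))) (e.trans (Equiv.prodUnique (Fin d) (Fin 1))) *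
      ((P⁻¹ : GL (Fin n) F) : Matrix (Fin n) (Fin n) F) := by
  unfold kronLM
  congr 2
  ext i j
  have h1 : (e i).2 = (e j).2 := Subsingleton.elim _ _
  simp only [Matrix.reindex_apply, Equiv.symm_symm, Matrix.submatrix_apply, Matrix.kroneckerMap_apply,
    Equiv.trans_apply, Equiv.prodUnique_apply]
  rw [h1, Matrix.one_apply_eq, mul_one]

/-- **ED2**.  Multiplicity one: `X = P · reindex(Y ⊗ 1₁) · P⁻¹` is absolutely irreducible. -/
theorem absIrr_map_kronL {d : ℕ} (e : Fin n ≃ Fin d × Fin 1) (P : GL (Fin n) F)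
    (Y : Subgroup (GL (Fin d) F)) (hY : AbsIrr Y) : AbsIrr (Y.map (kronL e P)) := by
  set ι : Fin n ≃ Fin d := e.trans (Equiv.prodUnique (Fin d) (Fin 1)) with hι
  refine ⟨?_, ?_⟩
  · -- irreducibility
    intro W hW
    let Lmap : (Fin d → F) →ₗ[F] (Fin n → F) :=
      (Matrix.toLin' (P : Matrix (Fin n) (Fin n) F)).comp (LinearMap.funLeft F F ι)
    have hLmap : ∀ u, Lmap u = (P : Matrix (Fin n) (Fin n) F) *ᵥ (u ∘ ι) := fun u => rfl
    have hsurj : ∀ w : Fin n → F, Lmap ((((P⁻¹ : GL (Fin n) F) : Matrix (Fin n) (Fin n) F) *ᵥ w) ∘ ι.symm) = w := by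
      intro w
      rw [hLmap]
      have : ((((P⁻¹ : GL (Fin n) F) : Matrix (Fin n) (Fin n) F) *ᵥ w) ∘ ι.symm) ∘ ι =
          ((P⁻¹ : GL (Fin n) F) : Matrix (Fin n) (Fin n) F) *ᵥ w := by
        funext i
        simp
      rw [this, Matrix.mulVec_mulVec, Units.mul_inv, Matrix.one_mulVec]
    have hinv : ∀ s ∈ matrixSet Y, (W.comap Lmap).map (Matrix.toLin' s) ≤ W.comap Lmap := by
      rintro _ ⟨y, hy, rfl⟩ _ ⟨u, hu, rfl⟩
      rw [Submodule.mem_comap, Matrix.toLin'_apply, hLmap]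
      have hu' : (P : Matrix (Fin n) (Fin n) F) *ᵥ (u ∘ ι) ∈ W := hu
      have hx : ((kronL e P y : GL (Fin n) F) : Matrix (Fin n) (Fin n) F) ∈ matrixSet (Y.map (kronL e P)) :=
        ⟨kronL e P y, Subgroup.mem_map_of_mem _ hy, rfl⟩
      have h1 := hW _ hx ⟨_, hu', rfl⟩
      rw [Matrix.toLin'_apply, kronL_val, kronLM_one_eq, Matrix.mulVec_mulVec] at h1
      have h2 : (P : Matrix (Fin n) (Fin n) F) * (y : Matrix (Fin d) (Fin d) F).submatrix ι ι *
          ((P⁻¹ : GL (Fin n) F) : Matrix (Fin n) (Fin n) F) * (P : Matrix (Fin n) (Fin n) F) =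
          (P : Matrix (Fin n) (Fin n) F) * (y : Matrix (Fin d) (Fin d) F).submatrix ι ι := by
        rw [Matrix.mul_assoc, Units.inv_mul, Matrix.mul_one]
      rw [h2, ← Matrix.mulVec_mulVec, Matrix.submatrix_mulVec_equiv] at h1
      have h3 : (u ∘ ι) ∘ ι.symm = u := by
        funext k
        simp
      rw [h3] at h1
      exact h1
    rcases hY.1 _ hinv with h | h
    · left
      rw [eq_bot_iff]
      intro w hw
      have h1 : (((P⁻¹ : GL (Fin n) F) : Matrix (Fin n) (Fin n) F) *ᵥ w) ∘ ι.symm ∈ W.comap Lmap := by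
        rw [Submodule.mem_comap, hsurj]
        exact hw
      rw [h, Submodule.mem_bot] at h1
      rw [← hsurj w, h1, map_zero]
      exact Submodule.zero_mem _
    · right
      rw [eq_top_iff]
      intro w _
      have h1 : (((P⁻¹ : GL (Fin n) F) : Matrix (Fin n) (Fin n) F) *ᵥ w) ∘ ι.symm ∈ W.comap Lmap := by
        rw [h]
        exact Submodule.mem_top
      rw [Submodule.mem_comap, hsurj] at h1
      exact h1
  · -- the commutant is scalar
    intro M hM
    have hM' : M ∈ commAlg (Y.map (kronL e P)) := by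
      rw [mem_commAlg_iff]
      intro x hx
      exact (hM _ ⟨x, hx, rfl⟩).symm
    rw [mem_commAlg_map_iff] at hM'
    have hb : ∀ t ∈ matrixSet Y, blk (tauInv e P M) 0 0 * t = t * blk (tauInv e P M) 0 0 := by
      intro t ht
      exact (((comm_kron_one_iff t (tauInv e P M)).1 (hM' t ht)) 0 0).symm
    obtain ⟨c, hc⟩ := hY.2 _ hb
    refine ⟨c, ?_⟩
    have hA : tauInv e P M = (c • (1 : Matrix (Fin d) (Fin d) F)) ⊗ₖ (1 : Matrix (Fin 1) (Fin 1) F) := by
      apply blk_ext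
      intro a b
      have ha : a = 0 := Subsingleton.elim _ _
      have hb' : b = 0 := Subsingleton.elim _ _
      subst ha hb'
      rw [blk_kron, hc]
      simp
    rw [← tau_tauInv e P M, hA, ← kronLM_eq_tau, kronLM_smul_one]

end Cfsg.Agent.Lib.Helper18.S5630I4ED
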