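import Mathlib
import Cfsg.Agent.Lib.Helper13.AltRank

/-!
# Quadratic unipotent isometries of a symmetric bilinear form, characteristic not two (helper18)

`V` a finite-dimensional space with a non-degenerate symmetric bilinear form `B`, `N` an endomorphism with
`N ∘ N = 0` such that `1 + N` is an isometry.

* `range_orth_ker`, `range_isotropic`, `skew`: `range N ⟂ ker N`, `range N` totally isotropic, `N` skew-adjoint;
* `two_le_finrank_range`: `N ≠ 0` implies `2 ≤ rank N` (no orthogonal transvections);
* `exists_siegel`: `rank N = 2` implies `N x = B x k₁ • k₂ - B x k₂ • k₁` for a basis `k₁, k₂` of the totally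
  isotropic line `range N` (Siegel / long root elements).
-/

set_option autoImplicit false

namespace Cfsg.Agent.Lib.Helper18.OTRigidA

open Module

variable {F V : Type*} [Field F] [AddCommGroup V] [Module F V]

section basic

variable (B : LinearMap.BilinForm F V) (N : V →ₗ[F] V)

/-- the isometry identity for `1 + N`, expanded -/
theorem iso_expand (hiso : ∀ x y, B (x + N x) (y + N y) = B x y) (x y : V) :
    B (N x) y + B x (N y) + B (N x) (N y) = 0 := by
  have h := hiso x y
  simp only [map_add, LinearMap.add_apply] at h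
  linear_combination h

/-- `range N` is orthogonal to `ker N` -/
theorem range_orth_ker (hiso : ∀ x y, B (x + N x) (y + N y) = B x y) (x y : V) (hy : N y = 0) :
    B (N x) y = 0 := by
  have h := iso_expand B N hiso x y
  rw [hy] at h
  simpa using h

/-- `range N` is totally isotropic when `N ∘ N = 0` -/
theorem range_isotropic (hN : ∀ x, N (N x) = 0) (hiso : ∀ x y, B (x + N x) (y + N y) = B x y) (x y : V) :
    B (N x) (N y) = 0 :=
  range_orth_ker B N hiso x (N y) (hN y)

/-- `N` is skew-adjoint -/
theorem skew (hN : ∀ x, N (N x) = 0) (hiso : ∀ x y, B (x + N x) (y + N y) = B x y) (x y : V) :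
    B (N x) y = - B x (N y) := by
  have h := iso_expand B N hiso x y
  rw [range_isotropic B N hN hiso] at h
  linear_combination h

end basic

/-- **No orthogonal transvections** in characteristic not two: a non-zero `N` with `N ∘ N = 0` and `1 + N` an isometry of a
non-degenerate symmetric bilinear form has rank at least two. -/
theorem two_le_finrank_range [FiniteDimensional F V] (h2 : (2 : F) ≠ 0) (B : LinearMap.BilinForm F V)
    (hs : ∀ x y, B x y = B y x) (hB : ∀ v, (∀ y, B v y = 0) → v = 0) (N : V →ₗ[F] V)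
    (hN : ∀ x, N (N x) = 0) (hiso : ∀ x y, B (x + N x) (y + N y) = B x y) (hN0 : N ≠ 0) :
    2 ≤ finrank F (LinearMap.range N) := by
  by_contra hlt
  have hle : finrank F (LinearMap.range N) ≤ 1 := by omega
  obtain ⟨⟨v, hvr⟩, hv⟩ := finrank_le_one_iff.mp hle
  -- every `N x` is a multiple of `v`
  have hc : ∀ x, ∃ c : F, N x = c • v := by
    intro x
    obtain ⟨c, hc⟩ := hv ⟨N x, LinearMap.mem_range_self N x⟩
    exact ⟨c, by simpa using (congrArg Subtype.val hc).symm⟩
  obtain ⟨x₀, hx₀⟩ : ∃ x₀, N x₀ ≠ 0 := by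
    by_contra h
    push Not at h
    exact hN0 (LinearMap.ext h)
  obtain ⟨c₀, hc₀⟩ := hc x₀
  have hc₀0 : c₀ ≠ 0 := by
    rintro rfl
    exact hx₀ (by rw [hc₀, zero_smul])
  have hv0 : v ≠ 0 := by
    rintro rfl
    exact hx₀ (by rw [hc₀, smul_zero])
  -- `N v = 0`
  have hNv : N v = 0 := by
    have h := hN x₀
    rw [hc₀, map_smul] at h
    exact (smul_eq_zero.mp h).resolve_left hc₀0
  -- `B v x₀ = 0`
  have h1 : B v x₀ = 0 := by
    have h := iso_expand B N hiso x₀ x₀
    rw [range_isotropic B N hN hiso, hc₀, map_smul, LinearMap.smul_apply, map_smul, smul_eq_mul, smul_eq_mul,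
      hs x₀ v, add_zero] at h
    have h' : (2 * c₀) * B v x₀ = 0 := by linear_combination h
    exact (mul_eq_zero.mp h').resolve_left (mul_ne_zero h2 hc₀0)
  apply hv0
  apply hB
  intro y
  obtain ⟨cy, hcy⟩ := hc y
  have h := iso_expand B N hiso x₀ y
  rw [range_isotropic B N hN hiso, hc₀, hcy, map_smul, LinearMap.smul_apply, map_smul, smul_eq_mul, smul_eq_mul,
    hs x₀ v, h1, mul_zero, add_zero, add_zero] at h
  exact (mul_eq_zero.mp h).resolve_left hc₀0

/-- the rank of `N` is even (`(x, y) ↦ B (N x) y` is alternating with radical `ker N`) -/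
theorem even_finrank_range [FiniteDimensional F V] (h2 : (2 : F) ≠ 0) (B : LinearMap.BilinForm F V)
    (hs : ∀ x y, B x y = B y x) (hB : ∀ v, (∀ y, B v y = 0) → v = 0) (N : V →ₗ[F] V)
    (hN : ∀ x, N (N x) = 0) (hiso : ∀ x y, B (x + N x) (y + N y) = B x y) :
    Even (finrank F (LinearMap.range N)) := by
  have hsk := skew B N hN hiso
  have h := Cfsg.Agent.Lib.Helper13.even_finrank_sub_radical (LinearMap.comp B N)
    (fun x => by
      rw [LinearMap.comp_apply]
      have h := hsk x x
      rw [hs x (N x)] at h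
      have h' : (2 : F) * B (N x) x = 0 := by linear_combination h
      exact (mul_eq_zero.mp h').resolve_left h2)
    (LinearMap.ker N)
    (fun x => by
      rw [LinearMap.mem_ker]
      constructor
      · intro hx y
        rw [LinearMap.comp_apply, hsk, hx, map_zero, neg_zero]
      · intro hx
        apply hB
        intro y
        rw [hs]
        have := hx y
        rw [LinearMap.comp_apply, hsk] at this
        exact neg_eq_zero.mp this)
  have hrn := LinearMap.finrank_range_add_finrank_ker N
  have : finrank F (LinearMap.range N) = finrank F V - finrank F (LinearMap.ker N) := by omega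
  rw [this]
  exact h

/-- **Siegel form** of a quadratic unipotent isometry of rank two (characteristic not two). -/
theorem exists_siegel [FiniteDimensional F V] (h2 : (2 : F) ≠ 0) (B : LinearMap.BilinForm F V)
    (hs : ∀ x y, B x y = B y x) (hB : ∀ v, (∀ y, B v y = 0) → v = 0) (N : V →ₗ[F] V)
    (hN : ∀ x, N (N x) = 0) (hiso : ∀ x y, B (x + N x) (y + N y) = B x y)
    (hrk : finrank F (LinearMap.range N) = 2) :
    ∃ k₁ k₂ : V, LinearIndependent F ![k₁, k₂] ∧ B k₁ k₁ = 0 ∧ B k₁ k₂ = 0 ∧ B k₂ k₂ = 0 ∧
      (∀ x, N x = B x k₁ • k₂ - B x k₂ • k₁) ∧ LinearMap.range N = Submodule.span F {k₁, k₂} := by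
  classical
  let b : Basis (Fin 2) F (LinearMap.range N) := Module.finBasisOfFinrankEq F _ hrk
  obtain ⟨e₁, he₁⟩ := (b 0).2
  obtain ⟨e₂, he₂⟩ := (b 1).2
  set k₁ : V := (b 0 : V) with hk₁
  set k₂ : V := (b 1 : V) with hk₂
  -- coordinates of `N x`
  obtain ⟨α, β, hrep⟩ : ∃ α β : V → F, ∀ x, N x = α x • k₁ + β x • k₂ := by
    refine ⟨fun x => b.repr ⟨N x, LinearMap.mem_range_self N x⟩ 0,
      fun x => b.repr ⟨N x, LinearMap.mem_range_self N x⟩ 1, ?_⟩
    intro x
    have h := b.sum_repr ⟨N x, LinearMap.mem_range_self N x⟩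
    rw [Fin.sum_univ_two] at h
    have h' := congrArg Subtype.val h
    simp only [Submodule.coe_add, Submodule.coe_smul] at h'
    exact h'.symm
  -- independence
  have hind : ∀ s t : F, s • k₁ + t • k₂ = 0 → s = 0 ∧ t = 0 := by
    intro s t hst
    have hli := b.linearIndependent
    have h0 : s • b 0 + t • b 1 = 0 := by
      apply Subtype.ext
      simpa using hst
    have := (LinearIndependent.pair_iff.mp (by
      have : (![b 0, b 1] : Fin 2 → LinearMap.range N) = b := by
        funext i; fin_cases i <;> rfl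
      rw [this]; exact hli)) s t h0
    exact this
  have hk₁0 : k₁ ≠ 0 := by
    intro h
    have := hind 1 0 (by rw [h]; simp)
    exact one_ne_zero this.1
  set g : F := B e₁ k₂ with hg
  have hsk := skew B N hN hiso
  have hiso0 := range_isotropic B N hN hiso
  -- the Gram data
  have hG11 : B e₁ k₁ = 0 := by
    have h := hsk e₁ e₁
    rw [he₁, hs k₁ e₁] at h
    have h' : (2 : F) * B e₁ k₁ = 0 := by linear_combination h
    exact (mul_eq_zero.mp h').resolve_left h2
  have hG22 : B e₂ k₂ = 0 := by
    have h := hsk e₂ e₂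
    rw [he₂, hs k₂ e₂] at h
    have h' : (2 : F) * B e₂ k₂ = 0 := by linear_combination h
    exact (mul_eq_zero.mp h').resolve_left h2
  have hG21 : B e₂ k₁ = - g := by
    have h := hsk e₁ e₂
    rw [he₁, he₂, hs k₁ e₂] at h
    rw [h]
  -- `B k₁ y` and `B k₂ y` in terms of the coordinates
  have hBk₁ : ∀ y, B k₁ y = - g * β y := by
    intro y
    have h := hsk e₁ y
    rw [he₁] at h
    rw [h, hrep y, map_add, map_smul, map_smul, hG11]
    simp only [smul_eq_mul, mul_zero, zero_add]
    rw [← hg]; ring
  have hBk₂ : ∀ y, B k₂ y = g * α y := by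
    intro y
    have h := hsk e₂ y
    rw [he₂] at h
    rw [h, hrep y, map_add, map_smul, map_smul, hG22, hG21]
    simp only [smul_eq_mul, mul_zero, add_zero]
    ring
  have hg0 : g ≠ 0 := by
    intro h0
    apply hk₁0
    apply hB
    intro y
    rw [hBk₁ y, h0]; ring
  refine ⟨(-g⁻¹) • k₁, k₂, ?_, ?_, ?_, ?_, ?_, ?_⟩
  · rw [LinearIndependent.pair_iff]
    intro s t hst
    rw [smul_smul] at hst
    obtain ⟨h1, h2'⟩ := hind _ _ hst
    refine ⟨?_, h2'⟩
    have : g⁻¹ ≠ 0 := inv_ne_zero hg0
    rcases mul_eq_zero.mp h1 with h | h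
    · exact h
    · exact absurd (neg_eq_zero.mp h) this
  · have hk11 : B k₁ k₁ = 0 := by rw [← he₁]; exact hiso0 _ _
    simp only [map_smul, LinearMap.smul_apply, smul_eq_mul, hk11, mul_zero]
  · have hk12 : B k₁ k₂ = 0 := by rw [← he₁, ← he₂]; exact hiso0 _ _
    simp only [map_smul, LinearMap.smul_apply, smul_eq_mul, hk12, mul_zero]
  · rw [← he₂, hiso0]
  · intro x
    rw [map_smul, hs x k₁, hs x k₂, hBk₁ x, hBk₂ x]
    conv_lhs => rw [hrep x]
    try rw [smul_eq_mul]
    try rw [smul_smul]
    try rw [smul_smul]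
    have e1 : g * α x * -g⁻¹ =
        - α x := by
      field_simp
    have e2 : -g⁻¹ * (-g * β x) =
        β x := by
      field_simp
    rw [e1, e2, neg_smul, sub_neg_eq_add, add_comm]
  · apply le_antisymm
    · rintro _ ⟨x, rfl⟩
      rw [hrep x]
      refine Submodule.add_mem _ ?_ ?_
      · have : α x • k₁ =
            (-α x * g) • ((-g⁻¹) • k₁) := by
          rw [smul_smul]; congr 1; field_simp
        rw [this]
        exact Submodule.smul_mem _ _ (Submodule.subset_span (by simp))
      · exact Submodule.smul_mem _ _ (Submodule.subset_span (by simp))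
    · rw [Submodule.span_le]
      rintro y (rfl | rfl)
      · exact ⟨(-g⁻¹) • e₁, by rw [map_smul, he₁]⟩
      · exact ⟨e₂, he₂⟩

end Cfsg.Agent.Lib.Helper18.OTRigidA
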