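import Mathlib
import Cfsg.Prelude.Def_GeometricClasses
import Cfsg.Agent.Lib.Helper16.TensDefs
import Cfsg.Agent.Lib.Helper3.SpTDefs
import Cfsg.Agent.Lib.Helper3.SpTL1b
import Cfsg.Agent.Lib.Helper27.SpOBDefs
import Cfsg.Agent.Lib.Helper10.KronQuad
import Cfsg.Agent.Lib.Helper10.KronRank3
import Cfsg.Agent.Lib.Helper10.S5637FORANK
import Cfsg.Agent.Lib.Helper18.OTRigidA

/-!
# RIGID for `O_a ⊗ O_b` (helper18): quadratic unipotent isometries of rank `2a` in the Kronecker subgroup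

`V = U ⊗ W = (Fin a × Fin b → F)`, `f₁ = bf J1`, `f₂ = bf J2` symmetric non-degenerate (`SymG`), characteristic not two,
`a < b`.  An element `n` of the Kronecker subgroup which is an isometry of `f₁ ⊗ f₂`, with `(n - 1)² = 0` and fixed space of
codimension `2a`, is `1 ⊗ ρ` with `ρ = 1 + E k₂ k₁ - E k₁ k₂ : x ↦ x + f₂(x,k₁) k₂ - f₂(x,k₂) k₁` a long root (Siegel) element
of `O(W)` attached to the totally isotropic line `⟨k₁, k₂⟩`.
-/

set_option autoImplicit false

namespace Cfsg.Agent.Lib.Helper18.OTRigid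

open Matrix Module
open scoped Kronecker
open Cfsg.Agent.Lib.Helper16.Tens Cfsg.Agent.Lib.Helper3.SpT Cfsg.Agent.Lib.Helper27.SpOB
open Cfsg.Agent.Lib.Helper10.S5637FORANK

variable {F : Type*} [Field F]

section forms
variable {κ : Type} [Fintype κ] [DecidableEq κ]

/-- `bf J` as a bilinear form -/
noncomputable def BF (J : Matrix κ κ F) : LinearMap.BilinForm F (κ → F) := Matrix.toBilin' J

theorem BF_apply (J : Matrix κ κ F) (x y : κ → F) : BF J x y = bf J x y := by
  unfold BF bf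
  rw [Matrix.toBilin'_apply']

/-- a quadratic unipotent isometry `1 + T` of a symmetric form, `T ≠ 0`: the fixed space has codimension at least two -/
theorem fix_add_two_le (h2 : (2 : F) ≠ 0) {J : Matrix κ κ F} (hJ : SymG J) (A : Matrix κ κ F)
    (hq : ∀ x, (A - 1) *ᵥ ((A - 1) *ᵥ x) = 0)
    (hiso : ∀ x y, bf J (A *ᵥ x) (A *ᵥ y) = bf J x y) (hA : A ≠ 1) :
    finrank F (LinearMap.ker (Matrix.toLin' A - LinearMap.id)) + 2 ≤ Fintype.card κ := by
  have hN : Matrix.toLin' A - LinearMap.id = Matrix.toLin' (A - 1) := by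
    rw [map_sub, Matrix.toLin'_one]
  have hAx : ∀ x : κ → F, x + Matrix.toLin' (A - 1) x = A *ᵥ x := by
    intro x
    rw [Matrix.toLin'_apply, Matrix.sub_mulVec, Matrix.one_mulVec]
    abel
  have h := OTRigidA.two_le_finrank_range h2 (BF J) (fun x y => by rw [BF_apply, BF_apply, hJ.symm])
    (fun v hv => hJ.nondeg v (fun y => by rw [← BF_apply]; exact hv y)) (Matrix.toLin' (A - 1))
    (fun x => by rw [Matrix.toLin'_apply, Matrix.toLin'_apply]; exact hq x)
    (fun x y => by rw [hAx, hAx, BF_apply, BF_apply]; exact hiso x y)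
    (fun h0 => hA (by
      have : A - 1 = 0 := by
        have := congrArg (LinearMap.toMatrix' ) h0
        simpa using this
      exact sub_eq_zero.mp this))
  have hrn := LinearMap.finrank_range_add_finrank_ker (Matrix.toLin' (A - 1))
  rw [Module.finrank_pi, ] at hrn
  rw [hN]
  omega

/-- the codimension of the fixed space of a quadratic unipotent isometry is even -/
theorem even_codim_fix (h2 : (2 : F) ≠ 0) {J : Matrix κ κ F} (hJ : SymG J) (A : Matrix κ κ F)
    (hq : ∀ x, (A - 1) *ᵥ ((A - 1) *ᵥ x) = 0)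
    (hiso : ∀ x y, bf J (A *ᵥ x) (A *ᵥ y) = bf J x y) :
    ∃ s : ℕ, finrank F (LinearMap.ker (Matrix.toLin' A - LinearMap.id)) + 2 * s = Fintype.card κ := by
  have hN : Matrix.toLin' A - LinearMap.id = Matrix.toLin' (A - 1) := by
    rw [map_sub, Matrix.toLin'_one]
  have hAx : ∀ x : κ → F, x + Matrix.toLin' (A - 1) x = A *ᵥ x := by
    intro x
    rw [Matrix.toLin'_apply, Matrix.sub_mulVec, Matrix.one_mulVec]
    abel
  obtain ⟨s, hs⟩ := OTRigidA.even_finrank_range h2 (BF J) (fun x y => by rw [BF_apply, BF_apply, hJ.symm])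
    (fun v hv => hJ.nondeg v (fun y => by rw [← BF_apply]; exact hv y)) (Matrix.toLin' (A - 1))
    (fun x => by rw [Matrix.toLin'_apply, Matrix.toLin'_apply]; exact hq x)
    (fun x y => by rw [hAx, hAx, BF_apply, BF_apply]; exact hiso x y)
  have hrn := LinearMap.finrank_range_add_finrank_ker (Matrix.toLin' (A - 1))
  rw [Module.finrank_pi] at hrn
  rw [hN]
  exact ⟨s, by omega⟩

/-- **Siegel form**: a quadratic unipotent isometry of a symmetric form whose fixed space has codimension two -/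
theorem exists_siegel_matrix (h2 : (2 : F) ≠ 0) {J : Matrix κ κ F} (hJ : SymG J) (A : Matrix κ κ F)
    (hq : ∀ x, (A - 1) *ᵥ ((A - 1) *ᵥ x) = 0)
    (hiso : ∀ x y, bf J (A *ᵥ x) (A *ᵥ y) = bf J x y)
    (hfix : finrank F (LinearMap.ker (Matrix.toLin' A - LinearMap.id)) + 2 = Fintype.card κ) :
    ∃ k₁ k₂ : κ → F, LinearIndependent F ![k₁, k₂] ∧ bf J k₁ k₁ = 0 ∧ bf J k₁ k₂ = 0 ∧ bf J k₂ k₂ = 0 ∧
      A = 1 + E J k₂ k₁ - E J k₁ k₂ := by
  have hN : Matrix.toLin' A - LinearMap.id = Matrix.toLin' (A - 1) := by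
    rw [map_sub, Matrix.toLin'_one]
  have hAx : ∀ x : κ → F, x + Matrix.toLin' (A - 1) x = A *ᵥ x := by
    intro x
    rw [Matrix.toLin'_apply, Matrix.sub_mulVec, Matrix.one_mulVec]
    abel
  have hrn := LinearMap.finrank_range_add_finrank_ker (Matrix.toLin' (A - 1))
  rw [Module.finrank_pi] at hrn
  rw [hN] at hfix
  obtain ⟨k₁, k₂, hli, h11, h12, h22, hform, -⟩ :=
    OTRigidA.exists_siegel h2 (BF J) (fun x y => by rw [BF_apply, BF_apply, hJ.symm])
      (fun v hv => hJ.nondeg v (fun y => by rw [← BF_apply]; exact hv y)) (Matrix.toLin' (A - 1))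
      (fun x => by rw [Matrix.toLin'_apply, Matrix.toLin'_apply]; exact hq x)
      (fun x y => by rw [hAx, hAx, BF_apply, BF_apply]; exact hiso x y) (by omega)
  refine ⟨k₁, k₂, hli, by rw [← BF_apply]; exact h11, by rw [← BF_apply]; exact h12,
    by rw [← BF_apply]; exact h22, ?_⟩
  apply mat_ext_mulVec
  intro x
  have h := hform x
  rw [Matrix.toLin'_apply, Matrix.sub_mulVec, Matrix.one_mulVec, BF_apply, BF_apply] at h
  rw [Matrix.sub_mulVec, Matrix.add_mulVec, Matrix.one_mulVec, E_mulVec, E_mulVec]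
  rw [add_sub_assoc, ← h]
  abel

end forms

variable {a b : ℕ} {J1 : Matrix (Fin a) (Fin a) F} {J2 : Matrix (Fin b) (Fin b) F}

theorem pur_sub_right (u : Fin a → F) (w w' : Fin b → F) : pur u (w - w') = pur u w - pur u w' := by
  rw [sub_eq_add_neg, pur_add_right, pur_neg_right, ← sub_eq_add_neg]

theorem pur_sub_left (u u' : Fin a → F) (w : Fin b → F) : pur (u - u') w = pur u w - pur u' w := by
  rw [sub_eq_add_neg, pur_add_left, pur_neg_left, ← sub_eq_add_neg]

/-- a symmetric non-degenerate form on a non-zero space takes a non-zero value -/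
theorem exists_bf_ne_zero {κ : Type} [Fintype κ] [DecidableEq κ] [Nonempty κ] {J : Matrix κ κ F} (hJ : SymG J) :
    ∃ x y : κ → F, bf J x y ≠ 0 := by
  by_contra h
  push Not at h
  obtain ⟨i⟩ := ‹Nonempty κ›
  have h1 : (Pi.single i (1 : F) : κ → F) = 0 := hJ.nondeg _ (fun y => h _ y)
  have := congrFun h1 i
  simp at this

/-- **RIGID**. -/
theorem rigid (h2 : (2 : F) ≠ 0) (hJ1 : SymG J1) (hJ2 : SymG J2) (ha : 1 ≤ a) (hb : 1 ≤ b) (hab : ¬ b ∣ a)
    (n : GL (Fin a × Fin b) F) (hn : n ∈ Cfsg.Geo.kroneckerSubgroup a b F)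
    (hiso : n ∈ IsoG (J1 ⊗ₖ J2))
    (hq : ((n : Matrix (Fin a × Fin b) (Fin a × Fin b) F) - 1) *
      ((n : Matrix (Fin a × Fin b) (Fin a × Fin b) F) - 1) = 0)
    (hker : finrank F (LinearMap.ker ((act n).toLinearMap - LinearMap.id)) + 2 * a = a * b) :
    ∃ k₁ k₂ : Fin b → F, LinearIndependent F ![k₁, k₂] ∧ bf J2 k₁ k₁ = 0 ∧ bf J2 k₁ k₂ = 0 ∧ bf J2 k₂ k₂ = 0 ∧
      (n : Matrix (Fin a × Fin b) (Fin a × Fin b) F) =
        (1 : Matrix (Fin a) (Fin a) F) ⊗ₖ (1 + E J2 k₂ k₁ - E J2 k₁ k₂) := by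
  classical
  haveI : Nonempty (Fin a) := ⟨⟨0, by omega⟩⟩
  haveI : Nonempty (Fin b) := ⟨⟨0, by omega⟩⟩
  rw [act_toLinearMap] at hker
  rw [mem_IsoG_iff] at hiso
  have hqv : ∀ v, ((n : Matrix (Fin a × Fin b) (Fin a × Fin b) F) - 1) *ᵥ
      (((n : Matrix (Fin a × Fin b) (Fin a × Fin b) F) - 1) *ᵥ v) = 0 := by
    intro v
    rw [Matrix.mulVec_mulVec, hq, Matrix.zero_mulVec]
  rcases Cfsg.Agent.Lib.Helper10.KronQuad.kron_quad h2 n hn hq with ⟨B', hB'⟩ | ⟨A', hA'⟩
  · -- `n = 1 ⊗ B'`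
    rw [hB'] at hker hiso hqv ⊢
    have hsub : ∀ (u : Fin a → F) (w : Fin b → F),
        ((1 : Matrix (Fin a) (Fin a) F) ⊗ₖ B' - 1) *ᵥ pur u w = pur u ((B' - 1) *ᵥ w) := by
      intro u w
      rw [Matrix.sub_mulVec, kron_mulVec_pur, Matrix.one_mulVec, Matrix.one_mulVec, Matrix.sub_mulVec,
        Matrix.one_mulVec, pur_sub_right]
    obtain ⟨u₀, u₀', hu₀⟩ := exists_bf_ne_zero hJ1
    have hu₀0 : u₀ ≠ 0 := by
      rintro rfl
      exact hu₀ (bf_zero_left _ _)
    have hq' : ∀ x, (B' - 1) *ᵥ ((B' - 1) *ᵥ x) = 0 := by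
      intro x
      have h := hqv (pur u₀ x)
      rw [hsub, hsub] at h
      exact (pur_eq_zero h).resolve_left hu₀0
    have hiso' : ∀ x y, bf J2 (B' *ᵥ x) (B' *ᵥ y) = bf J2 x y := by
      intro x y
      have h := hiso (pur u₀ x) (pur u₀' y)
      rw [kron_mulVec_pur, kron_mulVec_pur, Matrix.one_mulVec, Matrix.one_mulVec, bf_kron_pur, bf_kron_pur] at h
      exact mul_left_cancel₀ hu₀ h
    rw [Cfsg.Agent.Lib.Helper10.KronRank3.finrank_fix_one_kron] at hker
    have hfix : finrank F (LinearMap.ker (Matrix.toLin' B' - LinearMap.id)) + 2 = Fintype.card (Fin b) := by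
      rw [Fintype.card_fin]
      have h1 : a * (finrank F (LinearMap.ker (Matrix.toLin' B' - LinearMap.id)) + 2) = a * b := by
        rw [mul_add]; linarith
      exact Nat.eq_of_mul_eq_mul_left (by omega) h1
    obtain ⟨k₁, k₂, hli, h11, h12, h22, hB⟩ := exists_siegel_matrix h2 hJ2 B' hq' hiso' hfix
    exact ⟨k₁, k₂, hli, h11, h12, h22, by rw [hB]⟩
  · -- `n = A' ⊗ 1`: impossible by rank
    exfalso
    rw [hA'] at hker hiso hqv
    have hsub : ∀ (u : Fin a → F) (w : Fin b → F),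
        (A' ⊗ₖ (1 : Matrix (Fin b) (Fin b) F) - 1) *ᵥ pur u w = pur ((A' - 1) *ᵥ u) w := by
      intro u w
      rw [Matrix.sub_mulVec, kron_mulVec_pur, Matrix.one_mulVec, Matrix.one_mulVec, Matrix.sub_mulVec,
        Matrix.one_mulVec, pur_sub_left]
    obtain ⟨w₀, w₀', hw₀⟩ := exists_bf_ne_zero hJ2
    have hw₀0 : w₀ ≠ 0 := by
      rintro rfl
      exact hw₀ (bf_zero_left _ _)
    have hq' : ∀ x, (A' - 1) *ᵥ ((A' - 1) *ᵥ x) = 0 := by
      intro x
      have h := hqv (pur x w₀)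
      rw [hsub, hsub] at h
      exact (pur_eq_zero h).resolve_right hw₀0
    have hiso' : ∀ x y, bf J1 (A' *ᵥ x) (A' *ᵥ y) = bf J1 x y := by
      intro x y
      have h := hiso (pur x w₀) (pur y w₀')
      rw [kron_mulVec_pur, kron_mulVec_pur, Matrix.one_mulVec, Matrix.one_mulVec, bf_kron_pur, bf_kron_pur] at h
      exact mul_right_cancel₀ hw₀ h
    rw [Cfsg.Agent.Lib.Helper10.KronRank3.finrank_fix_kron_one] at hker
    obtain ⟨s, hs⟩ := even_codim_fix h2 hJ1 A' hq' hiso'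
    rw [Fintype.card_fin] at hs
    apply hab
    refine ⟨s, ?_⟩
    have h1 : b * (finrank F (LinearMap.ker (Matrix.toLin' A' - LinearMap.id)) + 2 * s) = b * a := by rw [hs]
    rw [mul_add] at h1
    have h3 : b * a = a * b := mul_comm _ _
    have h4 : b * (2 * s) = 2 * (b * s) := by ring
    omega

end Cfsg.Agent.Lib.Helper18.OTRigid
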