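import Mathlib
import Cfsg.Agent.Lib.Helper28.OTDefs
import Cfsg.Agent.Lib.Helper18.OTRigid

/-!
# S5681 / S5709, piece E1A (helper18): hypothesis (A) implies hypothesis (E1)

`hypE1_of_hypA` in the exact signature of `notes/S5681Skel_helper28.lean.txt` (PART 6).  RIGID (`OTRigid.rigid`): a conjugate
`h⁻¹ y h ∈ N0` of a standard root element `y = 1 + c • nL = 1 ⊗ ρ_{π,c}` is `1 ⊗ ρ'` for a long root element `ρ'` of `O(W)` attached
to a totally singular line `π'`, so `h⁻¹ (U ⊗ π) = U ⊗ π'` and (A) gives `h⁻¹ ∈ N0`.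
-/

set_option autoImplicit false
set_option linter.unusedSectionVars false
set_option linter.unusedVariables false

namespace Cfsg.Agent.Lib.Helper18.OTE1A

open Matrix Module
open Cfsg.Agent.Lib.Helper16.Tens Cfsg.Agent.Lib.Helper10.TensFund
open Cfsg.Agent.Lib.Helper3.SpT (bf E adj uni Over)
open Cfsg.Agent.Lib.Helper13.TensSO (OrthG IsoG)
open Cfsg.Agent.Lib.Helper28.OT
open scoped Kronecker

variable {F : Type*} [Field F] {a b : ℕ}
variable {J1 : Matrix (Fin a) (Fin a) F} {J2 : Matrix (Fin b) (Fin b) F}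
variable {Q : QuadraticForm F (Fin a × Fin b → F)}
variable {M : Subgroup (GL (Fin a × Fin b) F)}

theorem symG {κ : Type} [Fintype κ] {J : Matrix κ κ F} (h : OrthG J) : Cfsg.Agent.Lib.Helper27.SpOB.SymG J :=
  ⟨h.symm, h.nondeg⟩

/-- `ρ = 1 + c T2` -/
theorem rho_mulVec (k1 k2 : Fin b → F) (c : F) (w : Fin b → F) :
    (1 + c • T2 J2 k1 k2) *ᵥ w = w + c • (bf J2 w k2 • k1 - bf J2 w k1 • k2) := by
  rw [Matrix.add_mulVec, Matrix.one_mulVec, Matrix.smul_mulVec, T2_mulVec]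

/-- `ρ = 1 + c T2` is an isometry of `bf J2` -/
theorem rho_iso (hJ2 : OrthG J2) {k1 k2 : Fin b → F} (h : Ts2 J2 k1 k2) (c : F) (x y : Fin b → F) :
    bf J2 ((1 + c • T2 J2 k1 k2) *ᵥ x) ((1 + c • T2 J2 k1 k2) *ᵥ y) = bf J2 x y := by
  rw [rho_mulVec, rho_mulVec]
  simp only [Cfsg.Agent.Lib.Helper3.SpT.bf_add_left, Cfsg.Agent.Lib.Helper3.SpT.bf_add_right,
    Cfsg.Agent.Lib.Helper3.SpT.bf_smul_left, Cfsg.Agent.Lib.Helper3.SpT.bf_smul_right,
    Cfsg.Agent.Lib.Helper3.SpT.bf_sub_left, Cfsg.Agent.Lib.Helper3.SpT.bf_sub_right]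
  rw [hJ2.symm k1 y, hJ2.symm k2 y, hJ2.symm k2 k1, h.h11, h.h12, h.h22]
  ring

theorem rho_sq (hJ2 : OrthG J2) {k1 k2 : Fin b → F} (h : Ts2 J2 k1 k2) (c : F) (x : Fin b → F) :
    ((1 + c • T2 J2 k1 k2) - 1) *ᵥ (((1 + c • T2 J2 k1 k2) - 1) *ᵥ x) = 0 := by
  rw [add_sub_cancel_left, Matrix.mulVec_mulVec, Matrix.smul_mul, Matrix.mul_smul, T2_sq hJ2 h]
  simp

theorem one_add_smul_nL (k1 k2 : Fin b → F) (c : F) :
    (1 : Matrix (Fin a × Fin b) (Fin a × Fin b) F) + c • nL (a := a) J2 k1 k2 =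
      (1 : Matrix (Fin a) (Fin a) F) ⊗ₖ (1 + c • T2 J2 k1 k2) := by
  unfold nL
  rw [Matrix.kronecker_add, Matrix.kronecker_smul, Matrix.one_kronecker_one]

/-- an isometry on pure tensors is an isometry -/
theorem iso_of_pur (g : Matrix (Fin a × Fin b) (Fin a × Fin b) F)
    (hg : ∀ (u : Fin a → F) (w : Fin b → F) (u' : Fin a → F) (w' : Fin b → F),
      bf (J1 ⊗ₖ J2) (g *ᵥ pur u w) (g *ᵥ pur u' w') = bf (J1 ⊗ₖ J2) (pur u w) (pur u' w'))
    (x y : Fin a × Fin b → F) : bf (J1 ⊗ₖ J2) (g *ᵥ x) (g *ᵥ y) = bf (J1 ⊗ₖ J2) x y := by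
  refine Cfsg.Agent.Lib.Helper3.SpT.pur_induction
    (p := fun x => bf (J1 ⊗ₖ J2) (g *ᵥ x) (g *ᵥ y) = bf (J1 ⊗ₖ J2) x y) ?_ ?_ ?_ x
  · simp
  · intro x x' hx hx'
    rw [Matrix.mulVec_add, Cfsg.Agent.Lib.Helper3.SpT.bf_add_left, Cfsg.Agent.Lib.Helper3.SpT.bf_add_left, hx, hx']
  · intro u w
    refine Cfsg.Agent.Lib.Helper3.SpT.pur_induction
      (p := fun y => bf (J1 ⊗ₖ J2) (g *ᵥ pur u w) (g *ᵥ y) = bf (J1 ⊗ₖ J2) (pur u w) y) ?_ ?_ ?_ y
    · simp
    · intro y y' hy hy'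
      rw [Matrix.mulVec_add, Cfsg.Agent.Lib.Helper3.SpT.bf_add_right, Cfsg.Agent.Lib.Helper3.SpT.bf_add_right,
        hy, hy']
    · intro u' w'
      exact hg u w u' w'

/-- the standard root elements are isometries -/
theorem y_iso (hJ2 : OrthG J2) {k1 k2 : Fin b → F} (h : Ts2 J2 k1 k2) (c : F) (y : GL (Fin a × Fin b) F)
    (hy : (y : Matrix (Fin a × Fin b) (Fin a × Fin b) F) = 1 + c • nL (a := a) J2 k1 k2) :
    y ∈ IsoG (J1 ⊗ₖ J2) := by
  rw [Cfsg.Agent.Lib.Helper13.TensSO.mem_IsoG_iff, hy, one_add_smul_nL]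
  apply iso_of_pur
  intro u w u' w'
  rw [kron_mulVec_pur, kron_mulVec_pur, Matrix.one_mulVec, Matrix.one_mulVec,
    Cfsg.Agent.Lib.Helper3.SpT.bf_kron_pur, Cfsg.Agent.Lib.Helper3.SpT.bf_kron_pur, rho_iso hJ2 h]

theorem k1_ne_zero {k1 k2 : Fin b → F} (h : Ts2 J2 k1 k2) : k1 ≠ 0 := by
  rintro rfl
  have := (h.indep 1 0 (by simp)).1
  exact one_ne_zero this

/-- the fixed space of `ρ` has codimension two -/
theorem fix_rho (h2 : (2 : F) ≠ 0) (hJ2 : OrthG J2) {k1 k2 : Fin b → F} (h : Ts2 J2 k1 k2) (c : F) (hc : c ≠ 0) :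
    finrank F (LinearMap.ker (Matrix.toLin' (1 + c • T2 J2 k1 k2) - LinearMap.id)) + 2 = b := by
  classical
  have hne : (1 + c • T2 J2 k1 k2 : Matrix (Fin b) (Fin b) F) ≠ 1 := by
    intro h1
    obtain ⟨w, hw⟩ : ∃ w, bf J2 k1 w ≠ 0 := by
      by_contra hcon
      push Not at hcon
      exact k1_ne_zero h (hJ2.nondeg k1 hcon)
    have h3 := rho_mulVec (J2 := J2) k1 k2 c w
    rw [h1, Matrix.one_mulVec] at h3
    have h4 : (c * bf J2 w k2) • k1 + (-(c * bf J2 w k1)) • k2 = 0 := by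
      have : c • (bf J2 w k2 • k1 - bf J2 w k1 • k2) = 0 := by
        have := h3
        rwa [left_eq_add] at this
      rw [← this, smul_sub, smul_smul, smul_smul, neg_smul, sub_eq_add_neg]
    have h5 := (h.indep _ _ h4).2
    rw [neg_eq_zero] at h5
    rcases mul_eq_zero.mp h5 with h6 | h6
    · exact hc h6
    · exact hw (by rw [hJ2.symm]; exact h6)
  have hlow := OTRigid.fix_add_two_le h2 (symG hJ2) (1 + c • T2 J2 k1 k2) (rho_sq hJ2 h c) (rho_iso hJ2 h c) hne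
  rw [Fintype.card_fin] at hlow
  have hN : Matrix.toLin' (1 + c • T2 J2 k1 k2) - LinearMap.id = Matrix.toLin' (c • T2 J2 k1 k2) := by
    rw [map_add, Matrix.toLin'_one, add_sub_cancel_left]
  rw [hN] at hlow ⊢
  have hrn := LinearMap.finrank_range_add_finrank_ker (Matrix.toLin' (c • T2 J2 k1 k2))
  rw [Module.finrank_pi, Fintype.card_fin] at hrn
  have hrange : LinearMap.range (Matrix.toLin' (c • T2 J2 k1 k2)) ≤ Submodule.span F {k1, k2} := by
    rintro _ ⟨x, rfl⟩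
    rw [Matrix.toLin'_apply, Matrix.smul_mulVec, T2_mulVec]
    refine Submodule.smul_mem _ _ (Submodule.sub_mem _ ?_ ?_)
    · exact Submodule.smul_mem _ _ (Submodule.subset_span (by simp))
    · exact Submodule.smul_mem _ _ (Submodule.subset_span (by simp))
  have hspan : finrank F (Submodule.span F ({k1, k2} : Set (Fin b → F))) ≤ 2 := by
    have h6 := finrank_span_finset_le_card (R := F) ({k1, k2} : Finset (Fin b → F))
    have h7 : (({k1, k2} : Finset (Fin b → F)) : Set (Fin b → F)) = {k1, k2} := by simp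
    rw [h7] at h6
    exact h6.trans Finset.card_le_two
  have := Submodule.finrank_mono hrange
  omega

/-- the fixed space of a standard root element has codimension `2a` -/
theorem fix_y (h2 : (2 : F) ≠ 0) (hJ2 : OrthG J2) {k1 k2 : Fin b → F} (h : Ts2 J2 k1 k2) (c : F) (hc : c ≠ 0)
    (y : GL (Fin a × Fin b) F)
    (hy : (y : Matrix (Fin a × Fin b) (Fin a × Fin b) F) = 1 + c • nL (a := a) J2 k1 k2) :
    finrank F (LinearMap.ker ((act y).toLinearMap - LinearMap.id)) + 2 * a = a * b := by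
  rw [Cfsg.Agent.Lib.Helper10.S5637FORANK.act_toLinearMap, hy, one_add_smul_nL,
    Cfsg.Agent.Lib.Helper10.KronRank3.finrank_fix_one_kron]
  have := fix_rho h2 hJ2 h c hc
  generalize finrank F (LinearMap.ker (Matrix.toLin' (1 + c • T2 J2 k1 k2) - LinearMap.id)) = r at this ⊢
  subst this
  ring

theorem ker_conj (h y : GL (Fin a × Fin b) F) :
    LinearMap.ker ((act (h⁻¹ * y * h)).toLinearMap - LinearMap.id) =
      img h⁻¹ (LinearMap.ker ((act y).toLinearMap - LinearMap.id)) := by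
  ext v
  rw [mem_img_iff, inv_inv, LinearMap.mem_ker, LinearMap.mem_ker, LinearMap.sub_apply, LinearMap.sub_apply,
    LinearMap.id_apply, LinearMap.id_apply, sub_eq_zero, sub_eq_zero, LinearEquiv.coe_coe, LinearEquiv.coe_coe,
    act_mul, act_mul]
  constructor
  · intro hv
    have := congrArg (act h) hv
    rwa [act_act_inv] at this
  · intro hv
    rw [hv, act_inv_act]

theorem sub_one_mulVec (g : GL (Fin a × Fin b) F) (x : Fin a × Fin b → F) :
    ((g : Matrix (Fin a × Fin b) (Fin a × Fin b) F) - 1) *ᵥ x = act g x - x := by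
  rw [Matrix.sub_mulVec, Matrix.one_mulVec, act_apply]

theorem Rg_sub_conj (h y : GL (Fin a × Fin b) F) :
    Rg (((h⁻¹ * y * h : GL (Fin a × Fin b) F) : Matrix (Fin a × Fin b) (Fin a × Fin b) F) - 1) =
      img h⁻¹ (Rg ((y : Matrix (Fin a × Fin b) (Fin a × Fin b) F) - 1)) := by
  ext v
  rw [mem_img_iff, inv_inv, mem_Rg_iff, mem_Rg_iff]
  constructor
  · rintro ⟨x, hx⟩
    refine ⟨act h x, ?_⟩
    rw [sub_one_mulVec] at hx ⊢
    rw [← hx, act_mul, act_mul, map_sub, act_act_inv]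
  · rintro ⟨x, hx⟩
    refine ⟨act h⁻¹ x, ?_⟩
    rw [sub_one_mulVec] at hx ⊢
    rw [act_mul, act_mul, act_act_inv, ← map_sub, hx, act_inv_act]

theorem finrank_Lp_le (k1 k2 : Fin b → F) : finrank F (Lp (a := a) k1 k2) ≤ 2 * a := by
  have hle : Lp (a := a) k1 k2 ≤ pt (a := a) k1 ⊔ pt (a := a) k2 := by
    unfold Lp tW
    rw [Submodule.span_le]
    rintro v ⟨u, w, hw, rfl⟩
    obtain ⟨s, t, rfl⟩ := Submodule.mem_span_pair.mp hw
    rw [pur_add_right, pur_smul_right, pur_smul_right]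
    refine Submodule.add_mem _ (Submodule.smul_mem _ _ (Submodule.mem_sup_left ?_))
      (Submodule.smul_mem _ _ (Submodule.mem_sup_right ?_))
    · exact (mem_pt_iff _ _).mpr ⟨u, rfl⟩
    · exact (mem_pt_iff _ _).mpr ⟨u, rfl⟩
  have h1 : finrank F (pt (F := F) (a := a) k1) ≤ a := by
    unfold pt
    have := LinearMap.finrank_range_le (purL (F := F) (a := a) k1)
    rwa [Module.finrank_pi, Fintype.card_fin] at this
  have h2 : finrank F (pt (F := F) (a := a) k2) ≤ a := by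
    unfold pt
    have := LinearMap.finrank_range_le (purL (F := F) (a := a) k2)
    rwa [Module.finrank_pi, Fintype.card_fin] at this
  have h3 := Submodule.finrank_add_le_finrank_add_finrank (pt (F := F) (a := a) k1) (pt (F := F) (a := a) k2)
  have h4 := Submodule.finrank_mono hle
  omega

theorem kron_sub (A : Matrix (Fin a) (Fin a) F) (B C : Matrix (Fin b) (Fin b) F) :
    A ⊗ₖ (B - C) = A ⊗ₖ B - A ⊗ₖ C := by
  ext ⟨i, j⟩ ⟨i', j'⟩
  simp only [Matrix.kroneckerMap_apply, Matrix.sub_apply, mul_sub]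

/-- ROOT (f), own proof: the range of `c • nL` is `U ⊗ π` -/
theorem Rg_nL' (h2 : (2 : F) ≠ 0) (hJ2 : OrthG J2) {k1 k2 : Fin b → F} (h : Ts2 J2 k1 k2) (c : F) (hc : c ≠ 0) :
    Rg (c • nL (a := a) J2 k1 k2) = Lp (a := a) k1 k2 := by
  have hle : Rg (c • nL (a := a) J2 k1 k2) ≤ Lp (a := a) k1 k2 := by
    intro v hv
    obtain ⟨x, rfl⟩ := (mem_Rg_iff _ _).mp hv
    rw [Matrix.smul_mulVec]
    refine Submodule.smul_mem _ _ ?_
    unfold nL T2
    rw [kron_sub, Matrix.sub_mulVec, Cfsg.Agent.Lib.Helper3.SpT.kron_E_mulVec,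
      Cfsg.Agent.Lib.Helper3.SpT.kron_E_mulVec]
    refine Submodule.sub_mem _ ?_ ?_
    · exact pur_mem_tW _ (Submodule.subset_span (by simp))
    · exact pur_mem_tW _ (Submodule.subset_span (by simp))
  apply Submodule.eq_of_le_of_finrank_le hle
  have hfix := fix_y (a := a) h2 hJ2 h c hc (yL (a := a) hJ2 h c) (yL_val hJ2 h c)
  rw [Cfsg.Agent.Lib.Helper10.S5637FORANK.act_toLinearMap, yL_val] at hfix
  have hN : Matrix.toLin' (1 + c • nL (a := a) J2 k1 k2) - LinearMap.id =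
      Matrix.toLin' (c • nL (a := a) J2 k1 k2) := by
    rw [map_add, Matrix.toLin'_one, add_sub_cancel_left]
  rw [hN] at hfix
  have hrn := LinearMap.finrank_range_add_finrank_ker (Matrix.toLin' (c • nL (a := a) J2 k1 k2))
  rw [Module.finrank_pi, Fintype.card_prod, Fintype.card_fin, Fintype.card_fin] at hrn
  have h3 := finrank_Lp_le (F := F) (a := a) k1 k2
  unfold Rg
  omega

/-- `Ω ≤ O(V)` in the `bf` form -/
theorem Om_le_IsoG' (hS : SetupO J1 J2 Q) : Cfsg.Geo.omegaGL (⇑Q) ≤ IsoG (J1 ⊗ₖ J2) := by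
  intro g hg
  have hg' : g ∈ Cfsg.isometryGroup F (⇑Q) := by
    unfold Cfsg.Geo.omegaGL at hg
    obtain ⟨x, -, rfl⟩ := hg
    exact x.2
  rw [Cfsg.Agent.Lib.Helper13.TensSO.mem_IsoG_iff]
  intro x y
  have hq : ∀ v, Q ((g : Matrix (Fin a × Fin b) (Fin a × Fin b) F) *ᵥ v) = Q v := fun v => hg' v v
  rw [← hS.polar, ← hS.polar]
  unfold QuadraticMap.polar
  rw [← Matrix.mulVec_add, hq, hq, hq]

/-- **E1A**: hypothesis (A) implies hypothesis (E1). -/
theorem hypE1_of_hypA [Fintype F] (hS : SetupO J1 J2 Q) (hab : ¬ b ∣ a) (ha : 1 ≤ a) (hb : 5 ≤ b) (hM : Over Q M)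
    (hA : HypA J2 M) : HypE1 J2 M := by
  intro h hhM k1 k2 c y hts hc hy hn
  have hJ1 := hS.h1
  have hJ2 := hS.h2
  have h2 := hS.two
  have hhI : h ∈ IsoG (J1 ⊗ₖ J2) := Om_le_IsoG' hS (hM.le_Om hhM)
  have hyI : y ∈ IsoG (J1 ⊗ₖ J2) := y_iso hJ2 hts c y hy
  have hnI : h⁻¹ * y * h ∈ IsoG (J1 ⊗ₖ J2) :=
    (IsoG (J1 ⊗ₖ J2)).mul_mem ((IsoG (J1 ⊗ₖ J2)).mul_mem ((IsoG (J1 ⊗ₖ J2)).inv_mem hhI) hyI) hhI
  -- quadratic
  have hq : (((h⁻¹ * y * h : GL (Fin a × Fin b) F) : Matrix (Fin a × Fin b) (Fin a × Fin b) F) - 1) *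
      (((h⁻¹ * y * h : GL (Fin a × Fin b) F) : Matrix (Fin a × Fin b) (Fin a × Fin b) F) - 1) = 0 := by
    have e1 : ((h⁻¹ * y * h : GL (Fin a × Fin b) F) : Matrix (Fin a × Fin b) (Fin a × Fin b) F) - 1 =
        ((h⁻¹ : GL (Fin a × Fin b) F) : Matrix (Fin a × Fin b) (Fin a × Fin b) F) *
          (c • nL (a := a) J2 k1 k2) * (h : Matrix (Fin a × Fin b) (Fin a × Fin b) F) := by
      rw [Units.val_mul, Units.val_mul, hy, mul_add, add_mul, mul_one, ← Units.val_mul, inv_mul_cancel,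
        Units.val_one, add_sub_cancel_left]
    rw [e1]
    have e2 : ((h⁻¹ : GL (Fin a × Fin b) F) : Matrix (Fin a × Fin b) (Fin a × Fin b) F) *
          (c • nL (a := a) J2 k1 k2) * (h : Matrix (Fin a × Fin b) (Fin a × Fin b) F) *
        (((h⁻¹ : GL (Fin a × Fin b) F) : Matrix (Fin a × Fin b) (Fin a × Fin b) F) *
          (c • nL (a := a) J2 k1 k2) * (h : Matrix (Fin a × Fin b) (Fin a × Fin b) F)) =
        ((h⁻¹ : GL (Fin a × Fin b) F) : Matrix (Fin a × Fin b) (Fin a × Fin b) F) *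
          ((c • nL (a := a) J2 k1 k2) * (((h * h⁻¹ : GL (Fin a × Fin b) F) :
            Matrix (Fin a × Fin b) (Fin a × Fin b) F)) * (c • nL (a := a) J2 k1 k2)) *
          (h : Matrix (Fin a × Fin b) (Fin a × Fin b) F) := by
      rw [Units.val_mul]
      simp only [mul_assoc]
    rw [e2, mul_inv_cancel, Units.val_one, mul_one, smul_nL_sq hJ2 hts c, mul_zero, zero_mul]
  -- fixed space
  have hker : finrank F (LinearMap.ker ((act (h⁻¹ * y * h)).toLinearMap - LinearMap.id)) + 2 * a = a * b := by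
    rw [ker_conj, finrank_img]
    exact fix_y h2 hJ2 hts c hc y hy
  obtain ⟨k1', k2', hli, h11, h12, h22, hval⟩ :=
    OTRigid.rigid h2 (symG hJ1) (symG hJ2) ha (by omega) hab (h⁻¹ * y * h) hn hnI hq hker
  have hts' : Ts2 J2 k1' k2' := ⟨fun c1 c2 hc12 => LinearIndependent.pair_iff.mp hli c1 c2 hc12, h11, h12, h22⟩
  -- the ranges
  have hR1 : Rg (((h⁻¹ * y * h : GL (Fin a × Fin b) F) : Matrix (Fin a × Fin b) (Fin a × Fin b) F) - 1) =
      Lp (a := a) k1' k2' := by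
    have e : ((h⁻¹ * y * h : GL (Fin a × Fin b) F) : Matrix (Fin a × Fin b) (Fin a × Fin b) F) - 1 =
        (-1 : F) • nL (a := a) J2 k1' k2' := by
      rw [hval]
      have : (1 : Matrix (Fin b) (Fin b) F) + E J2 k2' k1' - E J2 k1' k2' = 1 + (-1 : F) • T2 J2 k1' k2' := by
        unfold T2
        rw [neg_one_smul, neg_sub, add_sub_assoc]
      rw [this, ← one_add_smul_nL, add_sub_cancel_left]
    rw [e]
    exact Rg_nL' h2 hJ2 hts' (-1) (by simp)
  have hR2 : Rg (((h⁻¹ * y * h : GL (Fin a × Fin b) F) : Matrix (Fin a × Fin b) (Fin a × Fin b) F) - 1) =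
      img h⁻¹ (Lp (a := a) k1 k2) := by
    rw [Rg_sub_conj, hy, add_sub_cancel_left, Rg_nL' h2 hJ2 hts c hc]
  have hinv : h⁻¹ ∈ Cfsg.Geo.kroneckerSubgroup a b F :=
    hA h⁻¹ (M.inv_mem hhM) k1 k2 k1' k2' hts hts' (by rw [← hR2, hR1])
  have := (Cfsg.Geo.kroneckerSubgroup a b F).inv_mem hinv
  rwa [inv_inv] at this

end Cfsg.Agent.Lib.Helper18.OTE1A
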