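import Mathlib
import Cfsg.Agent.Lib.Helper28.OTDefs
import Cfsg.Agent.Lib.Helper18.OTE1A
import Cfsg.Agent.Lib.Helper13.OrthTrans
import Cfsg.Agent.Lib.Helper13.OrthCharTwoMat
import Cfsg.Agent.Lib.Helper1.S5666BGEO
import Cfsg.Agent.Lib.Helper23.S5637FOT3b

/-!
# S5681 / S5709, piece TRANS (helper18): `N0 ⊓ Ω` is transitive on the standard subspaces `U ⊗ π`

`trans_Lp` : for two totally singular lines `π = ⟨k₁,k₂⟩`, `π' = ⟨k₁',k₂'⟩` of `W` (`b ≥ 5`) there is `g ∈ N0 ⊓ Ω(V)` with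
`g (U ⊗ π) = U ⊗ π'` (`g = 1 ⊗ B` with `B ∈ Ω(W)`, helper13's `exists_commutator_map_ts`).
`exists_stab_of_not_hypA` : if (A) fails for `M`, some `m ∈ M \ N0` stabilises a standard `U ⊗ π`.
-/

set_option autoImplicit false
set_option linter.unusedSectionVars false
set_option linter.unusedVariables false

namespace Cfsg.Agent.Lib.Helper18.OTTrans

open Matrix Module
open Cfsg.Agent.Lib.Helper16.Tens Cfsg.Agent.Lib.Helper10.TensFund
open Cfsg.Agent.Lib.Helper3.SpT (bf E adj uni Over)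
open Cfsg.Agent.Lib.Helper13.TensSO (OrthG IsoG)
open Cfsg.Agent.Lib.Helper28.OT
open Cfsg.Agent.Lib.Helper1.S5666BGEO (QF QF_apply)
open Cfsg.Agent.Lib.Helper23.S5637T3b (kronGL kronGL_val kronGL_mem_kron)
open Cfsg.Agent.Lib.Helper13 (isoGroup glEquiv glEquiv_symm_mulVec)
open scoped Kronecker

variable {F : Type*} [Field F] {a b : ℕ}
variable {J1 : Matrix (Fin a) (Fin a) F} {J2 : Matrix (Fin b) (Fin b) F}
variable {Q : QuadraticForm F (Fin a × Fin b → F)}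
variable {M : Subgroup (GL (Fin a × Fin b) F)}

theorem polar_QF (hJ2 : OrthG J2) (x y : Fin b → F) :
    QuadraticMap.polar (⇑(QF J2)) x y = 2 * bf J2 x y := by
  unfold QuadraticMap.polar
  rw [QF_apply, QF_apply, QF_apply, Cfsg.Agent.Lib.Helper3.SpT.bf_add_left,
    Cfsg.Agent.Lib.Helper3.SpT.bf_add_right, Cfsg.Agent.Lib.Helper3.SpT.bf_add_right, hJ2.symm y x]
  ring

theorem QF_nondeg (hJ2 : OrthG J2) (h2 : (2 : F) ≠ 0) :
    (QuadraticMap.polarBilin (QF J2)).Nondegenerate := by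
  constructor
  · intro x hx
    apply hJ2.nondeg x
    intro y
    have h := hx y
    rw [QuadraticMap.polarBilin_apply_apply, polar_QF hJ2] at h
    exact (mul_eq_zero.mp h).resolve_left h2
  · intro y hy
    apply hJ2.nondeg y
    intro x
    have h := hy x
    rw [QuadraticMap.polarBilin_apply_apply, polar_QF hJ2, hJ2.symm] at h
    exact (mul_eq_zero.mp h).resolve_left h2

theorem ts_finrank {k1 k2 : Fin b → F} (h : Ts2 J2 k1 k2) :
    finrank F (Submodule.span F ({k1, k2} : Set (Fin b → F))) = 2 := by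
  have hli : LinearIndependent F ![k1, k2] := LinearIndependent.pair_iff.mpr h.indep
  have h1 := finrank_span_eq_card hli
  rw [Matrix.range_cons_cons_empty] at h1
  rw [h1]
  simp

theorem ts_QF_zero (hJ2 : OrthG J2) {k1 k2 : Fin b → F} (h : Ts2 J2 k1 k2) :
    ∀ u ∈ Submodule.span F ({k1, k2} : Set (Fin b → F)), QF J2 u = 0 := by
  intro u hu
  obtain ⟨c1, c2, rfl⟩ := Submodule.mem_span_pair.mp hu
  have h21 : bf J2 k2 k1 = 0 := by rw [hJ2.symm, h.h12]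
  rw [QF_apply]
  simp only [Cfsg.Agent.Lib.Helper3.SpT.bf_add_left, Cfsg.Agent.Lib.Helper3.SpT.bf_add_right,
    Cfsg.Agent.Lib.Helper3.SpT.bf_smul_left, Cfsg.Agent.Lib.Helper3.SpT.bf_smul_right, h.h11, h.h12, h.h22, h21]
  ring

theorem bf_isoGroup (hJ2 : OrthG J2) (h2 : (2 : F) ≠ 0) (g : isoGroup (QF J2)) (x y : Fin b → F) :
    bf J2 (g.1 x) (g.1 y) = bf J2 x y := by
  have h := Cfsg.Agent.Lib.Helper13.isoGroup_polar (QF J2) g x y
  rw [polar_QF hJ2, polar_QF hJ2] at h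
  exact mul_left_cancel₀ h2 h

theorem two_Q (hS : SetupO J1 J2 Q) (v : Fin a × Fin b → F) : 2 * Q v = bf (J1 ⊗ₖ J2) v v := by
  rw [← hS.polar, QuadraticMap.polar_self]
  simp

theorem kron_one_mem_iso (hS : SetupO J1 J2 Q) (B : GL (Fin b) F)
    (hB : ∀ x y, bf J2 ((B : Matrix (Fin b) (Fin b) F) *ᵥ x) ((B : Matrix (Fin b) (Fin b) F) *ᵥ y) = bf J2 x y) :
    kronGL (1 : GL (Fin a) F) B ∈ Cfsg.isometryGroup F (⇑Q) := by
  rw [Cfsg.Agent.Lib.Helper3.SpT.mem_iso_iff]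
  intro x
  apply mul_left_cancel₀ hS.two
  rw [two_Q hS, two_Q hS, act_apply, kronGL_val]
  apply Cfsg.Agent.Lib.Helper18.OTE1A.iso_of_pur
  intro u w u' w'
  rw [kron_mulVec_pur, kron_mulVec_pur, Units.val_one, Matrix.one_mulVec, Matrix.one_mulVec,
    Cfsg.Agent.Lib.Helper3.SpT.bf_kron_pur, Cfsg.Agent.Lib.Helper3.SpT.bf_kron_pur, hB]

theorem kronGL_one_mul (B B' : GL (Fin b) F) :
    kronGL (1 : GL (Fin a) F) (B * B') = kronGL 1 B * kronGL 1 B' := by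
  apply Units.ext
  rw [Units.val_mul, kronGL_val, kronGL_val, kronGL_val, Units.val_mul, ← Matrix.mul_kronecker_mul,
    Units.val_one, one_mul]

theorem kronGL_one_one : kronGL (1 : GL (Fin a) F) (1 : GL (Fin b) F) = 1 := by
  apply Units.ext
  rw [kronGL_val, Units.val_one, Units.val_one, Units.val_one, Matrix.one_kronecker_one]

/-- `B ↦ 1 ⊗ B`, `O(W) → O(V)` -/
noncomputable def Phi (hS : SetupO J1 J2 Q) : isoGroup (QF J2) →* Cfsg.isometryGroup F (⇑Q) where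
  toFun h := ⟨kronGL (1 : GL (Fin a) F) (glEquiv.symm h.1), kron_one_mem_iso hS _ (fun x y => by
    rw [glEquiv_symm_mulVec, glEquiv_symm_mulVec]
    exact bf_isoGroup hS.h2 hS.two h x y)⟩
  map_one' := by
    apply Subtype.ext
    change kronGL (1 : GL (Fin a) F) (glEquiv.symm (1 : (Fin b → F) ≃ₗ[F] (Fin b → F))) = 1
    rw [map_one, kronGL_one_one]
  map_mul' := by
    intro h h'
    apply Subtype.ext
    change kronGL (1 : GL (Fin a) F) (glEquiv.symm (h.1 * h'.1)) =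
      kronGL (1 : GL (Fin a) F) (glEquiv.symm h.1) * kronGL (1 : GL (Fin a) F) (glEquiv.symm h'.1)
    rw [map_mul, kronGL_one_mul]

theorem Phi_val (hS : SetupO J1 J2 Q) (h : isoGroup (QF J2)) :
    ((Phi hS h : Cfsg.isometryGroup F (⇑Q)) : GL (Fin a × Fin b) F) =
      kronGL (1 : GL (Fin a) F) (glEquiv.symm h.1) := rfl

theorem Phi_mem_omega (hS : SetupO J1 J2 Q) (h : isoGroup (QF J2)) (hh : h ∈ commutator (isoGroup (QF J2))) :
    ((Phi hS h : Cfsg.isometryGroup F (⇑Q)) : GL (Fin a × Fin b) F) ∈ Cfsg.Geo.omegaGL (⇑Q) := by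
  unfold Cfsg.Geo.omegaGL
  refine ⟨Phi hS h, ?_, rfl⟩
  have h1 : Phi hS h ∈ (commutator (isoGroup (QF J2))).map (Phi hS) := Subgroup.mem_map_of_mem _ hh
  rw [commutator_def, Subgroup.map_commutator] at h1
  have h2 : ⁅(⊤ : Subgroup (isoGroup (QF J2))).map (Phi hS), (⊤ : Subgroup (isoGroup (QF J2))).map (Phi hS)⁆ ≤
      ⁅(⊤ : Subgroup (Cfsg.isometryGroup F (⇑Q))), ⊤⁆ := Subgroup.commutator_mono le_top le_top
  have h3 := h2 h1
  rw [← commutator_def] at h3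
  exact h3

theorem img_kron_tW (B : GL (Fin b) F) (W' : Submodule F (Fin b → F)) :
    img (kronGL (1 : GL (Fin a) F) B) (tW (a := a) W') =
      tW (a := a) (W'.map (Matrix.toLin' (B : Matrix (Fin b) (Fin b) F))) := by
  unfold img tW
  rw [Submodule.map_span]
  congr 1
  ext v
  constructor
  · rintro ⟨_, ⟨u, w, hw, rfl⟩, rfl⟩
    refine ⟨u, (B : Matrix (Fin b) (Fin b) F) *ᵥ w, ⟨w, hw, by rw [Matrix.toLin'_apply]⟩, ?_⟩
    change act (kronGL (1 : GL (Fin a) F) B) (pur u w) = _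
    rw [act_apply, kronGL_val, kron_mulVec_pur, Units.val_one, Matrix.one_mulVec]
  · rintro ⟨u, _, ⟨w, hw, rfl⟩, rfl⟩
    refine ⟨pur u w, ⟨u, w, hw, rfl⟩, ?_⟩
    change act (kronGL (1 : GL (Fin a) F) B) (pur u w) = _
    rw [act_apply, kronGL_val, kron_mulVec_pur, Units.val_one, Matrix.one_mulVec, Matrix.toLin'_apply]

/-- **TRANS**: `N0 ⊓ Ω` is transitive on the standard totally singular subspaces `U ⊗ π`. -/
theorem trans_Lp [Fintype F] (hS : SetupO J1 J2 Q) (hb : 5 ≤ b) {k1 k2 k1' k2' : Fin b → F}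
    (h : Ts2 J2 k1 k2) (h' : Ts2 J2 k1' k2') :
    ∃ g : GL (Fin a × Fin b) F, g ∈ Cfsg.Geo.kroneckerSubgroup a b F ∧ g ∈ Cfsg.Geo.omegaGL (⇑Q) ∧
      img g (Lp (a := a) k1 k2) = Lp (a := a) k1' k2' := by
  have hQW := QF_nondeg hS.h2 hS.two
  have hgen := Cfsg.Agent.Lib.Helper13.reflGenA_eq_top_fin (QF J2) hQW (Or.inr (by omega))
  obtain ⟨g, hg, hmap⟩ := Cfsg.Agent.Lib.Helper13.exists_commutator_map_ts (QF J2) hQW hgen
    (Submodule.span F ({k1, k2} : Set (Fin b → F))) (Submodule.span F ({k1', k2'} : Set (Fin b → F))) 2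
    (by rw [Module.finrank_fintype_fun_eq_card, Fintype.card_fin]; omega)
    (ts_finrank h) (ts_finrank h') (ts_QF_zero hS.h2 h) (ts_QF_zero hS.h2 h')
  refine ⟨kronGL (1 : GL (Fin a) F) (glEquiv.symm g.1), kronGL_mem_kron _ _, Phi_mem_omega hS g hg, ?_⟩
  unfold Lp
  rw [img_kron_tW, ← hmap]
  congr 1
  ext v
  constructor
  · rintro ⟨w, hw, rfl⟩
    exact ⟨w, hw, by rw [Matrix.toLin'_apply, glEquiv_symm_mulVec]; rfl⟩
  · rintro ⟨w, hw, rfl⟩
    exact ⟨w, hw, by rw [Matrix.toLin'_apply, glEquiv_symm_mulVec]; rfl⟩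

/-- if (A) fails, some element of `M` outside `N0` stabilises a standard `U ⊗ π` -/
theorem exists_stab_of_not_hypA [Fintype F] (hS : SetupO J1 J2 Q) (hb : 5 ≤ b) (hM : Over Q M)
    (hA : ¬ HypA J2 M) :
    ∃ k1 k2 : Fin b → F, Ts2 J2 k1 k2 ∧ ∃ m ∈ M, img m (Lp (a := a) k1 k2) = Lp (a := a) k1 k2 ∧
      m ∉ Cfsg.Geo.kroneckerSubgroup a b F := by
  unfold HypA at hA
  push Not at hA
  obtain ⟨m, hm, k1, k2, k1', k2', h, h', himg, hmN⟩ := hA
  obtain ⟨g, hgN, hgO, hg⟩ := trans_Lp hS hb h' h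
  refine ⟨k1, k2, h, g * m, M.mul_mem (hM.kron_mem g hgN hgO) hm, ?_, ?_⟩
  · rw [img_mul, himg, hg]
  · intro hc
    apply hmN
    have : m = g⁻¹ * (g * m) := by rw [inv_mul_cancel_left]
    rw [this]
    exact (Cfsg.Geo.kroneckerSubgroup a b F).mul_mem ((Cfsg.Geo.kroneckerSubgroup a b F).inv_mem hgN) hc

end Cfsg.Agent.Lib.Helper18.OTTrans
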