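import Mathlib
import Cfsg.Agent.Lib.Helper28.OTDefs
import Cfsg.Agent.Lib.Helper28.OTExitDefs
import Cfsg.Agent.Lib.Helper16.OTRootC
import Cfsg.Agent.Lib.Helper3.SpTL1c
import Cfsg.Agent.Lib.Helper8.OTRel
import Cfsg.Agent.Lib.Helper9.OTX1
import Cfsg.Agent.Lib.Helper13.OTAllLongB

/-!
# S5681 / S5709, EXIT piece T3 (helper12's skeleton): COMM and the two shear halves of GLUE-C (helper18)

* `comm_mem` : for `g ∈ M`, `n ∈ N0 ⊓ IsoG`, `h' ∈ N0 ⊓ Ω` the commutator `[g n⁻¹, h']` lies in `M`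
  (exact statement of `notes/S5681T3Skel_helper12.lean.txt`).
* `InZM`, `Bad` : verbatim copies of the skeleton's definitions.
* `bad_shear`, `bad_lshear` : exact statements of the skeleton (with the four leading arguments
  `hS hb hM h`), plus raw versions `bad_shear_raw`, `bad_lshear_raw` that avoid `InZM` / `Bad`.
-/

set_option autoImplicit false
set_option linter.unusedSectionVars false
set_option linter.unusedVariables false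

namespace Cfsg.Agent.Lib.Helper18.OTComm

open Matrix Module
open Cfsg.Agent.Lib.Helper16.Tens Cfsg.Agent.Lib.Helper10.TensFund
open Cfsg.Agent.Lib.Helper3.SpT (bf E adj uni Over)
open Cfsg.Agent.Lib.Helper13.TensSO (OrthG IsoG)
open Cfsg.Agent.Lib.Helper28.OT Cfsg.Agent.Lib.Helper28.OTX
open Cfsg.Agent.Lib.Helper16.OTRootC (oneK oneK_val oneK_mem_IsoG rho oneK_rho Om_le_IsoG)
open Cfsg.Agent.Lib.Helper8.OTRel (TO zL gTO gK gZ)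
open scoped Kronecker

variable {F : Type*} [Field F] [Fintype F] {a b : ℕ}
variable {J1 : Matrix (Fin a) (Fin a) F} {J2 : Matrix (Fin b) (Fin b) F}
variable {Q : QuadraticForm F (Fin a × Fin b → F)}
variable {M : Subgroup (GL (Fin a × Fin b) F)}
variable {k1 k2 : Fin b → F}

local notation "K" => Cfsg.Geo.kroneckerSubgroup a b F
local notation "V" => (Fin a × Fin b → F)

/-- `(K₁, C, K₂)` are the `Z_L`-coordinates of an element of `M` (`K₁, K₂` skew-adjoint) -/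
def InZM (J1 : Matrix (Fin a) (Fin a) F) {J2 : Matrix (Fin b) (Fin b) F} (hJ2 : OrthG J2)
    (M : Subgroup (GL (Fin a × Fin b) F)) {k1 k2 : Fin b → F} (h : Ts2 J2 k1 k2)
    (K1 C K2 : Matrix (Fin a) (Fin a) F) : Prop :=
  adj J1 K1 = -K1 ∧ adj J1 K2 = -K2 ∧ gZ J1 J2 hJ2 K1 C K2 k1 k2 h.h11 h.h12 h.h22 ∈ M

/-- the bad element: `g ∈ M`, `n ∈ N0 ⊓ IsoG`, `g n⁻¹ = z(K₁,C,K₂)` -/
structure Bad (J1 : Matrix (Fin a) (Fin a) F) {J2 : Matrix (Fin b) (Fin b) F} (hJ2 : OrthG J2)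
    (M : Subgroup (GL (Fin a × Fin b) F)) {k1 k2 : Fin b → F} (h : Ts2 J2 k1 k2)
    (K1 C K2 : Matrix (Fin a) (Fin a) F) : Prop where
  sk1 : adj J1 K1 = -K1
  sk2 : adj J1 K2 = -K2
  ex : ∃ g ∈ M, ∃ n ∈ Cfsg.Geo.kroneckerSubgroup a b F, n ∈ IsoG (J1 ⊗ₖ J2) ∧
    g * n⁻¹ = gZ J1 J2 hJ2 K1 C K2 k1 k2 h.h11 h.h12 h.h22

/-! ## COMM -/

/-- COMM : for `g ∈ M`, `n ∈ N0 ⊓ IsoG` and `h' ∈ N0 ⊓ Ω` the commutator `[g n⁻¹, h']` lies in `M` -/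
theorem comm_mem (hS : SetupO J1 J2 Q) (hM : Over Q M) (g n h' : GL (Fin a × Fin b) F) (hg : g ∈ M)
    (hnK : n ∈ K) (hnI : n ∈ IsoG (J1 ⊗ₖ J2)) (hK : h' ∈ K) (hO : h' ∈ Cfsg.Geo.omegaGL (⇑Q)) :
    (g * n⁻¹) * h' * (g * n⁻¹)⁻¹ * h'⁻¹ ∈ M := by
  have h1 : n⁻¹ * h' * n ∈ M := by
    apply hM.kron_mem
    · exact Subgroup.mul_mem _ (Subgroup.mul_mem _ (Subgroup.inv_mem _ hnK) hK) hnK
    · have := Cfsg.Agent.Lib.Helper3.SpT.conj_mem_Om (Q := Q) n⁻¹ h'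
        (Subgroup.inv_mem _ (Cfsg.Agent.Lib.Helper16.OTRootC.mem_iso_of_IsoG hS n hnI)) hO
      rwa [inv_inv] at this
  have h2 : h' ∈ M := hM.kron_mem h' hK hO
  have e : (g * n⁻¹) * h' * (g * n⁻¹)⁻¹ * h'⁻¹ = g * (n⁻¹ * h' * n) * g⁻¹ * h'⁻¹ := by group
  rw [e]
  exact Subgroup.mul_mem _ (Subgroup.mul_mem _ (Subgroup.mul_mem _ hg h1) (Subgroup.inv_mem _ hg))
    (Subgroup.inv_mem _ h2)

/-! ## algebra of `gZ` -/

theorem adj_zero' (J1 : Matrix (Fin a) (Fin a) F) : adj J1 (0 : Matrix (Fin a) (Fin a) F) = 0 := by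
  have := Cfsg.Agent.Lib.Helper8.OTRel.adj_sub' J1 (0 : Matrix (Fin a) (Fin a) F) 0
  rwa [sub_self, sub_self] at this

theorem zL_zero (J1 : Matrix (Fin a) (Fin a) F) (J2 : Matrix (Fin b) (Fin b) F) (k1 k2 : Fin b → F) :
    zL J1 J2 0 0 0 k1 k2 = 0 := by
  unfold Cfsg.Agent.Lib.Helper8.OTRel.zL Cfsg.Agent.Lib.Helper8.OTRel.TO
  rw [adj_zero']
  simp

theorem gZ_zero (J1 : Matrix (Fin a) (Fin a) F) (hJ2 : OrthG J2) (k1 k2 : Fin b → F)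
    (h11 : bf J2 k1 k1 = 0) (h12 : bf J2 k1 k2 = 0) (h22 : bf J2 k2 k2 = 0) :
    gZ J1 J2 hJ2 0 0 0 k1 k2 h11 h12 h22 = 1 := by
  apply Units.ext
  rw [Cfsg.Agent.Lib.Helper8.OTRel.gZ_val, zL_zero, add_zero, Units.val_one]

theorem gZ_inv (J1 : Matrix (Fin a) (Fin a) F) (hJ2 : OrthG J2) (K1 C K2 : Matrix (Fin a) (Fin a) F)
    (k1 k2 : Fin b → F) (h11 : bf J2 k1 k1 = 0) (h12 : bf J2 k1 k2 = 0) (h22 : bf J2 k2 k2 = 0) :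
    (gZ J1 J2 hJ2 K1 C K2 k1 k2 h11 h12 h22)⁻¹ = gZ J1 J2 hJ2 (-K1) (-C) (-K2) k1 k2 h11 h12 h22 := by
  rw [inv_eq_iff_eq_inv, eq_inv_iff_mul_eq_one, Cfsg.Agent.Lib.Helper8.OTRel.gZ_mul, add_neg_cancel,
    add_neg_cancel, add_neg_cancel, gZ_zero]

/-- the lower shear `k₁ ↦ k₁ + s k₂` on `z(K₁,C,K₂)` -/
theorem zL_lshear (J1 : Matrix (Fin a) (Fin a) F) (J2 : Matrix (Fin b) (Fin b) F)
    (K1 C K2 : Matrix (Fin a) (Fin a) F) (hK1 : adj J1 K1 = -K1) (s : F) (k1 k2 : Fin b → F) :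
    zL J1 J2 K1 C K2 (k1 + s • k2) k2 =
      zL J1 J2 K1 (C + s • K1) (K2 + s • (C - adj J1 C) + (s * s) • K1) k1 k2 := by
  unfold Cfsg.Agent.Lib.Helper8.OTRel.zL Cfsg.Agent.Lib.Helper8.OTRel.TO
  rw [Cfsg.Agent.Lib.Helper8.OTRel.adj_add', Cfsg.Agent.Lib.Helper8.OTRel.adj_smul', hK1]
  simp only [Cfsg.Agent.Lib.Helper3.SpT.E_add_left, Cfsg.Agent.Lib.Helper3.SpT.E_add_right,
    Cfsg.Agent.Lib.Helper3.SpT.E_smul_left, Cfsg.Agent.Lib.Helper3.SpT.E_smul_right, Matrix.kronecker_add,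
    Matrix.add_kronecker, Matrix.kronecker_smul, Matrix.smul_kronecker, smul_smul,
    Cfsg.Agent.Lib.Helper8.OTRel.sub_kron, Cfsg.Agent.Lib.Helper8.OTRel.neg_kron, smul_neg, smul_add]
  module

theorem ts2_swap (h : Ts2 J2 k1 k2) (hJ2 : OrthG J2) : Ts2 J2 k2 k1 where
  indep := fun c1 c2 hc => by
    have := h.indep c2 c1 (by rw [add_comm]; exact hc)
    exact ⟨this.2, this.1⟩
  h11 := h.h22
  h12 := by rw [hJ2.symm]; exact h.h12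
  h22 := h.h11

/-! ## the shear halves of GLUE-C -/

theorem bad_shear_raw (hS : SetupO J1 J2 Q) (hb : 5 ≤ b) (hM : Over Q M) (h : Ts2 J2 k1 k2) (s : F)
    {K1 C K2 : Matrix (Fin a) (Fin a) F} (hK2 : adj J1 K2 = -K2)
    (g : GL (Fin a × Fin b) F) (hg : g ∈ M) (n : GL (Fin a × Fin b) F) (hnK : n ∈ K)
    (hnI : n ∈ IsoG (J1 ⊗ₖ J2))
    (hgn : g * n⁻¹ = gZ J1 J2 hS.h2 K1 C K2 k1 k2 h.h11 h.h12 h.h22) :
    gZ J1 J2 hS.h2 (-(s • (C - adj J1 C) + (s * s) • K2)) (-(s • K2)) 0 k1 k2 h.h11 h.h12 h.h22 ∈ M := by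
  obtain ⟨l, hl1, hl2, hll⟩ := Cfsg.Agent.Lib.Helper16.OTRootC.exists_partner hS.h2 hS.two h
  have hkd : bf J2 k1 (s • l) = 0 := by rw [Cfsg.Agent.Lib.Helper3.SpT.bf_smul_right, hl1, mul_zero]
  have h21 : bf J2 k2 k1 = 0 := by rw [hS.h2.symm]; exact h.h12
  have hβI : rhoW hS.h2 hS.two k1 (s • l) h.h11 hkd ∈ IsoG J2 :=
    Cfsg.Agent.Lib.Helper9.OTX1.rhoW_mem_IsoG hS.h2 hS.two k1 (s • l) h.h11 hkd
  have hβ1 : ((rhoW hS.h2 hS.two k1 (s • l) h.h11 hkd : GL (Fin b) F) : Matrix (Fin b) (Fin b) F) *ᵥ k1 = k1 := by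
    rw [rhoW_val, Matrix.add_mulVec, Matrix.one_mulVec, SgN_mulVec, h.h11, hkd]
    simp
  have hβ2 : ((rhoW hS.h2 hS.two k1 (s • l) h.h11 hkd : GL (Fin b) F) : Matrix (Fin b) (Fin b) F) *ᵥ k2 =
      k2 + s • k1 := by
    rw [rhoW_val, Matrix.add_mulVec, Matrix.one_mulVec, SgN_mulVec, Cfsg.Agent.Lib.Helper3.SpT.bf_smul_right, hl2,
      h21]
    simp
  have hK : oneK (a := a) (rhoW hS.h2 hS.two k1 (s • l) h.h11 hkd) ∈ K :=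
    Cfsg.Agent.Lib.Helper9.OTX1.oneK_mem_kron _
  have hO : oneK (a := a) (rhoW hS.h2 hS.two k1 (s • l) h.h11 hkd) ∈ Cfsg.Geo.omegaGL (⇑Q) :=
    Cfsg.Agent.Lib.Helper9.OTX1.oneK_rhoW_mem_Om hS hb k1 (s • l) h.h11 hkd
  have hc := comm_mem hS hM g n _ hg hnK hnI hK hO
  have h12' : bf J2 k1 (k2 + s • k1) = 0 := by
    rw [Cfsg.Agent.Lib.Helper3.SpT.bf_add_right, Cfsg.Agent.Lib.Helper3.SpT.bf_smul_right, h.h12, h.h11]; simp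
  have h22' : bf J2 (k2 + s • k1) (k2 + s • k1) = 0 := by
    simp only [Cfsg.Agent.Lib.Helper3.SpT.bf_add_right, Cfsg.Agent.Lib.Helper3.SpT.bf_smul_right,
      Cfsg.Agent.Lib.Helper3.SpT.bf_add_left, Cfsg.Agent.Lib.Helper3.SpT.bf_smul_left, h.h12, h.h11, h.h22, h21]
    simp
  have hconj := Cfsg.Agent.Lib.Helper8.OTRel.R1_GL J1 J2 hS.h2 K1 C K2 _ hβI
    (oneK (a := a) (rhoW hS.h2 hS.two k1 (s • l) h.h11 hkd)) (oneK_val _) k1 k2 k1 (k2 + s • k1)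
    h.h11 h.h12 h.h22 h.h11 h12' h22' hβ1 hβ2
  have hsh : gZ J1 J2 hS.h2 K1 C K2 k1 (k2 + s • k1) h.h11 h12' h22' =
      gZ J1 J2 hS.h2 (K1 + s • (C - adj J1 C) + (s * s) • K2) (C + s • K2) K2 k1 k2 h.h11 h.h12 h.h22 := by
    apply Units.ext
    rw [Cfsg.Agent.Lib.Helper8.OTRel.gZ_val, Cfsg.Agent.Lib.Helper8.OTRel.gZ_val,
      Cfsg.Agent.Lib.Helper8.OTRel.zL_shear J1 J2 K1 C K2 hK2 s k1 k2]
  rw [hsh] at hconj
  rw [hgn] at hc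
  have e : ∀ (ζ η : GL (Fin a × Fin b) F), ζ * η * ζ⁻¹ * η⁻¹ = ζ * (η * ζ * η⁻¹)⁻¹ := by
    intro ζ η; group
  rw [e, hconj, gZ_inv, Cfsg.Agent.Lib.Helper8.OTRel.gZ_mul] at hc
  have e1 : K1 + -(K1 + s • (C - adj J1 C) + (s * s) • K2) = -(s • (C - adj J1 C) + (s * s) • K2) := by abel
  have e2 : C + -(C + s • K2) = -(s • K2) := by abel
  have e3 : K2 + -K2 = 0 := add_neg_cancel K2
  rw [e1, e2, e3] at hc
  exact hc

theorem bad_lshear_raw (hS : SetupO J1 J2 Q) (hb : 5 ≤ b) (hM : Over Q M) (h : Ts2 J2 k1 k2) (s : F)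
    {K1 C K2 : Matrix (Fin a) (Fin a) F} (hK1 : adj J1 K1 = -K1)
    (g : GL (Fin a × Fin b) F) (hg : g ∈ M) (n : GL (Fin a × Fin b) F) (hnK : n ∈ K)
    (hnI : n ∈ IsoG (J1 ⊗ₖ J2))
    (hgn : g * n⁻¹ = gZ J1 J2 hS.h2 K1 C K2 k1 k2 h.h11 h.h12 h.h22) :
    gZ J1 J2 hS.h2 0 (-(s • K1)) (-(s • (C - adj J1 C) + (s * s) • K1)) k1 k2 h.h11 h.h12 h.h22 ∈ M := by
  obtain ⟨l, hl1, hl2, hll⟩ := Cfsg.Agent.Lib.Helper16.OTRootC.exists_partner hS.h2 hS.two (ts2_swap h hS.h2)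
  have hkd : bf J2 k2 (s • l) = 0 := by rw [Cfsg.Agent.Lib.Helper3.SpT.bf_smul_right, hl1, mul_zero]
  have h21 : bf J2 k2 k1 = 0 := by rw [hS.h2.symm]; exact h.h12
  have hβI : rhoW hS.h2 hS.two k2 (s • l) h.h22 hkd ∈ IsoG J2 :=
    Cfsg.Agent.Lib.Helper9.OTX1.rhoW_mem_IsoG hS.h2 hS.two k2 (s • l) h.h22 hkd
  have hβ2 : ((rhoW hS.h2 hS.two k2 (s • l) h.h22 hkd : GL (Fin b) F) : Matrix (Fin b) (Fin b) F) *ᵥ k2 = k2 := by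
    rw [rhoW_val, Matrix.add_mulVec, Matrix.one_mulVec, SgN_mulVec, h.h22, hkd]
    simp
  have hβ1 : ((rhoW hS.h2 hS.two k2 (s • l) h.h22 hkd : GL (Fin b) F) : Matrix (Fin b) (Fin b) F) *ᵥ k1 =
      k1 + s • k2 := by
    rw [rhoW_val, Matrix.add_mulVec, Matrix.one_mulVec, SgN_mulVec, Cfsg.Agent.Lib.Helper3.SpT.bf_smul_right, hl2,
      h.h12]
    simp
  have hK : oneK (a := a) (rhoW hS.h2 hS.two k2 (s • l) h.h22 hkd) ∈ K :=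
    Cfsg.Agent.Lib.Helper9.OTX1.oneK_mem_kron _
  have hO : oneK (a := a) (rhoW hS.h2 hS.two k2 (s • l) h.h22 hkd) ∈ Cfsg.Geo.omegaGL (⇑Q) :=
    Cfsg.Agent.Lib.Helper9.OTX1.oneK_rhoW_mem_Om hS hb k2 (s • l) h.h22 hkd
  have hc := comm_mem hS hM g n _ hg hnK hnI hK hO
  have h12' : bf J2 (k1 + s • k2) k2 = 0 := by
    rw [Cfsg.Agent.Lib.Helper3.SpT.bf_add_left, Cfsg.Agent.Lib.Helper3.SpT.bf_smul_left, h.h12, h.h22]; simp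
  have h11' : bf J2 (k1 + s • k2) (k1 + s • k2) = 0 := by
    simp only [Cfsg.Agent.Lib.Helper3.SpT.bf_add_right, Cfsg.Agent.Lib.Helper3.SpT.bf_smul_right,
      Cfsg.Agent.Lib.Helper3.SpT.bf_add_left, Cfsg.Agent.Lib.Helper3.SpT.bf_smul_left, h.h12, h.h11, h.h22, h21]
    simp
  have hconj := Cfsg.Agent.Lib.Helper8.OTRel.R1_GL J1 J2 hS.h2 K1 C K2 _ hβI
    (oneK (a := a) (rhoW hS.h2 hS.two k2 (s • l) h.h22 hkd)) (oneK_val _) k1 k2 (k1 + s • k2) k2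
    h.h11 h.h12 h.h22 h11' h12' h.h22 hβ1 hβ2
  have hsh : gZ J1 J2 hS.h2 K1 C K2 (k1 + s • k2) k2 h11' h12' h.h22 =
      gZ J1 J2 hS.h2 K1 (C + s • K1) (K2 + s • (C - adj J1 C) + (s * s) • K1) k1 k2 h.h11 h.h12 h.h22 := by
    apply Units.ext
    rw [Cfsg.Agent.Lib.Helper8.OTRel.gZ_val, Cfsg.Agent.Lib.Helper8.OTRel.gZ_val,
      zL_lshear J1 J2 K1 C K2 hK1 s k1 k2]
  rw [hsh] at hconj
  rw [hgn] at hc
  have e : ∀ (ζ η : GL (Fin a × Fin b) F), ζ * η * ζ⁻¹ * η⁻¹ = ζ * (η * ζ * η⁻¹)⁻¹ := by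
    intro ζ η; group
  rw [e, hconj, gZ_inv, Cfsg.Agent.Lib.Helper8.OTRel.gZ_mul] at hc
  have e1 : K1 + -K1 = 0 := add_neg_cancel K1
  have e2 : C + -(C + s • K1) = -(s • K1) := by abel
  have e3 : K2 + -(K2 + s • (C - adj J1 C) + (s * s) • K1) = -(s • (C - adj J1 C) + (s * s) • K1) := by abel
  rw [e1, e2, e3] at hc
  exact hc

/-- skewness of `-(s (C - C^*) + s² K')` for skew `K'` -/
theorem skew_shear (hJ1 : OrthG J1) (s : F) (C K' : Matrix (Fin a) (Fin a) F) (hK : adj J1 K' = -K') :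
    adj J1 (-(s • (C - adj J1 C) + (s * s) • K')) = -(-(s • (C - adj J1 C) + (s * s) • K')) := by
  rw [Cfsg.Agent.Lib.Helper8.OTRel.adj_neg', Cfsg.Agent.Lib.Helper8.OTRel.adj_add',
    Cfsg.Agent.Lib.Helper8.OTRel.adj_smul', Cfsg.Agent.Lib.Helper8.OTRel.adj_smul',
    Cfsg.Agent.Lib.Helper8.OTRel.adj_sub', Cfsg.Agent.Lib.Helper13.OTAllLongB.adj_adj_orth hJ1, hK]
  rw [neg_neg, smul_neg, smul_sub, smul_sub]
  abel

section glue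
variable (hS : SetupO J1 J2 Q) (hb : 5 ≤ b) (hM : Over Q M) (h : Ts2 J2 k1 k2)
include hS hb hM h

theorem bad_shear (s : F) {K1 C K2 : Matrix (Fin a) (Fin a) F} (hX : Bad J1 hS.h2 M h K1 C K2) :
    InZM J1 hS.h2 M h (-(s • (C - adj J1 C) + (s * s) • K2)) (-(s • K2)) 0 := by
  obtain ⟨g, hg, n, hnK, hnI, hgn⟩ := hX.ex
  refine ⟨skew_shear hS.h1 s C K2 hX.sk2, ?_, bad_shear_raw hS hb hM h s hX.sk2 g hg n hnK hnI hgn⟩
  rw [adj_zero', neg_zero]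

theorem bad_lshear (s : F) {K1 C K2 : Matrix (Fin a) (Fin a) F} (hX : Bad J1 hS.h2 M h K1 C K2) :
    InZM J1 hS.h2 M h 0 (-(s • K1)) (-(s • (C - adj J1 C) + (s * s) • K1)) := by
  obtain ⟨g, hg, n, hnK, hnI, hgn⟩ := hX.ex
  refine ⟨?_, skew_shear hS.h1 s C K1 hX.sk1, bad_lshear_raw hS hb hM h s hX.sk1 g hg n hnK hnI hgn⟩
  rw [adj_zero', neg_zero]

end glue

end Cfsg.Agent.Lib.Helper18.OTComm
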