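import Mathlib
import Cfsg.Agent.Lib.Helper28.OTDefs
import Cfsg.Agent.Lib.Helper22.OTRootB

/-!
# Relative form of the fundamental lemma on tensor products (helper18, for S5681 / S5709 EXIT piece T2b)

`rel_tens` : an invertible `m` on `U ⊗ W` which maps `U ⊗ w` into some `U ⊗ w'` for every non-zero `w` of a subspace `S ≤ W`
acts on `U ⊗ S` as `A ⊗ B0`.
-/

set_option autoImplicit false
set_option linter.unusedSectionVars false
set_option linter.unusedVariables false

namespace Cfsg.Agent.Lib.Helper18.OTRelTens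

open Matrix Module
open Cfsg.Agent.Lib.Helper16.Tens Cfsg.Agent.Lib.Helper10.TensFund
open Cfsg.Agent.Lib.Helper3.SpT (bf)
open Cfsg.Agent.Lib.Helper13.TensSO (OrthG)
open Cfsg.Agent.Lib.Helper28.OT

variable {F : Type*} [Field F] {a b : ℕ}

/-- the contraction `φ ⊗ 1 : U ⊗ W → W` -/
def ctrU (φ : Fin a → F) : (Fin a × Fin b → F) →ₗ[F] (Fin b → F) where
  toFun v j := ∑ i, v (i, j) * φ i
  map_add' v v' := by
    funext j; simp [add_mul, Finset.sum_add_distrib]
  map_smul' c v := by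
    funext j; simp [Finset.mul_sum, mul_assoc]

theorem ctrU_pur (φ : Fin a → F) (u : Fin a → F) (w : Fin b → F) :
    ctrU φ (pur u w) = (u ⬝ᵥ φ) • w := by
  funext j
  change ∑ i, pur u w (i, j) * φ i = _
  simp only [pur_apply, Pi.smul_apply, smul_eq_mul, dotProduct, Finset.sum_mul]
  apply Finset.sum_congr rfl
  intro i _
  ring

theorem orthG_one {n : ℕ} : OrthG (1 : Matrix (Fin n) (Fin n) F) := by
  constructor
  · intro x y
    unfold bf
    rw [Matrix.one_mulVec, Matrix.one_mulVec, dotProduct_comm]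
  · intro x hx
    funext i
    have := hx (Pi.single i 1)
    unfold bf at this
    rw [Matrix.one_mulVec, dotProduct_single_one] at this
    exact this

/-- dual functional of an independent pair -/
theorem exists_dual_of_indep [Fintype F] {n : ℕ} {s t : Fin n → F} (hs : s ≠ 0) (ht : ∀ κ : F, t ≠ κ • s) :
    (∃ ψ : Fin n → F, s ⬝ᵥ ψ = 1 ∧ t ⬝ᵥ ψ = 0) ∧ (∃ ψ : Fin n → F, s ⬝ᵥ ψ = 0 ∧ t ⬝ᵥ ψ = 1) := by
  have hind : ∀ c1 c2 : F, c1 • s + c2 • t = 0 → c1 = 0 ∧ c2 = 0 := by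
    intro c1 c2 h
    have hc2 : c2 = 0 := by
      by_contra hc2
      apply ht (-(c1 / c2))
      have h1 : c2 • t = -(c1 • s) := eq_neg_of_add_eq_zero_right h
      have h2 : t = c2⁻¹ • (c2 • t) := by rw [smul_smul, inv_mul_cancel₀ hc2, one_smul]
      rw [h2, h1, smul_neg, smul_smul, neg_smul, div_eq_inv_mul, mul_comm]
    refine ⟨?_, hc2⟩
    rw [hc2, zero_smul, add_zero] at h
    rcases smul_eq_zero.mp h with h | h
    · exact h
    · exact absurd h hs
  obtain ⟨⟨ψ, h1, h2⟩, ⟨ψ', h1', h2'⟩⟩ :=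
    Cfsg.Agent.Lib.Helper22.OTRootB.exists_dual_pair (J2 := (1 : Matrix (Fin n) (Fin n) F)) orthG_one hind
  unfold bf at h1 h2 h1' h2'
  rw [Matrix.one_mulVec] at h1 h2 h1' h2'
  exact ⟨⟨ψ, by rw [dotProduct_comm]; exact h1, by rw [dotProduct_comm]; exact h2⟩,
    ⟨ψ', by rw [dotProduct_comm]; exact h1', by rw [dotProduct_comm]; exact h2'⟩⟩

theorem act_pur_add (m : GL (Fin a × Fin b) F) (u : Fin a → F) (w w' : Fin b → F) :
    act m (pur u (w + w')) = act m (pur u w) + act m (pur u w') := by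
  rw [pur_add_right, map_add]

theorem act_pur_smul (m : GL (Fin a × Fin b) F) (c : F) (u : Fin a → F) (w : Fin b → F) :
    act m (pur u (c • w)) = c • act m (pur u w) := by
  rw [pur_smul_right, map_smul]

/-- **relative fundamental lemma** -/
theorem rel_tens [Fintype F] (ha : 1 ≤ a) (m : GL (Fin a × Fin b) F) (S : Submodule F (Fin b → F))
    (hpt : ∀ w ∈ S, w ≠ 0 → ∃ w' : Fin b → F, ∀ u : Fin a → F, ∃ u' : Fin a → F, act m (pur u w) = pur u' w') :
    ∃ (A : Matrix (Fin a) (Fin a) F) (B0 : Matrix (Fin b) (Fin b) F), ∀ (u : Fin a → F) (w : Fin b → F), w ∈ S →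
      act m (pur u w) = pur (A *ᵥ u) (B0 *ᵥ w) := by
  classical
  by_cases hS : ∀ w ∈ S, w = 0
  · refine ⟨0, 0, fun u w hw => ?_⟩
    rw [hS w hw]
    simp
  push Not at hS
  obtain ⟨w0, hw0S, hw0⟩ := hS
  obtain ⟨w0', h0⟩ := hpt w0 hw0S hw0
  set e0 : Fin a → F := Pi.single ⟨0, ha⟩ 1 with he0
  have he0ne : e0 ≠ 0 := by
    intro h
    have := congrFun h ⟨0, ha⟩
    simp [he0] at this
  have hinj : ∀ v, act m v = 0 → v = 0 := by
    intro v hv
    exact (act m).injective (by rw [hv, map_zero])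
  have hw0' : w0' ≠ 0 := by
    intro h
    obtain ⟨u', hu'⟩ := h0 e0
    rw [h, pur_zero_right] at hu'
    rcases pur_eq_zero (hinj _ hu') with h1 | h1
    · exact he0ne h1
    · exact hw0 h1
  obtain ⟨ψ0, hψ0⟩ := exists_dual w0' hw0'
  set Alin : (Fin a → F) →ₗ[F] (Fin a → F) :=
    (ctr ψ0).comp ((act m).toLinearMap.comp (purL w0)) with hAlin
  have hA0 : ∀ u, act m (pur u w0) = pur (Alin u) w0' := by
    intro u
    obtain ⟨u', hu'⟩ := h0 u
    have : Alin u = u' := by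
      change ctr ψ0 (act m (pur u w0)) = u'
      rw [hu', ctr_pur, hψ0, one_smul]
    rw [this, hu']
  have hAinj : Function.Injective Alin := by
    rw [← LinearMap.ker_eq_bot, LinearMap.ker_eq_bot']
    intro u hu
    have h1 := hA0 u
    rw [hu, pur_zero_left] at h1
    rcases pur_eq_zero (hinj _ h1) with h2 | h2
    · exact h2
    · exact absurd h2 hw0
  have hAsurj : Function.Surjective Alin := LinearMap.injective_iff_surjective.mp hAinj
  have hAe0 : Alin e0 ≠ 0 := fun h => he0ne (hAinj (by rw [h, map_zero]))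
  obtain ⟨φ0, hφ0⟩ := exists_dual (Alin e0) hAe0
  set Blin : (Fin b → F) →ₗ[F] (Fin b → F) :=
    (ctrU φ0).comp ((act m).toLinearMap.comp (purR e0)) with hBlin
  -- the key claim
  have key : ∀ w ∈ S, ∃ y : Fin b → F, ∀ u, act m (pur u w) = pur (Alin u) y := by
    intro w hwS
    by_cases hw : ∃ t : F, w = t • w0
    · obtain ⟨t, rfl⟩ := hw
      refine ⟨t • w0', fun u => ?_⟩
      rw [act_pur_smul, hA0, pur_smul_right]
    push Not at hw
    have hwne : w ≠ 0 := by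
      intro h
      apply hw 0
      rw [h, zero_smul]
    obtain ⟨w', h1⟩ := hpt w hwS hwne
    have hw' : ∀ κ : F, w' ≠ κ • w0' := by
      intro κ hκ
      obtain ⟨u', hu'⟩ := h1 e0
      obtain ⟨u1, hu1⟩ := hAsurj (κ • u')
      have h2 : act m (pur u1 w0) = act m (pur e0 w) := by
        rw [hA0, hu1, hu', hκ, pur_smul_left, pur_smul_right]
      have h3 : pur u1 w0 = pur e0 w := (act m).injective h2
      obtain ⟨φ, hφ⟩ := exists_dual e0 he0ne
      have h4 := congrArg (ctrU φ) h3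
      rw [ctrU_pur, ctrU_pur, hφ, one_smul] at h4
      exact hw (u1 ⬝ᵥ φ) h4.symm
    have hsum : w + w0 ≠ 0 := by
      intro h
      apply hw (-1)
      rw [neg_one_smul]
      exact eq_neg_of_add_eq_zero_left h
    obtain ⟨w'', h2⟩ := hpt (w + w0) (S.add_mem hwS hw0S) hsum
    obtain ⟨⟨ψa, hψa1, hψa2⟩, ⟨ψb, hψb1, hψb2⟩⟩ := exists_dual_of_indep hw0' hw'
    -- ψa : w0' ↦ 1, w' ↦ 0 ; ψb : w0' ↦ 0, w' ↦ 1
    have hβ : w'' ⬝ᵥ ψa ≠ 0 := by
      intro h
      obtain ⟨u', hu'⟩ := h1 e0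
      obtain ⟨u'', hu''⟩ := h2 e0
      rw [act_pur_add, hu', hA0] at hu''
      have h3 := congrArg (ctr ψa) hu''
      rw [map_add, ctr_pur, ctr_pur, ctr_pur, hψa1, hψa2, h, zero_smul, zero_smul, zero_add, one_smul] at h3
      exact hAe0 h3
    refine ⟨((w'' ⬝ᵥ ψb) / (w'' ⬝ᵥ ψa)) • w', fun u => ?_⟩
    obtain ⟨u', hu'⟩ := h1 u
    obtain ⟨u'', hu''⟩ := h2 u
    rw [act_pur_add, hu', hA0] at hu''
    have h3 := congrArg (ctr ψa) hu''
    rw [map_add, ctr_pur, ctr_pur, ctr_pur, hψa1, hψa2, zero_smul, zero_add, one_smul] at h3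
    have h4 := congrArg (ctr ψb) hu''
    rw [map_add, ctr_pur, ctr_pur, ctr_pur, hψb1, hψb2, zero_smul, add_zero, one_smul] at h4
    have h5 : u'' = (w'' ⬝ᵥ ψa)⁻¹ • Alin u := by
      rw [h3, smul_smul, inv_mul_cancel₀ hβ, one_smul]
    rw [hu', h4, h5, smul_smul, pur_smul_left, pur_smul_right, div_eq_mul_inv]
  refine ⟨LinearMap.toMatrix' Alin, LinearMap.toMatrix' Blin, fun u w hwS => ?_⟩
  obtain ⟨y, hy⟩ := key w hwS
  have hB : Blin w = y := by
    change ctrU φ0 (act m (pur e0 w)) = y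
    rw [hy, ctrU_pur, hφ0, one_smul]
  rw [LinearMap.toMatrix'_mulVec, LinearMap.toMatrix'_mulVec, hB, hy]

end Cfsg.Agent.Lib.Helper18.OTRelTens
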