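import Mathlib
import Cfsg.Agent.Lib.Helper28.OTDefs
import Cfsg.Agent.Lib.Helper28.OTExitDefs
import Cfsg.Agent.Lib.Helper18.OTRelTens
import Cfsg.Agent.Lib.Helper18.OTTrans
import Cfsg.Agent.Lib.Helper8.OTRootA
import Cfsg.Agent.Lib.Helper22.OTRootB
import Cfsg.Agent.Lib.Helper1.OTINV
import Cfsg.Agent.S0750

/-!
# S5681 / S5709 EXIT, piece T2b (helper18): decomposition `m = l z`, `l ∈ N0 ∩ O(V)`, `z` of `Z_L`-shape

`L = U ⊗ π`, `π = ⟨k₁,k₂⟩` a totally singular line of `W`, `S = π^⊥`.  If the isometry `m` stabilises `L` and maps every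
`U ⊗ ⟨k,d⟩` (`0 ≠ k ∈ π`, `d ∈ S \ π`) onto some `U ⊗ X'`, then `m` permutes the points `U ⊗ w`, `w ∈ S`; by the relative fundamental
lemma `m = A ⊗ B0` on `U ⊗ S`; `A`, `B0` are similitudes, normalised to isometries (`a` odd); Witt extends `B0|S` to `B̃ ∈ O(W)`;
`l := A ⊗ B̃`, and `l⁻¹ m` is trivial on `U ⊗ S = L^⊥`, hence `(l⁻¹ m - 1) V ≤ L`.
-/

set_option autoImplicit false
set_option linter.unusedSectionVars false
set_option linter.unusedVariables false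

namespace Cfsg.Agent.Lib.Helper18.OTT2b

open Matrix Module
open Cfsg.Agent.Lib.Helper16.Tens Cfsg.Agent.Lib.Helper10.TensFund
open Cfsg.Agent.Lib.Helper3.SpT (bf E adj uni Over bf_add_left bf_add_right bf_smul_left bf_smul_right bf_sub_left
  bf_sub_right bf_kron_pur bf_kron_pur_right)
open Cfsg.Agent.Lib.Helper13.TensSO (OrthG IsoG)
open Cfsg.Agent.Lib.Helper28.OT Cfsg.Agent.Lib.Helper28.OTX
open Cfsg.Agent.Lib.Helper8.OTRootA (rowL rowL_pur mem_tW_iff finrank_tW tW_inf)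
open Cfsg.Agent.Lib.Helper1.S5666BGEO (QF QF_apply)
open Cfsg.Agent.Lib.Helper23.S5637T3b (kronGL kronGL_val kronGL_mem_kron)
open Cfsg.Agent.Lib.Helper13 (isoGroup glEquiv glEquiv_symm_mulVec)
open Cfsg.Agent.Lib.Helper18.OTRelTens
open scoped Kronecker

variable {F : Type*} [Field F] [Fintype F] {a b : ℕ}
variable {J1 : Matrix (Fin a) (Fin a) F} {J2 : Matrix (Fin b) (Fin b) F}
variable {Q : QuadraticForm F (Fin a × Fin b → F)}

theorem span_le_Sp (hJ2 : OrthG J2) {k1 k2 : Fin b → F} (h : Ts2 J2 k1 k2) :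
    Submodule.span F ({k1, k2} : Set (Fin b → F)) ≤ piPerp J2 k1 k2 := by
  rw [Submodule.span_le]
  rintro x (rfl | rfl)
  · exact ⟨h.h11, h.h12⟩
  · exact ⟨by rw [hJ2.symm]; exact h.h12, h.h22⟩

/-- the projection onto `S` along a dual pair -/
theorem proj_mem_Sp {k1 k2 l1 l2 : Fin b → F} (h11 : bf J2 l1 k1 = 1) (h12 : bf J2 l1 k2 = 0)
    (h21 : bf J2 l2 k1 = 0) (h22 : bf J2 l2 k2 = 1) (w : Fin b → F) :
    w - bf J2 w k1 • l1 - bf J2 w k2 • l2 ∈ piPerp J2 k1 k2 := by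
  constructor
  · rw [bf_sub_left, bf_sub_left, bf_smul_left, bf_smul_left, h11, h21]; ring
  · rw [bf_sub_left, bf_sub_left, bf_smul_left, bf_smul_left, h12, h22]; ring

/-- `S^⊥ ≤ π` -/
theorem mem_span_of_perp_Sp (hJ2 : OrthG J2) {k1 k2 : Fin b → F} (h : Ts2 J2 k1 k2) (x : Fin b → F)
    (hx : ∀ w ∈ piPerp J2 k1 k2, bf J2 x w = 0) : x ∈ Submodule.span F ({k1, k2} : Set (Fin b → F)) := by
  obtain ⟨⟨l1, h11, h12⟩, ⟨l2, h21, h22⟩⟩ := Cfsg.Agent.Lib.Helper22.OTRootB.exists_dual_pair hJ2 h.indep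
  have key : x - bf J2 x l1 • k1 - bf J2 x l2 • k2 = 0 := by
    apply hJ2.nondeg
    intro w
    have h1 := hx _ (proj_mem_Sp h11 h12 h21 h22 w)
    rw [bf_sub_right, bf_sub_right, bf_smul_right, bf_smul_right] at h1
    rw [bf_sub_left, bf_sub_left, bf_smul_left, bf_smul_left, hJ2.symm k1 w, hJ2.symm k2 w]
    linear_combination h1
  rw [Submodule.mem_span_pair]
  refine ⟨bf J2 x l1, bf J2 x l2, ?_⟩
  rw [sub_sub] at key
  exact (sub_eq_zero.mp key).symm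

/-- `S ⊄ π` (`b ≥ 5`) -/
theorem exists_mem_Sp_not_mem (hJ2 : OrthG J2) (hb : 5 ≤ b) {k1 k2 : Fin b → F} (h : Ts2 J2 k1 k2) :
    ∃ d ∈ piPerp J2 k1 k2, d ∉ Submodule.span F ({k1, k2} : Set (Fin b → F)) := by
  obtain ⟨⟨l1, h11, h12⟩, ⟨l2, h21, h22⟩⟩ := Cfsg.Agent.Lib.Helper22.OTRootB.exists_dual_pair hJ2 h.indep
  by_contra hcon
  push Not at hcon
  have htop : (⊤ : Submodule F (Fin b → F)) ≤ Submodule.span F (Set.range ![k1, k2, l1, l2]) := by
    intro w _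
    have h1 := hcon _ (proj_mem_Sp h11 h12 h21 h22 w)
    obtain ⟨c1, c2, hc⟩ := Submodule.mem_span_pair.mp h1
    have hw : w = c1 • k1 + c2 • k2 + bf J2 w k1 • l1 + bf J2 w k2 • l2 := by
      rw [hc]; abel
    rw [hw]
    have hk1 : k1 ∈ Submodule.span F (Set.range ![k1, k2, l1, l2]) := Submodule.subset_span ⟨0, rfl⟩
    have hk2 : k2 ∈ Submodule.span F (Set.range ![k1, k2, l1, l2]) := Submodule.subset_span ⟨1, rfl⟩
    have hl1 : l1 ∈ Submodule.span F (Set.range ![k1, k2, l1, l2]) := Submodule.subset_span ⟨2, rfl⟩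
    have hl2 : l2 ∈ Submodule.span F (Set.range ![k1, k2, l1, l2]) := Submodule.subset_span ⟨3, rfl⟩
    exact Submodule.add_mem _ (Submodule.add_mem _ (Submodule.add_mem _ (Submodule.smul_mem _ _ hk1)
      (Submodule.smul_mem _ _ hk2)) (Submodule.smul_mem _ _ hl1)) (Submodule.smul_mem _ _ hl2)
  have h1 := Submodule.finrank_mono htop
  rw [finrank_top, Module.finrank_fintype_fun_eq_card, Fintype.card_fin] at h1
  have h2 := finrank_range_le_card (R := F) ![k1, k2, l1, l2]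
  rw [Fintype.card_fin] at h2
  unfold Set.finrank at h2
  omega

/-- `pt w = U ⊗ ⟨w⟩` -/
theorem pt_eq_tW (w : Fin b → F) : pt (a := a) w = tW (a := a) (Submodule.span F {w}) := by
  apply le_antisymm
  · intro v hv
    obtain ⟨u, rfl⟩ := (mem_pt_iff w v).1 hv
    exact pur_mem_tW u (Submodule.mem_span_singleton_self w)
  · unfold tW
    rw [Submodule.span_le]
    rintro v ⟨u, w', hw', rfl⟩
    obtain ⟨c, rfl⟩ := Submodule.mem_span_singleton.mp hw'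
    rw [pur_smul_right, ← pur_smul_left]
    exact pur_mem_pt _ _

theorem inf_span_of_not_mem {k1 k2 w : Fin b → F} (hind : ∀ c1 c2 : F, c1 • k1 + c2 • k2 = 0 → c1 = 0 ∧ c2 = 0)
    (hw : w ∉ Submodule.span F ({k1, k2} : Set (Fin b → F))) :
    Submodule.span F ({k1, w} : Set (Fin b → F)) ⊓ Submodule.span F ({k2, w} : Set (Fin b → F)) =
      Submodule.span F {w} := by
  apply le_antisymm
  · rintro v ⟨hv1, hv2⟩
    obtain ⟨α, β, rfl⟩ := Submodule.mem_span_pair.mp hv1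
    obtain ⟨γ, δ, hv⟩ := Submodule.mem_span_pair.mp hv2
    have h1 : (β - δ) • w = (-α) • k1 + γ • k2 := by
      rw [sub_smul, neg_smul]
      have : β • w = γ • k2 + δ • w - α • k1 := by rw [hv]; abel
      rw [this]; abel
    have hβδ : β - δ = 0 := by
      by_contra hne
      apply hw
      have : w = (β - δ)⁻¹ • ((-α) • k1 + γ • k2) := by
        rw [← h1, smul_smul, inv_mul_cancel₀ hne, one_smul]
      rw [this]
      apply Submodule.smul_mem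
      exact Submodule.add_mem _ (Submodule.smul_mem _ _ (Submodule.subset_span (by simp)))
        (Submodule.smul_mem _ _ (Submodule.subset_span (by simp)))
    rw [hβδ, zero_smul] at h1
    have h2 := hind (-α) γ h1.symm
    have hα : α = 0 := neg_eq_zero.mp h2.1
    rw [hα, zero_smul, zero_add]
    exact Submodule.smul_mem _ _ (Submodule.mem_span_singleton_self w)
  · rw [Submodule.span_singleton_le_iff_mem]
    exact ⟨Submodule.subset_span (by simp), Submodule.subset_span (by simp)⟩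

theorem inf_span_of_mem {k1 k2 w d : Fin b → F} (hw : w ∈ Submodule.span F ({k1, k2} : Set (Fin b → F)))
    (hd : d ∉ Submodule.span F ({k1, k2} : Set (Fin b → F))) :
    Submodule.span F ({w, d} : Set (Fin b → F)) ⊓ Submodule.span F ({k1, k2} : Set (Fin b → F)) =
      Submodule.span F {w} := by
  apply le_antisymm
  · rintro v ⟨hv1, hv2⟩
    obtain ⟨α, β, rfl⟩ := Submodule.mem_span_pair.mp hv1
    have hβ : β = 0 := by
      by_contra hne
      apply hd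
      have h1 : β • d ∈ Submodule.span F ({k1, k2} : Set (Fin b → F)) := by
        have : β • d = (α • w + β • d) - α • w := by abel
        rw [this]
        exact Submodule.sub_mem _ hv2 (Submodule.smul_mem _ _ hw)
      have : d = β⁻¹ • (β • d) := by rw [smul_smul, inv_mul_cancel₀ hne, one_smul]
      rw [this]
      exact Submodule.smul_mem _ _ h1
    rw [hβ, zero_smul, add_zero]
    exact Submodule.smul_mem _ _ (Submodule.mem_span_singleton_self w)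
  · rw [Submodule.span_singleton_le_iff_mem]
    exact ⟨Submodule.subset_span (by simp), hw⟩

theorem img_inf (g : GL (Fin a × Fin b) F) (P P' : Submodule F (Fin a × Fin b → F)) :
    img g (P ⊓ P') = img g P ⊓ img g P' := by
  unfold img
  exact Submodule.map_inf _ (act g).injective

/-- a subspace `U ⊗ X` of dimension `a` is a point -/
theorem exists_pt_of_finrank (ha : 1 ≤ a) (X : Submodule F (Fin b → F))
    (hX : finrank F (tW (a := a) X) = a) : ∃ w' : Fin b → F, tW (a := a) X = pt (a := a) w' := by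
  rw [finrank_tW] at hX
  have h1 : finrank F X = 1 := by
    have : a * finrank F X = a * 1 := by rw [hX, mul_one]
    exact Nat.eq_of_mul_eq_mul_left (by omega) this
  have hne : X ≠ ⊥ := by
    intro h
    rw [h, finrank_bot] at h1
    exact zero_ne_one h1
  obtain ⟨w', hw'X, hw'⟩ := Submodule.exists_mem_ne_zero_of_ne_bot hne
  refine ⟨w', ?_⟩
  rw [pt_eq_tW]
  congr 1
  symm
  apply Submodule.eq_of_le_of_finrank_eq
  · rw [Submodule.span_singleton_le_iff_mem]; exact hw'X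
  · rw [h1, finrank_span_singleton hw']

/-- `m` permutes the points `U ⊗ w`, `w ∈ S` -/
theorem img_pt_of_hmap (hJ2 : OrthG J2) (ha : 1 ≤ a) (hb : 5 ≤ b) {k1 k2 : Fin b → F} (h : Ts2 J2 k1 k2)
    (m : GL (Fin a × Fin b) F) (hst : img m (Lp (a := a) k1 k2) = Lp (a := a) k1 k2)
    (hmap : ∀ k d : Fin b → F, k ∈ Submodule.span F ({k1, k2} : Set (Fin b → F)) → k ≠ 0 → d ∈ piPerp J2 k1 k2 →
      d ∉ Submodule.span F ({k1, k2} : Set (Fin b → F)) →
      ∃ X' : Submodule F (Fin b → F), img m (tW (a := a) (Submodule.span F {k, d})) = tW (a := a) X')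
    (w : Fin b → F) (hwS : w ∈ piPerp J2 k1 k2) (hw : w ≠ 0) :
    ∃ w' : Fin b → F, img m (pt (a := a) w) = pt (a := a) w' := by
  have hk1 : k1 ≠ 0 := Cfsg.Agent.Lib.Helper18.OTE1A.k1_ne_zero h
  have hk2 : k2 ≠ 0 := by
    intro h0
    have := h.indep 0 1 (by rw [h0]; simp)
    exact one_ne_zero this.2
  have hdim : finrank F (img m (pt (a := a) w)) = a := by
    rw [finrank_img, pt_eq_tW, finrank_tW, finrank_span_singleton hw, mul_one]
  by_cases hwπ : w ∈ Submodule.span F ({k1, k2} : Set (Fin b → F))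
  · obtain ⟨d, hdS, hdπ⟩ := exists_mem_Sp_not_mem hJ2 hb h
    obtain ⟨X, hX⟩ := hmap w d hwπ hw hdS hdπ
    have h1 : img m (pt (a := a) w) = tW (a := a) (X ⊓ Submodule.span F ({k1, k2} : Set (Fin b → F))) := by
      rw [pt_eq_tW, ← inf_span_of_mem hwπ hdπ, ← tW_inf, img_inf, hX, ← tW_inf]
      congr 1
    rw [h1] at hdim ⊢
    exact exists_pt_of_finrank ha _ hdim
  · obtain ⟨X1, hX1⟩ := hmap k1 w (Submodule.subset_span (by simp)) hk1 hwS hwπ
    obtain ⟨X2, hX2⟩ := hmap k2 w (Submodule.subset_span (by simp)) hk2 hwS hwπ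
    have h1 : img m (pt (a := a) w) = tW (a := a) (X1 ⊓ X2) := by
      rw [pt_eq_tW, ← inf_span_of_not_mem h.indep hwπ, ← tW_inf, img_inf, hX1, hX2, tW_inf]
    rw [h1] at hdim ⊢
    exact exists_pt_of_finrank ha _ hdim

/-- the isometry condition on pure tensors -/
theorem iso_pur (m : GL (Fin a × Fin b) F) (hm : m ∈ IsoG (J1 ⊗ₖ J2)) (S : Submodule F (Fin b → F))
    (A : Matrix (Fin a) (Fin a) F) (B0 : Matrix (Fin b) (Fin b) F)
    (hAB : ∀ (u : Fin a → F) (w : Fin b → F), w ∈ S → act m (pur u w) = pur (A *ᵥ u) (B0 *ᵥ w))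
    (u u' : Fin a → F) (w w' : Fin b → F) (hw : w ∈ S) (hw' : w' ∈ S) :
    bf J1 (A *ᵥ u) (A *ᵥ u') * bf J2 (B0 *ᵥ w) (B0 *ᵥ w') = bf J1 u u' * bf J2 w w' := by
  have h1 := (Cfsg.Agent.Lib.Helper13.TensSO.mem_IsoG_iff _ m).1 hm (pur u w) (pur u' w')
  rw [← act_apply, ← act_apply, hAB u w hw, hAB u' w' hw', bf_kron_pur, bf_kron_pur] at h1
  exact h1

/-- `A` and `B0|S` are similitudes with inverse multipliers -/
theorem simil_of_tens (hJ1 : OrthG J1) (hJ2 : OrthG J2) (ha : 1 ≤ a) (hb : 5 ≤ b) {k1 k2 : Fin b → F}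
    (h : Ts2 J2 k1 k2) (m : GL (Fin a × Fin b) F) (hm : m ∈ IsoG (J1 ⊗ₖ J2))
    (A : Matrix (Fin a) (Fin a) F) (B0 : Matrix (Fin b) (Fin b) F)
    (hAB : ∀ (u : Fin a → F) (w : Fin b → F), w ∈ piPerp J2 k1 k2 → act m (pur u w) = pur (A *ᵥ u) (B0 *ᵥ w)) :
    ∃ μ : F, μ ≠ 0 ∧ (∀ u u', bf J1 (A *ᵥ u) (A *ᵥ u') = μ * bf J1 u u') ∧
      ∀ w ∈ piPerp J2 k1 k2, ∀ w' ∈ piPerp J2 k1 k2, bf J2 (B0 *ᵥ w) (B0 *ᵥ w') = μ⁻¹ * bf J2 w w' := by
  obtain ⟨d, hdS, hdπ⟩ := exists_mem_Sp_not_mem hJ2 hb h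
  obtain ⟨w2, hw2S, hw2⟩ : ∃ w2 ∈ piPerp J2 k1 k2, bf J2 d w2 ≠ 0 := by
    by_contra hcon
    push Not at hcon
    exact hdπ (mem_span_of_perp_Sp hJ2 h d hcon)
  obtain ⟨u1, u2, hu⟩ := Cfsg.Agent.Lib.Helper1.OTINV.exists_bf_ne_zero ha hJ1
  have K := iso_pur m hm (piPerp J2 k1 k2) A B0 hAB
  have h0 := K u1 u2 d w2 hdS hw2S
  have hc : bf J2 (B0 *ᵥ d) (B0 *ᵥ w2) ≠ 0 := by
    intro hc
    rw [hc, mul_zero] at h0
    exact mul_ne_zero hu hw2 h0.symm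
  have he : bf J1 (A *ᵥ u1) (A *ᵥ u2) ≠ 0 := by
    intro he
    rw [he, zero_mul] at h0
    exact mul_ne_zero hu hw2 h0.symm
  refine ⟨bf J2 d w2 / bf J2 (B0 *ᵥ d) (B0 *ᵥ w2), div_ne_zero hw2 hc, ?_, ?_⟩
  · intro u u'
    have h1 := K u u' d w2 hdS hw2S
    field_simp
    linear_combination h1
  · intro w hw w' hw'
    have h1 := K u1 u2 w w' hw hw'
    have h2 : bf J1 (A *ᵥ u1) (A *ᵥ u2) * bf J2 (B0 *ᵥ d) (B0 *ᵥ w2) = bf J1 u1 u2 * bf J2 d w2 := h0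
    rw [inv_div]
    field_simp
    have h3 : bf J1 u1 u2 * (bf J2 (B0 *ᵥ w) (B0 *ᵥ w') * bf J2 d w2) =
        bf J1 u1 u2 * (bf J2 (B0 *ᵥ d) (B0 *ᵥ w2) * bf J2 w w') := by
      have e1 : bf J1 u1 u2 * bf J2 d w2 * bf J2 (B0 *ᵥ w) (B0 *ᵥ w') =
          bf J1 u1 u2 * bf J2 w w' * bf J2 (B0 *ᵥ d) (B0 *ᵥ w2) := by
        rw [← h2, ← h1]; ring
      linear_combination e1
    exact mul_left_cancel₀ hu h3

/-- the multiplier of a similitude of an odd-dimensional space is a square -/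
theorem exists_sqrt_of_simil (hao : Odd a) (hJ1 : OrthG J1) (A : Matrix (Fin a) (Fin a) F) (μ : F) (hμ : μ ≠ 0)
    (hA : ∀ u u', bf J1 (A *ᵥ u) (A *ᵥ u') = μ * bf J1 u u') : ∃ c : F, c * c = μ := by
  have hm := Cfsg.Agent.Lib.Helper1.OTINV.simil_matrix J1 A μ hA
  have hdet := congrArg Matrix.det hm
  rw [Matrix.det_mul, Matrix.det_mul, Matrix.det_transpose, Matrix.det_smul, Fintype.card_fin] at hdet
  have hJ := Cfsg.Agent.Lib.Helper1.OTINV.det_ne_zero_of_orthG hJ1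
  have h1 : A.det * A.det = μ ^ a := by
    apply mul_right_cancel₀ hJ
    rw [← hdet]; ring
  obtain ⟨k, hk⟩ := hao
  refine ⟨A.det / μ ^ k, ?_⟩
  have hμk : μ ^ k ≠ 0 := pow_ne_zero _ hμ
  rw [div_mul_div_comm, h1, hk, div_eq_iff (mul_ne_zero hμk hμk)]
  ring

/-- an isometry matrix is invertible -/
theorem det_ne_zero_of_iso (hJ1 : OrthG J1) (A : Matrix (Fin a) (Fin a) F)
    (hA : ∀ u u', bf J1 (A *ᵥ u) (A *ᵥ u') = bf J1 u u') : A.det ≠ 0 := by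
  have hm := Cfsg.Agent.Lib.Helper1.OTINV.simil_matrix J1 A 1 (fun u u' => by rw [hA, one_mul])
  have hdet := congrArg Matrix.det hm
  rw [Matrix.det_mul, Matrix.det_mul, Matrix.det_transpose, one_smul] at hdet
  have hJ := Cfsg.Agent.Lib.Helper1.OTINV.det_ne_zero_of_orthG hJ1
  intro h0
  rw [h0, zero_mul, zero_mul] at hdet
  exact hJ hdet.symm

/-- normalisation to isometries -/
theorem exists_iso_pair (hJ1 : OrthG J1) (hJ2 : OrthG J2) (hao : Odd a) (hb : 5 ≤ b) {k1 k2 : Fin b → F}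
    (h : Ts2 J2 k1 k2) (m : GL (Fin a × Fin b) F) (hm : m ∈ IsoG (J1 ⊗ₖ J2))
    (A : Matrix (Fin a) (Fin a) F) (B0 : Matrix (Fin b) (Fin b) F)
    (hAB : ∀ (u : Fin a → F) (w : Fin b → F), w ∈ piPerp J2 k1 k2 → act m (pur u w) = pur (A *ᵥ u) (B0 *ᵥ w)) :
    ∃ (A' : Matrix (Fin a) (Fin a) F) (B0' : Matrix (Fin b) (Fin b) F),
      (∀ (u : Fin a → F) (w : Fin b → F), w ∈ piPerp J2 k1 k2 → act m (pur u w) = pur (A' *ᵥ u) (B0' *ᵥ w)) ∧
      (∀ u u', bf J1 (A' *ᵥ u) (A' *ᵥ u') = bf J1 u u') ∧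
      ∀ w ∈ piPerp J2 k1 k2, ∀ w' ∈ piPerp J2 k1 k2, bf J2 (B0' *ᵥ w) (B0' *ᵥ w') = bf J2 w w' := by
  have ha : 1 ≤ a := by
    obtain ⟨k, hk⟩ := hao
    omega
  obtain ⟨μ, hμ, hA, hB⟩ := simil_of_tens hJ1 hJ2 ha hb h m hm A B0 hAB
  obtain ⟨c, hc⟩ := exists_sqrt_of_simil hao hJ1 A μ hμ hA
  have hc0 : c ≠ 0 := by
    intro h0
    rw [h0, mul_zero] at hc
    exact hμ hc.symm
  refine ⟨c⁻¹ • A, c • B0, ?_, ?_, ?_⟩
  · intro u w hw
    rw [hAB u w hw, Matrix.smul_mulVec, Matrix.smul_mulVec, pur_smul_left, pur_smul_right, smul_smul,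
      inv_mul_cancel₀ hc0, one_smul]
  · intro u u'
    rw [Matrix.smul_mulVec, Matrix.smul_mulVec, bf_smul_left, bf_smul_right, hA, ← hc]
    field_simp
  · intro w hw w' hw'
    rw [Matrix.smul_mulVec, Matrix.smul_mulVec, bf_smul_left, bf_smul_right, hB w hw w' hw', ← hc]
    field_simp

/-! ### `L^⊥ = U ⊗ π^⊥` -/

theorem ctr_eq_row (k : Fin b → F) (v : Fin a × Fin b → F) (i : Fin a) :
    ctr (J2 *ᵥ k) v i = bf J2 (rowL i v) k := rfl

theorem mem_LpPerp_iff' (hJ1 : OrthG J1) (k1 k2 : Fin b → F) (v : Fin a × Fin b → F) :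
    v ∈ LpPerp (a := a) J2 k1 k2 ↔
      ∀ u : Fin a → F, bf (J1 ⊗ₖ J2) v (pur u k1) = 0 ∧ bf (J1 ⊗ₖ J2) v (pur u k2) = 0 := by
  unfold LpPerp
  rw [mem_tW_iff]
  constructor
  · intro hv u
    have e : ∀ k : Fin b → F, (∀ i, bf J2 (rowL i v) k = 0) → bf (J1 ⊗ₖ J2) v (pur u k) = 0 := by
      intro k hk
      rw [bf_kron_pur_right]
      have : ctr (J2 *ᵥ k) v = 0 := by
        funext i
        rw [ctr_eq_row]
        exact hk i
      rw [this]
      exact Cfsg.Agent.Lib.Helper3.SpT.bf_zero_left _ _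
    exact ⟨e k1 (fun i => (hv i).1), e k2 (fun i => (hv i).2)⟩
  · intro hv i
    have e : ∀ k : Fin b → F, (∀ u, bf (J1 ⊗ₖ J2) v (pur u k) = 0) → bf J2 (rowL i v) k = 0 := by
      intro k hk
      have : ctr (J2 *ᵥ k) v = 0 := by
        apply hJ1.nondeg
        intro u
        rw [← bf_kron_pur_right]
        exact hk u
      rw [← ctr_eq_row, this]
      rfl
    exact ⟨e k1 (fun u => (hv u).1), e k2 (fun u => (hv u).2)⟩

/-- `(U ⊗ π^⊥)^⊥ ≤ U ⊗ π` -/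
theorem mem_Lp_of_perp (hJ1 : OrthG J1) (hJ2 : OrthG J2) {k1 k2 : Fin b → F} (h : Ts2 J2 k1 k2)
    (v : Fin a × Fin b → F)
    (hv : ∀ (u : Fin a → F) (w : Fin b → F), w ∈ piPerp J2 k1 k2 → bf (J1 ⊗ₖ J2) v (pur u w) = 0) :
    v ∈ Lp (a := a) k1 k2 := by
  unfold Lp
  rw [mem_tW_iff]
  intro i
  apply mem_span_of_perp_Sp hJ2 h
  intro w hw
  have : ctr (J2 *ᵥ w) v = 0 := by
    apply hJ1.nondeg
    intro u
    rw [← bf_kron_pur_right]
    exact hv u w hw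
  rw [← ctr_eq_row, this]
  rfl

theorem bf_LpPerp_Lp (hJ1 : OrthG J1) {k1 k2 : Fin b → F} (v y : Fin a × Fin b → F)
    (hv : v ∈ LpPerp (a := a) J2 k1 k2) (hy : y ∈ Lp (a := a) k1 k2) : bf (J1 ⊗ₖ J2) v y = 0 := by
  rw [mem_LpPerp_iff' hJ1] at hv
  unfold Lp tW at hy
  refine Submodule.span_induction (p := fun y _ => bf (J1 ⊗ₖ J2) v y = 0) ?_ ?_ ?_ ?_ hy
  · rintro _ ⟨u, w, hw, rfl⟩
    obtain ⟨c1, c2, rfl⟩ := Submodule.mem_span_pair.mp hw
    rw [pur_add_right, pur_smul_right, pur_smul_right, bf_add_right, bf_smul_right, bf_smul_right, (hv u).1, (hv u).2]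
    ring
  · exact Cfsg.Agent.Lib.Helper3.SpT.bf_zero_right _ _
  · intro x y _ _ hx hy
    rw [bf_add_right, hx, hy, add_zero]
  · intro c x _ hx
    rw [bf_smul_right, hx, mul_zero]

theorem img_LpPerp' (hJ1 : OrthG J1) {k1 k2 : Fin b → F} (m : GL (Fin a × Fin b) F)
    (hm : m ∈ IsoG (J1 ⊗ₖ J2)) (hmL : img m (Lp (a := a) k1 k2) = Lp (a := a) k1 k2) :
    img m (LpPerp (a := a) J2 k1 k2) = LpPerp (a := a) J2 k1 k2 := by
  apply Submodule.eq_of_le_of_finrank_eq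
  · rintro _ ⟨v, hv, rfl⟩
    change act m v ∈ _
    rw [mem_LpPerp_iff' hJ1]
    have key : ∀ y ∈ Lp (a := a) k1 k2, bf (J1 ⊗ₖ J2) (act m v) y = 0 := by
      intro y hy
      rw [← hmL] at hy
      obtain ⟨y', hy', rfl⟩ := hy
      change bf (J1 ⊗ₖ J2) (act m v) (act m y') = 0
      rw [act_apply, act_apply, (Cfsg.Agent.Lib.Helper13.TensSO.mem_IsoG_iff _ m).1 hm]
      exact bf_LpPerp_Lp hJ1 v y' hv hy'
    intro u
    exact ⟨key _ (pur_mem_tW u (Submodule.subset_span (by simp))),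
      key _ (pur_mem_tW u (Submodule.subset_span (by simp)))⟩
  · exact finrank_img m _

/-! ### the extension -/

/-- Witt extension of an isometric embedding of a subspace -/
theorem exists_ext (hJ2 : OrthG J2) (h2 : (2 : F) ≠ 0) (S : Submodule F (Fin b → F)) (B0 : Matrix (Fin b) (Fin b) F)
    (hinj : ∀ w ∈ S, B0 *ᵥ w = 0 → w = 0)
    (hiso : ∀ w ∈ S, ∀ w' ∈ S, bf J2 (B0 *ᵥ w) (B0 *ᵥ w') = bf J2 w w') :
    ∃ Bt : GL (Fin b) F, Bt ∈ IsoG J2 ∧ ∀ w ∈ S, (Bt : Matrix (Fin b) (Fin b) F) *ᵥ w = B0 *ᵥ w := by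
  set f : S →ₗ[F] (Fin b → F) := (Matrix.toLin' B0).domRestrict S with hf
  have hfa : ∀ x : S, f x = B0 *ᵥ (x : Fin b → F) := fun x => by
    rw [hf, LinearMap.domRestrict_apply, Matrix.toLin'_apply]
  have hfinj : Function.Injective f := by
    rw [← LinearMap.ker_eq_bot, LinearMap.ker_eq_bot']
    intro x hx
    rw [hfa] at hx
    exact Subtype.ext (hinj _ x.2 hx)
  set φ : S ≃ₗ[F] LinearMap.range f := LinearEquiv.ofInjective f hfinj with hφ
  have hφa : ∀ x : S, ((φ x : LinearMap.range f) : Fin b → F) = B0 *ᵥ (x : Fin b → F) := fun x => by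
    rw [hφ, LinearEquiv.ofInjective_apply, hfa]
  obtain ⟨g, hg1, hg2⟩ := Cfsg.Agent.S0750.result (QF J2) (Cfsg.Agent.Lib.Helper18.OTTrans.QF_nondeg hJ2 h2) S
    (LinearMap.range f) φ (fun x => by
      rw [QF_apply, QF_apply, hφa]
      exact hiso _ x.2 _ x.2)
  refine ⟨glEquiv.symm g, ?_, ?_⟩
  · rw [Cfsg.Agent.Lib.Helper13.TensSO.mem_IsoG_iff]
    intro x y
    rw [glEquiv_symm_mulVec, glEquiv_symm_mulVec]
    exact Cfsg.Agent.Lib.Helper18.OTTrans.bf_isoGroup hJ2 h2 ⟨g, hg1⟩ x y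
  · intro w hw
    rw [glEquiv_symm_mulVec]
    have := hg2 ⟨w, hw⟩
    rw [hφa] at this
    exact this

/-- assembly: from an isometric pair `(A', B0')` to `l` -/
theorem exists_l_of_iso_pair (hJ1 : OrthG J1) (hJ2 : OrthG J2) (h2 : (2 : F) ≠ 0) (ha : 1 ≤ a) {k1 k2 : Fin b → F}
    (h : Ts2 J2 k1 k2) (m : GL (Fin a × Fin b) F) (hm : m ∈ IsoG (J1 ⊗ₖ J2))
    (hmL : img m (Lp (a := a) k1 k2) = Lp (a := a) k1 k2)
    (A' : Matrix (Fin a) (Fin a) F) (B0' : Matrix (Fin b) (Fin b) F)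
    (hAB : ∀ (u : Fin a → F) (w : Fin b → F), w ∈ piPerp J2 k1 k2 → act m (pur u w) = pur (A' *ᵥ u) (B0' *ᵥ w))
    (hA : ∀ u u', bf J1 (A' *ᵥ u) (A' *ᵥ u') = bf J1 u u')
    (hB : ∀ w ∈ piPerp J2 k1 k2, ∀ w' ∈ piPerp J2 k1 k2, bf J2 (B0' *ᵥ w) (B0' *ᵥ w') = bf J2 w w') :
    ∃ l : GL (Fin a × Fin b) F, l ∈ Cfsg.Geo.kroneckerSubgroup a b F ∧ l ∈ IsoG (J1 ⊗ₖ J2) ∧
      InZ J2 k1 k2 (m * l⁻¹) := by
  set e0 : Fin a → F := Pi.single ⟨0, ha⟩ 1 with he0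
  have he0ne : e0 ≠ 0 := by
    intro h0
    have := congrFun h0 ⟨0, ha⟩
    simp [he0] at this
  have hinj : ∀ w ∈ piPerp J2 k1 k2, B0' *ᵥ w = 0 → w = 0 := by
    intro w hw h0
    have h1 := hAB e0 w hw
    rw [h0, pur_zero_right] at h1
    have h3 : pur e0 w = 0 := (act m).injective (by rw [h1, map_zero])
    rcases pur_eq_zero h3 with h4 | h4
    · exact absurd h4 he0ne
    · exact h4
  obtain ⟨Bt, hBt, hBtS⟩ := exists_ext hJ2 h2 (piPerp J2 k1 k2) B0' hinj hB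
  have hdet : A'.det ≠ 0 := det_ne_zero_of_iso hJ1 A' hA
  set AG : GL (Fin a) F := Matrix.GeneralLinearGroup.mkOfDetNeZero A' hdet with hAG
  have hAGv : (AG : Matrix (Fin a) (Fin a) F) = A' := rfl
  set l : GL (Fin a × Fin b) F := kronGL AG Bt with hl
  have hlI : l ∈ IsoG (J1 ⊗ₖ J2) := by
    rw [Cfsg.Agent.Lib.Helper13.TensSO.mem_IsoG_iff, hl, kronGL_val, hAGv]
    apply Cfsg.Agent.Lib.Helper18.OTE1A.iso_of_pur
    intro u w u' w'
    rw [kron_mulVec_pur, kron_mulVec_pur, bf_kron_pur, bf_kron_pur, hA,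
      (Cfsg.Agent.Lib.Helper13.TensSO.mem_IsoG_iff _ Bt).1 hBt]
  have hlm : ∀ v ∈ LpPerp (a := a) J2 k1 k2, act m v = act l v := by
    intro v hv
    unfold LpPerp tW at hv
    refine Submodule.span_induction (p := fun v _ => act m v = act l v) ?_ ?_ ?_ ?_ hv
    · rintro _ ⟨u, w, hw, rfl⟩
      rw [hAB u w hw, act_apply l, hl, kronGL_val, hAGv, kron_mulVec_pur, hBtS w hw]
    · rw [map_zero, map_zero]
    · intro x y _ _ hx hy
      rw [map_add, map_add, hx, hy]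
    · intro c x _ hx
      rw [map_smul, map_smul, hx]
  have hgI : m * l⁻¹ ∈ IsoG (J1 ⊗ₖ J2) := Subgroup.mul_mem _ hm (Subgroup.inv_mem _ hlI)
  have hfix : ∀ v ∈ LpPerp (a := a) J2 k1 k2, act (m * l⁻¹) v = v := by
    intro v hv
    rw [← img_LpPerp' hJ1 m hm hmL] at hv
    obtain ⟨v', hv', rfl⟩ := hv
    change act (m * l⁻¹) (act m v') = act m v'
    rw [hlm v' hv', act_mul, act_inv_act, hlm v' hv']
  refine ⟨l, kronGL_mem_kron _ _, hlI, ⟨?_, hfix⟩⟩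
  intro v
  apply mem_Lp_of_perp hJ1 hJ2 h
  intro u w hw
  have hpw : pur u w ∈ LpPerp (a := a) J2 k1 k2 := pur_mem_tW u hw
  rw [bf_sub_left]
  have h1 := (Cfsg.Agent.Lib.Helper13.TensSO.mem_IsoG_iff _ (m * l⁻¹)).1 hgI v (pur u w)
  rw [← act_apply, ← act_apply, hfix _ hpw] at h1
  rw [h1, sub_self]

/-! ### the hypothesis in the `Rg (SgN k d)` form -/

theorem Rg_SgN (hJ2 : OrthG J2) {k d : Fin b → F}
    (hind : ∀ c1 c2 : F, c1 • k + c2 • d = 0 → c1 = 0 ∧ c2 = 0) :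
    Rg (SgN J2 k d) = Submodule.span F ({k, d} : Set (Fin b → F)) := by
  have hk : k ∈ Submodule.span F ({k, d} : Set (Fin b → F)) := Submodule.subset_span (by simp)
  have hd : d ∈ Submodule.span F ({k, d} : Set (Fin b → F)) := Submodule.subset_span (by simp)
  apply le_antisymm
  · intro v hv
    obtain ⟨x, rfl⟩ := (mem_Rg_iff _ v).1 hv
    rw [SgN_mulVec]
    exact Submodule.sub_mem _ (Submodule.sub_mem _ (Submodule.smul_mem _ _ hk) (Submodule.smul_mem _ _ hd))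
      (Submodule.smul_mem _ _ hk)
  · obtain ⟨⟨w1, h11, h12⟩, ⟨w2, h21, h22⟩⟩ := Cfsg.Agent.Lib.Helper22.OTRootB.exists_dual_pair hJ2 hind
    have hkR : k ∈ Rg (SgN J2 k d) := by
      rw [mem_Rg_iff]
      refine ⟨w2, ?_⟩
      rw [SgN_mulVec, h21, h22]
      simp
    have hdR : d ∈ Rg (SgN J2 k d) := by
      have h1 : SgN J2 k d *ᵥ w1 ∈ Rg (SgN J2 k d) := (mem_Rg_iff _ _).2 ⟨w1, rfl⟩
      rw [SgN_mulVec, h11, h12] at h1
      have h3 : -((0 : F) • k - (1 : F) • d - (bf J2 d d / 2 * 1) • k) - (bf J2 d d / 2 * 1) • k ∈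
          Rg (SgN J2 k d) :=
        Submodule.sub_mem _ (Submodule.neg_mem _ h1) (Submodule.smul_mem _ _ hkR)
      have h2 : -((0 : F) • k - (1 : F) • d - (bf J2 d d / 2 * 1) • k) - (bf J2 d d / 2 * 1) • k = d := by
        rw [zero_smul, one_smul]; abel
      rw [h2] at h3
      exact h3
    rw [Submodule.span_le]
    rintro x (rfl | rfl)
    · exact hkR
    · exact hdR

theorem hmap_of_hX {k1 k2 : Fin b → F} (hJ2 : OrthG J2) (m : GL (Fin a × Fin b) F)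
    (hX : ∀ k d : Fin b → F, k ∈ Submodule.span F ({k1, k2} : Set (Fin b → F)) → d ∈ piPerp J2 k1 k2 →
      ∃ X' : Submodule F (Fin b → F), img m (tW (a := a) (Rg (SgN J2 k d))) = tW (a := a) X') :
    ∀ k d : Fin b → F, k ∈ Submodule.span F ({k1, k2} : Set (Fin b → F)) → k ≠ 0 → d ∈ piPerp J2 k1 k2 →
      d ∉ Submodule.span F ({k1, k2} : Set (Fin b → F)) →
      ∃ X' : Submodule F (Fin b → F), img m (tW (a := a) (Submodule.span F {k, d})) = tW (a := a) X' := by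
  intro k d hk hk0 hd hdπ
  have hind : ∀ c1 c2 : F, c1 • k + c2 • d = 0 → c1 = 0 ∧ c2 = 0 := by
    intro c1 c2 hc
    have hc2 : c2 = 0 := by
      by_contra hne
      apply hdπ
      have h1 : c2 • d = -(c1 • k) := eq_neg_of_add_eq_zero_right hc
      have h2 : d = c2⁻¹ • (c2 • d) := by rw [smul_smul, inv_mul_cancel₀ hne, one_smul]
      rw [h2, h1]
      exact Submodule.smul_mem _ _ (Submodule.neg_mem _ (Submodule.smul_mem _ _ hk))
    refine ⟨?_, hc2⟩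
    rw [hc2, zero_smul, add_zero] at hc
    rcases smul_eq_zero.mp hc with h | h
    · exact h
    · exact absurd h hk0
  obtain ⟨X', hX'⟩ := hX k d hk hd
  rw [Rg_SgN hJ2 hind] at hX'
  exact ⟨X', hX'⟩

/-- the Kronecker form on `L^⊥` (T2b-1 of `notes/S5681Exit_helper28.lean.txt`) -/
theorem t2b1 (hS : SetupO J1 J2 Q) (ha : 1 ≤ a) (hb : 5 ≤ b) {k1 k2 : Fin b → F} (h : Ts2 J2 k1 k2)
    (m : GL (Fin a × Fin b) F)
    (hm : m ∈ IsoG (J1 ⊗ₖ J2)) (hmL : img m (Lp (a := a) k1 k2) = Lp (a := a) k1 k2)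
    (hX : ∀ k d : Fin b → F, k ∈ Submodule.span F {k1, k2} → d ∈ piPerp J2 k1 k2 →
      ∃ X' : Submodule F (Fin b → F), img m (tW (a := a) (Rg (SgN J2 k d))) = tW (a := a) X') :
    ∃ (A : Matrix (Fin a) (Fin a) F) (B' : Matrix (Fin b) (Fin b) F), ∀ (u : Fin a → F) (w : Fin b → F),
      w ∈ piPerp J2 k1 k2 → act m (pur u w) = pur (A *ᵥ u) (B' *ᵥ w) := by
  apply rel_tens ha m (piPerp J2 k1 k2)
  intro w hwS hw
  obtain ⟨w', hw'⟩ := img_pt_of_hmap hS.h2 ha hb h m hmL (hmap_of_hX hS.h2 m hX) w hwS hw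
  refine ⟨w', fun u => ?_⟩
  have h1 : act m (pur u w) ∈ img m (pt (a := a) w) := ⟨pur u w, pur_mem_pt u w, rfl⟩
  rw [hw'] at h1
  obtain ⟨u', hu'⟩ := (mem_pt_iff w' _).1 h1
  exact ⟨u', hu'.symm⟩

/-- **T2b** for `a` odd -/
theorem t2b_odd (hS : SetupO J1 J2 Q) (hao : Odd a) (hb : 5 ≤ b) {k1 k2 : Fin b → F} (h : Ts2 J2 k1 k2)
    (m : GL (Fin a × Fin b) F)
    (hm : m ∈ IsoG (J1 ⊗ₖ J2)) (hmL : img m (Lp (a := a) k1 k2) = Lp (a := a) k1 k2)
    (hX : ∀ k d : Fin b → F, k ∈ Submodule.span F {k1, k2} → d ∈ piPerp J2 k1 k2 →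
      ∃ X' : Submodule F (Fin b → F), img m (tW (a := a) (Rg (SgN J2 k d))) = tW (a := a) X') :
    ∃ l : GL (Fin a × Fin b) F, l ∈ Cfsg.Geo.kroneckerSubgroup a b F ∧ l ∈ IsoG (J1 ⊗ₖ J2) ∧
      InZ J2 k1 k2 (m * l⁻¹) := by
  have ha : 1 ≤ a := by
    obtain ⟨k, hk⟩ := hao
    omega
  obtain ⟨A, B', hAB⟩ := t2b1 hS ha hb h m hm hmL hX
  obtain ⟨A', B0', hAB', hA', hB'⟩ := exists_iso_pair hS.h1 hS.h2 hao hb h m hm A B' hAB
  exact exists_l_of_iso_pair hS.h1 hS.h2 hS.two ha h m hm hmL A' B0' hAB' hA' hB'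

end Cfsg.Agent.Lib.Helper18.OTT2b
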