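import Mathlib
import Cfsg.Agent.Lib.Helper18.OTT2b
import Cfsg.Agent.Lib.Helper16.OTRootC

/-!
# S5681 / S5709 EXIT, piece T2b for `b` odd (helper18), and `t2b` under `Odd a ∨ Odd b`

For `b` odd the multiplier `ν` of the similitude `B0|π^⊥` is a square: with a hyperbolic frame `k₁,k₂,l₁,l₂` the matrix
`D = ν (E_{k₁,l₁} + E_{k₂,l₂}) + E_{l₁,k₁} + E_{l₂,k₂} + P0 B0 P0` (`P0` the projection onto `⟨k,l⟩^⊥`) is a `ν`-similitude of `W`,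
so `det D ^ 2 = ν ^ b`.
-/

set_option autoImplicit false
set_option linter.unusedSectionVars false
set_option linter.unusedVariables false

namespace Cfsg.Agent.Lib.Helper18.OTT2bB

open Matrix Module
open Cfsg.Agent.Lib.Helper16.Tens Cfsg.Agent.Lib.Helper10.TensFund
open Cfsg.Agent.Lib.Helper3.SpT (bf E adj uni Over bf_add_left bf_add_right bf_smul_left bf_smul_right bf_sub_left
  bf_sub_right bf_kron_pur bf_kron_pur_right E_mulVec)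
open Cfsg.Agent.Lib.Helper13.TensSO (OrthG IsoG)
open Cfsg.Agent.Lib.Helper28.OT Cfsg.Agent.Lib.Helper28.OTX
open Cfsg.Agent.Lib.Helper8.OTRootA (rowL rowL_pur mem_tW_iff finrank_tW tW_inf)
open Cfsg.Agent.Lib.Helper18.OTT2b
open scoped Kronecker

variable {F : Type*} [Field F] [Fintype F] {a b : ℕ}
variable {J1 : Matrix (Fin a) (Fin a) F} {J2 : Matrix (Fin b) (Fin b) F}
variable {Q : QuadraticForm F (Fin a × Fin b → F)}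

/-- a hyperbolic frame -/
structure Frame (J2 : Matrix (Fin b) (Fin b) F) (k1 k2 l1 l2 : Fin b → F) : Prop where
  k11 : bf J2 k1 k1 = 0
  k12 : bf J2 k1 k2 = 0
  k21 : bf J2 k2 k1 = 0
  k22 : bf J2 k2 k2 = 0
  l11 : bf J2 l1 l1 = 0
  l12 : bf J2 l1 l2 = 0
  l21 : bf J2 l2 l1 = 0
  l22 : bf J2 l2 l2 = 0
  k1l1 : bf J2 k1 l1 = 1
  k1l2 : bf J2 k1 l2 = 0
  k2l1 : bf J2 k2 l1 = 0
  k2l2 : bf J2 k2 l2 = 1
  l1k1 : bf J2 l1 k1 = 1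
  l2k1 : bf J2 l2 k1 = 0
  l1k2 : bf J2 l1 k2 = 0
  l2k2 : bf J2 l2 k2 = 1

theorem exists_frame (hJ2 : OrthG J2) (h2 : (2 : F) ≠ 0) {k1 k2 : Fin b → F} (h : Ts2 J2 k1 k2) :
    ∃ l1 l2 : Fin b → F, Frame J2 k1 k2 l1 l2 := by
  have h21 : bf J2 k2 k1 = 0 := by rw [hJ2.symm, h.h12]
  obtain ⟨l2, a1, a2, a3⟩ := Cfsg.Agent.Lib.Helper16.OTRootC.exists_partner hJ2 h2 h
  have h' : Ts2 J2 k2 k1 := ⟨fun c1 c2 hc => by
    have := h.indep c2 c1 (by rw [add_comm]; exact hc)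
    exact ⟨this.2, this.1⟩, h.h22, h21, h.h11⟩
  obtain ⟨l1', b1, b2, b3⟩ := Cfsg.Agent.Lib.Helper16.OTRootC.exists_partner hJ2 h2 h'
  have c1 : bf J2 l1' k2 = 0 := by rw [hJ2.symm, b1]
  have c2 : bf J2 l1' k1 = 1 := by rw [hJ2.symm, b2]
  have c3 : bf J2 l2 k1 = 0 := by rw [hJ2.symm, a1]
  have c4 : bf J2 l2 k2 = 1 := by rw [hJ2.symm, a2]
  have c5 : bf J2 l2 l1' = bf J2 l1' l2 := hJ2.symm _ _
  refine ⟨l1' - bf J2 l1' l2 • k2, l2, ?_⟩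
  constructor
  · exact h.h11
  · exact h.h12
  · exact h21
  · exact h.h22
  · simp only [bf_sub_left, bf_sub_right, bf_smul_left, bf_smul_right, b3, b1, c1, h.h22]; ring
  · simp only [bf_sub_left, bf_smul_left, a2]; ring
  · simp only [bf_sub_right, bf_smul_right, c4, c5]; ring
  · exact a3
  · simp only [bf_sub_right, bf_smul_right, b2, h.h12]; ring
  · exact a1
  · simp only [bf_sub_right, bf_smul_right, b1, h.h22]; ring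
  · exact a2
  · simp only [bf_sub_left, bf_smul_left, c2, h21]; ring
  · exact c3
  · simp only [bf_sub_left, bf_smul_left, c1, h.h22]; ring
  · exact c4

/-- the projection onto `⟨k₁,k₂,l₁,l₂⟩^⊥` -/
def P0 (J2 : Matrix (Fin b) (Fin b) F) (k1 k2 l1 l2 x : Fin b → F) : Fin b → F :=
  x - bf J2 x l1 • k1 - bf J2 x l2 • k2 - bf J2 x k1 • l1 - bf J2 x k2 • l2

def P0m (J2 : Matrix (Fin b) (Fin b) F) (k1 k2 l1 l2 : Fin b → F) : Matrix (Fin b) (Fin b) F :=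
  1 - E J2 k1 l1 - E J2 k2 l2 - E J2 l1 k1 - E J2 l2 k2

theorem P0m_mulVec (k1 k2 l1 l2 x : Fin b → F) : P0m J2 k1 k2 l1 l2 *ᵥ x = P0 J2 k1 k2 l1 l2 x := by
  unfold P0m P0
  rw [Matrix.sub_mulVec, Matrix.sub_mulVec, Matrix.sub_mulVec, Matrix.sub_mulVec, Matrix.one_mulVec, E_mulVec, E_mulVec,
    E_mulVec, E_mulVec]

section frame
variable {k1 k2 l1 l2 : Fin b → F}

theorem P0_k1 (hf : Frame J2 k1 k2 l1 l2) (x : Fin b → F) : bf J2 (P0 J2 k1 k2 l1 l2 x) k1 = 0 := by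
  unfold P0
  simp only [bf_sub_left, bf_smul_left, hf.k11, hf.k21, hf.l1k1, hf.l2k1]; ring

theorem P0_k2 (hf : Frame J2 k1 k2 l1 l2) (x : Fin b → F) : bf J2 (P0 J2 k1 k2 l1 l2 x) k2 = 0 := by
  unfold P0
  simp only [bf_sub_left, bf_smul_left, hf.k12, hf.k22, hf.l1k2, hf.l2k2]; ring

theorem P0_l1 (hf : Frame J2 k1 k2 l1 l2) (x : Fin b → F) : bf J2 (P0 J2 k1 k2 l1 l2 x) l1 = 0 := by
  unfold P0
  simp only [bf_sub_left, bf_smul_left, hf.k1l1, hf.k2l1, hf.l11, hf.l21]; ring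

theorem P0_l2 (hf : Frame J2 k1 k2 l1 l2) (x : Fin b → F) : bf J2 (P0 J2 k1 k2 l1 l2 x) l2 = 0 := by
  unfold P0
  simp only [bf_sub_left, bf_smul_left, hf.k1l2, hf.k2l2, hf.l12, hf.l22]; ring

theorem P0_mem (hf : Frame J2 k1 k2 l1 l2) (x : Fin b → F) : P0 J2 k1 k2 l1 l2 x ∈ piPerp J2 k1 k2 :=
  ⟨P0_k1 hf x, P0_k2 hf x⟩

theorem bf_P0_right (hf : Frame J2 k1 k2 l1 l2) (v y : Fin b → F) (h1 : bf J2 v k1 = 0) (h2 : bf J2 v k2 = 0)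
    (h3 : bf J2 v l1 = 0) (h4 : bf J2 v l2 = 0) : bf J2 v (P0 J2 k1 k2 l1 l2 y) = bf J2 v y := by
  unfold P0
  simp only [bf_sub_right, bf_smul_right, h1, h2, h3, h4]
  ring

/-- the decomposition of the form along the frame -/
theorem bf_decomp (hJ2 : OrthG J2) (hf : Frame J2 k1 k2 l1 l2) (x y : Fin b → F) :
    bf J2 x y = bf J2 x l1 * bf J2 y k1 + bf J2 x l2 * bf J2 y k2 + bf J2 x k1 * bf J2 y l1 + bf J2 x k2 * bf J2 y l2 +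
      bf J2 (P0 J2 k1 k2 l1 l2 x) (P0 J2 k1 k2 l1 l2 y) := by
  rw [bf_P0_right hf _ y (P0_k1 hf x) (P0_k2 hf x) (P0_l1 hf x) (P0_l2 hf x)]
  unfold P0
  simp only [bf_sub_left, bf_smul_left, hJ2.symm k1 y, hJ2.symm k2 y, hJ2.symm l1 y, hJ2.symm l2 y]
  ring

/-- the `ν`-similitude `D` of `W` -/
def Dm (J2 : Matrix (Fin b) (Fin b) F) (k1 k2 l1 l2 : Fin b → F) (ν : F) (B0 : Matrix (Fin b) (Fin b) F) :
    Matrix (Fin b) (Fin b) F :=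
  ν • (E J2 k1 l1 + E J2 k2 l2) + (E J2 l1 k1 + E J2 l2 k2) + P0m J2 k1 k2 l1 l2 * B0 * P0m J2 k1 k2 l1 l2

theorem Dm_mulVec (ν : F) (B0 : Matrix (Fin b) (Fin b) F) (w : Fin b → F) :
    Dm J2 k1 k2 l1 l2 ν B0 *ᵥ w = ν • (bf J2 w l1 • k1 + bf J2 w l2 • k2) + (bf J2 w k1 • l1 + bf J2 w k2 • l2) +
      P0 J2 k1 k2 l1 l2 (B0 *ᵥ (P0 J2 k1 k2 l1 l2 w)) := by
  unfold Dm
  rw [Matrix.add_mulVec, Matrix.add_mulVec, Matrix.smul_mulVec, Matrix.add_mulVec, Matrix.add_mulVec, E_mulVec, E_mulVec,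
    E_mulVec, E_mulVec, ← Matrix.mulVec_mulVec, ← Matrix.mulVec_mulVec, P0m_mulVec, P0m_mulVec]

theorem Dm_simil (hJ2 : OrthG J2) (hf : Frame J2 k1 k2 l1 l2) (ν : F) (B0 : Matrix (Fin b) (Fin b) F)
    (hB0S : ∀ w ∈ piPerp J2 k1 k2, B0 *ᵥ w ∈ piPerp J2 k1 k2)
    (hB : ∀ w ∈ piPerp J2 k1 k2, ∀ w' ∈ piPerp J2 k1 k2, bf J2 (B0 *ᵥ w) (B0 *ᵥ w') = ν * bf J2 w w')
    (w w' : Fin b → F) :
    bf J2 (Dm J2 k1 k2 l1 l2 ν B0 *ᵥ w) (Dm J2 k1 k2 l1 l2 ν B0 *ᵥ w') = ν * bf J2 w w' := by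
  rw [Dm_mulVec, Dm_mulVec]
  set y := B0 *ᵥ (P0 J2 k1 k2 l1 l2 w) with hy
  set y' := B0 *ᵥ (P0 J2 k1 k2 l1 l2 w') with hy'
  have hyS : y ∈ piPerp J2 k1 k2 := hB0S _ (P0_mem hf w)
  have hy'S : y' ∈ piPerp J2 k1 k2 := hB0S _ (P0_mem hf w')
  have hzz : bf J2 (P0 J2 k1 k2 l1 l2 y) (P0 J2 k1 k2 l1 l2 y') =
      ν * bf J2 (P0 J2 k1 k2 l1 l2 w) (P0 J2 k1 k2 l1 l2 w') := by
    have h1 := bf_decomp hJ2 hf y y'
    rw [hyS.1, hyS.2, hy'S.1, hy'S.2] at h1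
    have h2 : bf J2 y y' = bf J2 (P0 J2 k1 k2 l1 l2 y) (P0 J2 k1 k2 l1 l2 y') := by
      rw [h1]; ring
    rw [← h2, hy, hy', hB _ (P0_mem hf w) _ (P0_mem hf w')]
  have hd := bf_decomp hJ2 hf w w'
  set z := P0 J2 k1 k2 l1 l2 y with hz
  set z' := P0 J2 k1 k2 l1 l2 y' with hz'
  have t1 : bf J2 z k1 = 0 := P0_k1 hf y
  have t2 : bf J2 z k2 = 0 := P0_k2 hf y
  have t3 : bf J2 z l1 = 0 := P0_l1 hf y
  have t4 : bf J2 z l2 = 0 := P0_l2 hf y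
  have s1 : bf J2 k1 z' = 0 := by rw [hJ2.symm]; exact P0_k1 hf y'
  have s2 : bf J2 k2 z' = 0 := by rw [hJ2.symm]; exact P0_k2 hf y'
  have s3 : bf J2 l1 z' = 0 := by rw [hJ2.symm]; exact P0_l1 hf y'
  have s4 : bf J2 l2 z' = 0 := by rw [hJ2.symm]; exact P0_l2 hf y'
  simp only [bf_add_left, bf_add_right, bf_smul_left, bf_smul_right, hf.k11, hf.k12, hf.k21, hf.k22, hf.l11, hf.l12,
    hf.l21, hf.l22, hf.k1l1, hf.k1l2, hf.k2l1, hf.k2l2, hf.l1k1, hf.l2k1, hf.l1k2, hf.l2k2,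
    t1, t2, t3, t4, s1, s2, s3, s4]
  rw [hzz, hd]
  ring

end frame

/-- for `b` odd the multiplier of a similitude of `π^⊥` is a square -/
theorem exists_sqrt_b (hJ2 : OrthG J2) (h2 : (2 : F) ≠ 0) (hbo : Odd b) {k1 k2 : Fin b → F} (h : Ts2 J2 k1 k2)
    (ν : F) (hν : ν ≠ 0) (B0 : Matrix (Fin b) (Fin b) F)
    (hB0S : ∀ w ∈ piPerp J2 k1 k2, B0 *ᵥ w ∈ piPerp J2 k1 k2)
    (hB : ∀ w ∈ piPerp J2 k1 k2, ∀ w' ∈ piPerp J2 k1 k2, bf J2 (B0 *ᵥ w) (B0 *ᵥ w') = ν * bf J2 w w') :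
    ∃ c : F, c * c = ν := by
  obtain ⟨l1, l2, hf⟩ := exists_frame hJ2 h2 h
  exact exists_sqrt_of_simil hbo hJ2 (Dm J2 k1 k2 l1 l2 ν B0) ν hν (Dm_simil hJ2 hf ν B0 hB0S hB)

/-- `B0` maps `π^⊥` into itself -/
theorem B0_mem (hJ1 : OrthG J1) (ha : 1 ≤ a) {k1 k2 : Fin b → F} (m : GL (Fin a × Fin b) F)
    (hm : m ∈ IsoG (J1 ⊗ₖ J2)) (hmL : img m (Lp (a := a) k1 k2) = Lp (a := a) k1 k2)
    (A : Matrix (Fin a) (Fin a) F) (B0 : Matrix (Fin b) (Fin b) F) (μ : F) (hμ : μ ≠ 0)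
    (hA : ∀ u u', bf J1 (A *ᵥ u) (A *ᵥ u') = μ * bf J1 u u')
    (hAB : ∀ (u : Fin a → F) (w : Fin b → F), w ∈ piPerp J2 k1 k2 → act m (pur u w) = pur (A *ᵥ u) (B0 *ᵥ w)) :
    ∀ w ∈ piPerp J2 k1 k2, B0 *ᵥ w ∈ piPerp J2 k1 k2 := by
  intro w hw
  set e0 : Fin a → F := Pi.single ⟨0, ha⟩ 1 with he0
  have he0ne : e0 ≠ 0 := by
    intro h0
    have := congrFun h0 ⟨0, ha⟩
    simp [he0] at this
  have hAe0 : A *ᵥ e0 ≠ 0 := by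
    intro h0
    apply he0ne
    apply hJ1.nondeg
    intro u'
    have := hA e0 u'
    rw [h0, Cfsg.Agent.Lib.Helper3.SpT.bf_zero_left] at this
    exact (mul_eq_zero.mp this.symm).resolve_left hμ
  obtain ⟨i, hi⟩ : ∃ i, (A *ᵥ e0) i ≠ 0 := by
    by_contra hall
    push Not at hall
    exact hAe0 (funext hall)
  have h1 : act m (pur e0 w) ∈ img m (LpPerp (a := a) J2 k1 k2) := ⟨pur e0 w, pur_mem_tW e0 hw, rfl⟩
  rw [img_LpPerp' hJ1 m hm hmL, hAB e0 w hw] at h1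
  unfold LpPerp at h1
  rw [mem_tW_iff] at h1
  have h2 := h1 i
  rw [rowL_pur] at h2
  exact ((piPerp J2 k1 k2).smul_mem_iff hi).mp h2

/-- normalisation to isometries, `b` odd -/
theorem exists_iso_pair_b (hJ1 : OrthG J1) (hJ2 : OrthG J2) (h2 : (2 : F) ≠ 0) (ha : 1 ≤ a) (hbo : Odd b) (hb : 5 ≤ b)
    {k1 k2 : Fin b → F} (h : Ts2 J2 k1 k2) (m : GL (Fin a × Fin b) F) (hm : m ∈ IsoG (J1 ⊗ₖ J2))
    (hmL : img m (Lp (a := a) k1 k2) = Lp (a := a) k1 k2)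
    (A : Matrix (Fin a) (Fin a) F) (B0 : Matrix (Fin b) (Fin b) F)
    (hAB : ∀ (u : Fin a → F) (w : Fin b → F), w ∈ piPerp J2 k1 k2 → act m (pur u w) = pur (A *ᵥ u) (B0 *ᵥ w)) :
    ∃ (A' : Matrix (Fin a) (Fin a) F) (B0' : Matrix (Fin b) (Fin b) F),
      (∀ (u : Fin a → F) (w : Fin b → F), w ∈ piPerp J2 k1 k2 → act m (pur u w) = pur (A' *ᵥ u) (B0' *ᵥ w)) ∧
      (∀ u u', bf J1 (A' *ᵥ u) (A' *ᵥ u') = bf J1 u u') ∧
      ∀ w ∈ piPerp J2 k1 k2, ∀ w' ∈ piPerp J2 k1 k2, bf J2 (B0' *ᵥ w) (B0' *ᵥ w') = bf J2 w w' := by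
  obtain ⟨μ, hμ, hA, hB⟩ := simil_of_tens hJ1 hJ2 ha hb h m hm A B0 hAB
  have hB0S := B0_mem hJ1 ha m hm hmL A B0 μ hμ hA hAB
  obtain ⟨c, hc⟩ := exists_sqrt_b hJ2 h2 hbo h μ⁻¹ (inv_ne_zero hμ) B0 hB0S hB
  have hc0 : c ≠ 0 := by
    intro h0
    rw [h0, mul_zero] at hc
    exact inv_ne_zero hμ hc.symm
  have hcμ : c * c * μ = 1 := by rw [hc, inv_mul_cancel₀ hμ]
  refine ⟨c • A, c⁻¹ • B0, ?_, ?_, ?_⟩
  · intro u w hw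
    rw [hAB u w hw, Matrix.smul_mulVec, Matrix.smul_mulVec, pur_smul_left, pur_smul_right, smul_smul,
      mul_inv_cancel₀ hc0, one_smul]
  · intro u u'
    rw [Matrix.smul_mulVec, Matrix.smul_mulVec, bf_smul_left, bf_smul_right, hA]
    linear_combination (bf J1 u u') * hcμ
  · intro w hw w' hw'
    rw [Matrix.smul_mulVec, Matrix.smul_mulVec, bf_smul_left, bf_smul_right, hB w hw w' hw', ← hc]
    field_simp

/-- **T2b** (`notes/S5681Exit_helper28.lean.txt`) under the parity hypothesis -/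
theorem t2b (hS : SetupO J1 J2 Q) (hpar : Odd a ∨ Odd b) (ha : 1 ≤ a) (hb : 5 ≤ b) {k1 k2 : Fin b → F}
    (h : Ts2 J2 k1 k2) (m : GL (Fin a × Fin b) F)
    (hm : m ∈ IsoG (J1 ⊗ₖ J2)) (hmL : img m (Lp (a := a) k1 k2) = Lp (a := a) k1 k2)
    (hX : ∀ k d : Fin b → F, k ∈ Submodule.span F {k1, k2} → d ∈ piPerp J2 k1 k2 →
      ∃ X' : Submodule F (Fin b → F), img m (tW (a := a) (Rg (SgN J2 k d))) = tW (a := a) X') :
    ∃ l : GL (Fin a × Fin b) F, l ∈ Cfsg.Geo.kroneckerSubgroup a b F ∧ l ∈ IsoG (J1 ⊗ₖ J2) ∧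
      InZ J2 k1 k2 (m * l⁻¹) := by
  rcases hpar with hao | hbo
  · exact t2b_odd hS hao hb h m hm hmL hX
  · obtain ⟨A, B', hAB⟩ := t2b1 hS ha hb h m hm hmL hX
    obtain ⟨A', B0', hAB', hA', hB'⟩ := exists_iso_pair_b hS.h1 hS.h2 hS.two ha hbo hb h m hm hmL A B' hAB
    exact exists_l_of_iso_pair hS.h1 hS.h2 hS.two ha h m hm hmL A' B0' hAB' hA' hB'

/-- T2b-2 of the skeleton under the parity hypothesis -/
theorem t2b2 (hS : SetupO J1 J2 Q) (hpar : Odd a ∨ Odd b) (ha : 1 ≤ a) (hb : 5 ≤ b) {k1 k2 : Fin b → F}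
    (h : Ts2 J2 k1 k2) (m : GL (Fin a × Fin b) F)
    (hm : m ∈ IsoG (J1 ⊗ₖ J2)) (hmL : img m (Lp (a := a) k1 k2) = Lp (a := a) k1 k2)
    (A : Matrix (Fin a) (Fin a) F) (B' : Matrix (Fin b) (Fin b) F)
    (hAB : ∀ (u : Fin a → F) (w : Fin b → F), w ∈ piPerp J2 k1 k2 → act m (pur u w) = pur (A *ᵥ u) (B' *ᵥ w)) :
    ∃ l : GL (Fin a × Fin b) F, l ∈ Cfsg.Geo.kroneckerSubgroup a b F ∧ l ∈ IsoG (J1 ⊗ₖ J2) ∧
      InZ J2 k1 k2 (m * l⁻¹) := by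
  rcases hpar with hao | hbo
  · obtain ⟨A', B0', hAB', hA', hB'⟩ := exists_iso_pair hS.h1 hS.h2 hao hb h m hm A B' hAB
    exact exists_l_of_iso_pair hS.h1 hS.h2 hS.two ha h m hm hmL A' B0' hAB' hA' hB'
  · obtain ⟨A', B0', hAB', hA', hB'⟩ := exists_iso_pair_b hS.h1 hS.h2 hS.two ha hbo hb h m hm hmL A B' hAB
    exact exists_l_of_iso_pair hS.h1 hS.h2 hS.two ha h m hm hmL A' B0' hAB' hA' hB'

end Cfsg.Agent.Lib.Helper18.OTT2bB
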