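import Mathlib
import Cfsg.Prelude.Def_Blocks
import Cfsg.Agent.Lib.Helper2.Decomp
import Cfsg.Agent.Lib.Helper25.RepToChar

/-!
# An invariant idempotent on a permutation module whose corner of the centraliser algebra is
one-dimensional cuts out an irreducible constituent (helper18, piece (B1) of S3670)
-/

set_option autoImplicit false
set_option linter.style.haveILetI false

namespace Cfsg.Agent.Lib.Helper18.PermIdem

open Cfsg

variable {G : Type*} [Group G] {n : ℕ}

/-- The permutation representation on `Fin n → ℂ` attached to `σ : G →* Perm (Fin n)`: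
`(g • v) i = v ((σ g)⁻¹ i)`. -/
noncomputable def permRep (σ : G →* Equiv.Perm (Fin n)) : Representation ℂ G (Fin n → ℂ) where
  toFun g := LinearMap.funLeft ℂ ℂ ((σ g)⁻¹ : Equiv.Perm (Fin n))
  map_one' := by
    apply LinearMap.ext
    intro v
    funext i
    simp [LinearMap.funLeft_apply]
  map_mul' g h := by
    apply LinearMap.ext
    intro v
    funext i
    simp [LinearMap.funLeft_apply, mul_inv_rev]

theorem permRep_apply (σ : G →* Equiv.Perm (Fin n)) (g : G) (v : Fin n → ℂ) (i : Fin n) :
    permRep σ g v i = v ((σ g)⁻¹ i) := rfl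

theorem permRep_single (σ : G →* Equiv.Perm (Fin n)) (g : G) (j : Fin n) :
    permRep σ g (Pi.single j 1) = Pi.single (σ g j) 1 := by
  funext i
  rw [permRep_apply]
  by_cases h : i = σ g j
  · subst h
    simp
  · rw [Pi.single_eq_of_ne h, Pi.single_eq_of_ne]
    intro h2
    apply h
    rw [← h2]
    simp

theorem mulVec_permRep (σ : G →* Equiv.Perm (Fin n)) (E : Matrix (Fin n) (Fin n) ℂ)
    (hEc : ∀ g i j, E (σ g i) (σ g j) = E i j) (g : G) (v : Fin n → ℂ) :
    E.mulVec (permRep σ g v) = permRep σ g (E.mulVec v) := by
  funext i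
  rw [permRep_apply]
  simp only [Matrix.mulVec, dotProduct, permRep_apply]
  rw [← Equiv.sum_comp (σ g)]
  apply Finset.sum_congr rfl
  intro j _
  have h1 : E i (σ g j) = E ((σ g)⁻¹ i) j := by
    have := hEc g ((σ g)⁻¹ i) j
    rw [← this]
    simp
  rw [h1]
  simp

/-- The range of an invariant matrix as a subrepresentation of the permutation module. -/
noncomputable def rangeSub (σ : G →* Equiv.Perm (Fin n)) (E : Matrix (Fin n) (Fin n) ℂ)
    (hEc : ∀ g i j, E (σ g i) (σ g j) = E i j) : Subrepresentation (permRep σ) where
  toSubmodule := LinearMap.range E.mulVecLin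
  apply_mem_toSubmodule g v hv := by
    obtain ⟨w, rfl⟩ := hv
    refine ⟨permRep σ g w, ?_⟩
    simp only [Matrix.mulVecLin_apply]
    exact mulVec_permRep σ E hEc g w

theorem exists_irr_of_idempotent {G : Type*} [Group G] [Finite G] {n : ℕ}
    (σ : G →* Equiv.Perm (Fin n)) (E : Matrix (Fin n) (Fin n) ℂ) (hE2 : E * E = E) (d : ℕ)
    (htr : E.trace = d) (hd : 0 < d) (hEc : ∀ g i j, E (σ g i) (σ g j) = E i j)
    (hmin : ∀ T : Matrix (Fin n) (Fin n) ℂ, (∀ g i j, T (σ g i) (σ g j) = T i j) →
      ∃ c : ℂ, T * E = c • E) :
    ∃ χ : Cfsg.IrrCharacter G, Cfsg.charDegree (χ : G → ℂ) = d := by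
  classical
  haveI : NeZero (Nat.card G : ℂ) := ⟨by exact_mod_cast Nat.card_pos.ne'⟩
  set ρ := permRep σ with hρ
  set W : Subrepresentation ρ := rangeSub σ E hEc with hW
  have hWmem : ∀ v : Fin n → ℂ, v ∈ W.toSubmodule ↔ ∃ y, E.mulVec y = v := by
    intro v
    change v ∈ LinearMap.range E.mulVecLin ↔ _
    rw [LinearMap.mem_range]
    simp only [Matrix.mulVecLin_apply]
  have hEW : ∀ v ∈ W.toSubmodule, E.mulVec v = v := by
    intro v hv
    obtain ⟨y, rfl⟩ := (hWmem v).1 hv
    rw [Matrix.mulVec_mulVec, hE2]
  -- the dimension of `W`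
  have hproj : LinearMap.IsProj W.toSubmodule E.mulVecLin := by
    refine ⟨fun x => ?_, fun x hx => ?_⟩
    · exact (hWmem _).2 ⟨x, rfl⟩
    · simpa using hEW x hx
  have hfin : Module.finrank ℂ W.toSubmodule = d := by
    have h1 := hproj.trace
    have h2 : LinearMap.trace ℂ (Fin n → ℂ) E.mulVecLin = E.trace := by
      have := Matrix.trace_toLin'_eq E
      rwa [Matrix.toLin'_apply'] at this
    rw [h2, htr] at h1
    exact_mod_cast h1.symm
  -- `W` is an atom
  have hatom : IsAtom W := by
    constructor
    · intro h
      have : W.toSubmodule = ⊥ := by rw [h]; rfl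
      rw [this] at hfin
      simp at hfin
      omega
    · intro U hUW
      have hUle : U.toSubmodule ≤ W.toSubmodule := fun v hv => hUW.le hv
      obtain ⟨U', hU'⟩ := exists_isCompl U
      have hc : IsCompl U.toSubmodule U'.toSubmodule := by
        constructor
        · rw [disjoint_iff, ← Subrepresentation.toSubmodule_inf, hU'.inf_eq_bot]; rfl
        · rw [codisjoint_iff, ← Subrepresentation.toSubmodule_sup, hU'.sup_eq_top]; rfl
      set π : (Fin n → ℂ) →ₗ[ℂ] (Fin n → ℂ) :=
        U.toSubmodule.subtype ∘ₗ Submodule.projectionOnto _ _ hc with hπ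
      have hπU : ∀ u ∈ U.toSubmodule, π u = u := by
        intro u hu
        have := Submodule.projectionOnto_apply_left hc ⟨u, hu⟩
        simp only [hπ, LinearMap.comp_apply, Submodule.subtype_apply]
        rw [this]
      have hπU' : ∀ u ∈ U'.toSubmodule, π u = 0 := by
        intro u hu
        have := Submodule.projectionOnto_apply_right hc ⟨u, hu⟩
        simp only [hπ, LinearMap.comp_apply, Submodule.subtype_apply]
        rw [this]
        rfl
      have hπmem : ∀ v, π v ∈ U.toSubmodule := by
        intro v
        simp only [hπ, LinearMap.comp_apply, Submodule.subtype_apply]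
        exact Subtype.property _
      have hπρ : ∀ g v, π (ρ g v) = ρ g (π v) := by
        intro g v
        have hv : v ∈ U.toSubmodule ⊔ U'.toSubmodule := by
          rw [hc.sup_eq_top]; trivial
        obtain ⟨u, hu, u', hu', rfl⟩ := Submodule.mem_sup.1 hv
        rw [map_add, map_add, map_add, map_add, hπU u hu, hπU' u' hu',
          hπU _ (U.apply_mem_toSubmodule g hu), hπU' _ (U'.apply_mem_toSubmodule g hu')]
        simp
      set T : Matrix (Fin n) (Fin n) ℂ := LinearMap.toMatrix' π with hT
      have hTinv : ∀ g i j, T (σ g i) (σ g j) = T i j := by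
        intro g i j
        simp only [hT, LinearMap.toMatrix'_apply]
        have h1 : (Pi.single (σ g j) (1 : ℂ) : Fin n → ℂ) = ρ g (Pi.single j 1) :=
          (permRep_single σ g j).symm
        have h2 : π (Pi.single (σ g j) (1 : ℂ)) = ρ g (π (Pi.single j 1)) := by
          rw [h1, hπρ]
        rw [h2, hρ, permRep_apply]
        simp
      obtain ⟨c, hcE⟩ := hmin T hTinv
      have hπE : ∀ v, π (E.mulVec v) = c • E.mulVec v := by
        intro v
        have h1 : π = Matrix.toLin' T := by rw [hT, Matrix.toLin'_toMatrix']
        rw [h1, Matrix.toLin'_apply, Matrix.mulVec_mulVec, hcE, Matrix.smul_mulVec]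
      by_cases hU0 : U.toSubmodule = ⊥
      · apply Subrepresentation.toSubmodule_injective
        exact hU0
      · exfalso
        obtain ⟨u, hu, hu0⟩ := Submodule.exists_mem_ne_zero_of_ne_bot hU0
        have huW : u ∈ W.toSubmodule := hUle hu
        have h1 : π u = c • u := by
          have := hπE u
          rwa [hEW u huW] at this
        rw [hπU u hu] at h1
        have hc1 : c = 1 := by
          by_contra hne
          apply hu0
          have : (1 - c) • u = 0 := by
            rw [sub_smul, one_smul, ← h1, sub_self]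
          rcases smul_eq_zero.1 this with h | h
          · exact absurd (sub_eq_zero.1 h).symm hne
          · exact h
        have hWU : W ≤ U := by
          intro w hw
          have hw' : w ∈ W.toSubmodule := hw
          have := hπE w
          rw [hEW w hw', hc1, one_smul] at this
          change w ∈ U.toSubmodule
          rw [← this]
          exact hπmem w
        exact absurd (le_antisymm hUW.le hWU) hUW.ne
  have hirr : W.toRepresentation.IsIrreducible :=
    Cfsg.Agent.Lib.Helper2.isIrreducible_of_isAtom W hatom
  refine ⟨⟨W.toRepresentation.character,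
    Cfsg.Agent.Lib.Helper25.isIrrCharacter_of_rep W.toRepresentation hirr⟩, ?_⟩
  change Cfsg.charDegree W.toRepresentation.character = d
  unfold Cfsg.charDegree
  rw [Representation.char_one, hfin]
  simp

end Cfsg.Agent.Lib.Helper18.PermIdem
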