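import Mathlib
import Cfsg.Agent.Lib.Helper9.U35MinDefs
import Cfsg.Agent.Lib.Helper5.U35MinPG

/-!
# S2149 piece [B2] (helper18): structure of the Sylow 5-subgroup `U` of the Borel subgroup

`Borel.U_struct`: the generic facts `pg_*` on groups of order `p ^ 3` applied to `↥U` and transported
to elements and subgroups of the ambient group `S`.
-/

set_option autoImplicit false

namespace Cfsg.Agent.Lib.Helper9.U35Min

open scoped commutatorElement

variable {S : Type*} [Group S] {u1 u2 t : S}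

namespace H18

/-- the commutator of two elements of a subgroup, computed in the subgroup, coerces to the commutator -/
theorem coe_comm (U : Subgroup S) (x y : U) : ((⁅x, y⁆ : U) : S) = ⁅(x : S), (y : S)⁆ := by
  simp [commutatorElement_def]

/-- conjugation commutes with taking commutators -/
theorem conj_comm (s a b : S) : s * ⁅a, b⁆ * s⁻¹ = ⁅s * a * s⁻¹, s * b * s⁻¹⁆ := by
  simp only [commutatorElement_def]
  group

end H18

/-- B2: structure of `U` transported to subgroups of `S` (from PG applied to `↥U`) -/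
theorem Borel.U_struct (hB : Borel S u1 u2 t) (U : Subgroup S) (hU : U.Normal) (hcard : Nat.card U = 125)
    (hu1 : u1 ∈ U) (hu2 : u2 ∈ U) :
    ⁅u1, u2⁆ ≠ 1 ∧ ⁅u1, u2⁆ ^ 5 = 1 ∧ ⁅u1, u2⁆ ∈ U ∧ (∀ x ∈ U, x * ⁅u1, u2⁆ = ⁅u1, u2⁆ * x) ∧
    (∀ x ∈ U, ∀ y ∈ U, ⁅x, y⁆ ∈ Subgroup.zpowers ⁅u1, u2⁆) ∧
    (∀ s : S, s * ⁅u1, u2⁆ * s⁻¹ ∈ Subgroup.zpowers ⁅u1, u2⁆) ∧
    Subgroup.closure {u1, u2} = U ∧
    (∀ W : Subgroup S, W ≤ U → ⁅u1, u2⁆ ∉ W → Nat.card W ≤ 5) := by
  haveI : Fact (Nat.Prime 5) := ⟨by norm_num⟩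
  have hc3 : Nat.card U = 5 ^ 3 := by rw [hcard]; norm_num
  set a : U := ⟨u1, hu1⟩ with ha
  set b : U := ⟨u2, hu2⟩ with hb
  have hab : a * b ≠ b * a := by
    intro h
    apply hB.hnc
    have := congrArg (Subtype.val) h
    simpa [ha, hb] using this
  have hz' : ((⁅a, b⁆ : U) : S) = ⁅u1, u2⁆ := H18.coe_comm U a b
  obtain ⟨hcen, hcencard⟩ := pg_center_eq_zpowers (p := 5) hc3 hab
  -- commutators of elements of `U` are powers of `z`
  have hcomm : ∀ x ∈ U, ∀ y ∈ U, ⁅x, y⁆ ∈ Subgroup.zpowers ⁅u1, u2⁆ := by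
    intro x hx y hy
    have h := pg_comm_mem_center (p := 5) hc3 (⟨x, hx⟩ : U) ⟨y, hy⟩
    rw [hcen] at h
    obtain ⟨k, hk⟩ := Subgroup.mem_zpowers_iff.mp h
    refine Subgroup.mem_zpowers_iff.mpr ⟨k, ?_⟩
    have := congrArg (Subtype.val) hk
    rw [H18.coe_comm, Subgroup.coe_zpow, hz'] at this
    exact this
  have hzU : ⁅u1, u2⁆ ∈ U := hz' ▸ (⁅a, b⁆ : U).2
  have hzcen : (⁅a, b⁆ : U) ∈ Subgroup.center U := pg_comm_mem_center (p := 5) hc3 a b
  refine ⟨?_, ?_, hzU, ?_, hcomm, ?_, ?_, ?_⟩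
  · -- z ≠ 1
    intro h
    apply hB.hnc
    exact (commutatorElement_eq_one_iff_mul_comm.mp h)
  · -- z ^ 5 = 1
    have hord : Nat.card (Subgroup.zpowers (⁅a, b⁆ : U)) = 5 := by rw [← hcen]; exact hcencard
    rw [Nat.card_zpowers] at hord
    have h5 : (⁅a, b⁆ : U) ^ 5 = 1 := by rw [← hord]; exact pow_orderOf_eq_one _
    have := congrArg (Subtype.val) h5
    rw [Subgroup.coe_pow, hz'] at this
    simpa using this
  · -- z central in U
    intro x hx
    have h := Subgroup.mem_center_iff.mp hzcen ⟨x, hx⟩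
    have := congrArg (Subtype.val) h
    simpa [hz'] using this
  · -- conjugates of z
    intro s
    rw [H18.conj_comm]
    exact hcomm _ (hU.conj_mem _ hu1 s) _ (hU.conj_mem _ hu2 s)
  · -- closure
    have hcl := pg_closure_eq_top (p := 5) hc3 hab
    have h1 : (Subgroup.closure ({a, b} : Set U)).map U.subtype = Subgroup.closure {u1, u2} := by
      rw [MonoidHom.map_closure]
      congr 1
      ext x
      simp [ha, hb, Set.image_insert_eq]
    rw [← h1, hcl, ← MonoidHom.range_eq_map, Subgroup.range_subtype]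
  · -- small subgroups
    intro W hWU hzW
    have hW' : (⁅a, b⁆ : U) ∉ W.subgroupOf U := by
      intro h
      apply hzW
      rw [Subgroup.mem_subgroupOf, hz'] at h
      exact h
    have h := pg_card_le (p := 5) hc3 hab (W.subgroupOf U) hW'
    rwa [Nat.card_congr (Subgroup.subgroupOfEquivOfLe hWU).toEquiv] at h

end Cfsg.Agent.Lib.Helper9.U35Min

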