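import Mathlib
import Cfsg.Agent.Lib.Helper9.U35MinDefs
import Cfsg.Agent.Lib.Helper20.U35MinSylow
import Cfsg.Agent.Lib.Helper18.U35MinB2
import Cfsg.Agent.Lib.Helper2.U35MinInfSup
import Cfsg.Agent.Lib.Helper2.U35MinSq

/-!
# S2149 (helper18): `Borel.z_mem`, the assembly of the pieces B1-B5

In a group `S` of order `1000` with the `Borel` data every subgroup of order `> 20` contains the central
commutator `z = ⁅u1, u2⁆` of the Sylow 5-subgroup.
-/

set_option autoImplicit false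

namespace Cfsg.Agent.Lib.Helper9.U35Min

open scoped commutatorElement

variable {S : Type*} [Group S] {u1 u2 t : S}

namespace H18

/-- if all conjugates of `z` are powers of `z`, then `zpowers z` is stable under conjugation -/
theorem conj_mem_zpowers {z : S} (hzn : ∀ s : S, s * z * s⁻¹ ∈ Subgroup.zpowers z) (s x : S)
    (hx : x ∈ Subgroup.zpowers z) : s * x * s⁻¹ ∈ Subgroup.zpowers z := by
  obtain ⟨k, rfl⟩ := Subgroup.mem_zpowers_iff.mp hx
  have h : s * z ^ k * s⁻¹ = (s * z * s⁻¹) ^ k := conj_zpow.symm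
  rw [h]
  exact Subgroup.zpow_mem _ (hzn s) k

/-- `t w t⁻¹` for `t = k u` -/
theorem conj_split (k u w : S) :
    (k * u) * w * (k * u)⁻¹ = (k * ⁅u, w⁆ * k⁻¹) * (k * w * k⁻¹) := by
  simp only [commutatorElement_def]
  group

end H18

/-- B: every subgroup of order `> 20` contains `z = [u1,u2]` -/
theorem Borel.z_mem (hB : Borel S u1 u2 t) (K : Subgroup S) (hK : 20 < Nat.card K) : ⁅u1, u2⁆ ∈ K := by
  haveI : Fact (Nat.Prime 5) := ⟨by norm_num⟩
  obtain ⟨U, hUn, hUc, hUi, hu1, hu2⟩ := hB.exists_U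
  obtain ⟨hz1, hz5, hzU, hzc, hcomm, hzn, hcl, hW⟩ := hB.U_struct U hUn hUc hu1 hu2
  by_contra hz
  obtain ⟨hKU, hsup⟩ := hB.inf_sup U hUn hUc hUi hW K hK hz
  have hsq : ∀ x ∈ U, t ^ 2 * x * (t ^ 2)⁻¹ * (x ^ 2)⁻¹ ∈ Subgroup.zpowers ⁅u1, u2⁆ :=
    fun x hx => hB.sq_action U hUn hzc hcomm hzn hcl x hx
  -- a generator `w` of `K ⊓ U`
  haveI : Finite ↥(K ⊓ U) := Nat.finite_of_card_ne_zero (by rw [hKU]; norm_num)
  haveI : Nontrivial ↥(K ⊓ U) := Finite.one_lt_card_iff_nontrivial.mp (by rw [hKU]; norm_num)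
  obtain ⟨g, hg⟩ : ∃ g : ↥(K ⊓ U), g ≠ 1 := exists_ne 1
  have hgK : (g : S) ∈ K := (Subgroup.mem_inf.mp g.2).1
  have hgU : (g : S) ∈ U := (Subgroup.mem_inf.mp g.2).2
  have hg5 : (g : S) ^ 5 = 1 := by
    have h : g ^ Nat.card ↥(K ⊓ U) = 1 := pow_card_eq_one'
    rw [hKU] at h
    have := congrArg Subtype.val h
    simpa using this
  have hgen : ∀ x ∈ K ⊓ U, ∃ n : ℕ, (g : S) ^ n = x := by
    intro x hx
    have h : (⟨x, hx⟩ : ↥(K ⊓ U)) ∈ Submonoid.powers g := mem_powers_of_prime_card hKU hg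
    obtain ⟨n, hn⟩ := Submonoid.mem_powers_iff _ _ |>.mp h
    refine ⟨n, ?_⟩
    have := congrArg Subtype.val hn
    simpa using this
  -- `w ∉ ⟨z⟩`
  have hgz : (g : S) ∉ Subgroup.zpowers ⁅u1, u2⁆ := by
    intro hmem
    apply hz
    have hord : orderOf ⁅u1, u2⁆ = 5 := by
      have hdvd : orderOf ⁅u1, u2⁆ ∣ 5 := orderOf_dvd_of_pow_eq_one hz5
      rcases (Nat.dvd_prime (by norm_num : Nat.Prime 5)).mp hdvd with h | h
      · exact absurd (orderOf_eq_one_iff.mp h) hz1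
      · exact h
    have hcz : Nat.card (Subgroup.zpowers ⁅u1, u2⁆) = 5 := by rw [Nat.card_zpowers, hord]
    have hne : (⟨(g : S), hmem⟩ : Subgroup.zpowers ⁅u1, u2⁆) ≠ 1 := by
      intro h
      apply hg
      have := congrArg Subtype.val h
      exact Subtype.ext (by simpa using this)
    have h : (⟨⁅u1, u2⁆, Subgroup.mem_zpowers _⟩ : Subgroup.zpowers ⁅u1, u2⁆) ∈
        Submonoid.powers (⟨(g : S), hmem⟩ : Subgroup.zpowers ⁅u1, u2⁆) :=
      mem_powers_of_prime_card hcz hne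
    obtain ⟨n, hn⟩ := Submonoid.mem_powers_iff _ _ |>.mp h
    have hn' : (g : S) ^ n = ⁅u1, u2⁆ := by
      have := congrArg Subtype.val hn
      simpa using this
    rw [← hn']
    exact K.pow_mem hgK n
  -- `t = k * u`
  have ht : t ∈ K ⊔ U := by rw [hsup]; exact Subgroup.mem_top t
  obtain ⟨k, hk, u, hu, hku⟩ := (Subgroup.mem_sup_of_normal_right (ht := hUn)).mp ht
  -- the conjugate `k w k⁻¹` is a power of `w`
  have hconj : k * (g : S) * k⁻¹ ∈ K ⊓ U :=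
    Subgroup.mem_inf.mpr ⟨K.mul_mem (K.mul_mem hk hgK) (K.inv_mem hk), hUn.conj_mem _ hgU k⟩
  obtain ⟨i, hi⟩ := hgen _ hconj
  refine hB.no_invariant_line U hUn hz5 hzc hzn hsq (g : S) hgU hg5 hgz ⟨i, ?_⟩
  rw [← hku, H18.conj_split, hi, mul_inv_cancel_right]
  exact H18.conj_mem_zpowers hzn k _ (hcomm u hu _ hgU)

end Cfsg.Agent.Lib.Helper9.U35Min

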