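import Mathlib
import Cfsg.Agent.Lib.Helper13.TensSODefs
import Cfsg.Agent.Lib.Helper13.SpMax
import Cfsg.Agent.Lib.Helper18.S5704FOBRIDGE

/-!
# S5666 BRIDGE + EVEN: the frozen statement from the coordinate version (helper18)

`J1 := c • gramMatrix f₁`, `J2 := gramMatrix f₂`; the isomorphism `tr e P : x ↦ P · reindex x · P⁻¹` maps the Kronecker
subgroup onto `tensorProductSubgroup`, `IsoG (J1 ⊗ₖ J2)` onto `spGL m F` and the transvections `IsTv` onto `sympTransvGL`, so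
`SetupSO.gen` comes from `Helper13.spGL_le_of_transvections`.
-/

set_option autoImplicit false

namespace Cfsg.Agent.Lib.Helper18.S5666BRIDGE

open Matrix Module
open scoped Kronecker
open Cfsg.Agent.Lib.Helper3.SpT (bf SympG)
open Cfsg.Agent.Lib.Helper13.TensSO Cfsg.Agent.Lib.Helper18.TensOmegaBridge Cfsg.Agent.Lib.Helper18.S5704BRIDGE

variable {F : Type*} [Field F]

/-- EVEN: a non-degenerate symplectic form lives in even dimension -/
theorem even_of_symplectic {k : ℕ} (f : (Fin k → F) → (Fin k → F) → F) (hf : Cfsg.Geo.IsSymplecticForm f) :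
    Even k :=
  Cfsg.Agent.Lib.Helper18.S5704BRIDGE.even_of_symplectic hf

theorem orthG_gram {κ : Type} [Fintype κ] [DecidableEq κ] {f : (κ → F) → (κ → F) → F}
    (hf : Cfsg.Geo.IsSymmetricForm f) : OrthG (Cfsg.Geo.gramMatrix f) := by
  constructor
  · intro x y
    rw [← bilin_eq_bf hf.bilinear, ← bilin_eq_bf hf.bilinear, hf.symm]
  · intro x hx
    by_contra hne
    obtain ⟨_, y, hy⟩ := hf.nondegenerate x hne
    apply hy
    rw [bilin_eq_bf hf.bilinear]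
    exact hx y

theorem two_ne_zero_of_odd [Fintype F] (ho : Odd (Fintype.card F)) : (2 : F) ≠ 0 := by
  intro h2
  have h3 : ringChar F = 2 := by
    have hdvd : ringChar F ∣ 2 := by
      rw [← ringChar.spec F 2]
      exact_mod_cast h2
    have hp : (ringChar F).Prime := CharP.char_is_prime F (ringChar F)
    exact (Nat.prime_dvd_prime_iff_eq hp Nat.prime_two).1 hdvd
  have h4 := FiniteField.even_card_iff_char_two.1 h3
  rcases ho with ⟨k, hk⟩
  omega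

section transport

variable {m n₁ n₂ : ℕ}

/-- `tr e P` maps the isometry group of the pulled-back form onto `spGL` -/
theorem tr_mem_spGL_iff (e : (Fin m ⊕ Fin m) ≃ Fin n₁ × Fin n₂) (P : GL (Fin m ⊕ Fin m) F)
    (J : Matrix (Fin n₁ × Fin n₂) (Fin n₁ × Fin n₂) F)
    (hJ : ∀ x y, Cfsg.sympForm m F (LL e P x) (LL e P y) = bf J x y) (x : GL (Fin n₁ × Fin n₂) F) :
    tr e P x ∈ Cfsg.spGL m F ↔ x ∈ IsoG J := by
  constructor
  · intro h u v
    have h1 : Cfsg.sympForm m F (((tr e P x : GL (Fin m ⊕ Fin m) F) : Matrix (Fin m ⊕ Fin m) (Fin m ⊕ Fin m) F) *ᵥ LL e P u)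
        (((tr e P x : GL (Fin m ⊕ Fin m) F) : Matrix (Fin m ⊕ Fin m) (Fin m ⊕ Fin m) F) *ᵥ LL e P v) =
        Cfsg.sympForm m F (LL e P u) (LL e P v) := h _ _
    unfold LL at h1
    rw [tr_mulVec, tr_mulVec] at h1
    have h2 := hJ ((x : Matrix (Fin n₁ × Fin n₂) (Fin n₁ × Fin n₂) F) *ᵥ u) ((x : Matrix (Fin n₁ × Fin n₂) (Fin n₁ × Fin n₂) F) *ᵥ v)
    have h3 := hJ u v
    unfold LL at h2 h3
    rw [← h2, ← h3]
    exact h1
  · intro h u v
    obtain ⟨y, rfl⟩ := exists_pre e P u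
    obtain ⟨z, rfl⟩ := exists_pre e P v
    show Cfsg.sympForm m F (((tr e P x : GL (Fin m ⊕ Fin m) F) : Matrix (Fin m ⊕ Fin m) (Fin m ⊕ Fin m) F) *ᵥ _)
        (((tr e P x : GL (Fin m ⊕ Fin m) F) : Matrix (Fin m ⊕ Fin m) (Fin m ⊕ Fin m) F) *ᵥ _) = _
    rw [tr_mulVec, tr_mulVec]
    have h2 := hJ ((x : Matrix (Fin n₁ × Fin n₂) (Fin n₁ × Fin n₂) F) *ᵥ y) ((x : Matrix (Fin n₁ × Fin n₂) (Fin n₁ × Fin n₂) F) *ᵥ z)
    have h3 := hJ y z
    unfold LL at h2 h3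
    rw [h2, h3]
    exact h y z

theorem map_IsoG (e : (Fin m ⊕ Fin m) ≃ Fin n₁ × Fin n₂) (P : GL (Fin m ⊕ Fin m) F)
    (J : Matrix (Fin n₁ × Fin n₂) (Fin n₁ × Fin n₂) F)
    (hJ : ∀ x y, Cfsg.sympForm m F (LL e P x) (LL e P y) = bf J x y) :
    (IsoG J).map (tr e P).toMonoidHom = Cfsg.spGL m F := by
  ext g
  constructor
  · rintro ⟨x, hx, rfl⟩
    exact (tr_mem_spGL_iff e P J hJ x).2 hx
  · intro hg
    refine ⟨(tr e P).symm g, ?_, (tr e P).apply_symm_apply g⟩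
    apply (tr_mem_spGL_iff e P J hJ _).1
    rw [MulEquiv.apply_symm_apply]
    exact hg

/-- the transvections of `spGL` correspond to the transvections `IsTv` -/
theorem isTv_symm_sympTransvGL (e : (Fin m ⊕ Fin m) ≃ Fin n₁ × Fin n₂) (P : GL (Fin m ⊕ Fin m) F)
    (J : Matrix (Fin n₁ × Fin n₂) (Fin n₁ × Fin n₂) F)
    (hJ : ∀ x y, Cfsg.sympForm m F (LL e P x) (LL e P y) = bf J x y) (x : Fin n₁ × Fin n₂ → F) (c : F) :
    IsTv J x c ((tr e P).symm (Cfsg.Agent.Lib.Helper13.sympTransvGL (LL e P x) c)) := by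
  intro v
  set t := (tr e P).symm (Cfsg.Agent.Lib.Helper13.sympTransvGL (LL e P x) c) with ht
  have h1 : tr e P t = Cfsg.Agent.Lib.Helper13.sympTransvGL (LL e P x) c := (tr e P).apply_symm_apply _
  have h2 := tr_mulVec e P t v
  rw [h1, Cfsg.Agent.Lib.Helper13.sympTransvGL_mulVec] at h2
  have h3 : LL e P ((t : Matrix (Fin n₁ × Fin n₂) (Fin n₁ × Fin n₂) F) *ᵥ v) = LL e P (v + (c * bf J v x) • x) := by
    rw [LL_add, LL_smul, ← hJ]
    exact h2.symm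
  have h4 : LL e P ((t : Matrix (Fin n₁ × Fin n₂) (Fin n₁ × Fin n₂) F) *ᵥ v - (v + (c * bf J v x) • x)) = 0 := by
    have : (t : Matrix (Fin n₁ × Fin n₂) (Fin n₁ × Fin n₂) F) *ᵥ v - (v + (c * bf J v x) • x) =
        (t : Matrix (Fin n₁ × Fin n₂) (Fin n₁ × Fin n₂) F) *ᵥ v + (-1 : F) • (v + (c * bf J v x) • x) := by
      rw [neg_one_smul, sub_eq_add_neg]
    rw [this, LL_add, LL_smul, h3, neg_one_smul, add_neg_cancel]
  exact sub_eq_zero.1 (LL_inj e P h4)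

end transport

/-- **BRIDGE** (exact stub signature of `notes/S5666Skel_helper13.lean.txt`). -/
theorem bridge {F : Type*} [Field F] [Fintype F] (m : ℕ) (hodd : Odd (Fintype.card F)) (n₁ n₂ : ℕ)
    (e : (Fin m ⊕ Fin m) ≃ Fin n₁ × Fin n₂) (P : Matrix.GeneralLinearGroup (Fin m ⊕ Fin m) F)
    (f₁ : (Fin n₁ → F) → (Fin n₁ → F) → F) (f₂ : (Fin n₂ → F) → (Fin n₂ → F) → F)
    (hf₁ : Cfsg.Geo.IsSymplecticForm f₁) (hf₂ : Cfsg.Geo.IsSymmetricForm f₂)
    (hT : Cfsg.Geo.IsTensorFormStructure id (Cfsg.sympForm m F) f₁ f₂ e P)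
    (hcore : ∀ (J1 : Matrix (Fin n₁) (Fin n₁) F) (J2 : Matrix (Fin n₂) (Fin n₂) F), SetupSO J1 J2 →
      Cfsg.Geo.IsMaximalIn (IsoG (J1 ⊗ₖ J2)) (Cfsg.Geo.kroneckerSubgroup n₁ n₂ F ⊓ IsoG (J1 ⊗ₖ J2))) :
    Cfsg.Geo.IsMaximalIn (Cfsg.spGL m F) (Cfsg.Geo.tensorProductSubgroup n₁ n₂ e P ⊓ Cfsg.spGL m F) := by
  classical
  obtain ⟨c, hc, hT⟩ := hT
  set J1 : Matrix (Fin n₁) (Fin n₁) F := c • Cfsg.Geo.gramMatrix f₁ with hJ1
  set J2 : Matrix (Fin n₂) (Fin n₂) F := Cfsg.Geo.gramMatrix f₂ with hJ2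
  have hJ : ∀ x y, Cfsg.sympForm m F (LL e P x) (LL e P y) = bf (J1 ⊗ₖ J2) x y := by
    intro x y
    have := hT x y
    unfold LL
    rw [this, formOfGram_id_eq_bf, hJ1, Matrix.smul_kronecker, bf_smul_mat]
  have hS : SetupSO J1 J2 := by
    refine ⟨sympG_gram hf₁ hc, orthG_gram hf₂, two_ne_zero_of_odd hodd, ?_⟩
    intro M hM g hg
    have h1 : Cfsg.spGL m F ≤ M.map (tr e P).toMonoidHom := by
      apply Cfsg.Agent.Lib.Helper13.spGL_le_of_transvections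
      intro a c'
      obtain ⟨x, rfl⟩ := exists_pre e P a
      refine ⟨(tr e P).symm (Cfsg.Agent.Lib.Helper13.sympTransvGL (LL e P x) c'), ?_, ?_⟩
      · exact hM x c' _ (isTv_symm_sympTransvGL e P (J1 ⊗ₖ J2) hJ x c')
      · exact (tr e P).apply_symm_apply _
    obtain ⟨g', hg', hgg'⟩ := h1 ((tr_mem_spGL_iff e P (J1 ⊗ₖ J2) hJ g).2 hg)
    have : g' = g := (tr e P).injective hgg'
    rw [← this]
    exact hg'
  have h := hcore J1 J2 hS
  have hTP : (Cfsg.Geo.kroneckerSubgroup n₁ n₂ F).map (tr e P).toMonoidHom =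
      Cfsg.Geo.tensorProductSubgroup n₁ n₂ e P := by
    unfold Cfsg.Geo.tensorProductSubgroup
    rw [Subgroup.map_map]
    rfl
  have h1 := Cfsg.Agent.Lib.Helper8.S5637FOBRIDGE.isMaximalIn_map (tr e P) _ _ h
  rw [Subgroup.map_inf _ _ _ (tr e P).injective, map_IsoG e P (J1 ⊗ₖ J2) hJ, hTP] at h1
  exact h1

end Cfsg.Agent.Lib.Helper18.S5666BRIDGE
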