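import Mathlib
import Cfsg.Agent.Lib.Helper13.TensSODefs
import Cfsg.Agent.Lib.Helper20.S5666ExitDefs

/-!
# S5666 exit A, piece E-ALG: `skew_refl_sq`, `eq_zero_of_nonsing` (helper18)

Exact signatures of `notes/S5666ExitASkel_helper20.lean.txt` (rev 2).
-/

set_option autoImplicit false
set_option linter.unusedSectionVars false
set_option linter.unusedVariables false

namespace Cfsg.Agent.Lib.Helper18.S5666EALG

open Matrix Module
open Cfsg.Agent.Lib.Helper13.TensSO
open Cfsg.Agent.Lib.Helper3.SpT (bf SympG E E_mulVec E_mul_E)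
open Cfsg.Agent.Lib.Helper20.S5666Exit

variable {F : Type*} [Field F] {b : ℕ}
variable {J2 : Matrix (Fin b) (Fin b) F}

open Cfsg.Agent.Lib.Helper3.SpT in
/-- two functionals on a space of dimension `≥ 3` have a common non-zero kernel vector -/
theorem exists_perp_two (hb : 3 ≤ b) (v w : Fin b → F) :
    ∃ t : Fin b → F, t ≠ 0 ∧ bf J2 t v = 0 ∧ bf J2 t w = 0 := by
  let φ : (Fin b → F) →ₗ[F] F :=
    { toFun := fun t => bf J2 t v
      map_add' := fun x y => bf_add_left J2 x y v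
      map_smul' := fun c x => by simp [bf_smul_left] }
  let ψ : (Fin b → F) →ₗ[F] F :=
    { toFun := fun t => bf J2 t w
      map_add' := fun x y => bf_add_left J2 x y w
      map_smul' := fun c x => by simp [bf_smul_left] }
  have h1 := LinearMap.finrank_range_add_finrank_ker (φ.prod ψ)
  have h2 : finrank F (LinearMap.range (φ.prod ψ)) ≤ 2 := by
    have := Submodule.finrank_le (LinearMap.range (φ.prod ψ))
    rw [Module.finrank_prod, Module.finrank_self] at this
    exact this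
  rw [Module.finrank_fin_fun] at h1
  have h3 : 0 < finrank F (LinearMap.ker (φ.prod ψ)) := by omega
  obtain ⟨x, hx⟩ := Module.finrank_pos_iff_exists_ne_zero.1 h3
  have hx2 := x.2
  rw [LinearMap.mem_ker, LinearMap.prod_apply] at hx2
  have h4 := Prod.ext_iff.1 hx2
  refine ⟨x.1, fun h => hx (Subtype.ext h), h4.1, h4.2⟩

open Cfsg.Agent.Lib.Helper3.SpT in
/-- E-ALG (a): `K` skew, `L := K - r_w K r_w` with `L²` scalar, `b ≥ 3` ⇒ `K w = 0` -/
theorem skew_refl_sq (hJ2 : OrthG J2) (h2 : (2 : F) ≠ 0) (hb : 3 ≤ b) (Kk : Matrix (Fin b) (Fin b) F)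
    (hK : ∀ w w', bf J2 (Kk *ᵥ w) w' = - bf J2 w (Kk *ᵥ w')) (w : Fin b → F) (hw : bf J2 w w ≠ 0) (κ : F)
    (hL : (Kk - reflM J2 w * Kk * reflM J2 w) * (Kk - reflM J2 w * Kk * reflM J2 w) =
      κ • (1 : Matrix (Fin b) (Fin b) F)) :
    Kk *ᵥ w = 0 := by
  set Q : F := bf J2 w w with hQ
  set v : Fin b → F := Kk *ᵥ w with hv
  -- `v ⟂ w`
  have hvw : bf J2 v w = 0 := by
    have h1 := hK w w
    rw [hJ2.symm w (Kk *ᵥ w)] at h1
    have h3 : (2 : F) * bf J2 v w = 0 := by
      rw [hv]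
      linear_combination h1
    exact (mul_eq_zero.1 h3).resolve_left h2
  have hwv : bf J2 w v = 0 := by rw [hJ2.symm]; exact hvw
  -- the formula for `L`
  have hLt : ∀ t : Fin b → F, (Kk - reflM J2 w * Kk * reflM J2 w) *ᵥ t =
      (2 / Q) • (bf J2 t w • v - bf J2 t v • w) := by
    intro t
    rw [Matrix.sub_mulVec, ← Matrix.mulVec_mulVec, ← Matrix.mulVec_mulVec, reflM_mulVec J2 w t,
      Matrix.mulVec_sub, Matrix.mulVec_smul, reflM_mulVec, bf_sub_left, bf_smul_left, hvw, mul_zero, sub_zero,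
      hK t w]
    rw [← hv, ← hQ]
    module
  -- `L w = 2 v`, `L v = -(2/Q) f(v,v) w`
  have hLL : ∀ t : Fin b → F, ((Kk - reflM J2 w * Kk * reflM J2 w) * (Kk - reflM J2 w * Kk * reflM J2 w)) *ᵥ t =
      (-(4 / Q ^ 2) * bf J2 v v * bf J2 t w) • w + (-(4 / Q) * bf J2 t v) • v := by
    intro t
    rw [← Matrix.mulVec_mulVec, hLt t, Matrix.mulVec_smul, Matrix.mulVec_sub, Matrix.mulVec_smul,
      Matrix.mulVec_smul, hLt v, hLt w, hvw, hwv, ← hQ]
    have hQ0 : Q ≠ 0 := hw
    simp only [zero_smul, zero_sub, sub_zero, smul_smul, smul_neg, smul_sub]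
    have e1 : (2 / Q * (bf J2 t w * (2 / Q))) = 4 / Q ^ 2 * bf J2 t w := by
      field_simp
      ring
    have e2 : 2 / Q * (bf J2 t v * (2 / Q * Q)) = 4 / Q * bf J2 t v := by
      field_simp
      ring
    rw [show (2 / Q * (bf J2 t w * (2 / Q * bf J2 v v))) = 4 / Q ^ 2 * bf J2 v v * bf J2 t w by
      field_simp; ring, e2]
    module
  rw [hL] at hLL
  -- `κ = 0`
  obtain ⟨t, ht0, htv, htw⟩ := exists_perp_two (J2 := J2) hb v w
  have hκ : κ = 0 := by
    have h1 := hLL t
    rw [htv, htw, Matrix.smul_mulVec, Matrix.one_mulVec] at h1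
    simp only [mul_zero, zero_smul, add_zero] at h1
    by_contra hne
    apply ht0
    have := congrArg (fun z => κ⁻¹ • z) h1
    simpa [smul_smul, inv_mul_cancel₀ hne] using this
  have hQ0 : Q ≠ 0 := hw
  have hw0 : w ≠ 0 := by
    intro h0
    apply hw
    rw [hQ, h0]
    unfold bf
    simp
  -- `f(v,v) = 0`
  have hvv : bf J2 v v = 0 := by
    have h1 := hLL w
    rw [hκ, zero_smul, Matrix.zero_mulVec, hwv, mul_zero, zero_smul, add_zero, ← hQ] at h1
    have h3 : -(4 / Q ^ 2) * bf J2 v v * Q = 0 := by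
      by_contra hne
      apply hw0
      rcases smul_eq_zero.1 h1.symm with h7 | h7
      · exact absurd h7 hne
      · exact h7
    have h4 : (4 : F) ≠ 0 := by
      have : (4 : F) = 2 * 2 := by norm_num
      rw [this]
      exact mul_ne_zero h2 h2
    rcases mul_eq_zero.1 h3 with h5 | h5
    · rcases mul_eq_zero.1 h5 with h6 | h6
      · exfalso
        rw [neg_eq_zero] at h6
        rcases div_eq_zero_iff.1 h6 with h7 | h7
        · exact h4 h7
        · exact hQ0 (pow_eq_zero_iff (two_ne_zero) |>.1 h7)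
      · exact h6
    · exact absurd h5 hQ0
  -- `v = 0`
  by_contra hv0
  have h5 : ∀ t, bf J2 t v = 0 := by
    intro t
    have h1 := hLL t
    rw [hκ, zero_smul, Matrix.zero_mulVec, hvv, mul_zero, zero_mul, zero_smul, zero_add] at h1
    have h4 : (4 : F) ≠ 0 := by
      have : (4 : F) = 2 * 2 := by norm_num
      rw [this]
      exact mul_ne_zero h2 h2
    by_contra hne
    apply hv0
    have hc : -(4 / Q) * bf J2 t v ≠ 0 :=
      mul_ne_zero (neg_ne_zero.2 (div_ne_zero h4 hQ0)) hne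
    rcases smul_eq_zero.1 h1.symm with h7 | h7
    · exact absurd h7 hc
    · exact h7
  apply hv0
  apply hJ2.nondeg
  intro y
  rw [hJ2.symm]
  exact h5 y

open Cfsg.Agent.Lib.Helper3.SpT in
/-- E-ALG (b): the non-singular vectors span `W` -/
theorem eq_zero_of_nonsing (hJ2 : OrthG J2) (h2 : (2 : F) ≠ 0) (Kk : Matrix (Fin b) (Fin b) F)
    (h : ∀ w, bf J2 w w ≠ 0 → Kk *ᵥ w = 0) : Kk = 0 := by
  apply mat_ext_mulVec
  intro x
  rw [Matrix.zero_mulVec]
  by_cases hx : bf J2 x x ≠ 0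
  · exact h x hx
  push Not at hx
  by_cases hx0 : x = 0
  · rw [hx0, Matrix.mulVec_zero]
  -- `y` with `f(x,y) ≠ 0`
  obtain ⟨y, hy⟩ : ∃ y, bf J2 x y ≠ 0 := by
    by_contra hcon
    push Not at hcon
    exact hx0 (hJ2.nondeg x hcon)
  -- a non-singular `z` with `f(x,z) ≠ 0`
  obtain ⟨z, hz, hxz⟩ : ∃ z, bf J2 z z ≠ 0 ∧ bf J2 x z ≠ 0 := by
    by_cases hyy : bf J2 y y = 0
    · refine ⟨x + y, ?_, ?_⟩
      · rw [bf_add_left, bf_add_right, bf_add_right, hx, hyy, hJ2.symm y x]
        intro h0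
        apply hy
        have : (2 : F) * bf J2 x y = 0 := by linear_combination h0
        exact (mul_eq_zero.1 this).resolve_left h2
      · rw [bf_add_right, hx, zero_add]
        exact hy
    · exact ⟨y, hyy, hy⟩
  -- `t ∈ {1, -1}` with `x + t z` non-singular
  have key : ∀ t : F, t ≠ 0 → bf J2 (x + t • z) (x + t • z) ≠ 0 → Kk *ᵥ x = 0 := by
    intro t ht hne
    have h1 := h _ hne
    have h3 : bf J2 (t • z) (t • z) ≠ 0 := by
      rw [bf_smul_left, bf_smul_right]
      exact mul_ne_zero ht (mul_ne_zero ht hz)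
    have h4 := h _ h3
    rw [Matrix.mulVec_add, h4, add_zero] at h1
    exact h1
  have e : ∀ t : F, bf J2 (x + t • z) (x + t • z) = t * (2 * bf J2 x z + t * bf J2 z z) := by
    intro t
    rw [bf_add_left, bf_add_right, bf_add_right, bf_smul_left, bf_smul_left, bf_smul_right, bf_smul_right, hx,
      hJ2.symm z x]
    ring
  by_cases h1 : 2 * bf J2 x z + bf J2 z z = 0
  · apply key (-1) (neg_ne_zero.2 one_ne_zero)
    rw [e]
    apply mul_ne_zero (neg_ne_zero.2 one_ne_zero)
    intro h3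
    apply hz
    have : (2 : F) * bf J2 z z = 0 := by linear_combination h1 - h3
    exact (mul_eq_zero.1 this).resolve_left h2
  · apply key 1 one_ne_zero
    rw [e, one_mul, one_mul]
    exact h1

end Cfsg.Agent.Lib.Helper18.S5666EALG
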