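import Mathlib
import Cfsg.Prelude.Def_GeometricClasses
import Cfsg.Agent.Lib.Helper18.AschC3
import Cfsg.Agent.Lib.Helper18.FormField

/-!
# The field block with forms, bilinear case (helper18): `AdjForm` for bilinear forms; the symplectic class-3 / class-8
trichotomy `symplectic_field`.
-/

set_option autoImplicit false

namespace Cfsg.Agent.Lib.Helper18.FormFieldSp

open Matrix Module Cfsg Cfsg.Geo Cfsg.Agent.Lib.Helper18.AschC3 Cfsg.Agent.Lib.Helper18.FormField

variable {F : Type*} [Field F] {ι : Type} [Fintype ι] [DecidableEq ι]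

/-! ### bilinear forms have adjoints -/

/-- a bilinear form is given by its Gram matrix -/
theorem exists_gram {f : (ι → F) → (ι → F) → F} (hb : IsBilinearForm f) :
    ∃ G : Matrix ι ι F, ∀ u v, f u v = u ⬝ᵥ G *ᵥ v := by
  let B : LinearMap.BilinForm F (ι → F) := LinearMap.mk₂ F f hb.add_left hb.smul_left hb.add_right hb.smul_right
  refine ⟨LinearMap.BilinForm.toMatrix' B, fun u v => ?_⟩
  rw [← Matrix.toBilin'_apply', Matrix.toBilin'_toMatrix']
  rfl

theorem dotProduct_mulVec_left (k : Matrix ι ι F) (u w : ι → F) : (k *ᵥ u) ⬝ᵥ w = u ⬝ᵥ (kᵀ *ᵥ w) := by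
  rw [dotProduct_comm, Matrix.dotProduct_mulVec, ← Matrix.mulVec_transpose, dotProduct_comm]

/-- a non-degenerate bilinear form has adjoints -/
theorem exists_isAdj {f : (ι → F) → (ι → F) → F} (hb : IsBilinearForm f) (hnd : IsNondegenerateForm f)
    (k : Matrix ι ι F) : ∃ k' : Matrix ι ι F, IsAdj f k k' := by
  obtain ⟨G, hG⟩ := exists_gram hb
  have hdet : G.det ≠ 0 := by
    intro h0
    obtain ⟨w, hw0, hw⟩ := Matrix.exists_mulVec_eq_zero_iff.2 h0
    obtain ⟨x, hx⟩ := (hnd w hw0).1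
    apply hx
    rw [hG, hw, dotProduct_zero]
  have hu : IsUnit G.det := isUnit_iff_ne_zero.2 hdet
  refine ⟨G⁻¹ * kᵀ * G, fun u v => ?_⟩
  rw [hG, hG, dotProduct_mulVec_left, Matrix.mulVec_mulVec, Matrix.mulVec_mulVec,
    mul_assoc G⁻¹ kᵀ G, Matrix.mul_nonsing_inv_cancel_left _ _ hu]

/-- a reflexive (symmetric or skew-symmetric) non-degenerate bilinear form satisfies the hypotheses of the field
block -/
theorem adjForm_of_bilinear {f : (ι → F) → (ι → F) → F} (hb : IsBilinearForm f) (hnd : IsNondegenerateForm f)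
    (hrefl : (∀ u v, f u v = f v u) ∨ (∀ u v, f u v = - f v u)) : AdjForm f where
  add_left := hb.add_left
  smul_left := hb.smul_left
  add_right := hb.add_right
  nondeg := hnd
  adj := exists_isAdj hb hnd
  adj_symm := by
    intro k k' h u v
    rcases hrefl with hs | hs
    · rw [hs, ← h, hs]
    · rw [hs, ← h, hs, neg_neg]

theorem adjForm_of_symplectic {f : (ι → F) → (ι → F) → F} (hf : IsSymplecticForm f) : AdjForm f :=
  adjForm_of_bilinear hf.bilinear hf.nondegenerate (Or.inr hf.skew)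

theorem adjForm_of_symmetric {f : (ι → F) → (ι → F) → F} (hf : IsSymmetricForm f) : AdjForm f :=
  adjForm_of_bilinear hf.bilinear hf.nondegenerate (Or.inl hf.symm)

/-! ### more on `IsAdj` -/

section isAdj
variable {f : (ι → F) → (ι → F) → F}

theorem IsAdj.sub (hf : AdjForm f) {a a' b b' : Matrix ι ι F} (ha : IsAdj f a a') (hb : IsAdj f b b') :
    IsAdj f (a - b) (a' - b') := fun u v => by
  rw [Matrix.sub_mulVec, hf.sub_left, ha, hb, Matrix.sub_mulVec, hf.sub_right]

/-- for a bilinear form, scalars are self-adjoint -/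
theorem IsAdj.algebraMap (hb : IsBilinearForm f) (c : F) :
    IsAdj f (algebraMap F (Matrix ι ι F) c) (algebraMap F (Matrix ι ι F) c) := fun u v => by
  rw [Algebra.algebraMap_eq_smul_one, Matrix.smul_mulVec, Matrix.smul_mulVec, Matrix.one_mulVec,
    Matrix.one_mulVec, hb.smul_left, hb.smul_right]

/-- an isometry has its inverse as adjoint -/
theorem IsAdj.of_isometry (g : GL ι F)
    (hg : ∀ u v, f ((g : Matrix ι ι F) *ᵥ u) ((g : Matrix ι ι F) *ᵥ v) = f u v) :
    IsAdj f (g : Matrix ι ι F) ((g⁻¹ : GL ι F) : Matrix ι ι F) := fun u v => by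
  have := hg u (((g⁻¹ : GL ι F) : Matrix ι ι F) *ᵥ v)
  rw [Matrix.mulVec_mulVec, Units.mul_inv, Matrix.one_mulVec] at this
  exact this

theorem IsAdj.of_isometry_inv (g : GL ι F)
    (hg : ∀ u v, f ((g : Matrix ι ι F) *ᵥ u) ((g : Matrix ι ι F) *ᵥ v) = f u v) :
    IsAdj f ((g⁻¹ : GL ι F) : Matrix ι ι F) (g : Matrix ι ι F) := fun u v => by
  have := hg (((g⁻¹ : GL ι F) : Matrix ι ι F) *ᵥ u) v
  rw [Matrix.mulVec_mulVec, Units.mul_inv, Matrix.one_mulVec] at this
  exact this.symm

end isAdj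

/-! ### characteristic 2: `f (k v) v = 0` for self-adjoint `k` in an adjoint-closed field subalgebra -/

section char2
variable [Fintype F] [Nonempty ι] {f : (ι → F) → (ι → F) → F}

theorem alt_of_selfAdj_char_two (haf : AdjForm f) (halt : ∀ v, f v v = 0) (h2 : (2 : F) = 0) {d : ℕ}
    (K : Subalgebra F (Matrix ι ι F)) (hK : IsFieldSubalgebra d K) (hadj : IsAdjointClosedFor f K)
    (k : Matrix ι ι F) (hk : k ∈ K) (hkk : IsAdj f k k) (v : ι → F) : f (k *ᵥ v) v = 0 := by
  letI := fieldOf K hK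
  set τ : ↥K →+* ↥K := adjK haf K hK.comm hadj with hτ
  let L : Subfield ↥K := RingHom.eqLocusField τ (RingHom.id ↥K)
  have hkL : (⟨k, hk⟩ : ↥K) ∈ L := by
    change τ ⟨k, hk⟩ = ⟨k, hk⟩
    exact Subtype.ext (adjFun_eq haf K hadj ⟨k, hk⟩ k hkk)
  haveI : CharP F 2 := CharTwo.of_one_ne_zero_of_two_eq_zero one_ne_zero h2
  haveI : CharP ↥K 2 := charP_of_injective_algebraMap (algebraMap F ↥K).injective 2
  haveI : CharP ↥L 2 := RingHom.charP L.subtype Subtype.val_injective 2
  haveI : Finite ↥L := inferInstance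
  obtain ⟨s, hs⟩ := FiniteField.isSquare_of_char_two (ringChar.eq ↥L 2) (⟨⟨k, hk⟩, hkL⟩ : ↥L)
  have hsτ : τ (s : ↥K) = (s : ↥K) := s.2
  have hss : IsAdj f ((s : ↥K) : Matrix ι ι F) ((s : ↥K) : Matrix ι ι F) := by
    have := adjFun_spec K hadj (s : ↥K)
    have e : adjFun K hadj (s : ↥K) = (s : ↥K) := hsτ
    rw [e] at this
    exact this
  have hks : k = ((s : ↥K) : Matrix ι ι F) * ((s : ↥K) : Matrix ι ι F) := by
    have := congrArg (fun x : ↥L => ((x : ↥K) : Matrix ι ι F)) hs
    simpa using this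
  rw [hks, ← Matrix.mulVec_mulVec, hss]
  exact halt _

end char2

/-! ### (Sp) the symplectic trichotomy -/

section symplectic
variable [Fintype F] [Nonempty ι] {f : (ι → F) → (ι → F) → F}

/-- a non-trivial `F`-algebra involution of a field subalgebra of prime degree exists only in degree 2 -/
theorem eq_two_of_not_selfAdjoint (hb : IsBilinearForm f) (haf : AdjForm f) {r : ℕ} (hr : r.Prime)
    (K : Subalgebra F (Matrix ι ι F)) (hK : IsFieldSubalgebra r K) (hadj : IsAdjointClosedFor f K)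
    (hnsa : ¬ IsSelfAdjointFor f K) : r = 2 := by
  letI := fieldOf K hK
  set τ : ↥K →+* ↥K := adjK haf K hK.comm hadj with hτ
  have hττ : ∀ x, τ (τ x) = x := fun x => adjFun_adjFun haf K hadj x
  let ρ : ↥K →ₐ[F] ↥K :=
    { τ with
      commutes' := by
        intro c
        apply Subtype.ext
        exact adjFun_eq haf K hadj (algebraMap F ↥K c) _ (IsAdj.algebraMap hb c) }
  let ρ' : ↥K ≃ₐ[F] ↥K := AlgEquiv.ofBijective ρ (Algebra.IsAlgebraic.algHom_bijective ρ)
  have hρ'x : ∀ x : ↥K, ρ' x = τ x := fun x => rfl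
  set φ := FiniteField.frobeniusAlgEquivOfAlgebraic F ↥K with hφ
  obtain ⟨j, hj⟩ := (FiniteField.bijective_frobeniusAlgEquivOfAlgebraic_pow F ↥K).2 ρ'
  have hj' : φ ^ j.1 = ρ' := hj
  have hsq : ρ' * ρ' = 1 := by
    apply AlgEquiv.ext
    intro x
    rw [AlgEquiv.mul_apply, hρ'x, hρ'x, hττ, AlgEquiv.one_apply]
  have hne : ρ' ≠ 1 := by
    intro h1
    apply hnsa
    rw [isSelfAdjointFor_iff haf K hadj]
    intro k
    have := congrArg (fun e : ↥K ≃ₐ[F] ↥K => e k) h1
    exact this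
  have hord : orderOf φ = r := by
    rw [hφ, FiniteField.orderOf_frobeniusAlgEquivOfAlgebraic]
    exact hK.finrank_eq
  have hjr : j.1 < r := lt_of_lt_of_eq j.2 hK.finrank_eq
  rw [← hj', ← pow_add] at hsq
  have hdvd : r ∣ j.1 + j.1 := by
    rw [← hord]
    exact orderOf_dvd_of_pow_eq_one hsq
  have hj0 : ¬ r ∣ j.1 := by
    intro h
    apply hne
    rw [← hj']
    rw [← hord] at h
    exact orderOf_dvd_iff_pow_eq_one.1 h
  have h2 : r ∣ 2 := by
    have : r ∣ 2 * j.1 := by rw [two_mul]; exact hdvd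
    rcases (Nat.Prime.dvd_mul hr).1 this with h | h
    · exact h
    · exact absurd h hj0
  exact (Nat.prime_dvd_prime_iff_eq hr Nat.prime_two).1 h2

/-- **(Sp)** the class-3 / class-8 shape of an adjoint-closed field subalgebra of prime degree normalised by a
group `H` of isometries of a symplectic form -/
theorem symplectic_field (hf : IsSymplecticForm f) {r : ℕ} (hr : r.Prime) (K : Subalgebra F (Matrix ι ι F))
    (hK : IsFieldSubalgebra r K) (hadj : IsAdjointClosedFor f K) (H : Subgroup (GL ι F))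
    (hfix : FixesForm (matrixSet H) f) (hHK : H ≤ subalgebraNormalizer K) :
    (IsSelfAdjointFor f K ∧ ∀ k ∈ K, ∀ v, f (k *ᵥ v) v = 0) ∨
    (r = 2 ∧ ¬ IsSelfAdjointFor f K ∧ (Odd (Fintype.card F) ∨
      ∃ Q : (ι → F) → F, IsNondegenerateQuadraticForm Q ∧ (∀ u v, QuadraticMap.polar Q u v = f u v) ∧
        FixesQuadForm (matrixSet H) Q)) := by
  have haf := adjForm_of_symplectic hf
  have hb := hf.bilinear
  by_cases hsa : IsSelfAdjointFor f K
  · left
    refine ⟨hsa, fun k hk v => ?_⟩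
    by_cases h2 : (2 : F) = 0
    · exact alt_of_selfAdj_char_two haf hf.alternating h2 K hK hadj k hk (hsa k hk) v
    · have h1 : f (k *ᵥ v) v = - f (k *ᵥ v) v := by
        conv_lhs => rw [hsa k hk, hf.skew]
      have h3 : (2 : F) * f (k *ᵥ v) v = 0 := by linear_combination h1
      exact (mul_eq_zero.1 h3).resolve_left h2
  · right
    refine ⟨eq_two_of_not_selfAdjoint hb haf hr K hK hadj hsa, hsa, ?_⟩
    by_cases hodd : Odd (Fintype.card F)
    · exact Or.inl hodd
    right
    -- characteristic 2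
    have hchar : ringChar F = 2 := by
      rw [FiniteField.even_card_iff_char_two]
      rcases Nat.even_or_odd (Fintype.card F) with h | h
      · exact Nat.even_iff.1 h
      · exact absurd h hodd
    haveI : CharP F 2 := ringChar.of_eq hchar
    have h2 : (2 : F) = 0 := CharTwo.two_eq_zero
    have hneg : ∀ a : F, -a = a := fun a => CharTwo.neg_eq a
    letI := fieldOf K hK
    set τ : ↥K →+* ↥K := adjK haf K hK.comm hadj with hτ
    have hττ : ∀ x, τ (τ x) = x := fun x => adjFun_adjFun haf K hadj x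
    haveI : CharP ↥K 2 := charP_of_injective_algebraMap (algebraMap F ↥K).injective 2
    -- `θ` with `θ + τ θ = 1`
    obtain ⟨x, hx⟩ : ∃ x : ↥K, τ x ≠ x := by
      by_contra hcon
      push Not at hcon
      exact hsa ((isSelfAdjointFor_iff haf K hadj).2 hcon)
    set t : ↥K := x + τ x with ht
    have ht0 : t ≠ 0 := by
      intro h0
      apply hx
      have : τ x = -x := by
        rw [ht] at h0
        exact (neg_eq_of_add_eq_zero_right h0).symm
      rw [this, CharTwo.neg_eq]
    have hτt : τ t = t := by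
      rw [ht, map_add, hττ, add_comm]
    set θ : ↥K := x * t⁻¹ with hθ
    have hθ1 : θ + τ θ = 1 := by
      rw [hθ, map_mul, map_inv₀, hτt, ← add_mul, ← ht, mul_inv_cancel₀ ht0]
    have hθadj : IsAdj f (θ : Matrix ι ι F) ((τ θ : ↥K) : Matrix ι ι F) := adjFun_spec K hadj θ
    have hτθ : ((τ θ : ↥K) : Matrix ι ι F) = 1 - (θ : Matrix ι ι F) := by
      have := congrArg (fun y : ↥K => (y : Matrix ι ι F)) hθ1
      simp only [Subalgebra.coe_add, Subalgebra.coe_one] at this
      rw [← this]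
      abel
    -- the quadratic form
    let Q : (ι → F) → F := fun v => f ((θ : Matrix ι ι F) *ᵥ v) v
    have hpolar : ∀ u v, QuadraticMap.polar Q u v = f u v := by
      intro u v
      change f ((θ : Matrix ι ι F) *ᵥ (u + v)) (u + v) - f ((θ : Matrix ι ι F) *ᵥ u) u -
        f ((θ : Matrix ι ι F) *ᵥ v) v = f u v
      rw [Matrix.mulVec_add, hb.add_left, hb.add_right, hb.add_right]
      have e1 : f ((θ : Matrix ι ι F) *ᵥ v) u = f u v - f ((θ : Matrix ι ι F) *ᵥ u) v := by
        rw [hθadj, hτθ, Matrix.sub_mulVec, Matrix.one_mulVec, haf.sub_right, hf.skew v u,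
          hf.skew v ((θ : Matrix ι ι F) *ᵥ u), hneg, hneg]
      rw [e1]
      ring
    have hQ : IsNondegenerateQuadraticForm Q := by
      have hpf : QuadraticMap.polar Q = f := by
        funext u v
        exact hpolar u v
      refine ⟨fun c v => ?_, ?_, ?_⟩
      · change f ((θ : Matrix ι ι F) *ᵥ (c • v)) (c • v) = c ^ 2 * f ((θ : Matrix ι ι F) *ᵥ v) v
        rw [Matrix.mulVec_smul, hb.smul_left, hb.smul_right]
        ring
      · rw [hpf]
        exact hb
      · rw [hpf]
        exact hf.nondegenerate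
    refine ⟨Q, hQ, hpolar, ?_⟩
    rintro s ⟨h, hh, rfl⟩ v
    have hiso : ∀ u v, f ((h : Matrix ι ι F) *ᵥ u) ((h : Matrix ι ι F) *ᵥ v) = f u v :=
      fun u v => hfix _ ⟨h, hh, rfl⟩ u v
    -- `θ' = h⁻¹ θ h ∈ K`
    set θ' : Matrix ι ι F := ((h⁻¹ : GL ι F) : Matrix ι ι F) * (θ : Matrix ι ι F) * (h : Matrix ι ι F) with hθ'
    have hθ'K : θ' ∈ K := by
      have := (hHK hh) θ'
      rw [this, hθ']
      have e : (h : Matrix ι ι F) * (((h⁻¹ : GL ι F) : Matrix ι ι F) * (θ : Matrix ι ι F) * (h : Matrix ι ι F)) *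
          ((h⁻¹ : GL ι F) : Matrix ι ι F) = (θ : Matrix ι ι F) := by
        simp only [← mul_assoc, Units.mul_inv, one_mul]
        rw [mul_assoc, Units.mul_inv, mul_one]
      rw [e]
      exact θ.2
    have hθ'adj : IsAdj f θ' (1 - θ') := by
      have h1 : IsAdj f θ' (((h⁻¹ : GL ι F) : Matrix ι ι F) * ((1 - (θ : Matrix ι ι F)) * (h : Matrix ι ι F))) := by
        have := ((IsAdj.of_isometry_inv h hiso).mul (hτθ ▸ hθadj)).mul (IsAdj.of_isometry h hiso)
        rw [← mul_assoc] at this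
        rw [hθ']
        convert this using 1
        rw [mul_assoc]
      have e : ((h⁻¹ : GL ι F) : Matrix ι ι F) * ((1 - (θ : Matrix ι ι F)) * (h : Matrix ι ι F)) = 1 - θ' := by
        rw [hθ', sub_mul, one_mul, mul_sub, Units.inv_mul, mul_assoc]
      rw [e] at h1
      exact h1
    have hδ : IsAdj f (θ' - (θ : Matrix ι ι F)) (θ' - (θ : Matrix ι ι F)) := by
      have := IsAdj.sub haf hθ'adj (hτθ ▸ hθadj)
      have e : (1 - θ') - (1 - (θ : Matrix ι ι F)) = θ' - (θ : Matrix ι ι F) := by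
        have h2m : ∀ M : Matrix ι ι F, -M = M := by
          intro M
          ext i j
          exact hneg (M i j)
        rw [sub_sub_sub_cancel_left, ← neg_sub, h2m]
      rw [e] at this
      exact this
    have h0 := alt_of_selfAdj_char_two haf hf.alternating h2 K hK hadj _ (K.sub_mem hθ'K θ.2) hδ v
    rw [Matrix.sub_mulVec, haf.sub_left, sub_eq_zero] at h0
    change f ((θ : Matrix ι ι F) *ᵥ ((h : Matrix ι ι F) *ᵥ v)) ((h : Matrix ι ι F) *ᵥ v) =
      f ((θ : Matrix ι ι F) *ᵥ v) v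
    rw [← h0]
    have e : (θ : Matrix ι ι F) *ᵥ ((h : Matrix ι ι F) *ᵥ v) = (h : Matrix ι ι F) *ᵥ (θ' *ᵥ v) := by
      rw [hθ', Matrix.mulVec_mulVec, Matrix.mulVec_mulVec]
      simp only [← mul_assoc, Units.mul_inv, one_mul]
    rw [e, hiso]

end symplectic

end Cfsg.Agent.Lib.Helper18.FormFieldSp
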