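import Mathlib
import Cfsg.Prelude.Def_GeometricClasses
import Cfsg.Agent.Lib.Helper18.AschC3
import Cfsg.Agent.Lib.Helper18.FormField
import Cfsg.Agent.Lib.Helper18.FormFieldSp

/-!
# The field block with a quadratic form (helper18) - even-dimensional orthogonal hub, both parities of `q`

For a non-degenerate quadratic form `Q` with polar form `f`, a group `H` of isometries of `Q` acting irreducibly and
normalising an adjoint-closed field subalgebra `K` of prime degree `r`:

* either `K` is self-adjoint (and `f (k v) v = 0` in characteristic 2),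
* or `r = 2`, `K` is not self-adjoint, and every `k ∈ K` is a similarity of `Q` (`Q (k v) = c Q v`, `c` the norm of `k`):
  for `q` odd from the polar form, for `q` even by the additive-square trick on the pair
  `D v = Q (k₀ v) - c₀ Q v`, `E v = f v (k₀ v) - t₀ Q v`.
-/

set_option autoImplicit false

namespace Cfsg.Agent.Lib.Helper18.FormFieldQ

open Matrix Module Cfsg Cfsg.Geo Cfsg.Agent.Lib.Helper18.AschC3 Cfsg.Agent.Lib.Helper18.FormField
open Cfsg.Agent.Lib.Helper18.FormFieldSp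

variable {F : Type*} [Field F] {ι : Type} [Fintype ι] [DecidableEq ι]

section basic
variable {f : (ι → F) → (ι → F) → F}

theorem isAdj_smul (hb : IsBilinearForm f) {a a' : Matrix ι ι F} (c : F) (h : IsAdj f a a') :
    IsAdj f (c • a) (c • a') := fun u v => by
  rw [Matrix.smul_mulVec, Matrix.smul_mulVec, hb.smul_left, hb.smul_right, h]

/-- a field subalgebra of degree two is spanned by `1` and any non-scalar element -/
theorem exists_pair_of_mem [Nonempty ι] (K : Subalgebra F (Matrix ι ι F)) (hK : IsFieldSubalgebra 2 K)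
    (x : Matrix ι ι F) (hx : x ∈ K) (hne : ∀ c : F, x ≠ c • (1 : Matrix ι ι F)) (k : Matrix ι ι F) (hk : k ∈ K) :
    ∃ a b : F, k = a • (1 : Matrix ι ι F) + b • x := by
  have hli : LinearIndependent F ![(1 : ↥K), ⟨x, hx⟩] := by
    rw [LinearIndependent.pair_iff]
    intro s t hst
    have hst' : s • (1 : Matrix ι ι F) + t • x = 0 := by
      have := congrArg Subtype.val hst
      simpa using this
    by_cases ht : t = 0
    · subst ht
      rw [zero_smul, add_zero] at hst'
      refine ⟨?_, rfl⟩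
      by_contra hs
      have h1 : (1 : Matrix ι ι F) = 0 := by
        calc (1 : Matrix ι ι F) = s⁻¹ • (s • (1 : Matrix ι ι F)) := by
              rw [smul_smul, inv_mul_cancel₀ hs, one_smul]
          _ = 0 := by rw [hst', smul_zero]
      exact one_ne_zero h1
    · exfalso
      apply hne (-(t⁻¹ * s))
      have h1 : t • x = -(s • (1 : Matrix ι ι F)) := eq_neg_of_add_eq_zero_right hst'
      calc x = t⁻¹ • (t • x) := by rw [smul_smul, inv_mul_cancel₀ ht, one_smul]
        _ = (-(t⁻¹ * s)) • (1 : Matrix ι ι F) := by rw [h1, smul_neg, smul_smul, neg_smul]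
  have hspan := hli.span_eq_top_of_card_eq_finrank' (by rw [Fintype.card_fin, hK.finrank_eq])
  have hk' : (⟨k, hk⟩ : ↥K) ∈ Submodule.span F (Set.range ![(1 : ↥K), ⟨x, hx⟩]) := by
    rw [hspan]
    trivial
  rw [Submodule.mem_span_range_iff_exists_fun] at hk'
  obtain ⟨c, hc⟩ := hk'
  rw [Fin.sum_univ_two] at hc
  refine ⟨c 0, c 1, ?_⟩
  have := congrArg Subtype.val hc
  simpa using this.symm

/-- in a non-self-adjoint adjoint-closed field subalgebra of degree two the self-adjoint elements are the scalars -/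
theorem exists_smul_one_of_fixed [Nonempty ι] (hb : IsBilinearForm f) (haf : AdjForm f)
    (K : Subalgebra F (Matrix ι ι F)) (hK : IsFieldSubalgebra 2 K) (hnsa : ¬ IsSelfAdjointFor f K)
    (x : Matrix ι ι F) (hx : x ∈ K) (hxx : IsAdj f x x) : ∃ c : F, x = c • (1 : Matrix ι ι F) := by
  by_contra hne
  push Not at hne
  apply hnsa
  intro k hk
  obtain ⟨a, b, rfl⟩ := exists_pair_of_mem K hK x hx hne k hk
  exact IsAdj.add haf (isAdj_smul hb a IsAdj.one) (isAdj_smul hb b hxx)

/-- norm and trace of an element of a non-self-adjoint adjoint-closed field subalgebra of degree two -/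
theorem exists_norm_trace [Nonempty ι] (hb : IsBilinearForm f) (haf : AdjForm f)
    (K : Subalgebra F (Matrix ι ι F)) (hK : IsFieldSubalgebra 2 K) (hadj : IsAdjointClosedFor f K)
    (hnsa : ¬ IsSelfAdjointFor f K) (k : Matrix ι ι F) (hk : k ∈ K) :
    ∃ (k' : Matrix ι ι F) (c t : F), k' ∈ K ∧ IsAdj f k k' ∧ k' * k = c • (1 : Matrix ι ι F) ∧
      k' + k = t • (1 : Matrix ι ι F) := by
  obtain ⟨k', hk'K, hk'⟩ := hadj k hk
  have hk'' : IsAdj f k' k := haf.adj_symm k k' hk'
  obtain ⟨c, hc⟩ := exists_smul_one_of_fixed hb haf K hK hnsa (k' * k) (K.mul_mem hk'K hk) (hk''.mul hk')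
  obtain ⟨t, ht⟩ := exists_smul_one_of_fixed hb haf K hK hnsa (k' + k) (K.add_mem hk'K hk) (by
    have := IsAdj.add haf hk'' hk'
    rwa [add_comm k k'] at this)
  exact ⟨k', c, t, hk'K, hk', hc, ht⟩

/-- an element whose norm is the scalar `c` is a similarity of the form with factor `c` -/
theorem form_similarity (hb : IsBilinearForm f) {k k' : Matrix ι ι F} {c : F} (h : IsAdj f k k')
    (hc : k' * k = c • (1 : Matrix ι ι F)) (u v : ι → F) : f (k *ᵥ u) (k *ᵥ v) = c * f u v := by
  rw [h, Matrix.mulVec_mulVec, hc, Matrix.smul_mulVec, Matrix.one_mulVec, hb.smul_right]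

end basic

section quad
variable {Q : (ι → F) → F}

theorem polar_self (hQ : IsNondegenerateQuadraticForm Q) (v : ι → F) : QuadraticMap.polar Q v v = 2 * Q v := by
  unfold QuadraticMap.polar
  have : v + v = (2 : F) • v := (two_smul F v).symm
  rw [this, hQ.smul]
  ring

theorem quad_add (Q : (ι → F) → F) (u v : ι → F) : Q (u + v) = Q u + Q v + QuadraticMap.polar Q u v := by
  unfold QuadraticMap.polar
  ring

theorem polar_symm (u v : ι → F) : QuadraticMap.polar Q u v = QuadraticMap.polar Q v u :=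
  QuadraticMap.polar_comm Q u v

theorem adjForm_polar (hQ : IsNondegenerateQuadraticForm Q) : AdjForm (QuadraticMap.polar Q) :=
  adjForm_of_bilinear hQ.polar_bilinear hQ.nondegenerate (Or.inl polar_symm)

/-- `q` odd: the norm is the similarity factor for `Q` -/
theorem quad_similarity_odd (hQ : IsNondegenerateQuadraticForm Q) (h2 : (2 : F) ≠ 0) {k k' : Matrix ι ι F} {c : F}
    (h : IsAdj (QuadraticMap.polar Q) k k') (hc : k' * k = c • (1 : Matrix ι ι F)) (v : ι → F) :
    Q (k *ᵥ v) = c * Q v := by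
  have h1 := form_similarity hQ.polar_bilinear h hc v v
  rw [polar_self hQ, polar_self hQ] at h1
  apply mul_left_cancel₀ h2
  linear_combination h1

theorem fixesForm_polar_of_fixesQuad (H : Subgroup (GL ι F)) (hHQ : FixesQuadForm (matrixSet H) Q) :
    FixesForm (matrixSet H) (QuadraticMap.polar Q) := by
  intro s hs u v
  unfold QuadraticMap.polar
  rw [← Matrix.mulVec_add, hHQ s hs, hHQ s hs, hHQ s hs]

end quad

section chartwo
variable [Fintype F]

/-- characteristic 2: a pair of additive, square-homogeneous maps whose common zero set is stable under an irreducible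
set of matrices vanishes (dimension at least 3) -/
theorem zero_of_additive_sq_pair (h2 : (2 : F) = 0) (hcard : 3 ≤ Fintype.card ι) (S : Set (Matrix ι ι F))
    (hirr : ActsIrreducibly S) (D E : (ι → F) → F)
    (hDadd : ∀ u v, D (u + v) = D u + D v) (hDsm : ∀ (a : F) v, D (a • v) = a ^ 2 * D v)
    (hEadd : ∀ u v, E (u + v) = E u + E v) (hEsm : ∀ (a : F) v, E (a • v) = a ^ 2 * E v)
    (hinv : ∀ s ∈ S, ∀ v, D v = 0 → E v = 0 → D (s *ᵥ v) = 0 ∧ E (s *ᵥ v) = 0) (v : ι → F) :
    D v = 0 ∧ E v = 0 := by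
  classical
  have hD0 : D 0 = 0 := by
    have := hDsm 0 0
    rw [zero_smul] at this
    rw [this]
    ring
  have hE0 : E 0 = 0 := by
    have := hEsm 0 0
    rw [zero_smul] at this
    rw [this]
    ring
  let W : Submodule F (ι → F) :=
    { carrier := {u | D u = 0 ∧ E u = 0}
      add_mem' := by
        intro a b ha hb
        refine ⟨?_, ?_⟩
        · show D (a + b) = 0
          rw [hDadd, ha.1, hb.1, add_zero]
        · show E (a + b) = 0
          rw [hEadd, ha.2, hb.2, add_zero]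
      zero_mem' := ⟨hD0, hE0⟩
      smul_mem' := by
        intro c a ha
        refine ⟨?_, ?_⟩
        · show D (c • a) = 0
          rw [hDsm, ha.1, mul_zero]
        · show E (c • a) = 0
          rw [hEsm, ha.2, mul_zero] }
  have hW : ∀ u, u ∈ W ↔ (D u = 0 ∧ E u = 0) := fun u => Iff.rfl
  have hinvW : ∀ s ∈ S, W.map (Matrix.toLin' s) ≤ W := by
    intro s hs
    rintro _ ⟨u, hu, rfl⟩
    rw [hW, Matrix.toLin'_apply]
    exact hinv s hs u ((hW u).1 hu).1 ((hW u).1 hu).2
  rcases hirr W hinvW with hbot | htop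
  · exfalso
    have hinj : Function.Injective (fun u : ι → F => (D u, E u)) := by
      intro a b hab
      have hD : D a = D b := congrArg Prod.fst hab
      have hE : E a = E b := congrArg Prod.snd hab
      have h3 : a + b ∈ W := by
        rw [hW, hDadd, hEadd, hD, hE]
        refine ⟨?_, ?_⟩
        · have : D b + D b = 2 * D b := by ring
          rw [this, h2, zero_mul]
        · have : E b + E b = 2 * E b := by ring
          rw [this, h2, zero_mul]
      rw [hbot, Submodule.mem_bot] at h3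
      have hneg : -b = b := by
        have : b + b = 0 := by
          rw [← two_smul F b, h2, zero_smul]
        exact neg_eq_of_add_eq_zero_left this
      rw [← hneg]
      exact eq_neg_of_add_eq_zero_left h3
    have hc := Fintype.card_le_of_injective _ hinj
    rw [Fintype.card_fun, Fintype.card_prod] at hc
    have h1F : 1 < Fintype.card F := Fintype.one_lt_card
    have h3 : Fintype.card F ^ 3 ≤ Fintype.card F ^ Fintype.card ι := Nat.pow_le_pow_right (by omega) hcard
    have h4 : Fintype.card F * Fintype.card F < Fintype.card F ^ 3 := by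
      have : Fintype.card F ^ 3 = Fintype.card F * Fintype.card F * Fintype.card F := by ring
      rw [this]
      nlinarith
    omega
  · have : v ∈ W := by
      rw [htop]
      trivial
    exact (hW v).1 this

/-- `q` even: the elements of a non-self-adjoint adjoint-closed field subalgebra of degree two normalised by an irreducible
group of isometries of `Q` are similarities of `Q` -/
theorem quad_similarity_even (h2 : (2 : F) = 0) (hcard : 3 ≤ Fintype.card ι) {Q : (ι → F) → F}
    (hQ : IsNondegenerateQuadraticForm Q) (K : Subalgebra F (Matrix ι ι F)) (hK : IsFieldSubalgebra 2 K)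
    (hadj : IsAdjointClosedFor (QuadraticMap.polar Q) K) (hnsa : ¬ IsSelfAdjointFor (QuadraticMap.polar Q) K)
    (H : Subgroup (GL ι F)) (hHQ : FixesQuadForm (matrixSet H) Q) (hirr : ActsIrreducibly (matrixSet H))
    (hHK : H ≤ subalgebraNormalizer K) :
    ∀ k ∈ K, ∃ c : F, ∀ v, Q (k *ᵥ v) = c * Q v := by
  classical
  haveI : Nonempty ι := by
    rw [← Fintype.card_pos_iff]
    omega
  set f := QuadraticMap.polar Q with hf
  have hb : IsBilinearForm f := hQ.polar_bilinear
  have haf : AdjForm f := adjForm_polar hQ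
  have hfix : FixesForm (matrixSet H) f := fixesForm_polar_of_fixesQuad H hHQ
  have halt : ∀ v, f v v = 0 := by
    intro v
    rw [hf, polar_self hQ, h2, zero_mul]
  have hone : (1 : Matrix ι ι F) ≠ 0 := one_ne_zero
  have hsmul_inj : ∀ a b : F, a • (1 : Matrix ι ι F) = b • (1 : Matrix ι ι F) → a = b := by
    intro a b hab
    obtain ⟨i⟩ := ‹Nonempty ι›
    have := congrFun (congrFun hab i) i
    simpa using this
  -- a non-self-adjoint element
  obtain ⟨k₀, hk₀K, hk₀⟩ : ∃ k₀ ∈ K, ¬ IsAdj f k₀ k₀ := by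
    by_contra hcon
    push Not at hcon
    exact hnsa (fun k hk => hcon k hk)
  obtain ⟨k₀', c₀, t₀, hk₀'K, hadj₀, hc₀, ht₀⟩ := exists_norm_trace hb haf K hK hadj hnsa k₀ hk₀K
  have hk₀ne : ∀ c : F, k₀ ≠ c • (1 : Matrix ι ι F) := by
    intro c hc
    apply hk₀
    rw [hc]
    exact isAdj_smul hb c IsAdj.one
  -- the two maps
  let D : (ι → F) → F := fun v => Q (k₀ *ᵥ v) - c₀ * Q v
  let E : (ι → F) → F := fun v => f v (k₀ *ᵥ v) - t₀ * Q v
  have hDadd : ∀ u v, D (u + v) = D u + D v := by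
    intro u v
    show Q (k₀ *ᵥ (u + v)) - c₀ * Q (u + v) = (Q (k₀ *ᵥ u) - c₀ * Q u) + (Q (k₀ *ᵥ v) - c₀ * Q v)
    rw [Matrix.mulVec_add, quad_add Q, quad_add Q u v]
    have := form_similarity hb hadj₀ hc₀ u v
    rw [hf] at this
    rw [this]
    ring
  have hDsm : ∀ (a : F) v, D (a • v) = a ^ 2 * D v := by
    intro a v
    show Q (k₀ *ᵥ (a • v)) - c₀ * Q (a • v) = a ^ 2 * (Q (k₀ *ᵥ v) - c₀ * Q v)
    rw [Matrix.mulVec_smul, hQ.smul, hQ.smul]
    ring
  have hcross : ∀ u v, f u (k₀ *ᵥ v) + f v (k₀ *ᵥ u) = t₀ * f u v := by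
    intro u v
    have e1 : f v (k₀ *ᵥ u) = f u (k₀' *ᵥ v) := by
      rw [hf, polar_symm, ← hf, hadj₀]
    rw [e1, ← hb.add_right, ← Matrix.add_mulVec, add_comm k₀ k₀', ht₀, Matrix.smul_mulVec, Matrix.one_mulVec,
      hb.smul_right]
  have hEadd : ∀ u v, E (u + v) = E u + E v := by
    intro u v
    show f (u + v) (k₀ *ᵥ (u + v)) - t₀ * Q (u + v)
      = (f u (k₀ *ᵥ u) - t₀ * Q u) + (f v (k₀ *ᵥ v) - t₀ * Q v)
    rw [Matrix.mulVec_add, hb.add_left, hb.add_right, hb.add_right, quad_add Q u v]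
    have := hcross u v
    rw [hf] at this ⊢
    linear_combination this
  have hEsm : ∀ (a : F) v, E (a • v) = a ^ 2 * E v := by
    intro a v
    show f (a • v) (k₀ *ᵥ (a • v)) - t₀ * Q (a • v) = a ^ 2 * (f v (k₀ *ᵥ v) - t₀ * Q v)
    rw [Matrix.mulVec_smul, hb.smul_left, hb.smul_right, hQ.smul]
    ring
  -- expansion of `Q` on `(a + b k₀) v`
  have hexp : ∀ (a b : F) v, Q ((a • (1 : Matrix ι ι F) + b • k₀) *ᵥ v)
      = a ^ 2 * Q v + b ^ 2 * Q (k₀ *ᵥ v) + a * b * f v (k₀ *ᵥ v) := by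
    intro a b v
    rw [Matrix.add_mulVec, Matrix.smul_mulVec, Matrix.one_mulVec, Matrix.smul_mulVec, quad_add Q, hQ.smul, hQ.smul,
      ← hf, hb.smul_left, hb.smul_right]
    ring
  -- invariance
  have hinv : ∀ s ∈ matrixSet H, ∀ v, D v = 0 → E v = 0 → D (s *ᵥ v) = 0 ∧ E (s *ᵥ v) = 0 := by
    rintro s ⟨h, hh, rfl⟩ v hDv hEv
    have hDv' : Q (k₀ *ᵥ v) = c₀ * Q v := sub_eq_zero.1 hDv
    have hEv' : f v (k₀ *ᵥ v) = t₀ * Q v := sub_eq_zero.1 hEv
    have hiso : ∀ u v, f ((h : Matrix ι ι F) *ᵥ u) ((h : Matrix ι ι F) *ᵥ v) = f u v :=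
      fun u v => hfix _ ⟨h, hh, rfl⟩ u v
    have hisoQ : ∀ u, Q ((h : Matrix ι ι F) *ᵥ u) = Q u := fun u => hHQ _ ⟨h, hh, rfl⟩ u
    set k₁ : Matrix ι ι F := ((h⁻¹ : GL ι F) : Matrix ι ι F) * k₀ * (h : Matrix ι ι F) with hk₁
    set k₁' : Matrix ι ι F := ((h⁻¹ : GL ι F) : Matrix ι ι F) * k₀' * (h : Matrix ι ι F) with hk₁'
    have hconj : ∀ x : Matrix ι ι F, (h : Matrix ι ι F) * (((h⁻¹ : GL ι F) : Matrix ι ι F) * x * (h : Matrix ι ι F)) *
        ((h⁻¹ : GL ι F) : Matrix ι ι F) = x := by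
      intro x
      simp only [← mul_assoc, Units.mul_inv, one_mul]
      rw [mul_assoc, Units.mul_inv, mul_one]
    have hk₁K : k₁ ∈ K := by
      rw [(hHK hh) k₁, hk₁, hconj]
      exact hk₀K
    have hhk : (h : Matrix ι ι F) * k₁ = k₀ * (h : Matrix ι ι F) := by
      rw [hk₁, ← mul_assoc, ← mul_assoc, Units.mul_inv, one_mul]
    have hadj₁ : IsAdj f k₁ k₁' := by
      have := ((IsAdj.of_isometry_inv h hiso).mul hadj₀).mul (IsAdj.of_isometry h hiso)
      rw [hk₁, hk₁']
      convert this using 1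
      rw [mul_assoc]
    have hc₁ : k₁' * k₁ = c₀ • (1 : Matrix ι ι F) := by
      rw [hk₁, hk₁']
      calc ((h⁻¹ : GL ι F) : Matrix ι ι F) * k₀' * (h : Matrix ι ι F) *
            (((h⁻¹ : GL ι F) : Matrix ι ι F) * k₀ * (h : Matrix ι ι F))
          = ((h⁻¹ : GL ι F) : Matrix ι ι F) * k₀' * ((h : Matrix ι ι F) * ((h⁻¹ : GL ι F) : Matrix ι ι F)) *
              k₀ * (h : Matrix ι ι F) := by simp only [mul_assoc]
        _ = ((h⁻¹ : GL ι F) : Matrix ι ι F) * (k₀' * k₀) * (h : Matrix ι ι F) := by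
            rw [Units.mul_inv, mul_one, mul_assoc ((h⁻¹ : GL ι F) : Matrix ι ι F)]
        _ = c₀ • (1 : Matrix ι ι F) := by
            rw [hc₀, Matrix.mul_smul, Matrix.smul_mul, mul_one, Units.inv_mul]
    have ht₁ : k₁' + k₁ = t₀ • (1 : Matrix ι ι F) := by
      rw [hk₁, hk₁', ← add_mul, ← mul_add, ht₀, Matrix.mul_smul, Matrix.smul_mul, mul_one, Units.inv_mul]
    obtain ⟨a, b, hab⟩ := exists_pair_of_mem K hK k₀ hk₀K hk₀ne k₁ hk₁K
    -- the adjoint of `k₁` in coordinates
    have hadj₁' : IsAdj f k₁ (a • (1 : Matrix ι ι F) + b • k₀') := by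
      rw [hab]
      exact IsAdj.add haf (isAdj_smul hb a IsAdj.one) (isAdj_smul hb b hadj₀)
    have hk₁'eq : k₁' = a • (1 : Matrix ι ι F) + b • k₀' := haf.isAdj_unique hadj₁ hadj₁'
    have hbt : b * t₀ = t₀ := by
      apply hsmul_inj
      rw [← ht₁, hk₁'eq, hab]
      have e : a • (1 : Matrix ι ι F) + b • k₀' + (a • (1 : Matrix ι ι F) + b • k₀)
          = (2 * a) • (1 : Matrix ι ι F) + b • (k₀' + k₀) := by
        rw [smul_add, two_mul, add_smul]
        abel
      rw [e, ht₀, h2, zero_mul, zero_smul, zero_add, smul_smul]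
    have hnorm : a ^ 2 + a * b * t₀ + b ^ 2 * c₀ = c₀ := by
      apply hsmul_inj
      rw [← hc₁, hk₁'eq, hab]
      have hcomm : k₀ * k₀' = k₀' * k₀ := hK.comm k₀ hk₀K k₀' hk₀'K
      have e : (a • (1 : Matrix ι ι F) + b • k₀') * (a • (1 : Matrix ι ι F) + b • k₀)
          = (a ^ 2) • (1 : Matrix ι ι F) + (a * b) • (k₀' + k₀) + (b ^ 2) • (k₀' * k₀) := by
        simp only [add_mul, mul_add, Matrix.smul_mul, Matrix.mul_smul, one_mul, mul_one, smul_smul, smul_add]
        rw [show a * a = a ^ 2 by ring, show b * b = b ^ 2 by ring, mul_comm b a]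
        abel
      rw [e, ht₀, hc₀, smul_smul, smul_smul, ← add_smul, ← add_smul]
    have hQk₁ : Q (k₁ *ᵥ v) = c₀ * Q v := by
      rw [hab, hexp, hDv', hEv']
      linear_combination (Q v) * hnorm
    have hfk₁ : f v (k₁ *ᵥ v) = t₀ * Q v := by
      rw [hab, Matrix.add_mulVec, Matrix.smul_mulVec, Matrix.one_mulVec, Matrix.smul_mulVec, hb.add_right,
        hb.smul_right, hb.smul_right, halt, hEv']
      linear_combination (Q v) * hbt
    refine ⟨?_, ?_⟩
    · show Q (k₀ *ᵥ ((h : Matrix ι ι F) *ᵥ v)) - c₀ * Q ((h : Matrix ι ι F) *ᵥ v) = 0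
      rw [Matrix.mulVec_mulVec, ← hhk, ← Matrix.mulVec_mulVec, hisoQ, hisoQ, hQk₁, sub_self]
    · show f ((h : Matrix ι ι F) *ᵥ v) (k₀ *ᵥ ((h : Matrix ι ι F) *ᵥ v)) - t₀ * Q ((h : Matrix ι ι F) *ᵥ v) = 0
      rw [Matrix.mulVec_mulVec, ← hhk, ← Matrix.mulVec_mulVec, hiso, hisoQ, hfk₁, sub_self]
  have hDE := zero_of_additive_sq_pair h2 hcard (matrixSet H) hirr D E hDadd hDsm hEadd hEsm hinv
  intro k hk
  obtain ⟨a, b, rfl⟩ := exists_pair_of_mem K hK k₀ hk₀K hk₀ne k hk
  refine ⟨a ^ 2 + b ^ 2 * c₀ + a * b * t₀, fun v => ?_⟩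
  have h1 : Q (k₀ *ᵥ v) = c₀ * Q v := sub_eq_zero.1 (hDE v).1
  have h3 : f v (k₀ *ᵥ v) = t₀ * Q v := sub_eq_zero.1 (hDE v).2
  rw [hexp, h1, h3]
  ring

end chartwo

section main
variable [Fintype F]

theorem fixesQuad_of_le_isometryGroup {Q : (ι → F) → F} (H : Subgroup (GL ι F))
    (hHI : H ≤ Cfsg.isometryGroup F Q) : FixesQuadForm (matrixSet H) Q := by
  rintro s ⟨h, hh, rfl⟩ v
  exact (hHI hh) v v

/-- **the field exit with a quadratic form** (both parities of `q`): an irreducible group of isometries of `Q` normalising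
an adjoint-closed field subalgebra `K` of prime degree: `K` is self-adjoint (with `f (k v) v = 0` in characteristic 2), or
`r = 2`, `K` is not self-adjoint and consists of similarities of `Q` -/
theorem field_exit (hcard : 3 ≤ Fintype.card ι) {Q : (ι → F) → F} (hQ : IsNondegenerateQuadraticForm Q)
    (H : Subgroup (GL ι F)) (hHI : H ≤ Cfsg.isometryGroup F Q) (hirr : ActsIrreducibly (matrixSet H))
    {r : ℕ} (hr : r.Prime) (K : Subalgebra F (Matrix ι ι F)) (hK : IsFieldSubalgebra r K)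
    (hadj : IsAdjointClosedFor (QuadraticMap.polar Q) K) (hHK : H ≤ subalgebraNormalizer K) :
    (IsSelfAdjointFor (QuadraticMap.polar Q) K ∧
      ((2 : F) = 0 → ∀ k ∈ K, ∀ v, QuadraticMap.polar Q (k *ᵥ v) v = 0)) ∨
    (r = 2 ∧ ¬ IsSelfAdjointFor (QuadraticMap.polar Q) K ∧ ∀ k ∈ K, ∃ c : F, ∀ v, Q (k *ᵥ v) = c * Q v) := by
  haveI : Nonempty ι := by
    rw [← Fintype.card_pos_iff]
    omega
  have hb : IsBilinearForm (QuadraticMap.polar Q) := hQ.polar_bilinear
  have haf : AdjForm (QuadraticMap.polar Q) := adjForm_polar hQ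
  have hHQ := fixesQuad_of_le_isometryGroup H hHI
  by_cases hsa : IsSelfAdjointFor (QuadraticMap.polar Q) K
  · left
    refine ⟨hsa, fun h2 k hk v => ?_⟩
    have halt : ∀ v, QuadraticMap.polar Q v v = 0 := by
      intro v
      rw [polar_self hQ, h2, zero_mul]
    exact alt_of_selfAdj_char_two haf halt h2 K hK hadj k hk (hsa k hk) v
  · right
    have hr2 : r = 2 := eq_two_of_not_selfAdjoint hb haf hr K hK hadj hsa
    subst hr2
    refine ⟨rfl, hsa, ?_⟩
    by_cases h2 : (2 : F) = 0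
    · exact quad_similarity_even h2 hcard hQ K hK hadj hsa H hHQ hirr hHK
    · intro k hk
      obtain ⟨k', c, _, _, hkk', hc, _⟩ := exists_norm_trace hb haf K hK hadj hsa k hk
      exact ⟨c, fun v => quad_similarity_odd hQ h2 hkk' hc v⟩

/-- **(OE2)** an irreducible, not absolutely irreducible group of isometries of `Q`: the two field exits -/
theorem exists_field_exit_of_not_absIrr (hcard : 3 ≤ Fintype.card ι) {Q : (ι → F) → F}
    (hQ : IsNondegenerateQuadraticForm Q) (H : Subgroup (GL ι F)) (hHI : H ≤ Cfsg.isometryGroup F Q)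
    (hirr : ActsIrreducibly (matrixSet H)) (hnot : ¬ ActsAbsolutelyIrreducibly (matrixSet H)) :
    ∃ (r : ℕ) (K : Subalgebra F (Matrix ι ι F)), r.Prime ∧ IsFieldSubalgebra r K ∧
      IsAdjointClosedFor (QuadraticMap.polar Q) K ∧ H ≤ subalgebraNormalizer K ∧
      (∀ k ∈ K, ∀ s ∈ matrixSet H, k * s = s * k) ∧
      ((IsSelfAdjointFor (QuadraticMap.polar Q) K ∧
          ((2 : F) = 0 → ∀ k ∈ K, ∀ v, QuadraticMap.polar Q (k *ᵥ v) v = 0)) ∨
        (r = 2 ∧ ¬ IsSelfAdjointFor (QuadraticMap.polar Q) K ∧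
          ∀ k ∈ K, ∃ c : F, ∀ v, Q (k *ᵥ v) = c * Q v)) := by
  haveI : Nonempty ι := by
    rw [← Fintype.card_pos_iff]
    omega
  have hHQ := fixesQuad_of_le_isometryGroup H hHI
  obtain ⟨r, K, hr, hK, hadj, hc, hHK⟩ := FormField.exists_field_of_not_absIrr (adjForm_polar hQ) H
    (fixesForm_polar_of_fixesQuad H hHQ) hirr hnot
  exact ⟨r, K, hr, hK, hadj, hHK, hc, field_exit hcard hQ H hHI hirr hr K hK hadj hHK⟩

end main

end Cfsg.Agent.Lib.Helper18.FormFieldQ
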