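import Mathlib
import Cfsg.Prelude.Def_GeometricClasses
import Cfsg.Agent.Lib.Helper18.AschC3
import Cfsg.Agent.Lib.Helper18.FormField
import Cfsg.Agent.Lib.Helper18.FormFieldSp

/-!
# The field block with forms, orthogonal case (helper18)

* `selfAdjoint_of_odd_degree` : an adjoint-closed field subalgebra of ODD degree (bilinear form) is self-adjoint.
* `le_scalars_of_centralizes_field` : isometries of a symmetric form centralising a self-adjoint field subalgebra of
  degree `card ι` are `±1`.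
-/

set_option autoImplicit false

namespace Cfsg.Agent.Lib.Helper18.FormFieldO

open Matrix Module Cfsg Cfsg.Geo Cfsg.Agent.Lib.Helper18.AschC3 Cfsg.Agent.Lib.Helper18.FormField
open Cfsg.Agent.Lib.Helper18.FormFieldSp

variable {F : Type*} [Field F] {ι : Type} [Fintype ι] [DecidableEq ι]

section odd
variable [Fintype F] [Nonempty ι] {f : (ι → F) → (ι → F) → F}

/-- **OF-SA** an adjoint-closed field subalgebra of odd degree is elementwise self-adjoint (bilinear form) -/
theorem selfAdjoint_of_odd_degree (hb : IsBilinearForm f) (haf : AdjForm f) {r : ℕ} (hr : Odd r)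
    (K : Subalgebra F (Matrix ι ι F)) (hK : IsFieldSubalgebra r K) (hadj : IsAdjointClosedFor f K) :
    IsSelfAdjointFor f K := by
  letI := fieldOf K hK
  set τ : ↥K →+* ↥K := adjK haf K hK.comm hadj with hτ
  have hττ : ∀ x, τ (τ x) = x := fun x => adjFun_adjFun haf K hadj x
  let ρ : ↥K →ₐ[F] ↥K :=
    { τ with
      commutes' := by
        intro c
        apply Subtype.ext
        exact adjFun_eq haf K hadj (algebraMap F ↥K c) _ (IsAdj.algebraMap hb c) }
  let ρ' : ↥K ≃ₐ[F] ↥K := AlgEquiv.ofBijective ρ (Algebra.IsAlgebraic.algHom_bijective ρ)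
  have hρ'x : ∀ x : ↥K, ρ' x = τ x := fun x => rfl
  set φ := FiniteField.frobeniusAlgEquivOfAlgebraic F ↥K with hφ
  obtain ⟨j, hj⟩ := (FiniteField.bijective_frobeniusAlgEquivOfAlgebraic_pow F ↥K).2 ρ'
  have hj' : φ ^ j.1 = ρ' := hj
  have hsq : ρ' * ρ' = 1 := by
    apply AlgEquiv.ext
    intro x
    rw [AlgEquiv.mul_apply, hρ'x, hρ'x, hττ, AlgEquiv.one_apply]
  have hord : orderOf φ = r := by
    rw [hφ, FiniteField.orderOf_frobeniusAlgEquivOfAlgebraic]
    exact hK.finrank_eq
  rw [← hj', ← pow_add] at hsq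
  have hdvd : r ∣ j.1 + j.1 := by
    rw [← hord]
    exact orderOf_dvd_of_pow_eq_one hsq
  have hcop : Nat.Coprime r 2 := Nat.coprime_two_right.2 hr
  have hdj : r ∣ j.1 := by
    have : r ∣ 2 * j.1 := by rw [two_mul]; exact hdvd
    exact hcop.dvd_of_dvd_mul_left this
  have h1 : ρ' = 1 := by
    rw [← hj']
    rw [← hord] at hdj
    exact orderOf_dvd_iff_pow_eq_one.1 hdj
  rw [isSelfAdjointFor_iff haf K hadj]
  intro k
  have := congrArg (fun e : ↥K ≃ₐ[F] ↥K => e k) h1
  exact this

end odd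

section fx
variable [Nonempty ι] {f : (ι → F) → (ι → F) → F}

/-- an element centralising a field subalgebra of degree `card ι` lies in it -/
theorem mem_of_centralizes_field (K : Subalgebra F (Matrix ι ι F)) (hK : IsFieldSubalgebra (Fintype.card ι) K)
    (x : Matrix ι ι F) (hx : ∀ k ∈ K, x * k = k * x) : x ∈ K := by
  obtain ⟨i⟩ := ‹Nonempty ι›
  set v₀ : ι → F := Pi.single i 1 with hv₀
  have hv₀ne : v₀ ≠ 0 := by
    intro h
    have := congrFun h i
    simp [hv₀] at this
  -- evaluation at `v₀`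
  let ev : ↥K →ₗ[F] (ι → F) :=
    { toFun := fun k => (k : Matrix ι ι F) *ᵥ v₀
      map_add' := fun a b => by
        change ((a + b : ↥K) : Matrix ι ι F) *ᵥ v₀ = _
        rw [Subalgebra.coe_add, Matrix.add_mulVec]
      map_smul' := fun c a => by
        change ((c • a : ↥K) : Matrix ι ι F) *ᵥ v₀ = _
        rw [Subalgebra.coe_smul, Matrix.smul_mulVec]
        rfl }
  have hinj : Function.Injective ev := by
    rw [← LinearMap.ker_eq_bot, LinearMap.ker_eq_bot']
    intro k hk
    by_contra hk0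
    have hk0' : (k : Matrix ι ι F) ≠ 0 := fun h => hk0 (Subtype.ext h)
    obtain ⟨y, hy, hky⟩ := hK.inv k k.2 hk0'
    have hyk : y * (k : Matrix ι ι F) = 1 := by rw [hK.comm y hy k k.2, hky]
    apply hv₀ne
    have h1 : (k : Matrix ι ι F) *ᵥ v₀ = 0 := hk
    calc v₀ = (y * (k : Matrix ι ι F)) *ᵥ v₀ := by rw [hyk, Matrix.one_mulVec]
      _ = 0 := by rw [← Matrix.mulVec_mulVec, h1, Matrix.mulVec_zero]
  have hsurj : Function.Surjective ev := by
    have hfr : finrank F ↥K = finrank F (ι → F) := by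
      rw [hK.finrank_eq, Module.finrank_fintype_fun_eq_card]
    exact (LinearMap.injective_iff_surjective_of_finrank_eq_finrank hfr).1 hinj
  obtain ⟨k₀, hk₀⟩ := hsurj (x *ᵥ v₀)
  have hk₀' : (k₀ : Matrix ι ι F) *ᵥ v₀ = x *ᵥ v₀ := hk₀
  have hxk : x = (k₀ : Matrix ι ι F) := by
    apply Matrix.mulVec_injective
    funext v
    obtain ⟨k, hk⟩ := hsurj v
    have hk' : (k : Matrix ι ι F) *ᵥ v₀ = v := hk
    rw [← hk', Matrix.mulVec_mulVec, Matrix.mulVec_mulVec, hx k k.2, hK.comm k₀ k₀.2 k k.2,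
      ← Matrix.mulVec_mulVec, ← Matrix.mulVec_mulVec, hk₀']
  rw [hxk]
  exact k₀.2

/-- **OF-FX** a group of isometries of a symmetric form centralising a self-adjoint field subalgebra of degree
`card ι` consists of scalars -/
theorem le_scalars_of_centralizes_field (hf : IsSymmetricForm f) (K : Subalgebra F (Matrix ι ι F))
    (hK : IsFieldSubalgebra (Fintype.card ι) K) (hsa : IsSelfAdjointFor f K) (X : Subgroup (GL ι F))
    (hfix : FixesForm (matrixSet X) f)
    (hXK : ∀ x ∈ X, ∀ k ∈ K, (x : Matrix ι ι F) * k = k * (x : Matrix ι ι F)) : X ≤ scalars ι F := by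
  have haf := adjForm_of_symmetric hf
  intro x hx
  have hxK : (x : Matrix ι ι F) ∈ K := mem_of_centralizes_field K hK _ (hXK x hx)
  have hsq : (x : Matrix ι ι F) * (x : Matrix ι ι F) = 1 := by
    apply haf.adj_unique
    intro u v
    rw [Matrix.one_mulVec, ← Matrix.mulVec_mulVec, ← hsa _ hxK]
    exact hfix _ ⟨x, hx, rfl⟩ u v
  have hprod : ((x : Matrix ι ι F) - 1) * ((x : Matrix ι ι F) + 1) = 0 := by
    rw [sub_mul, mul_add, mul_add, hsq]
    simp only [mul_one, one_mul]
    abel
  rw [mem_scalars_iff]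
  by_cases h1 : (x : Matrix ι ι F) - 1 = 0
  · refine ⟨1, ?_⟩
    rw [Units.val_one, one_smul]
    exact sub_eq_zero.1 h1
  · obtain ⟨y, hy, hxy⟩ := hK.inv _ (K.sub_mem hxK K.one_mem) h1
    have hyx : y * ((x : Matrix ι ι F) - 1) = 1 := by
      rw [hK.comm y hy _ (K.sub_mem hxK K.one_mem), hxy]
    have h2 : (x : Matrix ι ι F) + 1 = 0 := by
      calc (x : Matrix ι ι F) + 1 = (y * ((x : Matrix ι ι F) - 1)) * ((x : Matrix ι ι F) + 1) := by
            rw [hyx, one_mul]
        _ = 0 := by rw [mul_assoc, hprod, mul_zero]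
    refine ⟨-1, ?_⟩
    rw [Units.val_neg, Units.val_one, neg_smul, one_smul]
    exact eq_neg_of_add_eq_zero_left h2

end fx

end Cfsg.Agent.Lib.Helper18.FormFieldO
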