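import Mathlib
import Cfsg.Prelude.Def_GeometricClasses
import Cfsg.Agent.Lib.Helper7.AschDefs
import Cfsg.Agent.Lib.Helper18.FormFieldO

/-!
# S5673 (odd-dimensional orthogonal hub): the field pieces OF-SA, OF-FX, O2a, `le_subalgebraNormalizer_of_centralizes`
(helper18).  Exact signatures of `Lib/Helper17/AschOTop.lean`.
-/

set_option autoImplicit false

namespace Cfsg.Agent.Lib.Helper18.S5673Field

open Matrix Cfsg Cfsg.Geo Cfsg.Agent.Lib.Helper7.Asch
open Cfsg.Agent.Lib.Helper18.AschC3 Cfsg.Agent.Lib.Helper18.FormField Cfsg.Agent.Lib.Helper18.FormFieldSp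
open Cfsg.Agent.Lib.Helper18.FormFieldO

variable {F : Type*} [Field F] [Fintype F] {n : ℕ}

/-- **OF-SA** -/
theorem isSelfAdjointFor_of_adjointClosed (hq : Odd (Fintype.card F)) (f : (Fin n → F) → (Fin n → F) → F)
    (hf : IsSymmetricForm f) (r : ℕ) (hr : Odd r) (K : Subalgebra F (Matrix (Fin n) (Fin n) F))
    (hK : IsFieldSubalgebra r K) (hac : IsAdjointClosedFor f K) : IsSelfAdjointFor f K := by
  rcases Nat.eq_zero_or_pos n with h0 | hpos
  · subst h0
    intro k _ u v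
    have hu : u = 0 := Subsingleton.elim _ _
    have e1 : k *ᵥ u = u := Subsingleton.elim _ _
    have e2 : k *ᵥ v = v := Subsingleton.elim _ _
    rw [e1, e2]
  haveI : Nonempty (Fin n) := ⟨⟨0, hpos⟩⟩
  exact selfAdjoint_of_odd_degree hf.bilinear (adjForm_of_symmetric hf) hr K hK hac

/-- **OF-FX** -/
theorem le_scalars_of_centralizes_field (f : (Fin n → F) → (Fin n → F) → F) (hf : IsSymmetricForm f)
    (K : Subalgebra F (Matrix (Fin n) (Fin n) F)) (hK : IsFieldSubalgebra n K) (hsa : IsSelfAdjointFor f K)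
    (X : Subgroup (GL (Fin n) F)) (hfix : FixesForm (matrixSet X) f)
    (hXK : ∀ x ∈ X, ∀ k ∈ K, (x : Matrix (Fin n) (Fin n) F) * k = k * (x : Matrix (Fin n) (Fin n) F)) :
    X ≤ scalars (Fin n) F := by
  rcases Nat.eq_zero_or_pos n with h0 | hpos
  · subst h0
    intro x _
    rw [mem_scalars_iff]
    exact ⟨1, Subsingleton.elim _ _⟩
  haveI : Nonempty (Fin n) := ⟨⟨0, hpos⟩⟩
  have hK' : IsFieldSubalgebra (Fintype.card (Fin n)) K := by
    rw [Fintype.card_fin]
    exact hK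
  exact FormFieldO.le_scalars_of_centralizes_field hf K hK' hsa X hfix hXK

/-- **O2a** -/
theorem exists_field_of_not_absIrr (hn : 3 ≤ n) (f : (Fin n → F) → (Fin n → F) → F) (hf : IsSymmetricForm f)
    (H : Subgroup (GL (Fin n) F)) (hfix : FixesForm (matrixSet H) f) (h1 : Irr H) (h2 : ¬ AbsIrr H) :
    ∃ (r : ℕ) (K : Subalgebra F (Matrix (Fin n) (Fin n) F)), r.Prime ∧ IsFieldSubalgebra r K ∧
      IsAdjointClosedFor f K ∧
      (∀ x ∈ H, ∀ k ∈ K, (x : Matrix (Fin n) (Fin n) F) * k = k * (x : Matrix (Fin n) (Fin n) F)) := by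
  haveI : Nonempty (Fin n) := ⟨⟨0, by omega⟩⟩
  obtain ⟨r, K, hr, hK, hadj, hc, _⟩ :=
    FormField.exists_field_of_not_absIrr (adjForm_of_symmetric hf) H hfix h1 h2
  exact ⟨r, K, hr, hK, hadj, fun x hx k hk => (hc k hk _ ⟨x, hx, rfl⟩).symm⟩

/-- elements centralising a subalgebra normalise it -/
theorem le_subalgebraNormalizer_of_centralizes (H : Subgroup (GL (Fin n) F))
    (K : Subalgebra F (Matrix (Fin n) (Fin n) F))
    (hHK : ∀ x ∈ H, ∀ k ∈ K, (x : Matrix (Fin n) (Fin n) F) * k = k * (x : Matrix (Fin n) (Fin n) F)) :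
    H ≤ subalgebraNormalizer K := by
  rcases Nat.eq_zero_or_pos n with h0 | hpos
  · subst h0
    intro g _ k
    have e : (g : Matrix (Fin 0) (Fin 0) F) * k * ((g⁻¹ : GL (Fin 0) F) : Matrix (Fin 0) (Fin 0) F) = k :=
      Subsingleton.elim _ _
    rw [e]
  haveI : Nonempty (Fin n) := ⟨⟨0, hpos⟩⟩
  apply le_normalizer_of_commute H K
  rintro k hk s ⟨x, hx, rfl⟩
  exact (hHK x hx k hk).symm

end Cfsg.Agent.Lib.Helper18.S5673Field
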