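import Mathlib
import Cfsg.Prelude.Def_GeometricClasses
import Cfsg.Agent.Lib.Helper7.AschDefs
import Cfsg.Agent.Lib.Helper16.OECliffEvenMain
import Cfsg.Agent.Lib.Helper18.FormFieldQ
import Cfsg.Agent.Lib.Helper1.OEDefs

/-!
# Even-dimensional orthogonal hub, block OE2 (helper18, for helper19 / helper17): the field exits, wired

Against helper1's vocabulary `Cfsg.Agent.Lib.Helper1.OE.InClassOE`; both parities of `q`; `Fin n`, `n ≥ 3`.

* `inClassOE_of_adjointClosed_field` : an irreducible `H ≤ I(Q)` normalising an adjoint-closed field subalgebra of prime degree lies in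
  a member (class (3a) or (3b)) [= helper16's `oe_field`, restated];
* `inClassOE_of_adjointClosed_field_absIrr` : the same with `AbsIrr H` (the shape of the hypothesis `hfield` of helper17's
  `cliffordOE_odd_of`);
* `inClassOE_of_not_absIrr` : **(OE2)** an irreducible, not absolutely irreducible `H ≤ I(Q)` lies in a member.
-/

set_option autoImplicit false
set_option linter.unusedSectionVars false
set_option linter.unusedVariables false

namespace Cfsg.Agent.Lib.Helper18.OE2

open Matrix Cfsg Cfsg.Geo Cfsg.Agent.Lib.Helper7.Asch Cfsg.Agent.Lib.Helper1.OE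

variable {F : Type*} [Field F] [Fintype F] {n : ℕ} {Q : (Fin n → F) → F}

/-- the field exit (any `q`): class (3a) or (3b) -/
theorem inClassOE_of_adjointClosed_field (hQ : IsNondegenerateQuadraticForm Q) (hn : 3 ≤ n)
    (H : Subgroup (GL (Fin n) F)) (hHI : H ≤ isometryGroup F Q) (hirr : Irr H) (r : ℕ)
    (K : Subalgebra F (Matrix (Fin n) (Fin n) F)) (hr : r.Prime) (hK : IsFieldSubalgebra r K)
    (hac : IsAdjointClosedFor (QuadraticMap.polar Q) K) (hHK : H ≤ subalgebraNormalizer K) : InClassOE Q H :=
  Cfsg.Agent.Lib.Helper16.OECliffEven.oe_field hQ hn H hHI hirr r K hr hK hac hHK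

/-- the field exit for an absolutely irreducible group (shape of `hfield` in `cliffordOE_odd_of`) -/
theorem inClassOE_of_adjointClosed_field_absIrr (hQ : IsNondegenerateQuadraticForm Q) (hn : 3 ≤ n)
    (H : Subgroup (GL (Fin n) F)) (hHI : H ≤ isometryGroup F Q) (hH : AbsIrr H) :
    ∀ (r : ℕ) (K : Subalgebra F (Matrix (Fin n) (Fin n) F)), r.Prime → IsFieldSubalgebra r K →
      IsAdjointClosedFor (QuadraticMap.polar Q) K → H ≤ subalgebraNormalizer K → InClassOE Q H :=
  fun r K hr hK hac hHK => inClassOE_of_adjointClosed_field hQ hn H hHI hH.1 r K hr hK hac hHK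

/-- **(OE2)** an irreducible, not absolutely irreducible group of isometries of `Q` lies in a member of class (3a) or (3b) -/
theorem inClassOE_of_not_absIrr (hQ : IsNondegenerateQuadraticForm Q) (hn : 3 ≤ n)
    (H : Subgroup (GL (Fin n) F)) (hHI : H ≤ isometryGroup F Q) (hirr : Irr H) (hnot : ¬ AbsIrr H) :
    InClassOE Q H := by
  obtain ⟨r, K, hr, hK, hac, hHK, -, -⟩ :=
    Cfsg.Agent.Lib.Helper18.FormFieldQ.exists_field_exit_of_not_absIrr (by rw [Fintype.card_fin]; exact hn) hQ H hHI
      hirr hnot
  exact inClassOE_of_adjointClosed_field hQ hn H hHI hirr r K hr hK hac hHK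

end Cfsg.Agent.Lib.Helper18.OE2
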