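import Cfsg.Agent.H5.StemTC
import Cfsg.Agent.Lib.Helper17.HSMultW1
import Cfsg.Agent.Lib.Helper18.HoloCheck
import Cfsg.Agent.Lib.Helper17.HoloSound

/-!
# S2046: the `2`-part of the multiplier from a holonomy certificate (helper18)

Generic: a group `G` generated by `γ 0, γ 1 ∈ U` and `γ 2`, a perfect subgroup `U` without `2`-part in its
multiplier, a coset table of `U` in `G` with representatives, relators, and a certificate accepted by
`Holo.check`.  Then the kernel of a finite stem extension of `G` whose kernel has exponent dividing `4` has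
order at most `2`.
-/

set_option autoImplicit false
set_option linter.unusedVariables false

namespace Cfsg.Agent.Lib.Helper18.HSMult

open Cfsg Cfsg.H5.TCk Cfsg.H5.StemLift Cfsg.H5.StemTC Cfsg.Agent.Lib.Helper18.Holo
open scoped commutatorElement

/-- a relator `l l⁻¹` -/
def trivRel : List ℕ → Bool
  | [l, m] => (l / 2 == m / 2) && (l % 2 != m % 2)
  | _ => false

/-- a trivial variable is trivial for a visible reason: an exact relator (a word in the letters of `U`, the
relator number `ri`, or `l l⁻¹`), a tree edge, or a loop at the base coset -/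
def baseOK (C : Cert) (wrd : ℕ → List ℕ) (ri : ℕ) (v : ℕ) : Bool :=
  if v % 7 = 6 then
    decide (v / 7 < C.nr) &&
      ((C.rel (v / 7)).all (fun l => decide (l < 2 * 2)) || (v / 7 == ri) || trivRel (C.rel (v / 7)))
  else
    decide (v / 7 < C.n) &&
      ((wrd (C.nxt (v / 7) (v % 7)) == (v % 7) :: wrd (v / 7)) ||
        ((v / 7 == 0) && decide (v % 7 < 4) && (C.nxt 0 (v % 7) == 0)))

theorem ev_trivRel {Γ : Type*} [Group Γ] (γ : ℕ → Γ) (w : List ℕ) (h : trivRel w = true) :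
    ev γ w = 1 := by
  match w, h with
  | [l, m], h =>
    unfold trivRel at h
    rw [Bool.and_eq_true, beq_iff_eq, bne_iff_ne] at h
    obtain ⟨h1, h2⟩ := h
    simp only [ev, mul_one]
    unfold gl
    rw [h1]
    rcases Nat.mod_two_eq_zero_or_one l with hl | hl <;>
      rcases Nat.mod_two_eq_zero_or_one m with hm | hm
    · exact absurd (hl.trans hm.symm) h2
    · simp [hl, hm]
    · simp [hl, hm]
    · exact absurd (hl.trans hm.symm) h2

theorem coe_hol {Γ : Type*} [Group Γ] (K : Subgroup Γ) (κ : ℕ → ℕ → K) (nxt : ℕ → ℕ → ℕ) (c : ℕ)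
    (w : List ℕ) : ((hol κ nxt c w : K) : Γ) = hol (fun c l => (κ c l : Γ)) nxt c w := by
  induction w with
  | nil => rfl
  | cons l w ih => simp only [hol, Subgroup.coe_mul, ih]

/-- **the `2`-part from a certificate** -/
theorem card_ker_le_two_of_check {Γ G : Type} [Group Γ] [Group G] [Finite Γ] (σ : Γ →* G)
    (hσ : IsStemExtension σ) (hker4 : ∀ k ∈ σ.ker, k ^ 4 = 1)
    (U : Subgroup G) (hperf : U ≤ ⁅U, U⁆)
    (hU2 : ∀ (Λ : Type) [Group Λ] [Finite Λ] (τ : Λ →* ↥U), IsStemExtension τ →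
      IsPGroup 2 τ.ker → τ.ker = ⊥)
    (γ : ℕ → G) (hγU : ∀ i < 2, γ i ∈ U)
    (hgen : Subgroup.closure (Set.range fun i : Fin 3 => γ i.val) = ⊤)
    (C : Cert) (wrd : ℕ → List ℕ) (ri : ℕ) (hw0 : wrd 0 = []) (hn : 0 < C.n)
    (hnxt : ∀ c < C.n, ∀ l < 2 * 3, C.nxt c l < C.n)
    (hmemU : ∀ c < C.n, ∀ l < 2 * 3,
      (ev γ (wrd (C.nxt c l)))⁻¹ * gl γ l * ev γ (wrd c) ∈ U)
    (hrel : ∀ j < C.nr, ev γ (C.rel j) = 1)
    (hlet : ∀ j < C.nr, ∀ l ∈ C.rel j, l < 2 * 3)
    (hriN : ri < C.nr) (hri : esum 2 (C.rel ri) = 1)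
    (hbase : ∀ v, C.isBase v = true → baseOK C wrd ri v = true)
    (steps : List Holo.Step) (chk : List (ℕ × ℕ)) (Ys : List (List ℕ)) (as : List ℕ)
    (hchk : check C steps chk Ys as = true)
    (hcard : Nat.card G = C.n * Nat.card U) : Nat.card σ.ker ≤ 2 := by
  classical
  obtain ⟨hsurj, hcen', hcom⟩ := hσ
  have hσ' : IsStemExtension σ := ⟨hsurj, hcen', hcom⟩
  set L := liftSub σ U with hL
  -- the lift of `U` is isomorphic to `U`
  have hkerL : (liftHom σ U hsurj hperf).ker = ⊥ := by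
    apply hU2 _ (liftHom σ U hsurj hperf) (liftHom_stem σ U hσ' hperf)
    intro x
    refine ⟨2, ?_⟩
    apply Subtype.ext
    apply Subtype.ext
    have hx : σ x.1.1 = 1 := congrArg Subtype.val (MonoidHom.mem_ker.mp x.2)
    have := hker4 x.1.1 (MonoidHom.mem_ker.mpr hx)
    simpa using this
  have hinj := liftSub_inj σ U hσ' hperf hkerL
  have hcardL : Nat.card L = Nat.card U := card_liftSub σ U hσ' hperf hkerL
  -- first choice of lifts
  have hex : ∀ i : ℕ, ∃ x : Γ, σ x = γ i ∧ (i < 2 → x ∈ L) := by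
    intro i
    by_cases hi : i < 2
    · obtain ⟨x, hx, hxs⟩ := exists_lift σ U hsurj hperf (γ i) (hγU i hi)
      exact ⟨x, hxs, fun _ => hx⟩
    · obtain ⟨x, hx⟩ := hsurj (γ i)
      exact ⟨x, hx, fun h => absurd h hi⟩
  choose γ₀ hγ₀ hγ₀L using hex
  have hσ₀ : ∀ w, σ (ev γ₀ w) = ev γ w := by
    intro w
    rw [map_ev]
    congr 1
    funext i
    exact hγ₀ i
  -- correction of the last lift
  set u : Γ := (ev γ₀ (C.rel ri))⁻¹ with hu
  have huker : u ∈ σ.ker := by
    rw [MonoidHom.mem_ker, hu, map_inv, hσ₀, hrel ri hriN, inv_one]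
  have hucen : u ∈ Subgroup.center Γ := hcen' huker
  set γ₁ : ℕ → Γ := Function.update γ₀ 2 (γ₀ 2 * u) with hγ₁
  have hγ₁σ : ∀ i, σ (γ₁ i) = γ i := by
    intro i
    by_cases hi : i = 2
    · subst hi
      rw [hγ₁, Function.update_self, map_mul, hγ₀, MonoidHom.mem_ker.mp huker, mul_one]
    · rw [hγ₁, Function.update_of_ne hi, hγ₀]
  have hγ₁L : ∀ i < 2, γ₁ i ∈ L := by
    intro i hi
    rw [hγ₁, Function.update_of_ne (by omega)]
    exact hγ₀L i hi
  have hσ₁ : ∀ w, σ (ev γ₁ w) = ev γ w := by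
    intro w
    rw [map_ev]
    congr 1
    funext i
    exact hγ₁σ i
  have hri1 : ev γ₁ (C.rel ri) = 1 := by
    rw [hγ₁, ev_update γ₀ 2 u hucen, hri, zpow_one, hu, mul_inv_cancel]
  have hgenΓ : Subgroup.closure (Set.range fun i : Fin 3 => γ₁ i.val) = ⊤ := by
    apply eq_top_of_map_eq_top σ hσ'
    rw [MonoidHom.map_closure, ← hgen]
    congr 1
    ext x
    constructor
    · rintro ⟨_, ⟨i, rfl⟩, rfl⟩
      exact ⟨i, (hγ₁σ i.val).symm⟩
    · rintro ⟨i, rfl⟩
      exact ⟨γ₁ i.val, ⟨i, rfl⟩, hγ₁σ i.val⟩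
  -- the holonomy
  have hLK : L ⊓ σ.ker = ⊥ := by
    rw [eq_bot_iff]
    intro x hx
    rw [Subgroup.mem_inf] at hx
    rw [Subgroup.mem_bot]
    exact hinj x hx.1 (MonoidHom.mem_ker.mp hx.2)
  have hσgl : ∀ l, σ (gl γ₁ l) = gl γ l := by
    intro l
    rw [map_gl]
    congr 1
    funext i
    exact hγ₁σ i
  have hmem : ∀ c < C.n, ∀ l < 2 * 3,
      (ev γ₁ (wrd (C.nxt c l)))⁻¹ * gl γ₁ l * ev γ₁ (wrd c) ∈ L ⊔ σ.ker := by
    intro c hc l hl
    set E := (ev γ₁ (wrd (C.nxt c l)))⁻¹ * gl γ₁ l * ev γ₁ (wrd c) with hE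
    have hσE : σ E ∈ U := by
      rw [hE, map_mul, map_mul, map_inv, hσ₁, hσ₁, hσgl]
      exact hmemU c hc l hl
    obtain ⟨y, hy, hyE⟩ := exists_lift σ U hsurj hperf (σ E) hσE
    have : E = y * (y⁻¹ * E) := by group
    rw [this]
    refine Subgroup.mul_mem_sup hy ?_
    rw [MonoidHom.mem_ker, map_mul, map_inv, hyE, inv_mul_cancel]
  obtain ⟨κ, hκK, hκ1, hκcyc, hκcard⟩ :=
    holonomy L σ.ker hcen' hLK γ₁ C.n 3 C.nxt wrd hnxt hmem
  -- the abelian group `ker σ`
  letI : CommGroup σ.ker :=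
    { (inferInstance : Group σ.ker) with
      mul_comm := fun a b => Subtype.ext (Subgroup.mem_center_iff.mp (hcen' b.2) a.1) }
  have hrelK : ∀ j < C.nr, ev γ₁ (C.rel j) ∈ σ.ker := by
    intro j hj
    rw [MonoidHom.mem_ker, hσ₁, hrel j hj]
  let κ' : ℕ → ℕ → σ.ker := fun c l => ⟨κ c l, hκK c l⟩
  let ρ' : ℕ → σ.ker := fun j => if h : j < C.nr then ⟨ev γ₁ (C.rel j), hrelK j h⟩ else 1
  have h4 : ∀ a : σ.ker, a ^ 4 = 1 := fun a => Subtype.ext (by simpa using hker4 a.1 a.2)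
  have hcyc' : ∀ j < C.nr, ∀ c < C.n, traceL C.nxt c (C.rel j) = c →
      hol κ' C.nxt c (C.rel j) = ρ' j := by
    intro j hj c hc htr
    apply Subtype.ext
    rw [coe_hol]
    simp only [ρ', dif_pos hj]
    exact hκcyc c hc (C.rel j) (hlet j hj) htr (hrelK j hj)
  have hbase' : ∀ v, C.isBase v = true →
      (if v % 7 = 6 then ρ' (v / 7) else κ' (v / 7) (v % 7)) = 1 := by
    intro v hv
    have hb := hbase v hv
    unfold baseOK at hb
    by_cases h6 : v % 7 = 6
    · rw [if_pos h6] at hb ⊢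
      rw [Bool.and_eq_true, decide_eq_true_eq] at hb
      obtain ⟨hj, hb⟩ := hb
      simp only [ρ', dif_pos hj]
      apply Subtype.ext
      show ev γ₁ (C.rel (v / 7)) = 1
      rw [Bool.or_eq_true, Bool.or_eq_true] at hb
      rcases hb with (hb | hb) | hb
      · apply hinj _ (ev_mem γ₁ L 2 hγ₁L _ hb)
        rw [hσ₁, hrel _ hj]
      · rw [beq_iff_eq] at hb
        rw [hb]
        exact hri1
      · exact ev_trivRel γ₁ _ hb
    · rw [if_neg h6] at hb ⊢
      rw [Bool.and_eq_true, decide_eq_true_eq] at hb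
      obtain ⟨hc, hb⟩ := hb
      have hl : v % 7 < 2 * 3 := by omega
      apply Subtype.ext
      show κ (v / 7) (v % 7) = 1
      apply hκ1 _ hc _ hl
      rw [Bool.or_eq_true] at hb
      rcases hb with hb | hb
      · rw [beq_iff_eq] at hb
        rw [hb]
        simp only [ev]
        have : (gl γ₁ (v % 7) * ev γ₁ (wrd (v / 7)))⁻¹ * gl γ₁ (v % 7) * ev γ₁ (wrd (v / 7)) = 1 := by
          group
        rw [this]
        exact L.one_mem
      · rw [Bool.and_eq_true, Bool.and_eq_true, beq_iff_eq, decide_eq_true_eq, beq_iff_eq] at hb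
        obtain ⟨⟨h0, h4'⟩, hn0⟩ := hb
        rw [h0, hn0, hw0]
        simp only [ev, inv_one, one_mul, mul_one]
        exact gl_mem γ₁ L 2 hγ₁L _ h4'
  obtain ⟨s, hs2, hsκ⟩ := check_sound h4 C κ' ρ' hcyc' hbase' steps chk Ys as hchk
  -- the subgroup `{1, s}`
  set K0 : Subgroup Γ := Subgroup.zpowers (s : Γ) with hK0
  have hK0le : K0 ≤ σ.ker := by
    rw [hK0, Subgroup.zpowers_le]
    exact s.2
  have hκK0 : ∀ c < C.n, ∀ l < 2 * 3, κ c l ∈ K0 := by
    intro c hc l hl
    rcases hsκ c hc l (by omega) with h | h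
    · have : κ c l = 1 := congrArg Subtype.val h
      rw [this]
      exact K0.one_mem
    · have : κ c l = (s : Γ) := congrArg Subtype.val h
      rw [this]
      exact Subgroup.mem_zpowers _
  have hcardK0 : Nat.card K0 ≤ 2 := by
    rw [hK0, Nat.card_zpowers]
    apply Nat.le_of_dvd (by norm_num)
    apply orderOf_dvd_of_pow_eq_one
    have : (s : Γ) * (s : Γ) = 1 := congrArg Subtype.val hs2
    rw [pow_two]
    exact this
  have hbound := hκcard K0 hK0le hκK0 hn hw0 hgenΓ inferInstance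
  -- counting
  have hΓ : Nat.card Γ = Nat.card σ.ker * Nat.card G := by
    have h1 := Subgroup.card_eq_card_quotient_mul_card_subgroup σ.ker
    have h2 : Nat.card (Γ ⧸ σ.ker) = Nat.card G :=
      Nat.card_congr (QuotientGroup.quotientKerEquivOfSurjective σ hsurj).toEquiv
    rw [h1, h2, mul_comm]
  have hGpos : 0 < Nat.card G := by
    haveI : Finite G := Finite.of_surjective σ hsurj
    exact Nat.card_pos
  have h5 : Nat.card σ.ker * Nat.card G ≤ 2 * Nat.card G := by
    calc Nat.card σ.ker * Nat.card G = Nat.card Γ := hΓ.symm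
      _ ≤ C.n * (Nat.card L * Nat.card K0) := hbound
      _ ≤ C.n * (Nat.card U * 2) := by
          rw [hcardL]
          exact Nat.mul_le_mul_left _ (Nat.mul_le_mul_left _ hcardK0)
      _ = 2 * Nat.card G := by rw [hcard]; ring
  exact Nat.le_of_mul_le_mul_right h5 hGpos

end Cfsg.Agent.Lib.Helper18.HSMult
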