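import Mathlib

/-!
Farm-out FO-1 for S3894 (helper16): elements of coprime order commute in a nilpotent group.
-/

namespace Cfsg.Agent.Lib.Helper18.NilCovFO1

/-- General version (no finiteness needed): in a nilpotent group two elements whose orders are
coprime commute. -/
theorem commute_of_coprime_orderOf_gen (Γ : Type*) [Group Γ] [Group.IsNilpotent Γ] :
    ∀ x y : Γ, (orderOf x).Coprime (orderOf y) → x * y = y * x := by
  apply @Group.nilpotent_center_quotient_ind _ Γ _ _ <;> clear! Γ
  · intro G _ _ x y _; exact Subsingleton.elim _ _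
  · intro G _ _ ih x y h
    have hx : orderOf (QuotientGroup.mk x : G ⧸ Subgroup.center G) ∣ orderOf x :=
      orderOf_map_dvd (QuotientGroup.mk' (Subgroup.center G)) x
    have hy : orderOf (QuotientGroup.mk y : G ⧸ Subgroup.center G) ∣ orderOf y :=
      orderOf_map_dvd (QuotientGroup.mk' (Subgroup.center G)) y
    have hc := ih (QuotientGroup.mk x) (QuotientGroup.mk y)
      (Nat.Coprime.of_dvd hx hy h)
    -- z = x y x⁻¹ y⁻¹ is central
    set z : G := x * y * x⁻¹ * y⁻¹ with hz
    have hzc : z ∈ Subgroup.center G := by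
      rw [← QuotientGroup.eq_one_iff]
      have : (QuotientGroup.mk z : G ⧸ Subgroup.center G)
          = (QuotientGroup.mk x) * (QuotientGroup.mk y) * (QuotientGroup.mk x)⁻¹
            * (QuotientGroup.mk y)⁻¹ := by
        simp [hz]
      rw [this, hc]
      group
    have hcomm : ∀ g : G, g * z = z * g := fun g => (Subgroup.mem_center_iff.mp hzc g)
    -- z ^ orderOf y = 1
    have h1 : z ^ orderOf y = 1 := by
      have e1 : x * y * x⁻¹ = z * y := by rw [hz]; group
      have e2 : (x * y * x⁻¹) ^ orderOf y = 1 := by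
        rw [conj_pow, pow_orderOf_eq_one]; group
      rw [e1, (show Commute z y from (hcomm y).symm).mul_pow, pow_orderOf_eq_one, mul_one] at e2
      exact e2
    have h2 : z ^ orderOf x = 1 := by
      have e1 : y * x⁻¹ * y⁻¹ = x⁻¹ * z := by rw [hz]; group
      have e2 : (y * x⁻¹ * y⁻¹) ^ orderOf x = 1 := by
        rw [conj_pow, inv_pow, pow_orderOf_eq_one]; group
      rw [e1, (show Commute x⁻¹ z from (hcomm x⁻¹)).mul_pow, inv_pow, pow_orderOf_eq_one,
        inv_one, one_mul] at e2
      exact e2
    have h3 : orderOf z ∣ 1 := by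
      have := Nat.dvd_gcd (orderOf_dvd_of_pow_eq_one h2) (orderOf_dvd_of_pow_eq_one h1)
      rwa [h] at this
    have hz1 : z = 1 := by
      have := Nat.dvd_one.mp h3
      exact orderOf_eq_one_iff.mp this
    have : x * y * x⁻¹ * y⁻¹ = 1 := hz1
    calc x * y = (x * y * x⁻¹ * y⁻¹) * (y * x) := by group
      _ = y * x := by rw [this, one_mul]

theorem commute_of_coprime_orderOf {Γ : Type*} [Group Γ] [Finite Γ] [Group.IsNilpotent Γ]
    (x y : Γ) (h : (orderOf x).Coprime (orderOf y)) : x * y = y * x :=
  commute_of_coprime_orderOf_gen Γ x y h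

end Cfsg.Agent.Lib.Helper18.NilCovFO1
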