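import Mathlib

/-!
Farm-out FO-4 for S3894 (helper16): `Z W Z⁻¹ = l W` with `W²` non-scalar forces `l = 1`
(2×2 matrices over a field).
-/

namespace Cfsg.Agent.Lib.Helper18.NilCovFO4

open Matrix

/-- Cayley–Hamilton for a traceless 2×2 matrix: `W * W = -(det W) • 1`. -/
theorem mul_self_of_trace_eq_zero {F : Type*} [Field F] (W : Matrix (Fin 2) (Fin 2) F)
    (ht : W.trace = 0) : W * W = (-W.det) • (1 : Matrix (Fin 2) (Fin 2) F) := by
  rw [Matrix.trace_fin_two] at ht
  have h11 : W 1 1 = - W 0 0 := by linear_combination ht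
  ext i j
  fin_cases i <;> fin_cases j <;>
    simp [Matrix.mul_apply, Fin.sum_univ_two, Matrix.det_fin_two, h11] <;> ring

theorem scalar_eq_one_of_conj {F : Type*} [Field F] (Z W : Matrix (Fin 2) (Fin 2) F) (l : F)
    (hZ : Z.det ≠ 0) (hW : W.det ≠ 0) (h : Z * W = l • (W * Z))
    (hW2 : ¬ ∃ a : F, W * W = a • (1 : Matrix (Fin 2) (Fin 2) F)) : l = 1 := by
  by_contra hl
  have hZu : IsUnit Z.det := isUnit_iff_ne_zero.mpr hZ
  -- trace W = l * trace W
  have h1 : Z * W * Z⁻¹ = l • W := by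
    rw [h, Matrix.smul_mul, Matrix.mul_assoc, Matrix.mul_nonsing_inv _ hZu, Matrix.mul_one]
  have h2 : (Z * W * Z⁻¹).trace = W.trace := by
    rw [Matrix.trace_mul_comm, ← Matrix.mul_assoc, Matrix.nonsing_inv_mul _ hZu, Matrix.one_mul]
  have h3 : W.trace = l * W.trace := by
    calc W.trace = (Z * W * Z⁻¹).trace := h2.symm
      _ = (l • W).trace := by rw [h1]
      _ = l * W.trace := by rw [Matrix.trace_smul, smul_eq_mul]
  have h4 : W.trace = 0 := by
    have : (1 - l) * W.trace = 0 := by linear_combination h3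
    rcases mul_eq_zero.mp this with h' | h'
    · exact absurd (by linear_combination -h') hl
    · exact h'
  exact hW2 ⟨_, mul_self_of_trace_eq_zero W h4⟩

end Cfsg.Agent.Lib.Helper18.NilCovFO4
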