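import Mathlib

/-!
Farm-out FO-5 for S3894 (helper16): an element `M + c` of the nonsplit torus whose 4th power
is non-scalar (2×2 matrices over a finite field with at least 4 elements).
-/

namespace Cfsg.Agent.Lib.Helper18.NilCovFO5

open Matrix

/-- The `(1,0)` entry of `(M + c)^4`. -/
theorem pow_four_entry {F : Type*} [Field F] (M : Matrix (Fin 2) (Fin 2) F) (c : F) :
    ((M + c • (1 : Matrix (Fin 2) (Fin 2) F)) ^ 4) 1 0
      = ((M 0 0 + M 1 1) + 2 * c)
        * ((M 0 0 + M 1 1) ^ 2 + 2 * (M 0 0 + M 1 1) * c + 2 * c ^ 2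
            - 2 * (M 0 0 * M 1 1 - M 0 1 * M 1 0)) * M 1 0 := by
  simp [pow_succ, Matrix.mul_apply, Fin.sum_univ_two]
  ring

/-- no eigenvector ⇒ the `(1,0)` entry is nonzero. -/
theorem entry_ne_zero {F : Type*} [Field F] (M : Matrix (Fin 2) (Fin 2) F)
    (hM : ∀ v : Fin 2 → F, v ≠ 0 → ∀ c : F, M.mulVec v ≠ c • v) : M 1 0 ≠ 0 := by
  intro h0
  refine hM ![1, 0] ?_ (M 0 0) ?_
  · intro h
    have := congrFun h 0
    simp at this
  · ext i
    fin_cases i <;> simp [Matrix.mulVec, dotProduct, Fin.sum_univ_two, h0]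

/-- no eigenvector ⇒ the characteristic polynomial has no root. -/
theorem charpoly_ne_zero {F : Type*} [Field F] (M : Matrix (Fin 2) (Fin 2) F)
    (hM : ∀ v : Fin 2 → F, v ≠ 0 → ∀ c : F, M.mulVec v ≠ c • v) (x : F) :
    x * x - (M 0 0 + M 1 1) * x + (M 0 0 * M 1 1 - M 0 1 * M 1 0) ≠ 0 := by
  intro h0
  have hdet : (M - x • (1 : Matrix (Fin 2) (Fin 2) F)).det = 0 := by
    rw [Matrix.det_fin_two]
    simp
    linear_combination h0
  obtain ⟨v, hv, hv0⟩ := Matrix.exists_mulVec_eq_zero_iff.mpr hdet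
  refine hM v hv x ?_
  rw [Matrix.sub_mulVec, sub_eq_zero] at hv0
  rw [hv0, Matrix.smul_mulVec, Matrix.one_mulVec]

theorem exists_pow_four_not_scalar {F : Type*} [Field F] [Fintype F]
    (hq : 4 ≤ Fintype.card F) (M : Matrix (Fin 2) (Fin 2) F)
    (hM : ∀ v : Fin 2 → F, v ≠ 0 → ∀ c : F, M.mulVec v ≠ c • v) :
    ∃ c : F, ¬ ∃ a : F, (M + c • (1 : Matrix (Fin 2) (Fin 2) F)) ^ 4
      = a • (1 : Matrix (Fin 2) (Fin 2) F) := by
  classical
  have hm10 := entry_ne_zero M hM
  have hchar0 := charpoly_ne_zero M hM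
  obtain ⟨t, ht⟩ : ∃ t : F, t = M 0 0 + M 1 1 := ⟨_, rfl⟩
  obtain ⟨d, hd⟩ : ∃ d : F, d = M 0 0 * M 1 1 - M 0 1 * M 1 0 := ⟨_, rfl⟩
  have hchar : ∀ x : F, x * x - t * x + d ≠ 0 := by
    intro x; rw [ht, hd]; exact hchar0 x
  -- it suffices to find `c` with nonzero coefficient
  suffices hk : ∃ c : F, (t + 2 * c) * (t ^ 2 + 2 * t * c + 2 * c ^ 2 - 2 * d) ≠ 0 by
    obtain ⟨c, hc⟩ := hk
    refine ⟨c, ?_⟩
    rintro ⟨a, ha⟩
    have h1 := pow_four_entry M c
    rw [ha] at h1
    simp only [Matrix.smul_apply, Matrix.one_apply_ne (show (1 : Fin 2) ≠ 0 by decide),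
      smul_eq_mul, mul_zero] at h1
    rw [← ht, ← hd] at h1
    exact (mul_ne_zero hc hm10) h1.symm
  by_cases h2 : (2 : F) = 0
  · -- characteristic 2
    refine ⟨0, ?_⟩
    have ht0 : t ≠ 0 := by
      intro ht0
      haveI : CharP F 2 := CharTwo.of_one_ne_zero_of_two_eq_zero one_ne_zero h2
      have hr : ringChar F = 2 := ringChar.eq F 2
      obtain ⟨e, he⟩ := FiniteField.isSquare_of_char_two hr d
      refine hchar e ?_
      rw [ht0, he]
      linear_combination (e * e) * h2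
    have : (t + 2 * 0) * (t ^ 2 + 2 * t * 0 + 2 * 0 ^ 2 - 2 * d) = t ^ 3 := by
      linear_combination (-t * d) * h2
    rw [this]
    exact pow_ne_zero 3 ht0
  · -- odd characteristic: substitute `c = (s - t)/2`
    have h5 : 5 ≤ Fintype.card F := by
      rcases Nat.lt_or_ge 4 (Fintype.card F) with h | h
      · exact h
      · exfalso
        have h4 : Fintype.card F = 4 := le_antisymm h hq
        -- card 4 ⇒ char 2
        have : ((Fintype.card F : ℕ) : F) = 0 := Nat.cast_card_eq_zero F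
        rw [h4] at this
        have h22 : (2 : F) * 2 = 0 := by
          have : ((4 : ℕ) : F) = 2 * 2 := by norm_num
          rw [← this]; assumption
        rcases mul_eq_zero.mp h22 with h' | h' <;> exact h2 h'
    suffices hs : ∃ s : F, s ≠ 0 ∧ s * s ≠ 4 * d - t ^ 2 by
      obtain ⟨s, hs0, hs1⟩ := hs
      refine ⟨(s - t) / 2, ?_⟩
      have e1 : t + 2 * ((s - t) / 2) = s := by field_simp; ring
      have e2 : t ^ 2 + 2 * t * ((s - t) / 2) + 2 * ((s - t) / 2) ^ 2 - 2 * d
          = (s * s - (4 * d - t ^ 2)) / 2 := by field_simp; ring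
      rw [e1, e2]
      refine mul_ne_zero hs0 (div_ne_zero ?_ h2)
      exact sub_ne_zero.mpr hs1
    by_cases hD : ∃ r : F, r * r = 4 * d - t ^ 2
    · obtain ⟨r, hr⟩ := hD
      have hcard : ({0, r, -r} : Finset F).card < (Finset.univ : Finset F).card := by
        rw [Finset.card_univ]
        exact lt_of_le_of_lt Finset.card_le_three (by omega)
      obtain ⟨s, -, hs⟩ := Finset.exists_mem_notMem_of_card_lt_card hcard
      simp only [Finset.mem_insert, Finset.mem_singleton, not_or] at hs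
      refine ⟨s, hs.1, ?_⟩
      rw [← hr]
      intro hsr
      have : (s - r) * (s + r) = 0 := by linear_combination hsr
      rcases mul_eq_zero.mp this with h' | h'
      · exact hs.2.1 (by linear_combination h')
      · exact hs.2.2 (by linear_combination h')
    · exact ⟨1, one_ne_zero, fun h => hD ⟨1, h⟩⟩

end Cfsg.Agent.Lib.Helper18.NilCovFO5
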