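import Mathlib
import Cfsg.Prelude.Def_GeometricClasses
import Cfsg.Agent.Lib.Helper16.TensDefs
import Cfsg.Agent.Lib.Helper25.MonMaxT1

/-!
# S5637 FO-T4a: one transvection `1 + E_pq ⊗ E_{j2,j0}` gives all transvections of type DD
-/

set_option autoImplicit false

namespace Cfsg.Agent.Lib.Helper18.S5637FOT4a

open Matrix Module Cfsg.Agent.Lib.Helper16.Tens Cfsg.Agent.Lib.Helper25.MonMax
open scoped Kronecker

variable {F : Type*} [Field F]

/-- a monomial matrix moves an elementary matrix to a multiple of an elementary matrix -/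
theorem mono_mul_single {n : ℕ} (ρ : Equiv.Perm (Fin n)) (d : Fin n → F)
    (A : Matrix (Fin n) (Fin n) F) (hA : ∀ r s, A r s = if r = ρ s then d s else 0)
    (x y : Fin n) (c : F) (hc : c * d y = d x) :
    A * Matrix.single x y (1 : F) = Matrix.single (ρ x) (ρ y) c * A := by
  ext r s
  by_cases hs : s = y
  · subst hs
    rw [Matrix.mul_single_apply_same, mul_one]
    by_cases hr : r = ρ x
    · subst hr
      rw [Matrix.single_mul_apply_same, hA, hA, if_pos rfl, if_pos rfl, hc]
    · rw [Matrix.single_mul_apply_of_ne _ _ _ _ _ hr, hA, if_neg hr]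
  · rw [Matrix.mul_single_apply_of_ne _ _ _ _ _ hs]
    by_cases hr : r = ρ x
    · subst hr
      rw [Matrix.single_mul_apply_same, hA, if_neg (fun h => hs (ρ.injective h).symm), mul_zero]
    · rw [Matrix.single_mul_apply_of_ne _ _ _ _ _ hr]

variable {a b : ℕ}

theorem all_dd_of_one (ha : 2 ≤ a) (hb : 3 ≤ b) (M : Subgroup (GL (Fin a × Fin b) F)) (hM : Over M)
    (g : GL (Fin a × Fin b) F) (hg : g ∈ M) (p q : Fin a) (hpq : p ≠ q) (j2 j0 : Fin b) (hj : j2 ≠ j0)
    (hgv : (g : Matrix (Fin a × Fin b) (Fin a × Fin b) F) =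
      1 + Matrix.single p q (1 : F) ⊗ₖ Matrix.single j2 j0 (1 : F)) :
    ∀ (p' q' : Fin a) (j j' : Fin b) (c : F), p' ≠ q' → j ≠ j' → ∀ t : GL (Fin a × Fin b) F,
      (t : Matrix (Fin a × Fin b) (Fin a × Fin b) F) = 1 + Matrix.single (p', j) (q', j') c → t ∈ M := by
  classical
  intro p' q' j j' c hpq' hjj' t ht
  by_cases hc0 : c = 0
  · have : t = 1 := by
      apply Units.ext
      rw [ht, hc0, Matrix.single_zero, add_zero, Units.val_one]
    rw [this]
    exact M.one_mem
  -- a third index in `Fin b`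
  obtain ⟨j3, hj32, hj30⟩ : ∃ j3 : Fin b, j3 ≠ j2 ∧ j3 ≠ j0 := by
    by_contra hcon
    push Not at hcon
    have hsub : (Finset.univ : Finset (Fin b)) ⊆ {j2, j0} := by
      intro s _
      by_cases hs : s = j2
      · simp [hs]
      · simp [hcon s hs]
    have h5 := Finset.card_le_card hsub
    have h6 : ({j2, j0} : Finset (Fin b)).card ≤ 2 := Finset.card_le_two
    rw [Finset.card_univ, Fintype.card_fin] at h5
    omega
  obtain ⟨σ, hσp, hσq⟩ := exists_perm_pair hpq hpq'
  obtain ⟨π, hπ2, hπ0⟩ := exists_perm_pair hj hjj'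
  -- the first factor
  set A : Matrix (Fin a) (Fin a) F := wMat σ q with hAdef
  have hAdet : A.det = 1 := wMat_det σ q
  set c1 : F := sgnF σ with hc1
  have hc11 : c1 * c1 = 1 := sgnF_mul_self σ
  have hc1ne : c1 ≠ 0 := by
    intro h0
    rw [h0, zero_mul] at hc11
    exact zero_ne_one hc11
  have hA1 : A * Matrix.single p q (1 : F) = Matrix.single p' q' c1 * A := by
    rw [← hσp, ← hσq]
    refine mono_mul_single σ (fun s => if s = q then (sgnF σ : F) else 1) A
      (fun r s => wMat_apply σ q r s) p q c1 ?_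
    rw [if_pos rfl, if_neg hpq]
    exact hc11
  -- the second factor
  set c2 : F := c * c1 with hc2
  have hc2ne : c2 ≠ 0 := mul_ne_zero hc0 hc1ne
  set e : Fin b → F := fun s => if s = j2 then c2 else if s = j3 then c2⁻¹ else 1 with he
  set B : Matrix (Fin b) (Fin b) F := wMat π j3 * Matrix.diagonal e with hBdef
  have he2 : e j2 = c2 := by
    change (if j2 = j2 then c2 else if j2 = j3 then c2⁻¹ else 1) = c2
    rw [if_pos rfl]
  have he3 : e j3 = c2⁻¹ := by
    change (if j3 = j2 then c2 else if j3 = j3 then c2⁻¹ else 1) = c2⁻¹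
    rw [if_neg hj32, if_pos rfl]
  have he0 : e j0 = 1 := by
    change (if j0 = j2 then c2 else if j0 = j3 then c2⁻¹ else 1) = 1
    rw [if_neg (Ne.symm hj), if_neg (Ne.symm hj30)]
  have hprod : ∏ s, e s = 1 := by
    have h1 : ∀ s ∈ (Finset.univ : Finset (Fin b)), s ∉ ({j2, j3} : Finset (Fin b)) → e s = 1 := by
      intro s _ hs
      rw [Finset.mem_insert, Finset.mem_singleton, not_or] at hs
      change (if s = j2 then c2 else if s = j3 then c2⁻¹ else 1) = 1
      rw [if_neg hs.1, if_neg hs.2]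
    rw [← Finset.prod_subset (Finset.subset_univ ({j2, j3} : Finset (Fin b))) h1,
      Finset.prod_pair (Ne.symm hj32), he2, he3, mul_inv_cancel₀ hc2ne]
  have hBdet : B.det = 1 := by
    rw [hBdef, Matrix.det_mul, wMat_det, Matrix.det_diagonal, hprod, one_mul]
  have hBapp : ∀ r s, B r s =
      if r = π s then (if s = j3 then (sgnF π : F) else 1) * e s else 0 := by
    intro r s
    rw [hBdef, Matrix.mul_diagonal, wMat_apply]
    by_cases h : r = π s
    · rw [if_pos h, if_pos h]
    · rw [if_neg h, if_neg h, zero_mul]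
  have hB1 : B * Matrix.single j2 j0 (1 : F) = Matrix.single j j' c2 * B := by
    rw [← hπ2, ← hπ0]
    refine mono_mul_single π (fun s => (if s = j3 then (sgnF π : F) else 1) * e s) B hBapp j2 j0 c2 ?_
    rw [if_neg (Ne.symm hj30), if_neg (Ne.symm hj32), he0, he2, one_mul, one_mul, mul_one]
  -- the Kronecker product
  have hNdet : (A ⊗ₖ B).det = 1 := by
    rw [Matrix.det_kronecker, hAdet, hBdet, one_pow, one_pow, one_mul]
  set n : GL (Fin a × Fin b) F :=
    Matrix.GeneralLinearGroup.mk'' (A ⊗ₖ B) (by rw [hNdet]; exact isUnit_one) with hn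
  have hnval : (n : Matrix (Fin a × Fin b) (Fin a × Fin b) F) = A ⊗ₖ B := rfl
  have hnM : n ∈ M := by
    apply hM.kron_mem
    · rw [mem_kron_iff]
      refine ⟨Matrix.GeneralLinearGroup.mk'' A (by rw [hAdet]; exact isUnit_one),
        Matrix.GeneralLinearGroup.mk'' B (by rw [hBdet]; exact isUnit_one), rfl⟩
    · rw [mem_SL_iff, hnval, hNdet]
  have hc12 : c1 * c2 = c := by
    rw [hc2, mul_comm c c1, ← mul_assoc, hc11, one_mul]
  have hkey : (A ⊗ₖ B) * (Matrix.single p q (1 : F) ⊗ₖ Matrix.single j2 j0 (1 : F)) =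
      Matrix.single (p', j) (q', j') c * (A ⊗ₖ B) := by
    rw [← Matrix.mul_kronecker_mul, hA1, hB1, Matrix.mul_kronecker_mul,
      Matrix.single_kronecker_single, hc12]
  have htn : t * n = n * g := by
    apply Units.ext
    rw [Units.val_mul, Units.val_mul, ht, hgv, hnval, add_mul, mul_add, one_mul, mul_one, hkey]
  have : t = n * g * n⁻¹ := by
    rw [← htn, mul_inv_cancel_right]
  rw [this]
  exact M.mul_mem (M.mul_mem hnM hg) (M.inv_mem hnM)

end Cfsg.Agent.Lib.Helper18.S5637FOT4a
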