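import Mathlib
import Cfsg.Prelude.Def_GeometricClasses
import Cfsg.Agent.Lib.Helper15.SLNormal

/-!
# S5637 FO-T4b: the elementary transvections of type DD generate `SL`
-/

set_option autoImplicit false

namespace Cfsg.Agent.Lib.Helper18.S5637FOT4b

open Matrix

variable {F : Type*} [Field F]

section general

variable {ι : Type} [Fintype ι] [DecidableEq ι]

/-- all root elements `1 + c E_{xy}` lie in `M` -/
def RootIn (M : Subgroup (GL ι F)) (x y : ι) : Prop :=
  ∀ (c : F) (t : GL ι F), (t : Matrix ι ι F) = 1 + Matrix.single x y c → t ∈ M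

/-- the root element as an element of `GL` -/
noncomputable def rootE {x y : ι} (hxy : x ≠ y) (c : F) : GL ι F :=
  Matrix.SpecialLinearGroup.toGL (Matrix.SpecialLinearGroup.transvection hxy c)

theorem rootE_val {x y : ι} (hxy : x ≠ y) (c : F) :
    ((rootE hxy c : GL ι F) : Matrix ι ι F) = 1 + Matrix.single x y c := by
  unfold rootE
  rw [← Matrix.SpecialLinearGroup.transvection_coe hxy c]
  rfl

/-- the commutator relation -/
theorem comm_matrix {x y z : ι} (hxy : x ≠ y) (hyz : y ≠ z) (hxz : x ≠ z) (c : F) :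
    (1 + Matrix.single x y (1 : F)) * (1 + Matrix.single y z c) * (1 + Matrix.single x y (-1 : F)) *
      (1 + Matrix.single y z (-c)) = (1 : Matrix ι ι F) + Matrix.single x z c := by
  have hAA : ∀ u v : F, Matrix.single x y u * Matrix.single x y v = (0 : Matrix ι ι F) :=
    fun u v => Matrix.single_mul_single_of_ne u x y x (Ne.symm hxy) v
  have hBB : ∀ u v : F, Matrix.single y z u * Matrix.single y z v = (0 : Matrix ι ι F) :=
    fun u v => Matrix.single_mul_single_of_ne u y z y (Ne.symm hyz) v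
  have hBA : ∀ u v : F, Matrix.single y z u * Matrix.single x y v = (0 : Matrix ι ι F) :=
    fun u v => Matrix.single_mul_single_of_ne u y z x (Ne.symm hxz) v
  have hAB : ∀ u v : F, Matrix.single x y u * Matrix.single y z v =
      (Matrix.single x z (u * v) : Matrix ι ι F) :=
    fun u v => Matrix.single_mul_single_same u x y z v
  have hCA : ∀ u v : F, Matrix.single x z u * Matrix.single x y v = (0 : Matrix ι ι F) :=
    fun u v => Matrix.single_mul_single_of_ne u x z x (Ne.symm hxz) v
  have hCB : ∀ u v : F, Matrix.single x z u * Matrix.single y z v = (0 : Matrix ι ι F) :=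
    fun u v => Matrix.single_mul_single_of_ne u x z y (Ne.symm hyz) v
  simp only [mul_add, add_mul, mul_one, one_mul, hAA, hBB, hBA, hAB, hCA, hCB, add_zero]
  have hneg : ∀ (i j : ι) (u : F), (Matrix.single i j (-u) : Matrix ι ι F) = -Matrix.single i j u := by
    intro i j u
    ext r s
    by_cases h : i = r ∧ j = s
    · simp [h]
    · simp [h]
  simp only [hneg, neg_mul, one_mul, neg_neg]
  abel

theorem RootIn.comm {M : Subgroup (GL ι F)} {x y z : ι} (hxy : x ≠ y) (hyz : y ≠ z)
    (hxz : x ≠ z) (h1 : RootIn M x y) (h2 : RootIn M y z) : RootIn M x z := by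
  intro c t ht
  have : t = rootE hxy 1 * rootE hyz c * rootE hxy (-1) * rootE hyz (-c) := by
    apply Units.ext
    rw [Units.val_mul, Units.val_mul, Units.val_mul, rootE_val, rootE_val, rootE_val, rootE_val,
      comm_matrix hxy hyz hxz c, ht]
  rw [this]
  exact M.mul_mem (M.mul_mem (M.mul_mem (h1 _ _ (rootE_val hxy 1)) (h2 _ _ (rootE_val hyz c)))
    (h1 _ _ (rootE_val hxy (-1)))) (h2 _ _ (rootE_val hyz (-c)))

/-- all root groups in `M` give `SL ≤ M` -/
theorem SL_le_of_rootIn [Nontrivial ι] (M : Subgroup (GL ι F))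
    (h : ∀ x y : ι, x ≠ y → RootIn M x y) : Cfsg.Geo.specialLinear ι F ≤ M := by
  intro s hs
  have hdet : (s : Matrix ι ι F).det = 1 := by
    have h1 : Matrix.GeneralLinearGroup.det s = 1 := hs
    have h2 := congrArg Units.val h1
    rwa [Matrix.GeneralLinearGroup.val_det_apply, Units.val_one] at h2
  have key : ∀ A : Matrix.SpecialLinearGroup ι F, ∀ g : GL ι F,
      (g : Matrix ι ι F) = (A : Matrix ι ι F) → g ∈ M := by
    intro A
    refine Cfsg.Agent.Lib.Helper15.SLn_transvection_induction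
      (fun A : Matrix.SpecialLinearGroup ι F => ∀ g : GL ι F,
        (g : Matrix ι ι F) = (A : Matrix ι ι F) → g ∈ M) ?_ ?_ A
    · intro i j hij c g hg
      apply h i j hij c g
      rw [hg, Matrix.SpecialLinearGroup.transvection_coe]
    · intro A B hA hB g hg
      have : g = Matrix.SpecialLinearGroup.toGL A * Matrix.SpecialLinearGroup.toGL B :=
        Units.ext (by rw [Units.val_mul, hg, Matrix.SpecialLinearGroup.coe_mul]; rfl)
      rw [this]
      exact M.mul_mem (hA _ rfl) (hB _ rfl)
  exact key ⟨(s : Matrix ι ι F), hdet⟩ s rfl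

end general

variable {a b : ℕ}

theorem SL_le_of_all_dd (ha : 2 ≤ a) (hb : 3 ≤ b) (M : Subgroup (GL (Fin a × Fin b) F))
    (hdd : ∀ (p' q' : Fin a) (j j' : Fin b) (c : F), p' ≠ q' → j ≠ j' → ∀ t : GL (Fin a × Fin b) F,
      (t : Matrix (Fin a × Fin b) (Fin a × Fin b) F) = 1 + Matrix.single (p', j) (q', j') c → t ∈ M) :
    Cfsg.Geo.specialLinear (Fin a × Fin b) F ≤ M := by
  classical
  have hDD : ∀ (p' q' : Fin a) (j j' : Fin b), p' ≠ q' → j ≠ j' → RootIn M (p', j) (q', j') :=
    fun p' q' j j' hp hj c t ht => hdd p' q' j j' c hp hj t ht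
  -- some auxiliary indices
  have hex1 : ∀ i : Fin a, ∃ i' : Fin a, i' ≠ i := by
    intro i
    by_cases h0 : i = ⟨0, by omega⟩
    · exact ⟨⟨1, by omega⟩, by rw [h0]; intro h; simpa using congrArg Fin.val h⟩
    · exact ⟨⟨0, by omega⟩, fun h => h0 h.symm⟩
  have hex2 : ∀ j j' : Fin b, ∃ j'' : Fin b, j'' ≠ j ∧ j'' ≠ j' := by
    intro j j'
    by_contra hcon
    push Not at hcon
    have hsub : (Finset.univ : Finset (Fin b)) ⊆ {j, j'} := by
      intro t _
      by_cases ht : t = j
      · simp [ht]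
      · simp [hcon t ht]
    have h5 := Finset.card_le_card hsub
    have h6 : ({j, j'} : Finset (Fin b)).card ≤ 2 := Finset.card_le_two
    rw [Finset.card_univ, Fintype.card_fin] at h5
    omega
  -- same first coordinate
  have hSame1 : ∀ (i : Fin a) (j j' : Fin b), j ≠ j' → RootIn M (i, j) (i, j') := by
    intro i j j' hjj
    obtain ⟨i'', hi''⟩ := hex1 i
    obtain ⟨j'', hj1, hj2⟩ := hex2 j j'
    refine RootIn.comm (y := (i'', j'')) ?_ ?_ ?_ (hDD i i'' j j'' (Ne.symm hi'') (Ne.symm hj1))
      (hDD i'' i j'' j' hi'' hj2)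
    · intro h; exact hi'' (congrArg Prod.fst h).symm
    · intro h; exact hi'' (congrArg Prod.fst h)
    · intro h; exact hjj (congrArg Prod.snd h)
  -- same second coordinate
  have hSame2 : ∀ (i i' : Fin a) (j : Fin b), i ≠ i' → RootIn M (i, j) (i', j) := by
    intro i i' j hii
    obtain ⟨j'', hj1, -⟩ := hex2 j j
    refine RootIn.comm (y := (i, j'')) ?_ ?_ ?_ (hSame1 i j j'' (Ne.symm hj1))
      (hDD i i' j'' j hii hj1)
    · intro h; exact hj1 (congrArg Prod.snd h).symm
    · intro h; exact hii (congrArg Prod.fst h)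
    · intro h; exact hii (congrArg Prod.fst h)
  haveI : Nontrivial (Fin a × Fin b) := by
    refine ⟨⟨(⟨0, by omega⟩, ⟨0, by omega⟩), (⟨0, by omega⟩, ⟨1, by omega⟩), ?_⟩⟩
    intro h
    simpa using congrArg (fun x => (x.2 : ℕ)) h
  apply SL_le_of_rootIn
  rintro ⟨i, j⟩ ⟨i', j'⟩ hne
  by_cases hi : i = i'
  · subst hi
    have hj : j ≠ j' := fun h => hne (by rw [h])
    exact hSame1 i j j' hj
  · by_cases hj : j = j'
    · subst hj
      exact hSame2 i i' j hi
    · exact hDD i i' j j' hi hj

end Cfsg.Agent.Lib.Helper18.S5637FOT4b
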