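import Mathlib

/-!
# A transitive group of degree 8 containing an element of order 5 has order divisible by 7

(helper18; farm-out piece FO-8 of helper26's S2553.)  The element of order 5 is a 5-cycle, the
group is primitive (block argument) and Jordan's criterion (Mathlib) makes it 2-transitive.
-/

set_option autoImplicit false

open Equiv MulAction

namespace Cfsg.Agent.Lib.Helper18.A8Prim

open scoped Pointwise

/-- An element of order 5 in `Perm X`, `|X| = 8`, is a 5-cycle. -/
theorem isCycle_of_orderOf_five {X : Type*} [Fintype X] [DecidableEq X]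
    (hX : Fintype.card X = 8) (g : Perm X) (h5 : orderOf g = 5) :
    g.IsCycle ∧ g.support.card = 5 := by
  have hp : (orderOf g).Prime := by rw [h5]; norm_num
  obtain ⟨n, hn⟩ := Equiv.Perm.cycleType_prime_order hp
  have hsum := Equiv.Perm.sum_cycleType_le g
  rw [hn, h5, Multiset.sum_replicate, hX] at hsum
  have hn0 : n = 0 := by
    simp only [smul_eq_mul] at hsum
    omega
  subst hn0
  have hc : g.IsCycle := by
    rw [← Equiv.Perm.card_cycleType_eq_one, hn]
    simp
  refine ⟨hc, ?_⟩
  have := Equiv.Perm.sum_cycleType g
  rw [hn, h5] at this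
  simpa using this.symm

/-- If a power `g ^ k`, `0 < k < 5`, of an element of order 5 stabilizes a set, so does `g`. -/
theorem smul_eq_of_pow_smul_eq {G : Type*} [Group G] {Y : Type*} [MulAction G Y] {g : G}
    (h5 : orderOf g = 5) {y : Y} {k : ℕ} (hk0 : 0 < k) (hk5 : k < 5) (h : g ^ k • y = y) :
    g • y = y := by
  have hpow : ∀ m : ℕ, (g ^ k) ^ m • y = y := by
    intro m
    induction m with
    | zero => simp
    | succ m ih => rw [pow_succ, mul_smul, h, ih]
  have key : ∀ m : ℕ, (k * m) % 5 = 1 → g • y = y := by
    intro m hm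
    have h1 : (g ^ k) ^ m = g := by
      rw [← pow_mul, ← pow_mod_orderOf, h5, hm, pow_one]
    have := hpow m
    rwa [h1] at this
  interval_cases k
  · exact key 1 (by norm_num)
  · exact key 3 (by norm_num)
  · exact key 2 (by norm_num)
  · exact key 4 (by norm_num)

theorem isPreprimitive_of_five {X : Type*} [Fintype X] [DecidableEq X]
    (hX : Fintype.card X = 8) (T : Subgroup (Perm X)) [IsPretransitive T X] (g : Perm X)
    (hg : g ∈ T) (h5 : orderOf g = 5) : IsPreprimitive T X := by
  classical
  obtain ⟨hc, hs⟩ := isCycle_of_orderOf_five hX g h5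
  have hne : g.support.Nonempty := by
    rw [← Finset.card_pos, hs]; norm_num
  obtain ⟨a, ha⟩ := hne
  have hcardX : Nat.card X = 8 := by rw [Nat.card_eq_fintype_card, hX]
  set g' : T := ⟨g, hg⟩ with hg'
  have h5' : orderOf g' = 5 := by
    rw [← h5, ← Subgroup.orderOf_coe g']
  apply IsPreprimitive.of_isTrivialBlock_base a
  intro B haB hB
  by_cases hgB : g' • B = B
  · -- the support of `g` lies in `B`
    right
    apply hB.eq_univ_of_card_lt
    rw [hcardX]
    have hsub : (g.support : Set X) ⊆ B := by
      intro x hx
      have hx' : g x ≠ x := by simpa using hx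
      have ha' : g a ≠ a := by simpa using ha
      obtain ⟨i, hi⟩ := hc.exists_zpow_eq ha' hx'
      have hst : g' ^ i • B = B := by
        have : g' ∈ stabilizer T B := hgB
        exact (stabilizer T B).zpow_mem this i
      rw [← hst, ← hi]
      refine ⟨a, haB, ?_⟩
      simp [hg', Subgroup.smul_def]
    have h5le : 5 ≤ B.ncard := by
      have := Set.ncard_le_ncard hsub (Set.toFinite B)
      rwa [Set.ncard_coe_finset, hs] at this
    omega
  · left
    apply hB.subsingleton_of_card_lt
    rw [hcardX]
    have hlt : ∀ i j : ℕ, i < j → j < 5 → g' ^ i • B = g' ^ j • B → False := by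
      intro i j hij hj5 h
      apply hgB
      apply smul_eq_of_pow_smul_eq h5' (k := j - i) (by omega) (by omega)
      have hj' : j = i + (j - i) := by omega
      have h1 : g' ^ j • B = g' ^ i • (g' ^ (j - i) • B) := by
        conv_lhs => rw [hj', pow_add, mul_smul]
      have h2 : g' ^ i • B = g' ^ i • (g' ^ (j - i) • B) := by
        rw [← h1]; exact h
      exact (smul_left_cancel _ h2).symm
    have hinj : Set.InjOn (fun i : ℕ => g' ^ i • B) (Finset.range 5 : Set ℕ) := by
      intro i hi j hj hij
      simp only [Finset.coe_range, Set.mem_Iio] at hi hj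
      by_contra hne
      rcases lt_or_gt_of_ne hne with h | h
      · exact hlt i j h hj hij
      · exact hlt j i h hi hij.symm
    have hsub : (((Finset.range 5).image (fun i : ℕ => g' ^ i • B) : Finset (Set X)) : Set (Set X))
        ⊆ orbit T B := by
      intro C hC
      simp only [Finset.coe_image, Finset.coe_range, Set.mem_image, Set.mem_Iio] at hC
      obtain ⟨i, _, rfl⟩ := hC
      exact ⟨g' ^ i, rfl⟩
    have hcard := Set.ncard_le_ncard hsub (Set.toFinite _)
    rw [Set.ncard_coe_finset, Finset.card_image_of_injOn hinj, Finset.card_range] at hcard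
    omega

/-- FO-8: a transitive group of degree 8 containing an element of order 5 is 2-transitive
(primitive + Jordan), so its order is divisible by `8 * 7`. -/
theorem isMultiplyPretransitive_two_of_five {X : Type*} [Fintype X] [DecidableEq X]
    (hX : Fintype.card X = 8) (T : Subgroup (Perm X)) [IsPretransitive T X] (g : Perm X)
    (hg : g ∈ T) (h5 : orderOf g = 5) : IsMultiplyPretransitive T X 2 := by
  classical
  obtain ⟨hc, hs⟩ := isCycle_of_orderOf_five hX g h5
  have hprim := isPreprimitive_of_five hX T g hg h5
  have hcardX : Nat.card X = 8 := by rw [Nat.card_eq_fintype_card, hX]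
  have hsn : ((g.support : Set X)ᶜ).ncard = 2 + 1 := by
    rw [Set.ncard_compl, Set.ncard_coe_finset, hs, hcardX]
  exact hprim.is_two_pretransitive hsn (by rw [hcardX]; norm_num) (Equiv.Perm.isPretransitive_of_isCycle_mem hc hg)

theorem seven_dvd_of_five {X : Type*} [Fintype X] [DecidableEq X] (hX : Fintype.card X = 8)
    (T : Subgroup (Perm X)) [IsPretransitive T X] (g : Perm X) (hg : g ∈ T)
    (h5 : orderOf g = 5) : 7 ∣ Nat.card T := by
  classical
  have h2 := isMultiplyPretransitive_two_of_five hX T g hg h5
  have hcardX : Nat.card X = 8 := by rw [Nat.card_eq_fintype_card, hX]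
  -- a 2-subset
  obtain ⟨s, hs⟩ : ∃ s : Set X, s.ncard = 2 := by
    have : 2 ≤ (Set.univ : Set X).ncard := by rw [Set.ncard_univ, hcardX]; norm_num
    obtain ⟨s, _, hs⟩ := Set.exists_subset_card_eq this
    exact ⟨s, hs⟩
  have hidx := h2.index_of_fixingSubgroup_mul hs
  rw [hcardX] at hidx
  have h56 : (fixingSubgroup T s).index = 56 := by
    have h6 : (8 - 2).factorial = 720 := by decide
    have h8 : (8 : ℕ).factorial = 40320 := by decide
    rw [h6, h8] at hidx
    omega
  have hdvd := (fixingSubgroup T s).index_dvd_card
  rw [h56] at hdvd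
  exact dvd_trans (by norm_num) hdvd

end Cfsg.Agent.Lib.Helper18.A8Prim
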