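import Mathlib
import Cfsg.Agent.S0493
import Cfsg.Agent.S0494
import Cfsg.Agent.S0991
import Cfsg.Agent.S2119

/-!
# Nonsolvable subgroups of `Perm X`, `|X| = 6`, without solvable normal subgroups

(helper18; farm-out piece FO-2 of helper26's S2553.)

* `isSolvable_of_card_lt_sixty`: groups of order `< 60` are solvable.
* `simple_of_card_le_sixty`: a nonsolvable group of order `≤ 60` is simple of order `60`.
* `t6`: the statement of FO-2.
-/

set_option autoImplicit false

open Equiv MulAction

namespace Cfsg.Agent.Lib.Helper18.A8T6

universe u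

/-- Groups of order `< 60` are solvable. -/
theorem isSolvable_of_card_lt_sixty : ∀ (n : ℕ) (G : Type u) [Group G] [Finite G],
    Nat.card G = n → n < 60 → Group.IsSolvable G := by
  intro n
  induction n using Nat.strong_induction_on with
  | _ n ih =>
    intro G _ _ hn h60
    by_cases hsimp : IsSimpleGroup G
    · by_cases hc : IsCyclic G
      · haveI := hc
        exact Group.isSolvable_of_comm (fun a b => (IsCyclic.isMulCommutative (α := G)).is_comm.comm a b)
      · have := Cfsg.Agent.S0493.result (G := G) hc (by omega)
        omega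
    · by_cases htriv : Subsingleton G
      · haveI := htriv
        infer_instance
      · rw [not_subsingleton_iff_nontrivial] at htriv
        haveI := htriv
        -- a proper nontrivial normal subgroup
        have : ∃ N : Subgroup G, N.Normal ∧ N ≠ ⊥ ∧ N ≠ ⊤ := by
          by_contra hcon
          push Not at hcon
          apply hsimp
          exact ⟨fun N hN => by
            by_cases h : N = ⊥
            · exact Or.inl h
            · exact Or.inr (hcon N hN h)⟩
        obtain ⟨N, hN, hNbot, hNtop⟩ := this
        haveI := hN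
        have hcard := N.card_mul_index
        rw [hn] at hcard
        have hN1 : 1 < Nat.card N := by
          rw [Subgroup.one_lt_card_iff_ne_bot]; exact hNbot
        have hi1 : 1 < N.index := by
          have h0 : N.index ≠ 0 := Subgroup.index_ne_zero_of_finite
          have h1 : N.index ≠ 1 := by rwa [Ne, Subgroup.index_eq_one]
          omega
        have hNlt : Nat.card N < n := by
          rw [← hcard]
          exact lt_mul_of_one_lt_right (by omega) hi1
        have hilt : N.index < n := by
          rw [← hcard]
          exact lt_mul_of_one_lt_left (by omega) hN1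
        haveI : Group.IsSolvable N := ih _ hNlt N rfl (by omega)
        haveI : Group.IsSolvable (G ⧸ N) :=
          ih _ hilt (G ⧸ N) (by rw [Subgroup.index_eq_card]) (by omega)
        exact (Group.isSolvable_iff_subgroup_quotient N).mpr ⟨inferInstance, inferInstance⟩

/-- A nonsolvable group of order at most `60` is simple of order `60`. -/
theorem simple_of_card_le_sixty (G : Type u) [Group G] [Finite G] (hns : ¬ Group.IsSolvable G)
    (h : Nat.card G ≤ 60) : Nat.card G = 60 ∧ IsSimpleGroup G := by
  have h60 : Nat.card G = 60 := by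
    by_contra hne
    exact hns (isSolvable_of_card_lt_sixty _ G rfl (by omega))
  refine ⟨h60, ?_⟩
  haveI : Nontrivial G := by
    rw [← Finite.one_lt_card_iff_nontrivial]; omega
  refine ⟨fun N hN => ?_⟩
  by_contra hcon
  push Not at hcon
  obtain ⟨hNbot, hNtop⟩ := hcon
  haveI := hN
  have hcard := N.card_mul_index
  rw [h60] at hcard
  have hN1 : 1 < Nat.card N := by
    rw [Subgroup.one_lt_card_iff_ne_bot]; exact hNbot
  have hi1 : 1 < N.index := by
    have h0 : N.index ≠ 0 := Subgroup.index_ne_zero_of_finite
    have h1 : N.index ≠ 1 := by rwa [Ne, Subgroup.index_eq_one]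
    omega
  have hNlt : Nat.card N < 60 := by
    rw [← hcard]
    exact lt_mul_of_one_lt_right (by omega) hi1
  have hilt : N.index < 60 := by
    rw [← hcard]
    exact lt_mul_of_one_lt_left (by omega) hN1
  haveI : Group.IsSolvable N := isSolvable_of_card_lt_sixty _ N rfl hNlt
  haveI : Group.IsSolvable (G ⧸ N) :=
    isSolvable_of_card_lt_sixty _ (G ⧸ N) (by rw [Subgroup.index_eq_card]) hilt
  exact hns ((Group.isSolvable_iff_subgroup_quotient N).mpr ⟨inferInstance, inferInstance⟩)

/-- A finite simple nonsolvable group of order `60` is `A5`; for a nonsolvable group of order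
at most `60`. -/
theorem nonempty_mulEquiv_alt_five (G : Type u) [Group G] [Finite G] (hns : ¬ Group.IsSolvable G)
    (h : Nat.card G ≤ 60) : Nonempty (G ≃* alternatingGroup (Fin 5)) := by
  obtain ⟨h60, hs⟩ := simple_of_card_le_sixty G hns h
  haveI := hs
  exact Cfsg.Agent.S0494.result h60

/-- Solvability transfers along a multiplicative equivalence. -/
theorem isSolvable_congr {G H : Type*} [Group G] [Group H] (e : G ≃* H) :
    Group.IsSolvable G ↔ Group.IsSolvable H :=
  ⟨fun _ => Group.isSolvable_of_surjective (f := e.toMonoidHom) e.surjective,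
   fun _ => Group.isSolvable_of_surjective (f := e.symm.toMonoidHom) e.symm.surjective⟩

theorem card_alt_six {X : Type*} [Fintype X] [DecidableEq X] (hX : Fintype.card X = 6) :
    Nat.card (alternatingGroup X) = 360 := by
  haveI : Nontrivial X := by
    rw [← Fintype.one_lt_card_iff_nontrivial, hX]; norm_num
  have h := two_mul_nat_card_alternatingGroup (α := X)
  rw [Nat.card_eq_fintype_card (α := Perm X), Fintype.card_perm, hX] at h
  have : (6 : ℕ).factorial = 720 := by decide
  omega

/-- A proper subgroup of `Alt(6)` has order at most `60`. -/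
theorem card_le_sixty_of_ne_top {X : Type*} [Fintype X] [DecidableEq X]
    (hX : Fintype.card X = 6) (K : Subgroup (alternatingGroup X)) (hK : K ≠ ⊤) :
    Nat.card K ≤ 60 := by
  have hcX : Nat.card X = 6 := by rw [Nat.card_eq_fintype_card, hX]
  haveI : IsSimpleGroup (alternatingGroup X) :=
    alternatingGroup.isSimpleGroup (by rw [hcX]; norm_num)
  have hnc : ¬ IsMulCommutative (alternatingGroup X) := by
    rw [alternatingGroup.isMulCommutative_iff_card_le_three, hcX]; norm_num
  obtain ⟨f, hf⟩ := Cfsg.Agent.S0991.result hnc K hK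
  have hle : Nat.card (alternatingGroup X) ≤ Nat.card (alternatingGroup (Fin K.index)) :=
    Nat.card_le_card_of_injective f hf
  rw [card_alt_six hX] at hle
  have hle2 : Nat.card (alternatingGroup (Fin K.index)) ≤ (K.index).factorial := by
    have h1 : Nat.card (alternatingGroup (Fin K.index)) ≤ Nat.card (Perm (Fin K.index)) :=
      Nat.card_le_card_of_injective _ (Subgroup.subtype_injective _)
    rwa [Nat.card_eq_fintype_card (α := Perm (Fin K.index)), Fintype.card_perm,
      Fintype.card_fin] at h1
  have hm : 6 ≤ K.index := by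
    by_contra hlt
    have h5 : K.index ≤ 5 := by omega
    have : (K.index).factorial ≤ (5 : ℕ).factorial := Nat.factorial_le h5
    have h120 : (5 : ℕ).factorial = 120 := by decide
    omega
  have hmul := K.card_mul_index
  rw [card_alt_six hX] at hmul
  nlinarith

/-- A group with a normal subgroup `K ≅ A5` of index `2` and trivial centralizer is `S5`. -/
theorem mulEquiv_perm_five_of_index_two {T : Type*} [Group T] [Finite T] (K : Subgroup T)
    [K.Normal] (e : K ≃* alternatingGroup (Fin 5)) (hidx : K.index = 2)
    (hC : Subgroup.centralizer (K : Set T) = ⊥) : Nonempty (T ≃* Perm (Fin 5)) := by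
  classical
  have hbij := Cfsg.Agent.S2119.result 5 (by norm_num) (by norm_num)
  let ψ : Perm (Fin 5) ≃* MulAut (alternatingGroup (Fin 5)) := MulEquiv.ofBijective _ hbij
  let χ : MulAut K ≃* MulAut (alternatingGroup (Fin 5)) := MulAut.congr e
  let ω : MulAut K ≃* Perm (Fin 5) := χ.trans ψ.symm
  haveI : Finite (MulAut K) := Finite.of_injective ω ω.injective
  have hcardAut : Nat.card (MulAut K) = 120 := by
    rw [Nat.card_congr ω.toEquiv, Nat.card_eq_fintype_card, Fintype.card_perm, Fintype.card_fin]
    decide
  have hcardK : Nat.card K = 60 := by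
    rw [Nat.card_congr e.toEquiv, nat_card_alternatingGroup, Nat.card_eq_fintype_card,
      Fintype.card_fin]
    decide
  have hcardT : Nat.card T = 120 := by
    rw [← K.card_mul_index, hcardK, hidx]
  let φ : T →* MulAut K := MulAut.conjNormal
  have hinj : Function.Injective φ := by
    rw [← MonoidHom.ker_eq_bot_iff, eq_bot_iff]
    intro x hx
    rw [MonoidHom.mem_ker] at hx
    have hx' : x ∈ Subgroup.centralizer (K : Set T) := by
      rw [Subgroup.mem_centralizer_iff]
      intro k hk
      have h1 : φ x ⟨k, hk⟩ = ⟨k, hk⟩ := by rw [hx]; rfl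
      have h2 : ((φ x ⟨k, hk⟩ : K) : T) = x * k * x⁻¹ := MulAut.conjNormal_apply x ⟨k, hk⟩
      rw [h1] at h2
      simp only at h2
      conv_lhs => rw [h2]
      group
    rw [hC] at hx'
    exact hx'
  have hbij' : Function.Bijective φ :=
    hinj.bijective_of_nat_card_le (by rw [hcardAut, hcardT])
  exact ⟨(MulEquiv.ofBijective φ hbij').trans ω⟩

/-- With no nontrivial solvable normal subgroups, a normal `A5` of index `2` has trivial
centralizer. -/
theorem centralizer_eq_bot_of_index_two {T : Type u} [Group T] [Finite T] (K : Subgroup T)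
    [K.Normal] (e : K ≃* alternatingGroup (Fin 5)) (hidx : K.index = 2)
    (hTSR : ∀ N : Subgroup T, N.Normal → Group.IsSolvable N → N = ⊥) :
    Subgroup.centralizer (K : Set T) = ⊥ := by
  classical
  apply hTSR _ inferInstance
  -- the centralizer meets `K` trivially
  have hcen : ∀ x : T, x ∈ Subgroup.centralizer (K : Set T) → x ∈ K → x = 1 := by
    intro x hxC hxK
    have hz : e ⟨x, hxK⟩ ∈ Subgroup.center (alternatingGroup (Fin 5)) := by
      rw [Subgroup.mem_center_iff]
      intro g
      obtain ⟨k, rfl⟩ := e.surjective g
      rw [← map_mul, ← map_mul]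
      congr 1
      apply Subtype.ext
      simp only [Subgroup.coe_mul]
      exact (Subgroup.mem_centralizer_iff.mp hxC k k.2)
    rw [alternatingGroup.center_eq_bot (by simp), Subgroup.mem_bot] at hz
    have := e.injective (hz.trans (map_one e).symm)
    exact congrArg Subtype.val this
  -- hence the centralizer embeds in `T ⧸ K`
  have hinj : Function.Injective
      (fun c : Subgroup.centralizer (K : Set T) => (QuotientGroup.mk' K) (c : T)) := by
    intro c₁ c₂ h
    simp only [QuotientGroup.mk'_apply] at h
    rw [QuotientGroup.eq] at h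
    have h1 : (c₁ : T)⁻¹ * c₂ = 1 :=
      hcen _ (Subgroup.mul_mem _ (Subgroup.inv_mem _ c₁.2) c₂.2) h
    apply Subtype.ext
    rw [inv_mul_eq_one] at h1
    exact h1
  have hle : Nat.card (Subgroup.centralizer (K : Set T)) ≤ 2 := by
    have := Nat.card_le_card_of_injective _ hinj
    rwa [← Subgroup.index_eq_card, hidx] at this
  exact isSolvable_of_card_lt_sixty _ _ rfl (by omega)

/-- The kernel of the sign on a subgroup `T` of `Perm X` is not solvable when `T` is not. -/
theorem not_isSolvable_alt_subgroupOf {X : Type*} [Fintype X] [DecidableEq X]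
    (T : Subgroup (Perm X)) (hns : ¬ Group.IsSolvable T) :
    ¬ Group.IsSolvable ((alternatingGroup X).subgroupOf T) := by
  intro hK
  apply hns
  haveI := hK
  refine Group.isSolvable_of_ker_le_range ((alternatingGroup X).subgroupOf T).subtype
    ((Perm.sign (α := X)).comp T.subtype) ?_
  intro x hx
  rw [MonoidHom.mem_ker] at hx
  have hx' : x ∈ (alternatingGroup X).subgroupOf T := by
    rw [Subgroup.mem_subgroupOf, Perm.mem_alternatingGroup]
    exact hx
  exact ⟨⟨x, hx'⟩, rfl⟩

/-- `A.subgroupOf T ≃* (T ⊓ A).subgroupOf A`. -/
noncomputable def subgroupOfSwap {G : Type*} [Group G] (A T : Subgroup G) :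
    A.subgroupOf T ≃* (T ⊓ A).subgroupOf A :=
  (MulEquiv.subgroupCongr (by rw [Subgroup.inf_subgroupOf_left])).trans
    ((Subgroup.subgroupOfEquivOfLe (inf_le_left : T ⊓ A ≤ T)).trans
      (Subgroup.subgroupOfEquivOfLe (inf_le_right : T ⊓ A ≤ A)).symm)

/-- FO-2 of helper26's S2553. -/
theorem t6 {X : Type*} [Fintype X] [DecidableEq X] (hX : Fintype.card X = 6)
    (T : Subgroup (Perm X)) (hns : ¬ Group.IsSolvable T)
    (hTSR : ∀ N : Subgroup T, N.Normal → Group.IsSolvable N → N = ⊥) :
    Nonempty (T ≃* alternatingGroup (Fin 5)) ∨ Nonempty (T ≃* Perm (Fin 5)) ∨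
      Nonempty (T ≃* alternatingGroup (Fin 6)) ∨ Nonempty (T ≃* Perm (Fin 6)) := by
  classical
  haveI : Nontrivial X := by
    rw [← Fintype.one_lt_card_iff_nontrivial, hX]; norm_num
  let e6 : X ≃ Fin 6 := Fintype.equivFinOfCardEq hX
  by_cases hAT : alternatingGroup X ≤ T
  · -- `T` is `Alt X` or everything
    have hdvd : T.index ∣ 2 := by
      rw [← alternatingGroup.index_eq_two (α := X)]
      exact Subgroup.index_dvd_of_le hAT
    have h12 : T.index = 1 ∨ T.index = 2 := by
      have := Nat.le_of_dvd (by norm_num) hdvd
      have h0 : T.index ≠ 0 := Subgroup.index_ne_zero_of_finite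
      interval_cases h : T.index
      · exact absurd rfl h0
      · exact Or.inl rfl
      · exact Or.inr rfl
    rcases h12 with h1 | h2
    · right; right; right
      rw [Subgroup.index_eq_one] at h1
      exact ⟨(MulEquiv.subgroupCongr h1).trans
        (Subgroup.topEquiv.trans (Equiv.permCongrHom e6))⟩
    · right; right; left
      have hTA := Equiv.Perm.eq_alternatingGroup_of_index_eq_two h2
      exact ⟨(MulEquiv.subgroupCongr hTA).trans (Equiv.altCongrHom e6)⟩
  · -- `T ⊓ Alt X` is a proper nonsolvable subgroup of `Alt X`
    set K : Subgroup T := (alternatingGroup X).subgroupOf T with hKdef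
    set K' : Subgroup (alternatingGroup X) := (T ⊓ alternatingGroup X).subgroupOf
      (alternatingGroup X) with hK'def
    have hK'top : K' ≠ ⊤ := by
      intro h
      rw [hK'def, Subgroup.subgroupOf_eq_top] at h
      exact hAT (le_trans h inf_le_left)
    have hcardK' : Nat.card K' ≤ 60 := card_le_sixty_of_ne_top hX K' hK'top
    have hKns : ¬ Group.IsSolvable K := not_isSolvable_alt_subgroupOf T hns
    let eKK' : K ≃* K' := subgroupOfSwap (alternatingGroup X) T
    have hK'ns : ¬ Group.IsSolvable K' := fun h => hKns ((isSolvable_congr eKK').mpr h)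
    obtain ⟨eK'⟩ := nonempty_mulEquiv_alt_five K' hK'ns hcardK'
    let eK : K ≃* alternatingGroup (Fin 5) := eKK'.trans eK'
    have hdvd : K.index ∣ 2 := by
      rw [← alternatingGroup.index_eq_two (α := X)]
      exact Subgroup.relIndex_dvd_index_of_normal (alternatingGroup X) T
    have h12 : K.index = 1 ∨ K.index = 2 := by
      have := Nat.le_of_dvd (by norm_num) hdvd
      have h0 : K.index ≠ 0 := Subgroup.index_ne_zero_of_finite
      interval_cases h : K.index
      · exact absurd rfl h0
      · exact Or.inl rfl
      · exact Or.inr rfl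
    rcases h12 with h1 | h2
    · left
      rw [Subgroup.index_eq_one] at h1
      exact ⟨(Subgroup.topEquiv.symm.trans (MulEquiv.subgroupCongr h1.symm)).trans eK⟩
    · right; left
      have hC := centralizer_eq_bot_of_index_two K eK h2 hTSR
      exact mulEquiv_perm_five_of_index_two K eK h2 hC

end Cfsg.Agent.Lib.Helper18.A8T6
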