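import Mathlib
import Cfsg.Agent.S0678
import Cfsg.Agent.Lib.Helper13.A8FO5

/-!
# Nonsolvable transitive subgroups of `Alt(7)`

(helper18; farm-out piece FO-3 of helper26's S2553.)  Via S0678 and helper13's `simple168_gl3`.
-/

set_option autoImplicit false

open Equiv MulAction

namespace Cfsg.Agent.Lib.Helper18.A8T7

/-- FO-3 of helper26's S2553. -/
theorem t7 {X : Type*} [Fintype X] [DecidableEq X] (hX : Fintype.card X = 7)
    (T : Subgroup (Perm X)) (hT : T ≤ alternatingGroup X) [IsPretransitive T X]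
    (hns : ¬ Group.IsSolvable T) :
    Nonempty (T ≃* alternatingGroup (Fin 7)) ∨ Nonempty (T ≃* GL (Fin 3) (ZMod 2)) := by
  classical
  by_cases hA : alternatingGroup X ≤ T
  · left
    have hTA : T = alternatingGroup X := le_antisymm hT hA
    let e7 : X ≃ Fin 7 := Fintype.equivFinOfCardEq hX
    exact ⟨(MulEquiv.subgroupCongr hTA).trans (Equiv.altCongrHom e7)⟩
  · right
    obtain ⟨h168, hs⟩ := Cfsg.Agent.S0678.result hX T hns hA
    haveI := hs
    exact Cfsg.Agent.Lib.Helper13.A8FO.simple168_gl3 h168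

end Cfsg.Agent.Lib.Helper18.A8T7
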