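import Mathlib
import Cfsg.Agent.Lib.Helper18.FusionCR

/-!
# Groups all of whose `p`-automizers are free of a given group

`AutFreeOf Y X`: for no `p`-subgroup `T` of `X` does a subgroup of `N_X(T)` map onto `Y` with `C_X(T)` in the
kernel. The property passes to subgroups and to quotients (hence to sections).
-/

set_option autoImplicit false

namespace Cfsg.Agent.Lib.Helper18.AutFree

open Cfsg.Agent.Lib.Helper13 Cfsg.Agent.Lib.Helper18.FusionCR

universe u v

/-- no section of a `p`-automizer `N_X(T) / C_X(T)` is isomorphic to `Y`, in elementary form -/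
def AutFreeOf (p : ℕ) (Y : Type v) [Group Y] (X : Type u) [Group X] : Prop :=
  ∀ T : Subgroup X, IsPGroup p T → ∀ (H : Subgroup X) (f : ↥H →* Y),
    H ≤ Subgroup.normalizer (T : Set X) →
    (∀ h : ↥H, (h : X) ∈ Subgroup.centralizer (T : Set X) → f h = 1) → ¬ Function.Surjective f

section sectionOfHom

variable {G : Type*} [Group G] {Y : Type*} [Group Y]

/-- a surjection from a subgroup of `N(T)` killing `C(T)` gives a section of `N(T)/C(T)` in the strict sense -/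
theorem exists_section_of_hom (T H : Subgroup G) (f : ↥H →* Y) (hf : Function.Surjective f)
    (hHN : H ≤ Subgroup.normalizer (T : Set G))
    (hkill : ∀ h : ↥H, (h : G) ∈ Subgroup.centralizer (T : Set G) → f h = 1) :
    ∃ (H' K' : Subgroup G) (_ : (K'.subgroupOf H').Normal),
      Subgroup.centralizer (T : Set G) ≤ K' ∧ K' ≤ H' ∧ H' ≤ Subgroup.normalizer (T : Set G) ∧
      Nonempty ((↥H' ⧸ K'.subgroupOf H') ≃* Y) := by
  obtain ⟨C, hC⟩ : ∃ C : Subgroup G, C = Subgroup.centralizer (T : Set G) := ⟨_, rfl⟩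
  rw [← hC] at hkill ⊢
  obtain ⟨K₀, hK₀⟩ : ∃ K₀ : Subgroup G, K₀ = f.ker.map H.subtype := ⟨_, rfl⟩
  have hK₀H : K₀ ≤ H := by rw [hK₀]; exact Subgroup.map_subtype_le _
  have hCN : C ≤ Subgroup.normalizer (T : Set G) := by
    rw [hC]; exact Subgroup.centralizer_le_normalizer _
  have hHC : H ≤ Subgroup.normalizer ((C : Subgroup G) : Set G) := by
    rw [hC]; exact hHN.trans (normalizer_le_normalizer_centralizer T)
  have hconjC : ∀ h ∈ H, ∀ c ∈ C, h * c * h⁻¹ ∈ C := by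
    intro h hh c hc
    exact (Subgroup.mem_normalizer_iff.mp (hHC hh) c).mp hc
  have hmemK₀ : ∀ x : G, x ∈ K₀ ↔ ∃ hx : x ∈ H, f ⟨x, hx⟩ = 1 := by
    intro x
    rw [hK₀]
    constructor
    · rintro ⟨k, hk, rfl⟩
      exact ⟨k.2, hk⟩
    · rintro ⟨hx, h1⟩
      exact ⟨⟨x, hx⟩, h1, rfl⟩
  have hconjK : ∀ h ∈ H, ∀ k ∈ K₀, h * k * h⁻¹ ∈ K₀ := by
    intro h hh k hk
    obtain ⟨hkH, hk1⟩ := (hmemK₀ k).mp hk
    rw [hmemK₀]
    refine ⟨H.mul_mem (H.mul_mem hh hkH) (H.inv_mem hh), ?_⟩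
    have e : (⟨h * k * h⁻¹, H.mul_mem (H.mul_mem hh hkH) (H.inv_mem hh)⟩ : ↥H) =
        ⟨h, hh⟩ * ⟨k, hkH⟩ * ⟨h, hh⟩⁻¹ := rfl
    rw [e, map_mul, map_mul, hk1, mul_one, map_inv, mul_inv_cancel]
  have hsupH : ∀ x ∈ C ⊔ H, ∃ c ∈ C, ∃ h ∈ H, x = c * h := by
    intro x hx
    have hx' : x ∈ ((C ⊔ H : Subgroup G) : Set G) := hx
    rw [Subgroup.coe_mul_of_right_le_normalizer_left C H hHC] at hx'
    obtain ⟨c, hc, h, hh, rfl⟩ := hx'
    exact ⟨c, hc, h, hh, rfl⟩
  have hsupK : ∀ x ∈ C ⊔ K₀, ∃ c ∈ C, ∃ k ∈ K₀, x = c * k := by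
    intro x hx
    have hx' : x ∈ ((C ⊔ K₀ : Subgroup G) : Set G) := hx
    rw [Subgroup.coe_mul_of_right_le_normalizer_left C K₀ (hK₀H.trans hHC)] at hx'
    obtain ⟨c, hc, k, hk, rfl⟩ := hx'
    exact ⟨c, hc, k, hk, rfl⟩
  have hKH : C ⊔ K₀ ≤ C ⊔ H := sup_le_sup_left hK₀H C
  have hn : ((C ⊔ K₀).subgroupOf (C ⊔ H)).Normal := by
    constructor
    intro y hy x
    rw [Subgroup.mem_subgroupOf] at hy ⊢
    obtain ⟨c₁, hc₁, h, hh, hx⟩ := hsupH x x.2
    obtain ⟨c₂, hc₂, k, hk, hy'⟩ := hsupK y hy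
    have hkH : k ∈ H := hK₀H hk
    have h1 : h * c₂ * h⁻¹ ∈ C := hconjC h hh c₂ hc₂
    have h2 : h * k * h⁻¹ ∈ K₀ := hconjK h hh k hk
    have h2H : h * k * h⁻¹ ∈ H := hK₀H h2
    have h3 : (h * k * h⁻¹) * c₁⁻¹ * (h * k * h⁻¹)⁻¹ ∈ C := hconjC _ h2H _ (C.inv_mem hc₁)
    have e : ((x * y * x⁻¹ : ↥(C ⊔ H)) : G) =
        (c₁ * (h * c₂ * h⁻¹) * ((h * k * h⁻¹) * c₁⁻¹ * (h * k * h⁻¹)⁻¹)) * (h * k * h⁻¹) := by
      push_cast
      rw [hx, hy']
      group
    rw [e]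
    exact Subgroup.mul_mem _ (Subgroup.mem_sup_left (C.mul_mem (C.mul_mem hc₁ h1) h3))
      (Subgroup.mem_sup_right h2)
  obtain ⟨g, hg⟩ : ∃ g : ↥H →* (↥(C ⊔ H) ⧸ (C ⊔ K₀).subgroupOf (C ⊔ H)),
      g = (QuotientGroup.mk' _).comp (Subgroup.inclusion (le_sup_right : H ≤ C ⊔ H)) := ⟨_, rfl⟩
  have hgs : Function.Surjective g := by
    intro q
    induction q using QuotientGroup.induction_on with
    | H x =>
      obtain ⟨c, hc, h, hh, hx⟩ := hsupH x x.2
      refine ⟨⟨h, hh⟩, ?_⟩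
      rw [hg, MonoidHom.comp_apply, QuotientGroup.mk'_apply, QuotientGroup.eq, Subgroup.mem_subgroupOf]
      have e : (((Subgroup.inclusion (le_sup_right : H ≤ C ⊔ H)) ⟨h, hh⟩)⁻¹ * x : ↥(C ⊔ H)) =
          (h⁻¹ * c * h⁻¹⁻¹ : G) := by
        push_cast
        rw [hx]
        simp only [Subgroup.coe_inclusion]
        group
      rw [e]
      exact Subgroup.mem_sup_left (hconjC _ (H.inv_mem hh) c hc)
  have hker : g.ker = f.ker := by
    ext h
    rw [MonoidHom.mem_ker, MonoidHom.mem_ker, hg, MonoidHom.comp_apply, QuotientGroup.mk'_apply,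
      QuotientGroup.eq_one_iff, Subgroup.mem_subgroupOf]
    simp only [Subgroup.coe_inclusion]
    constructor
    · intro hh
      obtain ⟨c, hc, k, hk, hck⟩ := hsupK _ hh
      obtain ⟨hkH, hk1⟩ := (hmemK₀ k).mp hk
      have hcH : c ∈ H := by
        have : c = (h : G) * k⁻¹ := by rw [hck]; group
        rw [this]; exact H.mul_mem h.2 (H.inv_mem hkH)
      have e : h = ⟨c, hcH⟩ * ⟨k, hkH⟩ := Subtype.ext hck
      rw [e, map_mul, hk1, mul_one]
      exact hkill ⟨c, hcH⟩ hc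
    · intro hh
      exact Subgroup.mem_sup_right ((hmemK₀ _).mpr ⟨h.2, hh⟩)
  refine ⟨C ⊔ H, C ⊔ K₀, hn, le_sup_left, hKH, sup_le hCN hHN, ⟨?_⟩⟩
  exact ((QuotientGroup.quotientKerEquivOfSurjective g hgs).symm.trans
    (QuotientGroup.quotientMulEquivOfEq hker)).trans (QuotientGroup.quotientKerEquivOfSurjective f hf)

end sectionOfHom

section inherit

variable {p : ℕ} {Y : Type v} [Group Y]

/-- the property passes along injective homomorphisms (to subgroups, to isomorphic groups) -/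
theorem autFreeOf_of_injective {X₁ X₂ : Type*} [Group X₁] [Group X₂] (i : X₁ →* X₂)
    (hi : Function.Injective i) (h : AutFreeOf p Y X₂) : AutFreeOf p Y X₁ := by
  intro T hT H f hHN hkill hf
  obtain ⟨e, he⟩ : ∃ e : ↥H ≃* ↥(H.map i), e = H.equivMapOfInjective i hi := ⟨_, rfl⟩
  have hecoe : ∀ x : ↥H, ((e x : ↥(H.map i)) : X₂) = i (x : X₁) := by
    intro x; rw [he]; exact Subgroup.coe_equivMapOfInjective_apply H i hi x
  apply h (T.map i) (hT.map i) (H.map i) (f.comp e.symm.toMonoidHom)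
  · exact (Subgroup.map_mono hHN).trans (Subgroup.le_normalizer_map i)
  · intro h' hh'
    obtain ⟨x, rfl⟩ := e.surjective h'
    rw [MonoidHom.comp_apply]
    have : e.symm.toMonoidHom (e x) = x := e.symm_apply_apply x
    rw [this]
    apply hkill
    rw [Subgroup.mem_centralizer_iff]
    intro t ht
    apply hi
    rw [map_mul, map_mul]
    have h1 := Subgroup.mem_centralizer_iff.mp hh' (i t) (Subgroup.mem_map_of_mem i ht)
    rw [hecoe] at h1
    exact h1
  · exact hf.comp e.symm.surjective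

theorem autFreeOf_subgroup {X : Type*} [Group X] (h : AutFreeOf p Y X) (K : Subgroup X) :
    AutFreeOf p Y ↥K :=
  autFreeOf_of_injective K.subtype K.subtype_injective h

/-- the property passes to homomorphic images of finite groups -/
theorem autFreeOf_of_surjective [Fact p.Prime] {X₁ X₂ : Type*} [Group X₁] [Finite X₁] [Group X₂]
    (π : X₁ →* X₂) (hπ : Function.Surjective π) (h : AutFreeOf p Y X₁) : AutFreeOf p Y X₂ := by
  intro Tb hTb Hb fb hHN hkill hf
  obtain ⟨L, hL⟩ : ∃ L : Subgroup X₁, L = Tb.comap π := ⟨_, rfl⟩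
  obtain ⟨T₀⟩ : Nonempty (Sylow p ↥L) := inferInstance
  obtain ⟨T, hT⟩ : ∃ T : Subgroup X₁, T = (T₀ : Subgroup ↥L).map L.subtype := ⟨_, rfl⟩
  have hTL : T ≤ L := by rw [hT]; exact Subgroup.map_subtype_le _
  have hTp : IsPGroup p T := by rw [hT]; exact T₀.isPGroup'.map _
  have hTi : ¬ p ∣ T.relIndex L := by
    have e : T.relIndex L = (T₀ : Subgroup ↥L).index := by
      rw [hT]
      unfold Subgroup.relIndex Subgroup.subgroupOf
      rw [Subgroup.comap_map_eq_self_of_injective L.subtype_injective]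
    rw [e]; exact T₀.not_dvd_index
  -- `T` maps onto `Tb`
  have hTmap : ∀ tb ∈ Tb, ∃ t ∈ T, π t = tb := by
    intro tb htb
    have hsurj : Function.Surjective (π.subgroupComap Tb) :=
      π.subgroupComap_surjective_of_surjective Tb hπ
    have hLeq : Tb.comap π = L := hL.symm
    subst hLeq
    have h2 : IsPGroup p (⊤ : Subgroup ↥Tb) := hTb.to_subgroup _
    have htop : ((T₀.mapSurjective hsurj : Sylow p ↥Tb) : Subgroup ↥Tb) = ⊤ :=
      ((T₀.mapSurjective hsurj).is_maximal' h2 le_top).symm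
    have hmem : (⟨tb, htb⟩ : ↥Tb) ∈ ((T₀.mapSurjective hsurj : Sylow p ↥Tb) : Subgroup ↥Tb) := by
      rw [htop]; trivial
    rw [Sylow.coe_mapSurjective] at hmem
    obtain ⟨l, hl, hlt⟩ := hmem
    refine ⟨(l : X₁), ?_, ?_⟩
    · rw [hT]; exact ⟨l, hl, rfl⟩
    · exact congrArg Subtype.val hlt
  -- `L = T ker π`
  have hLdec : ∀ l ∈ L, ∃ t ∈ T, ∃ n : X₁, π n = 1 ∧ l = t * n := by
    intro l hl
    have hl' : π l ∈ Tb := by rw [hL] at hl; exact hl
    obtain ⟨t, ht, htl⟩ := hTmap _ hl'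
    refine ⟨t, ht, t⁻¹ * l, ?_, by group⟩
    rw [map_mul, map_inv, htl, inv_mul_cancel]
  -- the subgroup of `X₁`
  obtain ⟨H, hH⟩ : ∃ H : Subgroup X₁, H = Hb.comap π ⊓ Subgroup.normalizer (T : Set X₁) := ⟨_, rfl⟩
  have hHle : H ≤ Hb.comap π := by rw [hH]; exact inf_le_left
  obtain ⟨f, hfdef⟩ : ∃ f : ↥H →* Y, f = fb.comp ((π.subgroupComap Hb).comp (Subgroup.inclusion hHle)) :=
    ⟨_, rfl⟩
  have hfapp : ∀ (x : X₁) (hx : x ∈ H), f ⟨x, hx⟩ = fb ⟨π x, hHle hx⟩ := by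
    intro x hx; rw [hfdef]; rfl
  apply h T hTp H f
  · rw [hH]; exact inf_le_right
  · intro x hx
    rw [hfapp x.1 x.2]
    apply hkill
    rw [Subgroup.mem_centralizer_iff]
    intro tb htb
    obtain ⟨t, ht, rfl⟩ := hTmap tb htb
    have h1 := Subgroup.mem_centralizer_iff.mp hx t ht
    show π t * π x = π x * π t
    rw [← map_mul, ← map_mul, h1]
  · intro s
    obtain ⟨hb, hhb⟩ := hf s
    obtain ⟨x, hx⟩ := hπ (hb : X₂)
    -- `x` normalizes `L`
    have hxL : x ∈ Subgroup.normalizer (L : Set X₁) := by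
      rw [hL]
      apply Subgroup.le_normalizer_comap π
      rw [Subgroup.mem_comap, hx]
      exact hHN hb.2
    have hconjL : T.map (MulAut.conj x).toMonoidHom ≤ L := by
      rw [map_conj_le_iff]
      intro t ht
      exact (Subgroup.mem_normalizer_iff.mp hxL t).mp (hTL ht)
    obtain ⟨l, hlL, hl⟩ := exists_conj_le_of_relIndex L T (T.map (MulAut.conj x).toMonoidHom) hTp hTi
      hconjL (hTp.map _)
    obtain ⟨t, ht, n, hn, hltn⟩ := hLdec l hlL
    have hnx : n * x ∈ Subgroup.normalizer (T : Set X₁) := by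
      apply mem_normalizer_of_conj_mem
      intro q hq
      have h1 := hl _ (conj_mem_map_conj T x hq)
      have h2 : t⁻¹ * (l * (x * q * x⁻¹) * l⁻¹) * t ∈ T :=
        T.mul_mem (T.mul_mem (T.inv_mem ht) h1) ht
      have e : n * x * q * (n * x)⁻¹ = t⁻¹ * (l * (x * q * x⁻¹) * l⁻¹) * t := by
        rw [hltn]; group
      rw [e]; exact h2
    have hπnx : π (n * x) = (hb : X₂) := by rw [map_mul, hn, one_mul, hx]
    have hnxH : n * x ∈ H := by
      rw [hH]
      refine Subgroup.mem_inf.mpr ⟨?_, hnx⟩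
      rw [Subgroup.mem_comap, hπnx]; exact hb.2
    refine ⟨⟨n * x, hnxH⟩, ?_⟩
    rw [hfapp, ← hhb]
    congr 1
    exact Subtype.ext hπnx

end inherit

end Cfsg.Agent.Lib.Helper18.AutFree
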