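import Mathlib
import Cfsg.Agent.Lib.Helper18.FusionCR

/-!
# Glauberman's normal subgroup lemma for control of strong fusion

`N ⊴ G`, `P` a Sylow `p`-subgroup, `T = P ∩ N`, `V ≤ T` such that `N_N(V)` controls strong fusion in `T`
with respect to `N`.  Then, for `W = ⟨V^x : x ∈ N_G(T)⟩`, `N_G(W)` controls strong fusion in `P` with
respect to `G`.
-/

set_option autoImplicit false

namespace Cfsg.Agent.Lib.Helper18.NormalSub

open Cfsg.Agent.Lib.Helper13 Cfsg.Agent.Lib.Helper18.FusionCR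

open scoped commutatorElement

variable {G : Type*} [Group G]

/-- the lower central series of a subgroup `W`, computed in the ambient group -/
def lcs (W : Subgroup G) : ℕ → Subgroup G
  | 0 => W
  | i + 1 => ⁅lcs W i, W⁆

theorem lcs_le (W : Subgroup G) : ∀ i, lcs W i ≤ W
  | 0 => le_rfl
  | i + 1 => by
    show ⁅lcs W i, W⁆ ≤ W
    rw [Subgroup.commutator_le]
    intro a ha w hw
    have haW := lcs_le W i ha
    rw [commutatorElement_def]
    exact W.mul_mem (W.mul_mem (W.mul_mem haW hw) (W.inv_mem haW)) (W.inv_mem hw)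

theorem conj_mem_commutator {H K : Subgroup G} {x : G} (hH : ∀ h ∈ H, x * h * x⁻¹ ∈ H)
    (hK : ∀ k ∈ K, x * k * x⁻¹ ∈ K) : ∀ u ∈ ⁅H, K⁆, x * u * x⁻¹ ∈ ⁅H, K⁆ := by
  intro u hu
  have h1 : H.map (MulAut.conj x).toMonoidHom ≤ H := (map_conj_le_iff H H x).mpr hH
  have h2 : K.map (MulAut.conj x).toMonoidHom ≤ K := (map_conj_le_iff K K x).mpr hK
  have h3 : (⁅H, K⁆).map (MulAut.conj x).toMonoidHom ≤ ⁅H, K⁆ := by
    rw [Subgroup.map_commutator]
    exact Subgroup.commutator_mono h1 h2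
  exact h3 (conj_mem_map_conj _ x hu)

theorem lcs_conj (W : Subgroup G) {x : G} (hx : ∀ w ∈ W, x * w * x⁻¹ ∈ W) :
    ∀ i, ∀ u ∈ lcs W i, x * u * x⁻¹ ∈ lcs W i
  | 0 => hx
  | i + 1 => conj_mem_commutator (lcs_conj W hx i) hx

theorem lcs_eq (W : Subgroup G) : ∀ i, lcs W i = W.lowerCentralSeries i
  | 0 => rfl
  | i + 1 => by
    show ⁅lcs W i, W⁆ = ⁅W.lowerCentralSeries i, W⁆
    rw [lcs_eq W i]

theorem lcs_eq_bot [Finite G] {p : ℕ} [Fact p.Prime] (W : Subgroup G) (hW : IsPGroup p W) :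
    ∃ c, lcs W c = ⊥ := by
  have h1 : Group.IsNilpotent ↥W := hW.isNilpotent
  obtain ⟨c, hc⟩ := (Subgroup.isNilpotent_iff_lowerCentralSeries W).mp h1
  exact ⟨c, by rw [lcs_eq, hc]⟩

/-- the chain `U ≥ U ∩ W ≥ U ∩ [W,W] ≥ …` -/
def chainD (U W : Subgroup G) : ℕ → Subgroup G
  | 0 => U
  | j + 1 => U ⊓ lcs W j

section main

variable [Finite G] {p : ℕ} [Fact p.Prime]

theorem normal_sub_control (N : Subgroup G) [N.Normal] (P : Sylow p G) (V : Subgroup G)
    (hV : V ≤ (P : Subgroup G) ⊓ N)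
    (hctrl : ∀ A : Subgroup G, A ≤ (P : Subgroup G) ⊓ N → ∀ n ∈ N,
      A.map (MulAut.conj n).toMonoidHom ≤ (P : Subgroup G) ⊓ N →
      ∃ h ∈ N ⊓ Subgroup.normalizer (V : Set G), ∃ c ∈ N ⊓ Subgroup.centralizer (A : Set G), n = h * c)
    (W : Subgroup G) (hW : W = Subgroup.closure (⋃ x ∈ Subgroup.normalizer (((P : Subgroup G) ⊓ N : Subgroup G) : Set G),
      ((V.map (MulAut.conj x).toMonoidHom : Subgroup G) : Set G))) :
    ∀ A : Subgroup G, A ≤ (P : Subgroup G) → ∀ g : G, A.map (MulAut.conj g).toMonoidHom ≤ (P : Subgroup G) →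
        ∃ h ∈ Subgroup.normalizer (W : Set G), ∃ c ∈ Subgroup.centralizer (A : Set G), g = h * c := by
  obtain ⟨T, hT⟩ : ∃ T : Subgroup G, T = (P : Subgroup G) ⊓ N := ⟨_, rfl⟩
  rw [← hT] at hV hctrl hW
  obtain ⟨NT, hNT⟩ : ∃ NT : Subgroup G, NT = Subgroup.normalizer (T : Set G) := ⟨_, rfl⟩
  rw [← hNT] at hW
  have hTP : T ≤ (P : Subgroup G) := by rw [hT]; exact inf_le_left
  have hTN : T ≤ N := by rw [hT]; exact inf_le_right
  have hNTmap : ∀ x ∈ NT, T.map (MulAut.conj x).toMonoidHom = T := fun x hx =>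
    (map_conj_eq_self_iff_mem_normalizer T x).mpr (hNT ▸ hx)
  have hNconj : ∀ (x : G), ∀ n ∈ N, x * n * x⁻¹ ∈ N := fun x n hn =>
    (inferInstance : N.Normal).conj_mem n hn x
  -- conjugates of `V` lie in `T`
  have hVxT : ∀ x ∈ NT, V.map (MulAut.conj x).toMonoidHom ≤ T := by
    intro x hx
    rw [← hNTmap x hx]; exact Subgroup.map_mono hV
  -- Step A: the control hypothesis for the conjugates of `V`
  have ctrl_conj : ∀ x ∈ NT, ∀ A : Subgroup G, A ≤ T → ∀ n ∈ N, A.map (MulAut.conj n).toMonoidHom ≤ T →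
      ∃ h ∈ N ⊓ Subgroup.normalizer ((V.map (MulAut.conj x).toMonoidHom : Subgroup G) : Set G),
        ∃ c ∈ N ⊓ Subgroup.centralizer (A : Set G), n = h * c := by
    intro x hx A hA n hn hAn
    have hxi : x⁻¹ ∈ NT := Subgroup.inv_mem _ hx
    have hA' : A.map (MulAut.conj x⁻¹).toMonoidHom ≤ T := by
      rw [← hNTmap x⁻¹ hxi]; exact Subgroup.map_mono hA
    have hn' : x⁻¹ * n * x ∈ N := by
      have := hNconj x⁻¹ n hn; rwa [inv_inv] at this
    have hAn' : (A.map (MulAut.conj x⁻¹).toMonoidHom).map (MulAut.conj (x⁻¹ * n * x)).toMonoidHom ≤ T := by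
      rw [← map_conj_mul]
      have e : x⁻¹ * n * x * x⁻¹ = x⁻¹ * n := by group
      rw [e, map_conj_mul, ← hNTmap x⁻¹ hxi]
      exact Subgroup.map_mono hAn
    obtain ⟨h', hh', c', hc', hnc⟩ := hctrl _ hA' _ hn' hAn'
    obtain ⟨hh'N, hh'V⟩ := Subgroup.mem_inf.mp hh'
    obtain ⟨hc'N, hc'A⟩ := Subgroup.mem_inf.mp hc'
    refine ⟨x * h' * x⁻¹, Subgroup.mem_inf.mpr ⟨hNconj x h' hh'N, ?_⟩, x * c' * x⁻¹,
      Subgroup.mem_inf.mpr ⟨hNconj x c' hc'N, ?_⟩, ?_⟩
    · rw [normalizer_map_conj]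
      exact conj_mem_map_conj _ x hh'V
    · rw [Subgroup.mem_centralizer_iff]
      intro a ha
      have ha' : x⁻¹ * a * x ∈ A.map (MulAut.conj x⁻¹).toMonoidHom := by
        have := conj_mem_map_conj A x⁻¹ ha
        rwa [inv_inv] at this
      have h1 := Subgroup.mem_centralizer_iff.mp hc'A _ ha'
      calc a * (x * c' * x⁻¹) = x * ((x⁻¹ * a * x) * c') * x⁻¹ := by group
        _ = x * (c' * (x⁻¹ * a * x)) * x⁻¹ := by rw [h1]
        _ = x * c' * x⁻¹ * a := by group
    · calc n = x * (x⁻¹ * n * x) * x⁻¹ := by group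
        _ = x * (h' * c') * x⁻¹ := by rw [hnc]
        _ = x * h' * x⁻¹ * (x * c' * x⁻¹) := by group
  -- Step B: simultaneous control
  have ctrl_all : ∀ A : Subgroup G, A ≤ T → ∀ n ∈ N, A.map (MulAut.conj n).toMonoidHom ≤ T →
      ∃ h ∈ N, (∀ x ∈ NT, h ∈ Subgroup.normalizer ((V.map (MulAut.conj x).toMonoidHom : Subgroup G) : Set G)) ∧
        ∃ c ∈ N ⊓ Subgroup.centralizer (A : Set G), n = h * c := by
    intro A hA n hn hAn
    have key : ∀ (k : ℕ) (B : Subgroup G) (m : G), A ≤ B → B ≤ T → m ∈ N →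
        B.map (MulAut.conj m).toMonoidHom ≤ T → m⁻¹ * n ∈ Subgroup.centralizer (A : Set G) →
        Nat.card T - Nat.card B = k →
        ∃ h ∈ N, (∀ x ∈ NT, h ∈ Subgroup.normalizer ((V.map (MulAut.conj x).toMonoidHom : Subgroup G) : Set G)) ∧
          ∃ c ∈ N ⊓ Subgroup.centralizer (A : Set G), n = h * c := by
      intro k
      induction k using Nat.strong_induction_on with
      | _ k ih =>
      intro B m hAB hBT hmN hBm hmn hk
      by_cases hall : ∀ x ∈ NT, V.map (MulAut.conj x).toMonoidHom ≤ B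
      · refine ⟨m, hmN, ?_, m⁻¹ * n, Subgroup.mem_inf.mpr ⟨N.mul_mem (N.inv_mem hmN) hn, hmn⟩, by group⟩
        intro x hx
        obtain ⟨h', hh', c', hc', hmc⟩ := ctrl_conj x hx B hBT m hmN hBm
        have hc'V : c' ∈ Subgroup.normalizer ((V.map (MulAut.conj x).toMonoidHom : Subgroup G) : Set G) :=
          Subgroup.centralizer_le_normalizer _
            (Subgroup.centralizer_le (SetLike.coe_subset_coe.mpr (hall x hx)) (Subgroup.mem_inf.mp hc').2)
        rw [hmc]
        exact Subgroup.mul_mem _ (Subgroup.mem_inf.mp hh').2 hc'V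
      · push Not at hall
        obtain ⟨x, hx, hxB⟩ := hall
        obtain ⟨h', hh', c', hc', hmc⟩ := ctrl_conj x hx B hBT m hmN hBm
        obtain ⟨hh'N, hh'V⟩ := Subgroup.mem_inf.mp hh'
        obtain ⟨hc'N, hc'B⟩ := Subgroup.mem_inf.mp hc'
        obtain ⟨B', hB'⟩ : ∃ B' : Subgroup G, B' = B ⊔ V.map (MulAut.conj x).toMonoidHom := ⟨_, rfl⟩
        have hBlt : B < B' := by
          rw [hB']
          refine lt_of_le_of_ne le_sup_left ?_
          intro heq
          apply hxB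
          rw [heq]; exact le_sup_right
        have hB'T : B' ≤ T := by rw [hB']; exact sup_le hBT (hVxT x hx)
        have hBh' : B.map (MulAut.conj h').toMonoidHom = B.map (MulAut.conj m).toMonoidHom := by
          have e : h' = m * c'⁻¹ := by rw [hmc]; group
          rw [e, map_conj_mul]
          congr 1
          exact (map_conj_eq_self_iff_mem_normalizer B c'⁻¹).mpr
            (Subgroup.centralizer_le_normalizer _ (Subgroup.inv_mem _ hc'B))
        have hB'h' : B'.map (MulAut.conj h').toMonoidHom ≤ T := by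
          rw [hB', Subgroup.map_sup, hBh', (map_conj_eq_self_iff_mem_normalizer _ h').mpr hh'V]
          exact sup_le hBm (hVxT x hx)
        have hcent : h'⁻¹ * n ∈ Subgroup.centralizer (A : Set G) := by
          have e : h'⁻¹ * n = c' * (m⁻¹ * n) := by rw [hmc]; group
          rw [e]
          exact Subgroup.mul_mem _ (Subgroup.centralizer_le (SetLike.coe_subset_coe.mpr hAB) hc'B) hmn
        have hcard : Nat.card B < Nat.card B' := card_lt_card_of_lt hBlt
        have hcardT : Nat.card B' ≤ Nat.card T := Subgroup.card_le_of_le hB'T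
        exact ih (Nat.card T - Nat.card B') (by omega) B' h' (hAB.trans hBlt.le) hB'T hh'N hB'h' hcent rfl
    exact key _ A n le_rfl hA hn hAn (by
      have e : n⁻¹ * n = 1 := by group
      rw [e]; exact Subgroup.one_mem _) rfl
  -- Step C: facts on `W`
  have hWT : W ≤ T := by
    rw [hW, Subgroup.closure_le]
    intro g hg
    simp only [Set.mem_iUnion] at hg
    obtain ⟨x, hx, hgx⟩ := hg
    exact hVxT x hx hgx
  have hgen : ∀ x ∈ NT, V.map (MulAut.conj x).toMonoidHom ≤ W := by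
    intro x hx g hg
    rw [hW]
    apply Subgroup.subset_closure
    simp only [Set.mem_iUnion]
    exact ⟨x, hx, hg⟩
  have hnormW : ∀ h : G, (∀ x ∈ NT, ∃ x' ∈ NT, ∀ v ∈ V.map (MulAut.conj x).toMonoidHom,
      h * v * h⁻¹ ∈ V.map (MulAut.conj x').toMonoidHom) → h ∈ Subgroup.normalizer (W : Set G) := by
    intro h hh
    apply mem_normalizer_of_conj_mem
    intro t ht
    rw [hW] at ht
    induction ht using Subgroup.closure_induction with
    | mem y hy =>
      simp only [Set.mem_iUnion] at hy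
      obtain ⟨x, hx, hyx⟩ := hy
      obtain ⟨x', hx', hv⟩ := hh x hx
      exact hgen x' hx' (hv y hyx)
    | one => simp
    | mul a b _ _ iha ihb =>
      have e : h * (a * b) * h⁻¹ = (h * a * h⁻¹) * (h * b * h⁻¹) := by group
      rw [e]; exact Subgroup.mul_mem _ iha ihb
    | inv a _ iha =>
      have e : h * a⁻¹ * h⁻¹ = (h * a * h⁻¹)⁻¹ := by group
      rw [e]; exact Subgroup.inv_mem _ iha
  have hNTW : NT ≤ Subgroup.normalizer (W : Set G) := by
    intro y hy
    apply hnormW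
    intro x hx
    refine ⟨y * x, Subgroup.mul_mem _ hy hx, ?_⟩
    intro v hv
    rw [map_conj_mul]
    exact conj_mem_map_conj _ y hv
  have hPNT : (P : Subgroup G) ≤ NT := by
    intro y hy
    rw [hNT]
    apply mem_normalizer_of_conj_mem
    intro t ht
    rw [hT] at ht ⊢
    obtain ⟨h1, h2⟩ := Subgroup.mem_inf.mp ht
    exact Subgroup.mem_inf.mpr ⟨Subgroup.mul_mem _ (Subgroup.mul_mem _ hy h1) (Subgroup.inv_mem _ hy),
      hNconj y t h2⟩
  have ctrlW : ∀ A : Subgroup G, A ≤ T → ∀ n ∈ N, A.map (MulAut.conj n).toMonoidHom ≤ T →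
      ∃ h ∈ Subgroup.normalizer (W : Set G), ∃ c ∈ Subgroup.centralizer (A : Set G), n = h * c := by
    intro A hA n hn hAn
    obtain ⟨h, -, hh, c, hc, hnc⟩ := ctrl_all A hA n hn hAn
    refine ⟨h, ?_, c, (Subgroup.mem_inf.mp hc).2, hnc⟩
    apply hnormW
    intro x hx
    refine ⟨x, hx, ?_⟩
    intro v hv
    exact (Subgroup.mem_normalizer_iff.mp (hh x hx) v).mp hv
  have hWp : IsPGroup p W := P.isPGroup'.to_le (hWT.trans hTP)
  obtain ⟨cW, hcW⟩ := lcs_eq_bot W hWp
  -- Step E: the terms of the lower central series of `W` are strongly closed in `P`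
  have hTsyl : ¬ p ∣ T.relIndex N := by
    rw [hT, Subgroup.inf_relIndex_right]
    exact fun h => P.not_dvd_index (dvd_trans h
      (Cfsg.Agent.Lib.Helper17.relIndex_dvd_index_of_normal_right (P : Subgroup G) N))
  have hTp : IsPGroup p T := P.isPGroup'.to_le hTP
  have sc : ∀ i, ∀ a ∈ lcs W i, ∀ g : G, g * a * g⁻¹ ∈ (P : Subgroup G) → g * a * g⁻¹ ∈ lcs W i := by
    intro i a ha g hga
    have haW : a ∈ W := lcs_le W i ha
    have haT : a ∈ T := hWT haW
    -- Frattini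
    have hTg : T.map (MulAut.conj g).toMonoidHom ≤ N := by
      rw [map_conj_le_iff]
      intro t ht
      exact hNconj g t (hTN ht)
    obtain ⟨n₀, hn₀, hn₀T⟩ := exists_conj_le_of_relIndex N T (T.map (MulAut.conj g).toMonoidHom) hTp hTsyl hTg
      (hTp.map _)
    obtain ⟨y, hy⟩ : ∃ y : G, y = n₀ * g := ⟨_, rfl⟩
    have hyNT : y ∈ NT := by
      rw [hNT]
      apply mem_normalizer_of_conj_mem
      intro t ht
      have := hn₀T _ (conj_mem_map_conj T g ht)
      have e : y * t * y⁻¹ = n₀ * (g * t * g⁻¹) * n₀⁻¹ := by rw [hy]; group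
      rw [e]; exact this
    obtain ⟨n, hn⟩ : ∃ n : G, n = y⁻¹ * n₀⁻¹ * y := ⟨_, rfl⟩
    have hnN : n ∈ N := by
      have := hNconj y⁻¹ _ (N.inv_mem hn₀)
      rw [inv_inv] at this
      rw [hn]; exact this
    have hgyn : g = y * n := by rw [hn, hy]; group
    have hnaT : n * a * n⁻¹ ∈ T := by
      have h1 : g * a * g⁻¹ ∈ T := by
        rw [hT]
        exact Subgroup.mem_inf.mpr ⟨hga, hNconj g a (hTN haT)⟩
      have h2 : y⁻¹ * (g * a * g⁻¹) * y⁻¹⁻¹ ∈ T :=
        (Subgroup.mem_normalizer_iff.mp (hNT ▸ Subgroup.inv_mem _ hyNT) _).mp h1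
      have e : n * a * n⁻¹ = y⁻¹ * (g * a * g⁻¹) * y⁻¹⁻¹ := by rw [hgyn]; group
      rw [e]; exact h2
    have hAz : Subgroup.zpowers a ≤ T := by
      rw [Subgroup.zpowers_le]; exact haT
    have hAzn : (Subgroup.zpowers a).map (MulAut.conj n).toMonoidHom ≤ T := by
      rw [map_conj_le_iff]
      intro t ht
      obtain ⟨k, rfl⟩ := Subgroup.mem_zpowers_iff.mp ht
      have : n * a ^ k * n⁻¹ = (n * a * n⁻¹) ^ k := (conj_zpow (a := n) (b := a) (i := k)).symm
      rw [this]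
      exact Subgroup.zpow_mem _ hnaT k
    obtain ⟨h, hh, c, hc, hnc⟩ := ctrlW _ hAz n hnN hAzn
    have hca : a * c = c * a := Subgroup.mem_centralizer_iff.mp hc a (Subgroup.mem_zpowers a)
    have hna : n * a * n⁻¹ = h * a * h⁻¹ := by
      rw [hnc]
      calc h * c * a * (h * c)⁻¹ = h * (c * a) * c⁻¹ * h⁻¹ := by group
        _ = h * (a * c) * c⁻¹ * h⁻¹ := by rw [hca]
        _ = h * a * h⁻¹ := by group
    have h3 : h * a * h⁻¹ ∈ lcs W i :=
      lcs_conj W (fun w hw => (Subgroup.mem_normalizer_iff.mp hh w).mp hw) i a ha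
    have hyW := hNTW hyNT
    have h4 := lcs_conj W (fun w hw => (Subgroup.mem_normalizer_iff.mp hyW w).mp hw) i _ h3
    have e : g * a * g⁻¹ = y * (h * a * h⁻¹) * y⁻¹ := by
      rw [← hna, hgyn]; group
    rw [e]; exact h4
  -- Step F: `W ≤ U` and `N(U) ≤ N(W)` for fully normalized centric radical `U`
  have hcr : ∀ U : Subgroup G, U ≤ (P : Subgroup G) → IsFN p (P : Subgroup G) U → IsCR p (P : Subgroup G) U →
      Subgroup.normalizer (U : Set G) ≤ Subgroup.normalizer (W : Set G) := by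
    intro U hUP _ hUcr
    have hUp : IsPGroup p U := P.isPGroup'.to_le hUP
    obtain ⟨D, hD⟩ : ∃ D : ℕ → Subgroup G, D = chainD U W := ⟨_, rfl⟩
    have hD0 : D 0 = U := by rw [hD]; rfl
    have hDs : ∀ j, D (j + 1) = U ⊓ lcs W j := by intro j; rw [hD]; rfl
    have hDU : ∀ j, D j ≤ U := by
      intro j
      cases j with
      | zero => rw [hD0]
      | succ j => rw [hDs]; exact inf_le_left
    have hDc : D (cW + 1) = ⊥ := by rw [hDs, hcW, inf_bot_eq]
    have hinv : ∀ x ∈ Subgroup.normalizer (U : Set G), ∀ j, ∀ u ∈ D j, x * u * x⁻¹ ∈ D j := by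
      intro x hx j u hu
      cases j with
      | zero =>
        rw [hD0] at hu ⊢
        exact (Subgroup.mem_normalizer_iff.mp hx u).mp hu
      | succ j =>
        rw [hDs] at hu ⊢
        obtain ⟨hu1, hu2⟩ := Subgroup.mem_inf.mp hu
        have h1 : x * u * x⁻¹ ∈ U := (Subgroup.mem_normalizer_iff.mp hx u).mp hu1
        exact Subgroup.mem_inf.mpr ⟨h1, sc j u hu2 x (hUP h1)⟩
    have hK := isPOver_chainStab hUp D hD0 hDU hDc hinv
    have hPK := hUcr _ hK
    have hUW : U ≤ Subgroup.normalizer (W : Set G) := (hUP.trans hPNT).trans hNTW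
    -- `N_W(U)` stabilizes the chain
    have hstab : ∀ w ∈ W ⊓ Subgroup.normalizer (U : Set G), ∀ j, ∀ u ∈ D j,
        w * u * w⁻¹ ∈ D j ∧ w * u * w⁻¹ * u⁻¹ ∈ D (j + 1) := by
      intro w hw j u hu
      obtain ⟨hwW, hwU⟩ := Subgroup.mem_inf.mp hw
      refine ⟨hinv w hwU j u hu, ?_⟩
      have huU : u ∈ U := hDU j hu
      have h1 : w * u * w⁻¹ * u⁻¹ ∈ U :=
        U.mul_mem ((Subgroup.mem_normalizer_iff.mp hwU u).mp huU) (U.inv_mem huU)
      rw [hDs]
      refine Subgroup.mem_inf.mpr ⟨h1, ?_⟩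
      cases j with
      | zero =>
        show w * u * w⁻¹ * u⁻¹ ∈ W
        have h2 : u * w⁻¹ * u⁻¹ ∈ W := (Subgroup.mem_normalizer_iff.mp (hUW huU) _).mp (W.inv_mem hwW)
        have e : w * u * w⁻¹ * u⁻¹ = w * (u * w⁻¹ * u⁻¹) := by group
        rw [e]; exact W.mul_mem hwW h2
      | succ j =>
        rw [hDs] at hu
        show w * u * w⁻¹ * u⁻¹ ∈ ⁅lcs W j, W⁆
        rw [Subgroup.commutator_comm, ← commutatorElement_def]
        exact Subgroup.commutator_mem_commutator hwW (Subgroup.mem_inf.mp hu).2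
    have hWU : W ⊓ Subgroup.normalizer (U : Set G) ≤ U := by
      intro w hw
      apply hPK
      refine Subgroup.mem_inf.mpr ⟨hTP (hWT (Subgroup.mem_inf.mp hw).1), ?_⟩
      rw [mem_chainStab]
      refine ⟨(Subgroup.mem_inf.mp hw).2, ?_⟩
      intro j u hu
      have h1 := hstab w hw j u hu
      have h2 := hstab w⁻¹ (Subgroup.inv_mem _ hw) j u hu
      rw [inv_inv] at h2
      exact ⟨⟨h1.1, h2.1⟩, ⟨h1.2, h2.2⟩⟩
    -- `W ≤ U`
    have hWleU : W ≤ U := by
      by_contra hnot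
      obtain ⟨Y, hY⟩ : ∃ Y : Subgroup G, Y = U ⊔ W := ⟨_, rfl⟩
      have hUY : U < Y := by
        rw [hY]
        refine lt_of_le_of_ne le_sup_left ?_
        intro heq
        apply hnot
        rw [heq]; exact le_sup_right
      have hYP : Y ≤ (P : Subgroup G) := by rw [hY]; exact sup_le hUP (hWT.trans hTP)
      have hlt := lt_inf_normalizer_of_lt Y U (P.isPGroup'.to_le hYP) hUY
      apply hlt.ne
      apply le_antisymm hlt.le
      intro y hy
      obtain ⟨hyY, hyN⟩ := Subgroup.mem_inf.mp hy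
      have hmem : y ∈ ((U ⊔ W : Subgroup G) : Set G) := by rw [← hY]; exact hyY
      rw [Subgroup.coe_mul_of_left_le_normalizer_right U W hUW] at hmem
      obtain ⟨u, hu, w, hw, rfl⟩ := hmem
      have hwN : w ∈ Subgroup.normalizer (U : Set G) := by
        have e : w = u⁻¹ * (u * w) := by group
        rw [e]
        exact Subgroup.mul_mem _ (Subgroup.inv_mem _ (Subgroup.le_normalizer hu)) hyN
      exact U.mul_mem hu (hWU (Subgroup.mem_inf.mpr ⟨hw, hwN⟩))
    intro x hx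
    apply mem_normalizer_of_conj_mem
    intro w hw
    have h1 : x * w * x⁻¹ ∈ U := (Subgroup.mem_normalizer_iff.mp hx w).mp (hWleU hw)
    exact sc 0 w hw x (hUP h1)
  -- Step G
  intro A hA g hAg
  obtain ⟨m, hm, hmA⟩ := agp P (Subgroup.normalizer (W : Set G))
    (fun U hUP hFN hCR x hx => ⟨x, hcr U hUP hFN hCR hx, fun _ _ => rfl⟩) A g hA
    ((map_conj_le_iff A _ g).mp hAg)
  refine ⟨m, hm, m⁻¹ * g, ?_, by group⟩
  rw [Subgroup.mem_centralizer_iff]
  intro a ha
  have h1 := hmA a ha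
  calc a * (m⁻¹ * g) = m⁻¹ * (m * a * m⁻¹) * g := by group
    _ = m⁻¹ * (g * a * g⁻¹) * g := by rw [h1]
    _ = m⁻¹ * g * a := by group

end main

end Cfsg.Agent.Lib.Helper18.NormalSub
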