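import Mathlib
import Cfsg.Prelude.Def_ConjugacyFunctors
import Cfsg.Prelude.Def_Solvable
import Cfsg.Agent.Lib.Helper13.Sections
import Cfsg.Agent.Lib.Helper13.CharFunctor
import Cfsg.Agent.Lib.Helper13.CharFunctor2
import Cfsg.Agent.Lib.Helper10.Transport
import Cfsg.Agent.Lib.Helper1.Basic
import Cfsg.Agent.Lib.Helper17.SylowNormal
import Cfsg.Agent.H5.Cores
import Cfsg.Agent.Lib.Helper18.NormalSub
import Cfsg.Agent.Lib.Helper18.FusionLift
import Cfsg.Agent.S1961

/-!
# Glauberman's theorem on section conjugacy functors (isomorphism-invariant form)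

If `W(S*)` is normal in every section `G*` of `G` with `C(O_p(G*)) ≤ O_p(G*)`, then `W` controls strong
fusion in every section of `G`.
-/

set_option autoImplicit false

universe u

namespace Cfsg.Agent.Lib.Helper18.FunctorMain

open Cfsg Cfsg.Agent.Lib.Helper13 Cfsg.Agent.Lib.Helper18.FusionCR

variable {p : ℕ} {W : ∀ (Q : Type u) [Group Q], Subgroup Q}

/-- the hypothesis imposed on the sections -/
def Φ (p : ℕ) (W : ∀ (Q : Type u) [Group Q], Subgroup Q) (X : Type u) [Group X] : Prop :=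
  Finite X → Subgroup.centralizer ((Cfsg.pCore p X : Subgroup X) : Set X) ≤ Cfsg.pCore p X →
    ∀ T : Sylow p X, (inducedFunctor (G := X) W (T : Subgroup X)).Normal

/-- the conclusion: `N(W(S))` controls strong fusion in `S` -/
def Ctl (p : ℕ) (W : ∀ (Q : Type u) [Group Q], Subgroup Q) (X : Type u) [Group X] : Prop :=
  ∀ S : Sylow p X, ∀ (A : Subgroup X) (g : X), A ≤ (S : Subgroup X) →
    (∀ a ∈ A, g * a * g⁻¹ ∈ (S : Subgroup X)) →
    ∃ m ∈ Subgroup.normalizer ((inducedFunctor (G := X) W (S : Subgroup X) : Subgroup X) : Set X),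
      ∀ a ∈ A, m * a * m⁻¹ = g * a * g⁻¹

theorem conj_closure_mem {X : Type*} [Group X] {A : Set X} {S : Subgroup X} {g : X}
    (h : ∀ a ∈ A, g * a * g⁻¹ ∈ S) : ∀ a ∈ Subgroup.closure A, g * a * g⁻¹ ∈ S := by
  intro b hb
  induction hb using Subgroup.closure_induction with
  | mem x hx => exact h x hx
  | one => rw [mul_one, mul_inv_cancel]; exact Subgroup.one_mem _
  | mul x y _ _ ihx ihy =>
    have e1 : g * (x * y) * g⁻¹ = (g * x * g⁻¹) * (g * y * g⁻¹) := by group
    rw [e1]; exact Subgroup.mul_mem _ ihx ihy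
  | inv x _ ihx =>
    have e1 : g * x⁻¹ * g⁻¹ = (g * x * g⁻¹)⁻¹ := by group
    rw [e1]; exact Subgroup.inv_mem _ ihx

theorem isoInv_Φ [Fact p.Prime] (hW : IsCharPFunctor.{u} p W) : IsoInv (Φ p W) := by
  intro X Y _ _ e h hfin hc T
  have hfinX : Finite X := Finite.of_equiv Y e.symm.toEquiv
  have hcore : (Cfsg.pCore p X).map e.toMonoidHom = Cfsg.pCore p Y := Cfsg.Agent.Lib.Helper10.map_pCore e p
  have hcX : Subgroup.centralizer ((Cfsg.pCore p X : Subgroup X) : Set X) ≤ Cfsg.pCore p X := by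
    intro x hx
    have h1 : e x ∈ Subgroup.centralizer ((Cfsg.pCore p Y : Subgroup Y) : Set Y) := by
      rw [Subgroup.mem_centralizer_iff]
      intro y hy
      rw [← hcore] at hy
      obtain ⟨q, hq, rfl⟩ := hy
      have := Subgroup.mem_centralizer_iff.mp hx q hq
      show e q * e x = e x * e q
      rw [← map_mul, ← map_mul, this]
    have h2 := hc h1
    rw [← hcore] at h2
    exact (Subgroup.mem_map_iff_mem e.injective).mp h2
  obtain ⟨T₀⟩ : Nonempty (Sylow p X) := inferInstance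
  have hn0 := h hfinX hcX T₀
  -- the image of `T₀` is a Sylow subgroup of `Y`
  have hidx : ¬ p ∣ ((T₀ : Subgroup X).map e.toMonoidHom).index := by
    have : ((T₀ : Subgroup X).map e.toMonoidHom).index = (T₀ : Subgroup X).index :=
      Subgroup.index_map_equiv (T₀ : Subgroup X) e
    rw [this]; exact T₀.not_dvd_index
  let S₁ : Sylow p Y := (T₀.isPGroup'.map e.toMonoidHom).toSylow hidx
  have hS₁ : (S₁ : Subgroup Y) = (T₀ : Subgroup X).map e.toMonoidHom := rfl
  have hn1 : (inducedFunctor (G := Y) W (S₁ : Subgroup Y)).Normal := by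
    rw [hS₁, inducedFunctor_map_equiv hW e _ T₀.isPGroup']
    exact Subgroup.Normal.map hn0 _ e.surjective
  obtain ⟨g, hg⟩ := MulAction.exists_smul_eq Y S₁ T
  have h1 : (T : Subgroup Y) = (S₁ : Subgroup Y).map (MulAut.conj g).toMonoidHom := by
    rw [← hg, Sylow.coe_subgroup_smul]
    rfl
  rw [h1, inducedFunctor_map_equiv hW (MulAut.conj g) _ S₁.isPGroup']
  exact Subgroup.Normal.map hn1 _ (MulAut.conj g).surjective

section transport

variable [Fact p.Prime]

/-- control in a subgroup, as a type, gives control in the subgroup -/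
theorem ctlIn_of_ctl (hW : IsCharPFunctor.{u} p W) {X : Type u} [Group X] [Finite X] (Y : Subgroup X)
    (h : Ctl p W ↥Y) : ControlsStrongFusionIn p (inducedFunctor (G := X) W) Y := by
  obtain ⟨SY⟩ : Nonempty (Sylow p ↥Y) := inferInstance
  refine ⟨(SY : Subgroup ↥Y).map Y.subtype, Subgroup.map_subtype_le _, SY.isPGroup'.map _, ?_, ?_⟩
  · have e : ((SY : Subgroup ↥Y).map Y.subtype).relIndex Y = (SY : Subgroup ↥Y).index := by
      unfold Subgroup.relIndex Subgroup.subgroupOf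
      rw [Subgroup.comap_map_eq_self_of_injective Y.subtype_injective]
    rw [e]; exact SY.not_dvd_index
  · intro A g hg hAT hAg
    obtain ⟨B, hB⟩ : ∃ B : Subgroup ↥Y, B = (Subgroup.closure A).comap Y.subtype := ⟨_, rfl⟩
    have hclT : Subgroup.closure A ≤ (SY : Subgroup ↥Y).map Y.subtype := (Subgroup.closure_le _).2 hAT
    have hmemSY : ∀ b : ↥Y, (b : X) ∈ (SY : Subgroup ↥Y).map Y.subtype → b ∈ (SY : Subgroup ↥Y) := by
      intro b hb
      obtain ⟨t, ht, htb⟩ := hb
      have : t = b := Subtype.ext htb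
      rw [← this]; exact ht
    have hBS : B ≤ (SY : Subgroup ↥Y) := by
      intro b hb
      rw [hB, Subgroup.mem_comap] at hb
      exact hmemSY b (hclT hb)
    have hconj : ∀ b ∈ B, (⟨g, hg⟩ : ↥Y) * b * (⟨g, hg⟩ : ↥Y)⁻¹ ∈ (SY : Subgroup ↥Y) := by
      intro b hb
      rw [hB, Subgroup.mem_comap] at hb
      apply hmemSY
      have := conj_closure_mem (S := (SY : Subgroup ↥Y).map Y.subtype) (g := g)
        (fun a ha => hAg ⟨a, ha, rfl⟩) _ hb
      simpa using this
    obtain ⟨m, hmN, hm⟩ := h SY B ⟨g, hg⟩ hBS hconj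
    refine ⟨(m : X), Subgroup.mem_inf.mpr ⟨m.2, ?_⟩, ?_⟩
    · rw [inducedFunctor_map_of_injective hW Y.subtype Y.subtype_injective _ SY.isPGroup']
      exact Subgroup.le_normalizer_map Y.subtype ⟨m, hmN, rfl⟩
    · intro a ha
      have haY : a ∈ Y := Subgroup.map_subtype_le _ (hAT ha)
      have haB : (⟨a, haY⟩ : ↥Y) ∈ B := by
        rw [hB, Subgroup.mem_comap]; exact Subgroup.subset_closure ha
      have := congrArg Subtype.val (hm _ haB)
      simpa using this

end transport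

section main

variable [Fact p.Prime]

/-- the main induction -/
theorem main (hW : IsCharPFunctor.{u} p W) :
    ∀ n : ℕ, ∀ (X : Type u) [Group X] [Finite X], Nat.card X = n → SecAll (Φ p W) X → Ctl p W X := by
  intro n
  induction n using Nat.strong_induction_on with
  | _ n ih =>
  intro X _ _ hn hsec S
  have hp : p.Prime := Fact.out
  have hΦiso := isoInv_Φ (p := p) hW
  have hWc := isConjugacyFunctor_inducedFunctor hW X
  obtain ⟨WS, hWS⟩ : ∃ WS : Subgroup X, WS = inducedFunctor (G := X) W (S : Subgroup X) := ⟨_, rfl⟩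
  rw [← hWS]
  have hSp : IsPGroup p (S : Subgroup X) := S.isPGroup'
  have IH : ∀ (Y : Type u) [Group Y] [Finite Y], Nat.card Y < Nat.card X → SecAll (Φ p W) Y → Ctl p W Y := by
    intro Y _ _ hlt hY
    exact ih (Nat.card Y) (hn ▸ hlt) Y rfl hY
  -- key step: a proper normalizer containing `S` and controlling strong fusion suffices
  have key3 : ∀ V : Subgroup X, (S : Subgroup X) ≤ Subgroup.normalizer (V : Set X) →
      (∀ (A : Subgroup X) (g : X), A ≤ (S : Subgroup X) → (∀ a ∈ A, g * a * g⁻¹ ∈ (S : Subgroup X)) →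
        ∃ m ∈ Subgroup.normalizer (V : Set X), ∀ a ∈ A, m * a * m⁻¹ = g * a * g⁻¹) →
      Subgroup.normalizer (V : Set X) ≠ ⊤ →
      ∀ (A : Subgroup X) (g : X), A ≤ (S : Subgroup X) → (∀ a ∈ A, g * a * g⁻¹ ∈ (S : Subgroup X)) →
        ∃ m ∈ Subgroup.normalizer (WS : Set X), ∀ a ∈ A, m * a * m⁻¹ = g * a * g⁻¹ := by
    intro V hSV hctl hne A g hA hAg
    obtain ⟨Y, hY⟩ : ∃ Y : Subgroup X, Y = Subgroup.normalizer (V : Set X) := ⟨_, rfl⟩
    rw [← hY] at hSV hctl hne
    have hcard : Nat.card ↥Y < Nat.card X := by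
      have hlt : Y < ⊤ := lt_top_iff_ne_top.mpr hne
      have := card_lt_card_of_lt hlt
      rwa [Subgroup.card_top] at this
    have hctlY := IH ↥Y hcard (secAll_subgroup hΦiso hsec Y)
    obtain ⟨m₁, hm₁Y, hm₁⟩ := hctl A g hA hAg
    have hSY : ((S.subtype hSV : Sylow p ↥Y) : Subgroup ↥Y) = (S : Subgroup X).subgroupOf Y :=
      Sylow.coe_subtype S hSV
    obtain ⟨m₂, hm₂N, hm₂⟩ := hctlY (S.subtype hSV) (A.subgroupOf Y) ⟨m₁, hm₁Y⟩
      (by rw [hSY]; exact fun x hx => hA hx)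
      (by
        intro a ha
        rw [hSY, Subgroup.mem_subgroupOf]
        rw [Subgroup.mem_subgroupOf] at ha
        have := hAg _ ha
        rw [← hm₁ _ ha] at this
        simpa using this)
    refine ⟨(m₂ : X), ?_, ?_⟩
    · have h1 : (S : Subgroup X) = ((S.subtype hSV : Sylow p ↥Y) : Subgroup ↥Y).map Y.subtype := by
        rw [hSY, Subgroup.subgroupOf_map_subtype, inf_eq_left.mpr hSV]
      rw [hWS, h1, inducedFunctor_map_of_injective hW Y.subtype Y.subtype_injective _ (S.subtype hSV).isPGroup']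
      exact Subgroup.le_normalizer_map Y.subtype ⟨m₂, hm₂N, rfl⟩
    · intro a ha
      have haY : a ∈ Y := hSV (hA ha)
      have := congrArg Subtype.val (hm₂ ⟨a, haY⟩ (Subgroup.mem_subgroupOf.mpr ha))
      rw [← hm₁ a ha]
      simpa using this
  intro A g hA hAg
  -- case (a): `X` is constrained
  by_cases hcon : Subgroup.centralizer ((Cfsg.pCore p X : Subgroup X) : Set X) ≤ Cfsg.pCore p X
  · have hΦX : Φ p W X := secAll_self hΦiso hsec
    have hnW := hΦX inferInstance hcon S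
    rw [← hWS] at hnW
    exact ⟨g, by rw [Subgroup.normalizer_eq_top_iff.mpr hnW]; trivial, fun _ _ => rfl⟩
  -- case (b): `O_p(X) = 1`
  by_cases hQ : Cfsg.pCore p X = ⊥
  · have hloc : ∀ T : Subgroup X, T ≠ ⊥ → IsWellPlaced p (inducedFunctor (G := X) W) (S : Subgroup X) T →
        ControlsStrongFusionIn p (inducedFunctor (G := X) W) (Subgroup.normalizer (T : Set X)) := by
      intro T hT hwp
      apply ctlIn_of_ctl hW
      have hne : Subgroup.normalizer (T : Set X) ≠ ⊤ := by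
        intro htop
        apply hT
        have hTn : T.Normal := Subgroup.normalizer_eq_top_iff.mp htop
        have := Cfsg.H5.le_pCore hTn (hSp.to_le hwp.1)
        rw [hQ] at this
        exact le_bot_iff.mp this
      have hcard : Nat.card ↥(Subgroup.normalizer (T : Set X)) < Nat.card X := by
        have := card_lt_card_of_lt (lt_top_iff_ne_top.mpr hne)
        rwa [Subgroup.card_top] at this
      exact IH _ hcard (secAll_subgroup hΦiso hsec _)
    have hctl := Cfsg.Agent.S1961.result S _ hWc hloc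
    obtain ⟨x, hx, hxA⟩ := Cfsg.Agent.S1961.control_any_sylow _ hWc ⊤ hctl (S : Subgroup X) le_top hSp
      (by rw [Subgroup.relIndex_top_right]; exact S.not_dvd_index) (A : Set X) g (Subgroup.mem_top g)
      (fun a ha => hA ha) (by rintro _ ⟨a, ha, rfl⟩; exact hAg a ha)
    exact ⟨x, by rw [hWS]; exact (Subgroup.mem_inf.mp hx).2, fun a ha => hxA a ha⟩
  have hSWS : (S : Subgroup X) ≤ Subgroup.normalizer (WS : Set X) := by
    rw [hWS]; exact Subgroup.le_normalizer.trans (normalizer_le_normalizer_inducedFunctor hW _ hSp)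
  have hWSle : WS ≤ (S : Subgroup X) := by rw [hWS]; exact inducedFunctor_le _
  -- case (c): `O_{p'}(X) ≠ 1`
  by_cases hK : Cfsg.pPrimeCore p X = ⊥
  swap
  · obtain ⟨K, hKdef⟩ : ∃ K : Subgroup X, K = Cfsg.pPrimeCore p X := ⟨_, rfl⟩
    have hKn : K.Normal := hKdef ▸ Cfsg.H5.pPrimeCore_normal p X
    have hKcop : (Nat.card K).Coprime p := hKdef ▸ Cfsg.H5.coprime_card_pPrimeCore p X
    have hKne : K ≠ ⊥ := hKdef ▸ hK
    have hcard : Nat.card (X ⧸ K) < Nat.card X := by
      have h1 : Nat.card X = Nat.card (X ⧸ K) * Nat.card K := Subgroup.card_eq_card_quotient_mul_card_subgroup K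
      have h2 : 1 < Nat.card K := (Subgroup.one_lt_card_iff_ne_bot K).mpr hKne
      have h3 : 0 < Nat.card (X ⧸ K) := Nat.card_pos
      nlinarith
    have hctlQ := IH (X ⧸ K) hcard (secAll_quotient hΦiso hsec K)
    have hinj : ∀ t ∈ (S : Subgroup X), QuotientGroup.mk' K t = 1 → t = 1 := by
      intro t ht h1
      have htK : t ∈ K := (QuotientGroup.eq_one_iff t).mp h1
      have h2 : t ∈ (S : Subgroup X) ⊓ K := Subgroup.mem_inf.mpr ⟨ht, htK⟩
      rw [FusionLift.inf_eq_bot_of_pgroup_coprime hSp hKcop, Subgroup.mem_bot] at h2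
      exact h2
    have hSb : ((S.mapSurjective (QuotientGroup.mk'_surjective K) : Sylow p (X ⧸ K)) : Subgroup (X ⧸ K)) =
        (S : Subgroup X).map (QuotientGroup.mk' K) := Sylow.coe_mapSurjective _ _
    have hWb : inducedFunctor (G := X ⧸ K) W ((S : Subgroup X).map (QuotientGroup.mk' K)) =
        WS.map (QuotientGroup.mk' K) := by
      rw [hWS]; exact inducedFunctor_map_of_injOn hW (QuotientGroup.mk' K) _ hSp hinj
    refine FusionLift.pprime_lift K hKcop S WS (hSp.to_le hWSle) hSWS ?_ A g hA hAg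
    intro Ab gb hAb hgb
    have := hctlQ (S.mapSurjective (QuotientGroup.mk'_surjective K)) Ab gb (by rw [hSb]; exact hAb)
      (by rw [hSb]; exact hgb)
    rw [hSb, hWb] at this
    exact this
  -- case (d)
  obtain ⟨Q, hQdef⟩ : ∃ Q : Subgroup X, Q = Cfsg.pCore p X := ⟨_, rfl⟩
  rw [← hQdef] at hcon hQ
  have hQn : Q.Normal := hQdef ▸ Cfsg.H5.pCore_normal p X
  have hQp : IsPGroup p Q := hQdef ▸ Cfsg.H5.pCore_isPGroup p X
  obtain ⟨C, hCdef⟩ : ∃ C : Subgroup X, C = Subgroup.centralizer (Q : Set X) := ⟨_, rfl⟩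
  rw [← hCdef] at hcon
  have hCn : C.Normal := hCdef ▸ Subgroup.normal_centralizer
  obtain ⟨Z, hZdef⟩ : ∃ Z : Subgroup X, Z = Q ⊓ C := ⟨_, rfl⟩
  have hZn : Z.Normal := hZdef ▸ Subgroup.normal_inf_normal Q C
  have hZQ : Z ≤ Q := hZdef ▸ inf_le_left
  have hZC : Z ≤ C := hZdef ▸ inf_le_right
  have hZne : Z ≠ ⊥ := by
    have hnt : Nontrivial ↥Q := (Subgroup.nontrivial_iff_ne_bot Q).mpr hQ
    have hcn : Nontrivial (Subgroup.center ↥Q) := hQp.center_nontrivial
    obtain ⟨⟨z, hz⟩, hz1⟩ := exists_ne (1 : Subgroup.center ↥Q)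
    intro hbot
    apply hz1
    have hzZ : (z : X) ∈ Z := by
      rw [hZdef]
      refine Subgroup.mem_inf.mpr ⟨z.2, ?_⟩
      rw [hCdef, Subgroup.mem_centralizer_iff]
      intro q hq
      have := Subgroup.mem_center_iff.mp hz ⟨q, hq⟩
      exact congrArg Subtype.val this
    rw [hbot, Subgroup.mem_bot] at hzZ
    apply Subtype.ext
    apply Subtype.ext
    exact hzZ
  obtain ⟨Z', hZ'def⟩ : ∃ Z' : Subgroup ↥C, Z' = Z.subgroupOf C := ⟨_, rfl⟩
  have hZ'n : Z'.Normal := hZ'def ▸ Subgroup.Normal.subgroupOf hZn C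
  have hZ'c : Z' ≤ Subgroup.center ↥C := by
    intro z hz
    rw [hZ'def, Subgroup.mem_subgroupOf] at hz
    rw [Subgroup.mem_center_iff]
    intro c
    have hc : (c : X) ∈ Subgroup.centralizer (Q : Set X) := hCdef ▸ c.2
    have := Subgroup.mem_centralizer_iff.mp hc _ (hZQ hz)
    apply Subtype.ext
    exact this.symm
  have hZ'p : IsPGroup p Z' := hZ'def ▸ (hQp.to_le hZQ).comap_subtype
  have hZ'ne : Z' ≠ ⊥ := by
    intro hbot
    apply hZne
    rw [eq_bot_iff]
    intro z hz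
    have : (⟨z, hZC hz⟩ : ↥C) ∈ Z' := by rw [hZ'def, Subgroup.mem_subgroupOf]; exact hz
    rw [hbot, Subgroup.mem_bot] at this
    rw [Subgroup.mem_bot]
    exact congrArg Subtype.val this
  have hcardC : Nat.card (↥C ⧸ Z') < Nat.card X := by
    have h1 : Nat.card ↥C = Nat.card (↥C ⧸ Z') * Nat.card Z' := Subgroup.card_eq_card_quotient_mul_card_subgroup Z'
    have h2 : 1 < Nat.card Z' := (Subgroup.one_lt_card_iff_ne_bot Z').mpr hZ'ne
    have h3 : 0 < Nat.card (↥C ⧸ Z') := Nat.card_pos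
    have h4 : Nat.card ↥C ≤ Nat.card X := Subgroup.card_le_card_group C
    nlinarith
  have hctlC := IH (↥C ⧸ Z') hcardC (secAll_quotient hΦiso (secAll_subgroup hΦiso hsec C) Z')
  obtain ⟨D', hD'⟩ : ∃ D' : Sylow p ↥C, (D' : Subgroup ↥C) = (S : Subgroup X).subgroupOf C :=
    ⟨Cfsg.Agent.Lib.Helper17.sylowInfNormal S C, rfl⟩
  have hD'map : (D' : Subgroup ↥C).map C.subtype = (S : Subgroup X) ⊓ C := by
    rw [hD', Subgroup.subgroupOf_map_subtype]
  obtain ⟨Db, hDb⟩ : ∃ Db : Sylow p (↥C ⧸ Z'), (Db : Subgroup (↥C ⧸ Z')) =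
      (D' : Subgroup ↥C).map (QuotientGroup.mk' Z') :=
    ⟨D'.mapSurjective (QuotientGroup.mk'_surjective Z'), Sylow.coe_mapSurjective _ _⟩
  obtain ⟨Vb, hVb⟩ : ∃ Vb : Subgroup (↥C ⧸ Z'), Vb = inducedFunctor (G := ↥C ⧸ Z') W (Db : Subgroup (↥C ⧸ Z')) :=
    ⟨_, rfl⟩
  have hDV : (D' : Subgroup ↥C).map (QuotientGroup.mk' Z') ≤ Subgroup.normalizer (Vb : Set (↥C ⧸ Z')) := by
    rw [← hDb, hVb]
    exact Subgroup.le_normalizer.trans (normalizer_le_normalizer_inducedFunctor hW _ Db.isPGroup')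
  have hVbD : Vb ≤ (D' : Subgroup ↥C).map (QuotientGroup.mk' Z') := by
    rw [← hDb, hVb]; exact inducedFunctor_le _
  have hlift := FusionLift.central_lift Z' hZ'c hZ'p D' Vb hDV (fun Ab gb h1 h2 => by
    have := hctlC Db Ab gb (by rw [hDb]; exact h1) (by rw [hDb]; exact h2)
    rw [← hVb] at this
    exact this)
  obtain ⟨V₀, hV₀⟩ : ∃ V₀ : Subgroup ↥C, V₀ = Vb.comap (QuotientGroup.mk' Z') := ⟨_, rfl⟩
  rw [← hV₀] at hlift
  have hZ'D : Z' ≤ (D' : Subgroup ↥C) := hZ'p.le_sylow_of_normal D'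
  have hV₀D : V₀ ≤ (D' : Subgroup ↥C) := by
    intro v hv
    rw [hV₀, Subgroup.mem_comap] at hv
    obtain ⟨d, hd, hdv⟩ := hVbD hv
    have h1 : d⁻¹ * v ∈ Z' := by
      rw [← QuotientGroup.eq_one_iff]
      have e : ((d⁻¹ * v : ↥C) : ↥C ⧸ Z') = (QuotientGroup.mk' Z' d)⁻¹ * QuotientGroup.mk' Z' v := by
        simp
      rw [e, hdv]; group
    have e : v = d * (d⁻¹ * v) := by group
    rw [e]; exact Subgroup.mul_mem _ hd (hZ'D h1)
  obtain ⟨V, hVdef⟩ : ∃ V : Subgroup X, V = V₀.map C.subtype := ⟨_, rfl⟩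
  have hV : V ≤ (S : Subgroup X) ⊓ C := by
    rw [hVdef, ← hD'map]; exact Subgroup.map_mono hV₀D
  have hctrl : ∀ A' : Subgroup X, A' ≤ (S : Subgroup X) ⊓ C → ∀ n ∈ C,
      A'.map (MulAut.conj n).toMonoidHom ≤ (S : Subgroup X) ⊓ C →
      ∃ h ∈ C ⊓ Subgroup.normalizer (V : Set X), ∃ c ∈ C ⊓ Subgroup.centralizer (A' : Set X), n = h * c := by
    intro A' hA' n hn hA'n
    obtain ⟨m, hmN, hm⟩ := hlift (A'.subgroupOf C) ⟨n, hn⟩
      (by rw [hD']; exact fun x hx => (hA' hx).1)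
      (by
        intro a ha
        rw [hD', Subgroup.mem_subgroupOf]
        rw [Subgroup.mem_subgroupOf] at ha
        have := (hA'n (conj_mem_map_conj A' n ha)).1
        exact this)
    have hmV : (m : X) ∈ Subgroup.normalizer (V : Set X) := by
      rw [hVdef]; exact Subgroup.le_normalizer_map C.subtype ⟨m, hmN, rfl⟩
    refine ⟨(m : X), Subgroup.mem_inf.mpr ⟨m.2, hmV⟩, (m : X)⁻¹ * n,
      Subgroup.mem_inf.mpr ⟨C.mul_mem (C.inv_mem m.2) hn, ?_⟩, by group⟩
    rw [Subgroup.mem_centralizer_iff]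
    intro a ha
    have haC : a ∈ C := (hA' ha).2
    have h1 := congrArg Subtype.val (hm ⟨a, haC⟩ (Subgroup.mem_subgroupOf.mpr ha))
    have h2 : (m : X) * a * (m : X)⁻¹ = n * a * n⁻¹ := by simpa using h1
    calc a * ((m : X)⁻¹ * n) = (m : X)⁻¹ * ((m : X) * a * (m : X)⁻¹) * n := by group
      _ = (m : X)⁻¹ * (n * a * n⁻¹) * n := by rw [h2]
      _ = (m : X)⁻¹ * n * a := by group
  obtain ⟨NT, hNT⟩ : ∃ NT : Subgroup X, NT = Subgroup.normalizer ((((S : Subgroup X) ⊓ C : Subgroup X)) : Set X) :=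
    ⟨_, rfl⟩
  obtain ⟨Wst, hWst⟩ : ∃ Wst : Subgroup X, Wst = Subgroup.closure (⋃ x ∈ NT,
      ((V.map (MulAut.conj x).toMonoidHom : Subgroup X) : Set X)) := ⟨_, rfl⟩
  have hns := NormalSub.normal_sub_control C S V hV hctrl Wst (by rw [hWst, hNT])
  have hNTmap : ∀ x ∈ NT, ((S : Subgroup X) ⊓ C).map (MulAut.conj x).toMonoidHom = (S : Subgroup X) ⊓ C :=
    fun x hx => (map_conj_eq_self_iff_mem_normalizer _ x).mpr (hNT ▸ hx)
  have hWstle : Wst ≤ (S : Subgroup X) ⊓ C := by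
    rw [hWst, Subgroup.closure_le]
    intro y hy
    simp only [Set.mem_iUnion] at hy
    obtain ⟨x, hx, hyx⟩ := hy
    have : V.map (MulAut.conj x).toMonoidHom ≤ (S : Subgroup X) ⊓ C := by
      rw [← hNTmap x hx]; exact Subgroup.map_mono hV
    exact this hyx
  have hVWst : V ≤ Wst := by
    intro v hv
    rw [hWst]
    apply Subgroup.subset_closure
    simp only [Set.mem_iUnion]
    refine ⟨1, Subgroup.one_mem _, ?_⟩
    rw [map_conj_one]; exact hv
  have hSNT : (S : Subgroup X) ≤ NT := by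
    intro y hy
    rw [hNT]
    apply mem_normalizer_of_conj_mem
    intro t ht
    obtain ⟨h1, h2⟩ := Subgroup.mem_inf.mp ht
    exact Subgroup.mem_inf.mpr ⟨Subgroup.mul_mem _ (Subgroup.mul_mem _ hy h1) (Subgroup.inv_mem _ hy),
      hCn.conj_mem t h2 y⟩
  have hSWst : (S : Subgroup X) ≤ Subgroup.normalizer (Wst : Set X) := by
    intro y hy
    apply mem_normalizer_of_conj_mem
    intro t ht
    rw [hWst] at ht ⊢
    induction ht using Subgroup.closure_induction with
    | mem z hz =>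
      simp only [Set.mem_iUnion] at hz
      obtain ⟨x, hx, hzx⟩ := hz
      apply Subgroup.subset_closure
      simp only [Set.mem_iUnion]
      refine ⟨y * x, Subgroup.mul_mem _ (hSNT hy) hx, ?_⟩
      rw [map_conj_mul]
      exact conj_mem_map_conj _ y hzx
    | one => simp
    | mul a b _ _ iha ihb =>
      have e : y * (a * b) * y⁻¹ = (y * a * y⁻¹) * (y * b * y⁻¹) := by group
      rw [e]; exact Subgroup.mul_mem _ iha ihb
    | inv a _ iha =>
      have e : y * a⁻¹ * y⁻¹ = (y * a * y⁻¹)⁻¹ := by group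
      rw [e]; exact Subgroup.inv_mem _ iha
  have hctlW : ∀ (A' : Subgroup X) (g' : X), A' ≤ (S : Subgroup X) → (∀ a ∈ A', g' * a * g'⁻¹ ∈ (S : Subgroup X)) →
      ∃ m ∈ Subgroup.normalizer (Wst : Set X), ∀ a ∈ A', m * a * m⁻¹ = g' * a * g'⁻¹ := by
    intro A' g' hA' hA'g
    obtain ⟨h, hh, c, hc, hgc⟩ := hns A' hA' g' ((map_conj_le_iff A' _ g').mpr hA'g)
    refine ⟨h, hh, ?_⟩
    intro a ha
    have h1 : a * c = c * a := Subgroup.mem_centralizer_iff.mp hc a ha
    rw [hgc]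
    calc h * a * h⁻¹ = h * (a * c) * c⁻¹ * h⁻¹ := by group
      _ = h * (c * a) * c⁻¹ * h⁻¹ := by rw [h1]
      _ = h * c * a * (h * c)⁻¹ := by group
  by_cases htop : Subgroup.normalizer (Wst : Set X) = ⊤
  swap
  · exact key3 Wst hSWst hctlW htop A g hA hAg
  exfalso
  apply hcon
  -- `Wst` is a normal `p`-subgroup, hence lies in `Z`
  have hWstn : Wst.Normal := Subgroup.normalizer_eq_top_iff.mp htop
  have hWstQ : Wst ≤ Q := by
    rw [hQdef]
    exact Cfsg.H5.le_pCore hWstn (hSp.to_le (hWstle.trans inf_le_left))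
  have hVZ : V ≤ Z := by
    rw [hZdef]
    exact le_inf (hVWst.trans hWstQ) (hVWst.trans (hWstle.trans inf_le_right))
  have hV₀Z : V₀ ≤ Z' := by
    intro v hv
    rw [hZ'def, Subgroup.mem_subgroupOf]
    apply hVZ
    rw [hVdef]
    exact ⟨v, hv, rfl⟩
  have hVbbot : Vb = ⊥ := by
    have h1 : V₀.map (QuotientGroup.mk' Z') = Vb := by
      rw [hV₀]; exact Subgroup.map_comap_eq_self_of_surjective (QuotientGroup.mk'_surjective Z') Vb
    rw [← h1, eq_bot_iff]
    refine le_trans (Subgroup.map_mono hV₀Z) ?_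
    rw [le_bot_iff, Subgroup.map_eq_bot_iff, QuotientGroup.ker_mk']
  have hDbbot : (Db : Subgroup (↥C ⧸ Z')) = ⊥ := by
    by_contra hne
    exact inducedFunctor_ne_bot hW (Db : Subgroup (↥C ⧸ Z')) Db.isPGroup' hne (hVb ▸ hVbbot)
  have hD'Z' : (D' : Subgroup ↥C) ≤ Z' := by
    rw [hDb, Subgroup.map_eq_bot_iff, QuotientGroup.ker_mk'] at hDbbot
    exact hDbbot
  have hD'eq : (D' : Subgroup ↥C) = Z' := le_antisymm hD'Z' hZ'D
  -- Schur-Zassenhaus
  have hidx : ¬ p ∣ Z'.index := by rw [← hD'eq]; exact D'.not_dvd_index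
  obtain ⟨k, hk⟩ := hZ'p.exists_card_eq
  have hcop : Nat.Coprime (Nat.card Z') Z'.index := by
    rw [hk]
    exact Nat.Coprime.pow_left _ ((Nat.Prime.coprime_iff_not_dvd hp).mpr hidx)
  obtain ⟨H, hH⟩ := Subgroup.exists_right_complement'_of_coprime hcop
  have hHcard : Nat.card H = Z'.index := (hH.symm.index_eq_card).symm
  have hHcop : (Nat.card H).Coprime p := by
    rw [hHcard]; exact ((Nat.Prime.coprime_iff_not_dvd hp).mpr hidx).symm
  have hHpow : ∀ h ∈ H, h ^ Nat.card H = 1 := by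
    intro h hh
    have h1 : (⟨h, hh⟩ : ↥H) ^ Nat.card ↥H = 1 := pow_card_eq_one'
    have h2 := congrArg Subtype.val h1
    rw [SubgroupClass.coe_pow] at h2
    exact h2
  obtain ⟨HX, hHX⟩ : ∃ HX : Subgroup X, HX = H.map C.subtype := ⟨_, rfl⟩
  have hHXn : HX.Normal := by
    constructor
    intro y hy x
    rw [hHX] at hy ⊢
    obtain ⟨h', hh', rfl⟩ := hy
    have hcC : x * (h' : X) * x⁻¹ ∈ C := hCn.conj_mem _ h'.2 x
    obtain ⟨z, hz, h'', hh'', hzh⟩ := Cfsg.Agent.Lib.Helper1.IsComplement'.exists_mul_eq hH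
      (⟨x * (h' : X) * x⁻¹, hcC⟩ : ↥C)
    have hpow1 : (⟨x * (h' : X) * x⁻¹, hcC⟩ : ↥C) ^ Nat.card H = 1 := by
      apply Subtype.ext
      have h1 := congrArg Subtype.val (hHpow h' hh')
      have e : ((⟨x * (h' : X) * x⁻¹, hcC⟩ : ↥C) ^ Nat.card H : ↥C).val = x * ((h' : X) ^ Nat.card H) * x⁻¹ := by
        rw [SubgroupClass.coe_pow]
        exact (conj_pow (a := x) (b := (h' : X))).symm ▸ rfl
      rw [e]
      have h2 : ((h' : X) ^ Nat.card H) = 1 := by simpa using h1
      rw [h2]; simp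
    have hcomm : Commute z h'' := by
      have := Subgroup.mem_center_iff.mp (hZ'c hz) h''
      exact this.symm
    have hzpow : z ^ Nat.card H = 1 := by
      have h1 : (z * h'') ^ Nat.card H = z ^ Nat.card H * h'' ^ Nat.card H := hcomm.mul_pow _
      rw [hzh, hpow1, hHpow h'' hh'', mul_one] at h1
      exact h1.symm
    have hz1 : z = 1 := by
      obtain ⟨b, hb⟩ := hZ'p ⟨z, hz⟩
      have hzb : z ^ p ^ b = 1 := by
        have := congrArg Subtype.val hb
        simpa using this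
      have h3 : orderOf z ∣ p ^ b := orderOf_dvd_of_pow_eq_one hzb
      have h4 : orderOf z ∣ Nat.card H := orderOf_dvd_of_pow_eq_one hzpow
      have h5 : orderOf z ∣ 1 := by
        have := Nat.dvd_gcd h4 h3
        rwa [Nat.Coprime.pow_right b hHcop] at this
      exact orderOf_eq_one_iff.mp (Nat.dvd_one.mp h5)
    rw [hz1, one_mul] at hzh
    refine ⟨h'', hh'', ?_⟩
    rw [hzh]; rfl
  have hHXcard : Nat.card HX = Nat.card H := by
    rw [hHX]
    exact Nat.card_congr (H.equivMapOfInjective _ C.subtype_injective).symm.toEquiv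
  have hHXbot : HX = ⊥ := by
    have := Cfsg.H5.le_pPrimeCore (p := p) hHXn (by rw [hHXcard]; exact hHcop)
    rw [hK] at this
    exact le_bot_iff.mp this
  have hHbot : H = ⊥ := by
    rw [hHX, Subgroup.map_eq_bot_iff_of_injective _ C.subtype_injective] at hHXbot
    exact hHXbot
  rw [hHbot] at hH
  have hZ'top : Z' = ⊤ := Subgroup.isComplement'_bot_right.mp hH
  intro c hc
  have : (⟨c, hc⟩ : ↥C) ∈ Z' := by rw [hZ'top]; trivial
  rw [hZ'def, Subgroup.mem_subgroupOf] at this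
  exact hZQ this

end main

end Cfsg.Agent.Lib.Helper18.FunctorMain
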