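import Mathlib
import Cfsg.Agent.Lib.Helper18.AutFree
import Cfsg.Agent.Lib.Helper18.FunctorMain
import Cfsg.Agent.H5.SL2pStable
import Cfsg.Agent.H5.ZJMain
import Cfsg.Agent.H5.ZJMap
import Cfsg.Agent.H5.SCFusion
import Cfsg.Agent.Lib.Helper16.SL2Borel

/-!
# `N(Z(J(S)))` controls strong fusion when no `p`-automizer involves `SL(2, p)`

`ctl_of_autFree`: in a finite group `X` in which no `N_X(T)/C_X(T)` (`T` a `p`-subgroup, `p` odd) has a
section `SL(2, p)`, the normalizer of `Z(J(S))` controls strong fusion in the Sylow `p`-subgroup `S`.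
-/

set_option autoImplicit false
set_option linter.style.haveILetI false

namespace Cfsg.Agent.Lib.Helper18.AutFree

open Cfsg Cfsg.Agent.Lib.Helper13 Cfsg.Agent.Lib.Helper18.FusionCR Cfsg.Agent.Lib.Helper18.FunctorMain
open Cfsg.H5.ZJ Cfsg.H5.SC

universe u

/-- no `p`-automizer has a section `SL(2, p)` -/
abbrev AutFreeSL (p : ℕ) (X : Type u) [Group X] : Prop :=
  AutFreeOf p (Matrix.SpecialLinearGroup (Fin 2) (ZMod p)) X

/-- `Z(J(·))` (abelian subgroups of maximal order) as a functor on groups -/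
def WZJ : ∀ (Q : Type u) [Group Q], Subgroup Q := fun Q _ => Z 0 (⊤ : Subgroup Q)

theorem inducedFunctor_WZJ {X : Type u} [Group X] (P : Subgroup X) :
    inducedFunctor (G := X) WZJ P = Z 0 P := by
  unfold inducedFunctor WZJ
  have hinj : (⊤ : Subgroup ↥P) ⊓ P.subtype.ker = ⊥ := by
    rw [(MonoidHom.ker_eq_bot_iff _).2 P.subtype_injective, inf_bot_eq]
  rw [Z_map_hom hinj]
  congr 1
  ext x
  simp

theorem isCharPFunctor_WZJ (p : ℕ) [Fact p.Prime] : IsCharPFunctor.{u} p WZJ := by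
  refine ⟨?_, ?_⟩
  · intro Q _ _ hQ hnt
    have h := isConjugacyFunctor_Wf (G := Q) (p := p) (dvd_zero p) (isSCSet_one p) ⊤ (hQ.to_subgroup _)
    have h2 := h.2.1 top_ne_bot
    rw [Wf_one] at h2
    exact h2
  · intro Q R _ _ _ _ φ
    unfold WZJ
    have hinj : (⊤ : Subgroup Q) ⊓ φ.toMonoidHom.ker = ⊥ := by
      rw [(MonoidHom.ker_eq_bot_iff _).2 φ.injective, inf_bot_eq]
    rw [Z_map_hom hinj, Subgroup.map_top_of_surjective _ φ.surjective]

section main

variable {p : ℕ} [Fact p.Prime]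

/-- a group with `C(O_p) ≤ O_p` whose `p`-automizers are `SL(2, p)`-free has no section `SL(2, p)` -/
theorem not_hasSectionP_of_constrained {X : Type u} [Group X] [Finite X] (h : AutFreeSL p X)
    (hc : Subgroup.centralizer ((Cfsg.pCore p X : Subgroup X) : Set X) ≤ Cfsg.pCore p X) :
    ¬ Cfsg.H5.SL2p.HasSectionP p X := by
  rintro ⟨K, θ, hθ⟩
  haveI hQn := Cfsg.H5.pCore_normal p X
  have hQp := Cfsg.H5.pCore_isPGroup p X
  apply h (Cfsg.pCore p X) hQp K θ
  · rw [Subgroup.normalizer_eq_top]; exact le_top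
  · obtain ⟨M, hM⟩ : ∃ M : Subgroup ↥K,
        M = (Subgroup.centralizer ((Cfsg.pCore p X : Subgroup X) : Set X)).subgroupOf K := ⟨_, rfl⟩
    haveI hMn : M.Normal := by rw [hM]; infer_instance
    have hMp : IsPGroup p M := by
      rw [hM]
      exact (hQp.to_le hc).comap_subtype
    haveI hMθn : (M.map θ).Normal := Subgroup.Normal.map hMn θ hθ
    have hbot : M.map θ = ⊥ :=
      Cfsg.Agent.Lib.Helper16.normal_pgroup_SL2_eq_bot (F := ZMod p) (p := p) (M.map θ) (hMp.map θ)
    intro k hk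
    have hkM : k ∈ M := by rw [hM, Subgroup.mem_subgroupOf]; exact hk
    have : θ k ∈ M.map θ := Subgroup.mem_map_of_mem θ hkM
    rw [hbot, Subgroup.mem_bot] at this
    exact this
  · exact hθ

/-- the hypothesis of the main theorem on section conjugacy functors -/
theorem phi_of_autFree (hp : p ≠ 2) {X : Type u} [Group X] (h : AutFreeSL p X) : Φ p WZJ X := by
  intro hfin hc T
  rw [inducedFunctor_WZJ]
  have hns := not_hasSectionP_of_constrained h hc
  apply Z_normal hp 0 hc _ T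
  intro P hPn hP a hq
  rw [Cfsg.H5.PSt.mk_mem_pCore_iff']
  have hPN : Subgroup.normalizer (P : Set X) = ⊤ := Subgroup.normalizer_eq_top_iff.2 hPn
  obtain ⟨L, hCL, -, hNL, hpow, haL⟩ := Cfsg.H5.SL2p.inOp_of_not_hasSectionP hp hns P hP a hq
  have hLn : L.Normal := by
    rw [hPN] at hNL
    exact Subgroup.normalizer_eq_top_iff.1 (top_le_iff.1 hNL)
  exact ⟨L, hLn, hCL, hpow, haL⟩

theorem secAll_phi (hp : p ≠ 2) {X : Type u} [Group X] [Finite X] (h : AutFreeSL p X) :
    SecAll (Φ p WZJ) X := by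
  intro K R hR
  apply phi_of_autFree hp
  exact autFreeOf_of_surjective (QuotientGroup.mk' (R.subgroupOf K)) (QuotientGroup.mk'_surjective _)
    (autFreeOf_subgroup h K)

/-- **control of strong fusion by `N(Z(J(S)))`** under the hypothesis on the automizers -/
theorem ctl_of_autFree (hp : p ≠ 2) {X : Type u} [Group X] [Finite X] (h : AutFreeSL p X) :
    Ctl p WZJ X :=
  main (isCharPFunctor_WZJ p) _ X rfl (secAll_phi hp h)

end main

end Cfsg.Agent.Lib.Helper18.AutFree
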