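import Mathlib
import Cfsg.Agent.S3911
import Cfsg.Agent.Lib.Helper18.Basic

/-!
# Groups in which abelian subgroups of equal order are conjugate (`B`-groups): lifting machinery

General version of the lifting argument of `S3911`: quotients `G ⧸ M` of a `B`-group are
`B`-groups provided two hypotheses `HypC`, `HypE` on `M` hold.
-/

set_option autoImplicit false

namespace Cfsg.Agent.Lib.Helper18.BGroup

/-- Any two abelian subgroups of the same order are conjugate. -/
def IsB (G : Type*) [Group G] : Prop :=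
  ∀ A B : Subgroup G, IsMulCommutative ↥A → IsMulCommutative ↥B → Nat.card ↥A = Nat.card ↥B →
    ∃ g : G, B = A.map (MulAut.conj g).toMonoidHom

theorem IsB.of_mulEquiv {G H : Type*} [Group G] [Group H] (e : G ≃* H) (hG : IsB G) : IsB H := by
  intro A B hA hB hcard
  have key : ∀ X : Subgroup H, IsMulCommutative ↥X →
      IsMulCommutative ↥(X.map e.symm.toMonoidHom) := by
    intro X hX
    refine ⟨⟨?_⟩⟩
    rintro ⟨_, x, hx, rfl⟩ ⟨_, y, hy, rfl⟩
    apply Subtype.ext
    have h1 := hX.is_comm.comm ⟨x, hx⟩ ⟨y, hy⟩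
    have h2 : x * y = y * x := congrArg Subtype.val h1
    show e.symm.toMonoidHom x * e.symm.toMonoidHom y = e.symm.toMonoidHom y * e.symm.toMonoidHom x
    rw [← map_mul, ← map_mul, h2]
  have hcard' : Nat.card ↥(A.map e.symm.toMonoidHom) = Nat.card ↥(B.map e.symm.toMonoidHom) := by
    rw [Subgroup.card_map_of_injective e.symm.injective,
      Subgroup.card_map_of_injective e.symm.injective, hcard]
  obtain ⟨g, hg⟩ := hG _ _ (key A hA) (key B hB) hcard'
  refine ⟨e g, ?_⟩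
  have hid : e.toMonoidHom.comp e.symm.toMonoidHom = MonoidHom.id H := by
    ext x; simp
  have h1 : B = (B.map e.symm.toMonoidHom).map e.toMonoidHom := by
    rw [Subgroup.map_map, hid, Subgroup.map_id]
  have hhom : (e.toMonoidHom.comp (MulAut.conj g).toMonoidHom).comp e.symm.toMonoidHom =
      (MulAut.conj (e g)).toMonoidHom := by
    ext x; simp
  rw [h1, hg, Subgroup.map_map, Subgroup.map_map, hhom]

section lifting

variable {G : Type*} [Group G] [Finite G]

/-- Hypothesis (C): `p`-subgroups mapping into `Abar` are commutative or lie in `M`. -/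
def HypC (M : Subgroup G) [M.Normal] (Abar : Subgroup (G ⧸ M)) : Prop :=
  ∀ (p : ℕ) [Fact p.Prime], p ∣ Nat.card ↥M → ∀ R : Subgroup G, IsPGroup p ↥R →
    R.map (QuotientGroup.mk' M) ≤ Abar → (∀ x ∈ R, ∀ y ∈ R, x * y = y * x) ∨ R ≤ M

/-- Hypothesis (E): a `p`-element outside `M` has a power in `M` of order the `p`-part of `|M|`. -/
def HypE (M : Subgroup G) : Prop :=
  ∀ (p : ℕ) [Fact p.Prime], p ∣ Nat.card ↥M → ∀ b : G, (∃ k, orderOf b = p ^ k) → b ∉ M →
    ∃ i, b ^ (p ^ i) ∈ M ∧ orderOf (b ^ (p ^ i)) = p ^ (Nat.card ↥M).factorization p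

open Cfsg.Agent.S3911 in
theorem exists_lift' (M : Subgroup G) [M.Normal]
    (Abar : Subgroup (G ⧸ M)) (hAbar : IsMulCommutative ↥Abar) (hC : HypC M Abar) :
    ∃ A : Subgroup G, IsMulCommutative ↥A ∧ A.map (QuotientGroup.mk' M) = Abar ∧
      ∀ H : Subgroup ↥A, IsCoatom H → M.subgroupOf A ≤ H := by
  classical
  let S : Set (Subgroup G) := {X | X.map (QuotientGroup.mk' M) = Abar}
  have hne : S.Nonempty := ⟨Abar.comap (QuotientGroup.mk' M),
    Subgroup.map_comap_eq_self_of_surjective (QuotientGroup.mk'_surjective M) Abar⟩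
  obtain ⟨A, hAS, hAmin⟩ := (measure (fun X : Subgroup G => Nat.card ↥X)).wf.has_min S hne
  have hAmap : A.map (QuotientGroup.mk' M) = Abar := hAS
  have hcomm : ∀ x y : ↥A, ((x * y * x⁻¹ * y⁻¹ : ↥A) : G) ∈ M := by
    intro x y
    have hx : (QuotientGroup.mk' M) (x : G) ∈ Abar := by
      rw [← hAmap]; exact Subgroup.mem_map_of_mem _ x.2
    have hy : (QuotientGroup.mk' M) (y : G) ∈ Abar := by
      rw [← hAmap]; exact Subgroup.mem_map_of_mem _ y.2
    have hc := hAbar.is_comm.comm ⟨_, hx⟩ ⟨_, hy⟩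
    have hc' : (QuotientGroup.mk' M) (x : G) * (QuotientGroup.mk' M) (y : G) =
        (QuotientGroup.mk' M) (y : G) * (QuotientGroup.mk' M) (x : G) := congrArg Subtype.val hc
    have h2 : (QuotientGroup.mk' M) (x : G) * (QuotientGroup.mk' M) (y : G) *
        ((QuotientGroup.mk' M) (x : G))⁻¹ * ((QuotientGroup.mk' M) (y : G))⁻¹ = 1 := by
      rw [hc']; group
    have h3 : (QuotientGroup.mk' M) ((x * y * x⁻¹ * y⁻¹ : ↥A) : G) = 1 := by
      simpa only [Subgroup.coe_mul, Subgroup.coe_inv, map_mul, map_inv] using h2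
    exact (QuotientGroup.eq_one_iff _).mp h3
  have hfrat : ∀ H : Subgroup ↥A, IsCoatom H → M.subgroupOf A ≤ H := by
    intro H hH
    by_contra hnot
    have hsup : H ⊔ M.subgroupOf A = ⊤ := by
      by_contra hne'
      have hlt : H < H ⊔ M.subgroupOf A := by
        refine lt_of_le_of_ne le_sup_left ?_
        intro heq
        apply hnot
        rw [heq]
        exact le_sup_right
      exact hne' (hH.2 _ hlt)
    have hX : (H.map A.subtype) ∈ S := by
      show (H.map A.subtype).map (QuotientGroup.mk' M) = Abar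
      apply le_antisymm
      · rw [← hAmap]; exact Subgroup.map_mono (Subgroup.map_subtype_le H)
      · rw [← hAmap]
        rintro _ ⟨a, ha, rfl⟩
        have hmem : (⟨a, ha⟩ : ↥A) ∈ H ⊔ M.subgroupOf A := by rw [hsup]; trivial
        rw [← SetLike.mem_coe, Subgroup.mul_normal] at hmem
        obtain ⟨h, hh, n, hn, hmul⟩ := Set.mem_mul.mp hmem
        refine ⟨(h : G), ⟨h, hh, rfl⟩, ?_⟩
        have hahn : a = (h : G) * (n : G) := by
          rw [← Subgroup.coe_mul, hmul]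
        rw [hahn, map_mul]
        have hn1 : (QuotientGroup.mk' M) (n : G) = 1 :=
          (QuotientGroup.eq_one_iff _).mpr (Subgroup.mem_subgroupOf.mp hn)
        rw [hn1, mul_one]
    have hcard : Nat.card ↥(H.map A.subtype) < Nat.card ↥A := by
      rw [Subgroup.card_map_of_injective A.subtype_injective]
      exact lt_of_le_of_ne (Subgroup.card_le_card_group H)
        (fun h => hH.1 (Subgroup.eq_top_of_card_eq H h))
    exact hAmin _ hX hcard
  have hco : ∀ H : Subgroup ↥A, IsCoatom H → H.Normal := by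
    intro H hH
    refine ⟨fun n hn g => ?_⟩
    have h1 : g * n * g⁻¹ * n⁻¹ ∈ H := hfrat H hH (Subgroup.mem_subgroupOf.mpr (hcomm g n))
    have h2 : g * n * g⁻¹ = (g * n * g⁻¹ * n⁻¹) * n := by group
    rw [h2]; exact H.mul_mem h1 hn
  have hsyl : ∀ (p : ℕ) [Fact p.Prime] (P : Sylow p ↥A), ∀ x ∈ (P : Subgroup ↥A),
      ∀ y ∈ (P : Subgroup ↥A), x * y = y * x := by
    intro p _ P x hx y hy
    have hp : p.Prime := Fact.out
    have hcP : x * y * x⁻¹ * y⁻¹ ∈ (P : Subgroup ↥A) :=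
      Subgroup.mul_mem _ (Subgroup.mul_mem _ (Subgroup.mul_mem _ hx hy) (Subgroup.inv_mem _ hx))
        (Subgroup.inv_mem _ hy)
    have hcM : ((x * y * x⁻¹ * y⁻¹ : ↥A) : G) ∈ M := hcomm x y
    suffices h : x * y * x⁻¹ * y⁻¹ = 1 by
      have h2 : x * y = (x * y * x⁻¹ * y⁻¹) * (y * x) := by group
      rw [h2, h, one_mul]
    by_cases hpM : p ∣ Nat.card ↥M
    · have hPG : IsPGroup p ↥((P : Subgroup ↥A).map A.subtype) := P.isPGroup'.map _
      have hRA : ((P : Subgroup ↥A).map A.subtype).map (QuotientGroup.mk' M) ≤ Abar := by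
        rw [← hAmap]; exact Subgroup.map_mono (Subgroup.map_subtype_le _)
      rcases hC p hpM _ hPG hRA with hcomm' | hle
      · have hxy : (x : G) * y = y * x := hcomm' _ ⟨x, hx, rfl⟩ _ ⟨y, hy, rfl⟩
        have hxy' : x * y = y * x := Subtype.ext (by simpa using hxy)
        rw [hxy']; group
      · have h23 : (∀ H : Subgroup ↥A, IsCoatom H → H.Normal) ↔
            ∀ (p : ℕ) (_hp : Fact p.Prime) (P : Sylow p ↥A), (↑P : Subgroup ↥A).Normal :=
          (Group.isNilpotent_of_finite_tfae (G := ↥A)).out 2 3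
        haveI : (P : Subgroup ↥A).Normal := h23.mp hco p inferInstance P
        have hPN : (P : Subgroup ↥A) ≤ M.subgroupOf A := by
          intro z hz
          rw [Subgroup.mem_subgroupOf]
          exact hle ⟨z, hz, rfl⟩
        have hbot := hallKill (M.subgroupOf A) (P : Subgroup ↥A) hfrat hPN P.card_coprime_index
        have hc1 : x * y * x⁻¹ * y⁻¹ ∈ (⊥ : Subgroup ↥A) := hbot ▸ hcP
        exact Subgroup.mem_bot.mp hc1
    · have hc1 : ((x * y * x⁻¹ * y⁻¹ : ↥A) : G) = 1 := by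
        obtain ⟨k, hk⟩ := P.isPGroup' ⟨_, hcP⟩
        have hk' : ((x * y * x⁻¹ * y⁻¹ : ↥A) : G) ^ p ^ k = 1 := by
          have := congrArg (fun z : ↥(P : Subgroup ↥A) => ((z : ↥A) : G)) hk
          simpa using this
        have hd1 : orderOf ((x * y * x⁻¹ * y⁻¹ : ↥A) : G) ∣ p ^ k :=
          orderOf_dvd_of_pow_eq_one hk'
        have hd2 : orderOf ((x * y * x⁻¹ * y⁻¹ : ↥A) : G) ∣ Nat.card ↥M := by
          have := orderOf_dvd_natCard (⟨_, hcM⟩ : ↥M)
          rwa [Subgroup.orderOf_mk] at this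
        have hcop : Nat.Coprime (p ^ k) (Nat.card ↥M) :=
          Nat.Coprime.pow_left k ((Nat.Prime.coprime_iff_not_dvd hp).mpr hpM)
        exact orderOf_eq_one_iff.mp (Nat.eq_one_of_dvd_coprimes hcop hd1 hd2)
      exact Subtype.ext hc1
  have hcommA := comm_of_sylow hco hsyl
  exact ⟨A, ⟨⟨hcommA⟩⟩, hAmap, hfrat⟩

theorem pow_dvd_card_inf' (M : Subgroup G) [M.Normal] (hE : HypE M)
    (B : Subgroup G) (r : ℕ) [Fact r.Prime] (hrM : r ∣ Nat.card ↥M)
    (hrB : r ∣ Nat.card ↥(B.map (QuotientGroup.mk' M))) :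
    r ^ (Nat.card ↥M).factorization r ∣ Nat.card ↥(M.subgroupOf B) := by
  have hr : r.Prime := Fact.out
  obtain ⟨bbar, hbbar⟩ :=
    exists_prime_orderOf_dvd_card' (G := ↥(B.map (QuotientGroup.mk' M))) r hrB
  obtain ⟨b, hbB, hb⟩ := Subgroup.mem_map.mp bbar.2
  have hbbar' : orderOf ((QuotientGroup.mk' M) b) = r := by
    rw [hb, Subgroup.orderOf_coe, hbbar]
  have hn0 : orderOf b ≠ 0 := (orderOf_pos b).ne'
  obtain ⟨k, s, hs, hn⟩ := Nat.exists_eq_pow_mul_and_not_dvd hn0 r hr.ne_one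
  have hs0 : s ≠ 0 := by
    rintro rfl
    exact hs (dvd_zero r)
  have hb'B : b ^ s ∈ B := B.pow_mem hbB s
  have hordb' : orderOf (b ^ s) = r ^ k := by
    rw [orderOf_pow_of_dvd hs0 (Dvd.intro_left _ hn.symm), hn,
      Nat.mul_div_cancel _ (Nat.pos_of_ne_zero hs0)]
  have hb'M : b ^ s ∉ M := by
    intro hmem
    have h1 : (QuotientGroup.mk' M) (b ^ s) = 1 := (QuotientGroup.eq_one_iff _).mpr hmem
    rw [map_pow] at h1
    have h2 := orderOf_dvd_of_pow_eq_one h1
    rw [hbbar'] at h2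
    exact hs h2
  obtain ⟨i, hiM, hiord⟩ := hE r hrM (b ^ s) ⟨k, hordb'⟩ hb'M
  have hb''B : (b ^ s) ^ r ^ i ∈ B := B.pow_mem hb'B _
  have hmem : (⟨_, hb''B⟩ : ↥B) ∈ M.subgroupOf B := Subgroup.mem_subgroupOf.mpr hiM
  have hdvd := orderOf_dvd_natCard (⟨_, hmem⟩ : ↥(M.subgroupOf B))
  rwa [Subgroup.orderOf_mk, Subgroup.orderOf_mk, hiord] at hdvd

open Cfsg.Agent.S3911 in
theorem card_ker_dvd' (M : Subgroup G) [M.Normal] (hE : HypE M)
    (A B : Subgroup G) (hA : IsMulCommutative ↥A)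
    (hfrat : ∀ H : Subgroup ↥A, IsCoatom H → M.subgroupOf A ≤ H)
    (hAB : Nat.card ↥(A.map (QuotientGroup.mk' M)) = Nat.card ↥(B.map (QuotientGroup.mk' M))) :
    Nat.card ↥(M.subgroupOf A) ∣ Nat.card ↥(M.subgroupOf B) := by
  have hnA : Nat.card ↥(M.subgroupOf A) ≠ 0 := Nat.card_pos.ne'
  have hnB : Nat.card ↥(M.subgroupOf B) ≠ 0 := Nat.card_pos.ne'
  have hnM : Nat.card ↥M ≠ 0 := Nat.card_pos.ne'
  rw [← Nat.factorization_prime_le_iff_dvd hnA hnB]
  intro r hr
  haveI : Fact r.Prime := ⟨hr⟩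
  by_cases hrA : r ∣ Nat.card ↥(M.subgroupOf A)
  · have hrM : r ∣ Nat.card ↥M := dvd_trans hrA (card_subgroupOf_dvd M A)
    have hrAbar := prime_dvd_image M A hA hfrat r hrA
    rw [hAB] at hrAbar
    have h3 := pow_dvd_card_inf' M hE B r hrM hrAbar
    have h4 : (Nat.card ↥(M.subgroupOf A)).factorization r ≤ (Nat.card ↥M).factorization r :=
      (Nat.factorization_le_iff_dvd hnA hnM).mpr (card_subgroupOf_dvd M A) r
    exact h4.trans ((hr.pow_dvd_iff_le_factorization hnB).mp h3)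
  · rw [Nat.factorization_eq_zero_of_not_dvd hrA]; exact Nat.zero_le _

open Cfsg.Agent.S3911 in
/-- Two abelian subgroups of `G ⧸ M` of the same order, both satisfying (C), are conjugate. -/
theorem conj_of_hyps (hB : IsB G) (M : Subgroup G) [M.Normal] (hE : HypE M)
    (Abar Bbar : Subgroup (G ⧸ M)) (hAbar : IsMulCommutative ↥Abar)
    (hBbar : IsMulCommutative ↥Bbar) (hcard : Nat.card ↥Abar = Nat.card ↥Bbar)
    (hCA : HypC M Abar) (hCB : HypC M Bbar) :
    ∃ g : G ⧸ M, Bbar = Abar.map (MulAut.conj g).toMonoidHom := by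
  obtain ⟨A, hAc, hAmap, hAf⟩ := exists_lift' M Abar hAbar hCA
  obtain ⟨B, hBc, hBmap, hBf⟩ := exists_lift' M Bbar hBbar hCB
  have hAB : Nat.card ↥(A.map (QuotientGroup.mk' M)) =
      Nat.card ↥(B.map (QuotientGroup.mk' M)) := by
    rw [hAmap, hBmap]; exact hcard
  have h1 := card_ker_dvd' M hE A B hAc hAf hAB
  have h2 := card_ker_dvd' M hE B A hBc hBf hAB.symm
  have hk : Nat.card ↥(M.subgroupOf A) = Nat.card ↥(M.subgroupOf B) := Nat.dvd_antisymm h1 h2
  have hAcard : Nat.card ↥A = Nat.card ↥B := by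
    rw [card_eq_mul A M, card_eq_mul B M, hk, hAB]
  obtain ⟨g, hg⟩ := hB A B hAc hBc hAcard
  refine ⟨QuotientGroup.mk' M g, ?_⟩
  have hhom : (QuotientGroup.mk' M).comp (MulAut.conj g).toMonoidHom =
      (MulAut.conj ((QuotientGroup.mk' M) g)).toMonoidHom.comp (QuotientGroup.mk' M) := by
    ext x; simp
  rw [← hBmap, ← hAmap, hg, Subgroup.map_map, Subgroup.map_map, hhom]

end lifting

end Cfsg.Agent.Lib.Helper18.BGroup
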