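import Mathlib
import Cfsg.Agent.Lib.Helper18.BGroupA
import Cfsg.Agent.S3909

/-!
# `B`-groups: the dichotomy hypotheses and the extension from orders prime to `4`
-/

set_option autoImplicit false

namespace Cfsg.Agent.Lib.Helper18.BGroup

section dich

variable {G : Type*} [Group G] [Finite G]

/-- For every prime `p` dividing `|M|`, some Sylow `p`-subgroup of `G` is cyclic or of exponent
`p`. -/
def Dich (M : Subgroup G) : Prop :=
  ∀ (p : ℕ) [Fact p.Prime], p ∣ Nat.card ↥M →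
    ∃ Q : Sylow p G, IsCyclic ↥(Q : Subgroup G) ∨ ∀ x ∈ (Q : Subgroup G), x ^ p = 1

theorem sylow_cyclic_transfer {p : ℕ} [Fact p.Prime] (Q Q' : Sylow p G)
    (h : IsCyclic ↥(Q : Subgroup G)) : IsCyclic ↥(Q' : Subgroup G) :=
  isCyclic_of_surjective (Sylow.equiv Q Q') (Sylow.equiv Q Q').surjective

theorem sylow_exp_transfer {p : ℕ} [Fact p.Prime] (Q Q' : Sylow p G)
    (h : ∀ x ∈ (Q : Subgroup G), x ^ p = 1) : ∀ x ∈ (Q' : Subgroup G), x ^ p = 1 := by
  intro x hx
  let e := Sylow.equiv Q' Q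
  have h1 : ((e ⟨x, hx⟩ : ↥(Q : Subgroup G)) : G) ^ p = 1 := h _ (e ⟨x, hx⟩).2
  have h2 : (e ⟨x, hx⟩) ^ p = 1 := Subtype.ext (by simpa using h1)
  have h3 : (⟨x, hx⟩ : ↥(Q' : Subgroup G)) ^ p = 1 := by
    apply e.injective
    rw [map_pow, h2, map_one]
  have := congrArg Subtype.val h3
  simpa using this

theorem comm_of_isCyclic_sylow {p : ℕ} [Fact p.Prime] (Q : Sylow p G)
    (h : IsCyclic ↥(Q : Subgroup G)) (x y : G) (hx : x ∈ (Q : Subgroup G))
    (hy : y ∈ (Q : Subgroup G)) : x * y = y * x := by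
  obtain ⟨g, hg⟩ := IsCyclic.exists_generator (α := ↥(Q : Subgroup G))
  obtain ⟨i, hi⟩ := Subgroup.mem_zpowers_iff.mp (hg ⟨x, hx⟩)
  obtain ⟨j, hj⟩ := Subgroup.mem_zpowers_iff.mp (hg ⟨y, hy⟩)
  have hcomm' : (⟨x, hx⟩ : ↥(Q : Subgroup G)) * ⟨y, hy⟩ = ⟨y, hy⟩ * ⟨x, hx⟩ := by
    rw [← hi, ← hj]
    exact ((Commute.refl g).zpow_zpow i j).eq
  exact congrArg Subtype.val hcomm'

theorem hypC_of_dich (hB : IsB G) (M : Subgroup G) [M.Normal] (hd : Dich M)
    (Abar : Subgroup (G ⧸ M)) : HypC M Abar := by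
  intro p _ hpM R hR _
  obtain ⟨Q, hQ⟩ := hd p hpM
  obtain ⟨Q', hQ'⟩ := hR.exists_le_sylow
  rcases hQ with hcyc | hexp
  · left
    intro x hx y hy
    exact comm_of_isCyclic_sylow Q' (sylow_cyclic_transfer Q Q' hcyc) x y (hQ' hx) (hQ' hy)
  · right
    obtain ⟨m, hm⟩ := exists_prime_orderOf_dvd_card' (G := ↥M) p hpM
    intro z hz
    have hzp : z ^ p = 1 := sylow_exp_transfer Q Q' hexp z (hQ' hz)
    by_cases hz1 : z = 1
    · rw [hz1]; exact M.one_mem
    · have hord : orderOf z = p := orderOf_eq_prime hzp hz1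
      exact Cfsg.Agent.S3909.mem_of_orderOf_eq hB M z
        ⟨(m : G), m.2, by rw [Subgroup.orderOf_coe, hm, hord]⟩

theorem hypE_of_dich (hB : IsB G) (M : Subgroup G) [M.Normal] (hd : Dich M) : HypE M := by
  intro p _ hpM b hbk hbM
  obtain ⟨k, hk⟩ := hbk
  have hp : p.Prime := Fact.out
  obtain ⟨Q, hQ⟩ := hd p hpM
  obtain ⟨m0, hm0⟩ := exists_prime_orderOf_dvd_card' (G := ↥M) p hpM
  rcases hQ with hcyc | hexp
  · let PM : Sylow p ↥M := default
    obtain ⟨Q1, hQ1⟩ := PM.exists_comap_subtype_eq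
    haveI : IsCyclic ↥(Q1 : Subgroup G) := sylow_cyclic_transfer Q Q1 hcyc
    let f : ↥(PM : Subgroup ↥M) →* ↥(Q1 : Subgroup G) :=
      { toFun := fun x => ⟨((x : ↥M) : G), by
          have h : (x : ↥M) ∈ (Q1 : Subgroup G).comap M.subtype := by rw [hQ1]; exact x.2
          exact h⟩
        map_one' := rfl
        map_mul' := fun _ _ => rfl }
    have hf : Function.Injective f := by
      intro x y hxy
      have h : ((f x : ↥(Q1 : Subgroup G)) : G) = ((f y : ↥(Q1 : Subgroup G)) : G) :=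
        congrArg Subtype.val hxy
      exact Subtype.ext (Subtype.ext h)
    haveI : IsCyclic ↥(PM : Subgroup ↥M) := isCyclic_of_injective f hf
    obtain ⟨gM, hgM⟩ := IsCyclic.exists_generator (α := ↥(PM : Subgroup ↥M))
    have hgMord : orderOf gM = p ^ (Nat.card ↥M).factorization p := by
      rw [orderOf_eq_card_of_forall_mem_zpowers hgM, PM.card_eq_multiplicity]
    set j := (Nat.card ↥M).factorization p with hj
    have hmord : orderOf (((gM : ↥M) : G)) = p ^ j := by
      rw [Subgroup.orderOf_coe, Subgroup.orderOf_coe, hgMord]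
    have hmM : ((gM : ↥M) : G) ∈ M := (gM : ↥M).2
    rcases le_or_gt k j with hkj | hjk
    · exfalso
      have hm' : orderOf (((gM : ↥M) : G) ^ p ^ (j - k)) = p ^ k := by
        rw [orderOf_pow_of_dvd (pow_ne_zero _ hp.ne_zero)
          (by rw [hmord]; exact pow_dvd_pow p (Nat.sub_le j k)), hmord,
          Nat.pow_div (Nat.sub_le j k) hp.pos, Nat.sub_sub_self hkj]
      exact hbM (Cfsg.Agent.S3909.mem_of_orderOf_eq hB M b
        ⟨_, M.pow_mem hmM _, by rw [hm', hk]⟩)
    · refine ⟨k - j, ?_, ?_⟩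
      · have hb'' : orderOf (b ^ p ^ (k - j)) = p ^ j := by
          rw [orderOf_pow_of_dvd (pow_ne_zero _ hp.ne_zero)
            (by rw [hk]; exact pow_dvd_pow p (Nat.sub_le k j)), hk,
            Nat.pow_div (Nat.sub_le k j) hp.pos, Nat.sub_sub_self hjk.le]
        exact Cfsg.Agent.S3909.mem_of_orderOf_eq hB M _ ⟨_, hmM, by rw [hmord, hb'']⟩
      · rw [orderOf_pow_of_dvd (pow_ne_zero _ hp.ne_zero)
          (by rw [hk]; exact pow_dvd_pow p (Nat.sub_le k j)), hk,
          Nat.pow_div (Nat.sub_le k j) hp.pos, Nat.sub_sub_self hjk.le]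
  · exfalso
    have hzp : IsPGroup p ↥(Subgroup.zpowers b) :=
      IsPGroup.of_card (n := k) (by rw [Nat.card_zpowers, hk])
    obtain ⟨Q', hQ'⟩ := hzp.exists_le_sylow
    have hbQ' : b ∈ (Q' : Subgroup G) := hQ' (Subgroup.mem_zpowers _)
    have h4 : b ^ p = 1 := sylow_exp_transfer Q Q' hexp b hbQ'
    have hne1 : b ≠ 1 := fun h => hbM (h ▸ M.one_mem)
    have hord : orderOf b = p := orderOf_eq_prime h4 hne1
    exact hbM (Cfsg.Agent.S3909.mem_of_orderOf_eq hB M b
      ⟨(m0 : G), m0.2, by rw [Subgroup.orderOf_coe, hm0, hord]⟩)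

/-- A quotient of a `B`-group by a normal subgroup satisfying the dichotomy is a `B`-group. -/
theorem isB_quot_of_dich (hB : IsB G) (M : Subgroup G) [M.Normal] (hd : Dich M) :
    IsB (G ⧸ M) := fun A B hA hB' hcard =>
  conj_of_hyps hB M (hypE_of_dich hB M hd) A B hA hB' hcard
    (hypC_of_dich hB M hd A) (hypC_of_dich hB M hd B)

end dich

section four

variable {H : Type*} [Group H] [Finite H]

theorem comm_of_le (A O : Subgroup H) (hOA : O ≤ A) (hA : IsMulCommutative ↥A) :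
    IsMulCommutative ↥O := by
  refine ⟨⟨?_⟩⟩
  rintro ⟨x, hx⟩ ⟨y, hy⟩
  apply Subtype.ext
  have h1 := hA.is_comm.comm ⟨x, hOA hx⟩ ⟨y, hOA hy⟩
  have h2 : x * y = y * x := congrArg Subtype.val h1
  exact h2

theorem exists_decomp (h4 : (Nat.card H).factorization 2 = 2)
    (A : Subgroup H) (hA : IsMulCommutative ↥A) (hA4 : 4 ∣ Nat.card ↥A) :
    ∃ T O : Subgroup H, T ≤ A ∧ O ≤ A ∧ Nat.card ↥T = 4 ∧ Nat.card ↥O * 4 = Nat.card ↥A ∧
      T ⊔ O = A := by
  haveI : Fact (Nat.Prime 2) := ⟨Nat.prime_two⟩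
  let T0 : Sylow 2 ↥A := default
  have hcardT0 : Nat.card ↥(T0 : Subgroup ↥A) = 4 := by
    rw [T0.card_eq_multiplicity]
    have h1 : (Nat.card ↥A).factorization 2 = 2 := by
      apply le_antisymm
      · have hdvd : Nat.card ↥A ∣ Nat.card H := Subgroup.card_subgroup_dvd_card A
        have := (Nat.factorization_le_iff_dvd Nat.card_pos.ne' Nat.card_pos.ne').mpr hdvd 2
        rw [h4] at this; exact this
      · have h22 : 2 ^ 2 ∣ Nat.card ↥A := by norm_num; exact hA4
        exact (Nat.prime_two.pow_dvd_iff_le_factorization Nat.card_pos.ne').mp h22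
    rw [h1]; norm_num
  haveI : (T0 : Subgroup ↥A).Normal := ⟨fun n hn g => by
    have h : g * n * g⁻¹ = n := by rw [hA.is_comm.comm g n, mul_inv_cancel_right]
    rw [h]; exact hn⟩
  obtain ⟨O0, hO0⟩ := Subgroup.exists_right_complement'_of_coprime T0.card_coprime_index
  refine ⟨(T0 : Subgroup ↥A).map A.subtype, O0.map A.subtype, Subgroup.map_subtype_le _,
    Subgroup.map_subtype_le _, ?_, ?_, ?_⟩
  · rw [Subgroup.card_map_of_injective A.subtype_injective, hcardT0]
  · rw [Subgroup.card_map_of_injective A.subtype_injective]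
    have := hO0.card_mul_card
    rw [hcardT0] at this
    rw [mul_comm]; exact this
  · rw [← Subgroup.map_sup, hO0.sup_eq_top, ← MonoidHom.range_eq_map, Subgroup.range_subtype]

/-- If the Sylow `2`-subgroups of `H` have order `4` and abelian subgroups of equal order not
divisible by `4` are conjugate, then `H` is a `B`-group. -/
theorem isB_of_sylow_four (h4 : (Nat.card H).factorization 2 = 2)
    (hB4 : ∀ A B : Subgroup H, IsMulCommutative ↥A → IsMulCommutative ↥B →
      Nat.card ↥A = Nat.card ↥B → ¬ 4 ∣ Nat.card ↥A →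
      ∃ g : H, B = A.map (MulAut.conj g).toMonoidHom) : IsB H := by
  haveI : Fact (Nat.Prime 2) := ⟨Nat.prime_two⟩
  intro A B hA hB hcard
  by_cases hA4 : 4 ∣ Nat.card ↥A
  swap
  · exact hB4 A B hA hB hcard hA4
  have hB4' : 4 ∣ Nat.card ↥B := hcard ▸ hA4
  obtain ⟨T, O, hTA, hOA, hT4, hO4, hTO⟩ := exists_decomp h4 A hA hA4
  obtain ⟨T', O', hTB, hOB, hT4', hO4', hTO'⟩ := exists_decomp h4 B hB hB4'
  have hOc : IsMulCommutative ↥O := comm_of_le A O hOA hA
  have hOc' : IsMulCommutative ↥O' := comm_of_le B O' hOB hB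
  have hOcard : Nat.card ↥O = Nat.card ↥O' := by
    have h1 : Nat.card ↥O * 4 = Nat.card ↥O' * 4 := by rw [hO4, hO4', hcard]
    exact Nat.eq_of_mul_eq_mul_right (by norm_num) h1
  have hO4n : ¬ 4 ∣ Nat.card ↥O := by
    intro hdvd
    have h16 : 2 ^ 4 ∣ Nat.card H := by
      have h1 : 4 * 4 ∣ Nat.card ↥A := by rw [← hO4]; exact Nat.mul_dvd_mul_right hdvd 4
      have h2 : (2 : ℕ) ^ 4 = 4 * 4 := by norm_num
      rw [h2]
      exact dvd_trans h1 (Subgroup.card_subgroup_dvd_card A)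
    have := (Nat.prime_two.pow_dvd_iff_le_factorization Nat.card_pos.ne').mp h16
    omega
  obtain ⟨g, hg⟩ := hB4 O O' hOc hOc' hOcard hO4n
  have hT'C : T' ≤ Subgroup.centralizer (O' : Set H) := by
    intro t ht
    rw [Subgroup.mem_centralizer_iff]
    intro o ho
    exact congrArg Subtype.val (hB.is_comm.comm ⟨o, hOB ho⟩ ⟨t, hTB ht⟩)
  have hTgC : T.map (MulAut.conj g).toMonoidHom ≤ Subgroup.centralizer (O' : Set H) := by
    rintro _ ⟨t, ht, rfl⟩
    rw [Subgroup.mem_centralizer_iff]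
    intro o ho
    rw [hg] at ho
    obtain ⟨o0, ho0, rfl⟩ := ho
    have h1 := hA.is_comm.comm ⟨o0, hOA ho0⟩ ⟨t, hTA ht⟩
    have h2 : o0 * t = t * o0 := congrArg Subtype.val h1
    simp only [MulEquiv.coe_toMonoidHom, MulAut.conj_apply]
    calc g * o0 * g⁻¹ * (g * t * g⁻¹) = g * (o0 * t) * g⁻¹ := by group
      _ = g * (t * o0) * g⁻¹ := by rw [h2]
      _ = g * t * g⁻¹ * (g * o0 * g⁻¹) := by group
  have hcardH : Nat.card ↥T' = 2 ^ (Nat.card H).factorization 2 := by
    rw [h4, hT4']; norm_num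
  let PS : Sylow 2 H := Sylow.ofCard T' hcardH
  have hPS : (PS : Subgroup H) = T' := Sylow.coe_ofCard T' hcardH
  have hTg2 : IsPGroup 2 ↥(T.map (MulAut.conj g).toMonoidHom) := by
    apply IsPGroup.of_card (n := 2)
    rw [Subgroup.card_map_of_injective (MulAut.conj g).injective, hT4]; norm_num
  obtain ⟨c, hcC, hc⟩ := Cfsg.Agent.Lib.Helper18.exists_conj_le_sylow_of_le PS
    (Subgroup.centralizer (O' : Set H)) (hPS ▸ hT'C) _ hTg2 hTgC
  have hceq : (T.map (MulAut.conj g).toMonoidHom).map (MulAut.conj c).toMonoidHom = T' := by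
    rw [hPS] at hc
    apply Subgroup.eq_of_le_of_card_ge hc
    rw [Subgroup.card_map_of_injective (MulAut.conj c).injective,
      Subgroup.card_map_of_injective (MulAut.conj g).injective, hT4, hT4']
  have hOc'' : O'.map (MulAut.conj c).toMonoidHom = O' := by
    ext x
    constructor
    · rintro ⟨o, ho, rfl⟩
      have h1 := (Subgroup.mem_centralizer_iff.mp hcC) o ho
      simp only [MulEquiv.coe_toMonoidHom, MulAut.conj_apply]
      rw [← h1, mul_inv_cancel_right]; exact ho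
    · intro hx
      refine ⟨x, hx, ?_⟩
      have h1 := (Subgroup.mem_centralizer_iff.mp hcC) x hx
      simp only [MulEquiv.coe_toMonoidHom, MulAut.conj_apply]
      rw [← h1, mul_inv_cancel_right]
  refine ⟨c * g, ?_⟩
  have hmul : (MulAut.conj (c * g)).toMonoidHom =
      (MulAut.conj c).toMonoidHom.comp (MulAut.conj g).toMonoidHom := by
    ext x; simp [mul_assoc]
  rw [hmul, ← Subgroup.map_map, ← hTO, Subgroup.map_sup, Subgroup.map_sup, hceq, ← hg, hOc'',
    hTO']

end four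

end Cfsg.Agent.Lib.Helper18.BGroup
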