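import Mathlib
import Cfsg.Agent.Lib.Helper18.BGroupB
import Cfsg.Agent.Lib.Helper1.Fitting
import Cfsg.Agent.S3303
import Cfsg.Agent.S3908

/-!
# `B`-groups with generalized quaternion Sylow `2`-subgroups
-/

set_option autoImplicit false

namespace Cfsg.Agent.Lib.Helper18.BGroup

namespace Quat

open QuaternionGroup

variable {n : ℕ}

theorem add_self_eq_zero [NeZero n] (i : ZMod (2 * n)) (h : i + i = 0) :
    i = 0 ∨ i = (n : ZMod (2 * n)) := by
  have hv : i.val < 2 * n := ZMod.val_lt i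
  have h1 : ((i.val + i.val : ℕ) : ZMod (2 * n)) = 0 := by
    rw [Nat.cast_add, ZMod.natCast_zmod_val, h]
  rw [ZMod.natCast_eq_zero_iff] at h1
  have h2 : n ∣ i.val := by
    have h3 : 2 * n ∣ 2 * i.val := by rw [two_mul i.val]; exact h1
    exact (Nat.mul_dvd_mul_iff_left (by norm_num)).mp h3
  obtain ⟨c, hc⟩ := h2
  have hn : 0 < n := Nat.pos_of_ne_zero (NeZero.ne n)
  have hc2 : c < 2 := by
    by_contra hcon
    push Not at hcon
    have : 2 * n ≤ n * c := by rw [mul_comm]; exact Nat.mul_le_mul_left n hcon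
    omega
  interval_cases c
  · left
    rw [← ZMod.natCast_zmod_val i, hc, mul_zero, Nat.cast_zero]
  · right
    rw [← ZMod.natCast_zmod_val i, hc, mul_one]

theorem sq_eq_one [NeZero n] (g : QuaternionGroup n) (h : g ^ 2 = 1) :
    g = 1 ∨ g = a (n : ZMod (2 * n)) := by
  cases g with
  | a i =>
    rw [sq, a_mul_a, one_def] at h
    have h1 : i + i = 0 := a.inj h
    rcases add_self_eq_zero i h1 with h2 | h2
    · left; rw [h2, one_def]
    · right; rw [h2]
  | xa i =>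
    exfalso
    rw [xa_sq, one_def] at h
    have h1 : (n : ZMod (2 * n)) = 0 := a.inj h
    rw [ZMod.natCast_eq_zero_iff] at h1
    have hn : 0 < n := Nat.pos_of_ne_zero (NeZero.ne n)
    have := Nat.le_of_dvd hn h1
    omega

theorem a_eq_xa_mul_xa (i : ZMod (2 * n)) :
    (a i : QuaternionGroup n) = xa 0 * xa (i - (n : ZMod (2 * n))) := by
  rw [xa_mul_xa]
  congr 1
  ring

theorem of_orderOf_eight [NeZero n] (g : QuaternionGroup n) (h : orderOf g = 8) :
    ∃ i, g = a i := by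
  cases g with
  | a i => exact ⟨i, rfl⟩
  | xa i =>
    rw [orderOf_xa] at h
    norm_num at h

theorem of_mem_zpowers [NeZero n] (g : QuaternionGroup n)
    (h : g ∈ Subgroup.zpowers (a 1 : QuaternionGroup n)) : ∃ i, g = a i := by
  rw [← mem_powers_iff_mem_zpowers] at h
  obtain ⟨m, hm⟩ := (Submonoid.mem_powers_iff _ _).mp h
  exact ⟨(m : ZMod (2 * n)), by rw [← hm, a_one_pow]⟩

theorem a_mem_zpowers [NeZero n] (i : ZMod (2 * n)) :
    (a i : QuaternionGroup n) ∈ Subgroup.zpowers (a 1 : QuaternionGroup n) := by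
  have : (a i : QuaternionGroup n) = (a 1) ^ i.val := by
    rw [a_one_pow, ZMod.natCast_zmod_val]
  rw [this]
  exact Subgroup.pow_mem _ (Subgroup.mem_zpowers _) _

theorem exists_orderOf_eight (k : ℕ) (hk : 2 ≤ k) :
    ∃ y : QuaternionGroup (2 ^ k), orderOf y = 8 := by
  refine ⟨(a 1) ^ 2 ^ (k - 2), ?_⟩
  have h1 : 2 * 2 ^ k = 2 ^ (k - 2) * 8 := by
    have : (8 : ℕ) = 2 ^ 3 := by norm_num
    rw [this, ← pow_add, ← pow_succ']
    congr 1
    omega
  rw [orderOf_pow_of_dvd (pow_ne_zero _ two_ne_zero) (by rw [orderOf_a_one, h1]; exact dvd_mul_right _ _),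
    orderOf_a_one, h1, Nat.mul_div_cancel_left _ (pow_pos two_pos _)]

end Quat

theorem comm_of_card_dvd_four {R : Type*} [Group R] [Finite R] (h : Nat.card R ∣ 4) :
    ∀ x y : R, x * y = y * x := by
  haveI : Fact (Nat.Prime 2) := ⟨Nat.prime_two⟩
  have h4 : (4 : ℕ) = 2 ^ 2 := by norm_num
  rw [h4] at h
  obtain ⟨a, ha2, ha⟩ := (Nat.dvd_prime_pow Nat.prime_two).mp h
  interval_cases a
  · rw [pow_zero] at ha
    haveI : Subsingleton R := (Nat.card_eq_one_iff_unique.mp ha).1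
    intro x y
    exact Subsingleton.elim _ _
  · rw [pow_one] at ha
    haveI : IsCyclic R := isCyclic_of_prime_card ha
    intro x y
    obtain ⟨g, hg⟩ := IsCyclic.exists_generator (α := R)
    obtain ⟨i, rfl⟩ := Subgroup.mem_zpowers_iff.mp (hg x)
    obtain ⟨j, rfl⟩ := Subgroup.mem_zpowers_iff.mp (hg y)
    exact ((Commute.refl g).zpow_zpow i j).eq
  · exact (IsPGroup.isMulCommutative_of_card_eq_prime_sq ha).is_comm.comm

section quat

variable {G : Type*} [Group G] [Finite G]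

theorem unique_sq {n : ℕ} [NeZero n] (P : Subgroup G) (e : ↥P ≃* QuaternionGroup n)
    (x y : G) (hx : x ∈ P) (hy : y ∈ P) (hx2 : x ^ 2 = 1) (hy2 : y ^ 2 = 1)
    (hx1 : x ≠ 1) (hy1 : y ≠ 1) : x = y := by
  have key : ∀ w : G, ∀ hw : w ∈ P, w ^ 2 = 1 → w ≠ 1 →
      e ⟨w, hw⟩ = QuaternionGroup.a (n : ZMod (2 * n)) := by
    intro w hw hw2 hw1
    have h0 : (⟨w, hw⟩ : ↥P) ^ 2 = 1 := Subtype.ext (by simpa using hw2)
    have h1 : (e ⟨w, hw⟩) ^ 2 = 1 := by rw [← map_pow, h0, map_one]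
    rcases Quat.sq_eq_one _ h1 with h | h
    · exfalso
      apply hw1
      have h2 : (⟨w, hw⟩ : ↥P) = 1 := e.injective (h.trans (map_one e).symm)
      exact congrArg Subtype.val h2
    · exact h
  have h3 : (⟨x, hx⟩ : ↥P) = ⟨y, hy⟩ :=
    e.injective ((key x hx hx2 hx1).trans (key y hy hy2 hy1).symm)
  exact congrArg Subtype.val h3

theorem quaternion_false_core [Group.IsSolvable G] (hB : IsB G)
    (hK : Cfsg.pPrimeCore 2 G = ⊥) (P : Sylow 2 G) (k : ℕ) (hk : 2 ≤ k)
    (e : ↥(P : Subgroup G) ≃* QuaternionGroup (2 ^ k)) : False := by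
  haveI : Fact (Nat.Prime 2) := ⟨Nat.prime_two⟩
  haveI : NeZero (2 ^ k) := ⟨pow_ne_zero _ two_ne_zero⟩
  have hcent := Cfsg.Agent.Lib.Helper1.centralizer_pCore_le (G := G) 2 hK
  haveI hQn : (Cfsg.pCore 2 G).Normal := Cfsg.Agent.Lib.Helper1.pCore_normal 2
  have hQP : Cfsg.pCore 2 G ≤ (P : Subgroup G) := Cfsg.Agent.Lib.Helper1.pCore_le_sylow P
  have hord : ∀ y : QuaternionGroup (2 ^ k),
      orderOf (((e.symm y : ↥(P : Subgroup G)) : G)) = orderOf y := by
    intro y; rw [Subgroup.orderOf_coe, MulEquiv.orderOf_eq]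
  have hx0ord : orderOf (((e.symm (QuaternionGroup.xa 0) : ↥(P : Subgroup G)) : G)) = 4 := by
    rw [hord, QuaternionGroup.orderOf_xa]
  by_cases h4 : ∃ q ∈ Cfsg.pCore 2 G, orderOf q = 4
  · obtain ⟨q, hq, hq4⟩ := h4
    have hall : ∀ g : G, orderOf g = 4 → g ∈ Cfsg.pCore 2 G := fun g hg =>
      Cfsg.Agent.S3909.mem_of_orderOf_eq hB (Cfsg.pCore 2 G) g ⟨q, hq, by rw [hq4, hg]⟩
    have hxa : ∀ i, ((e.symm (QuaternionGroup.xa i) : ↥(P : Subgroup G)) : G) ∈
        Cfsg.pCore 2 G := fun i => hall _ (by rw [hord, QuaternionGroup.orderOf_xa])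
    have key : ∀ y : QuaternionGroup (2 ^ k),
        ((e.symm y : ↥(P : Subgroup G)) : G) ∈ Cfsg.pCore 2 G := by
      intro y
      cases y with
      | a i =>
        rw [Quat.a_eq_xa_mul_xa i, map_mul, Subgroup.coe_mul]
        exact Subgroup.mul_mem _ (hxa _) (hxa _)
      | xa i => exact hxa i
    have hPQ : (P : Subgroup G) ≤ Cfsg.pCore 2 G := by
      intro g hg
      have h1 := key (e ⟨g, hg⟩)
      simpa using h1
    have hPeq : (P : Subgroup G) = Cfsg.pCore 2 G := le_antisymm hPQ hQP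
    obtain ⟨y8, hy8⟩ := Quat.exists_orderOf_eight k hk
    set y := ((e.symm y8 : ↥(P : Subgroup G)) : G) with hy
    have hyord : orderOf y = 8 := by rw [hy, hord, hy8]
    have hyP : y ∈ (P : Subgroup G) := (e.symm y8).2
    have hy2 : orderOf (y ^ 2) = 4 := by
      rw [orderOf_pow_of_dvd two_ne_zero (by rw [hyord]; norm_num), hyord]
    have hy2D : y ^ 2 ∈ Subgroup.normalClosure ({y} : Set G) :=
      Subgroup.pow_mem _ (Subgroup.subset_normalClosure (Set.mem_singleton y)) 2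
    have hx0D : ((e.symm (QuaternionGroup.xa 0) : ↥(P : Subgroup G)) : G) ∈
        Subgroup.normalClosure ({y} : Set G) :=
      Cfsg.Agent.S3909.mem_of_orderOf_eq hB _ _ ⟨y ^ 2, hy2D, by rw [hy2, hx0ord]⟩
    have hDC : Subgroup.normalClosure ({y} : Set G) ≤
        ((Subgroup.zpowers (QuaternionGroup.a 1 : QuaternionGroup (2 ^ k))).comap
          e.toMonoidHom).map (P : Subgroup G).subtype := by
      unfold Subgroup.normalClosure
      rw [Subgroup.closure_le]
      intro g' hg'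
      rw [Group.mem_conjugatesOfSet_iff] at hg'
      obtain ⟨b, hb, hconj⟩ := hg'
      rw [Set.mem_singleton_iff] at hb
      subst hb
      obtain ⟨c, hc⟩ := isConj_iff.mp hconj
      have hg'P : g' ∈ (P : Subgroup G) := by
        rw [hPeq, ← hc]; exact hQn.conj_mem _ (hPeq ▸ hyP) c
      have hg'ord : orderOf g' = 8 := by
        rw [← hc, ← MulAut.conj_apply, MulEquiv.orderOf_eq, hyord]
      have h8 : orderOf (e ⟨g', hg'P⟩) = 8 := by
        rw [MulEquiv.orderOf_eq, Subgroup.orderOf_mk, hg'ord]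
      obtain ⟨i, hi⟩ := Quat.of_orderOf_eight _ h8
      refine ⟨⟨g', hg'P⟩, ?_, rfl⟩
      show e.toMonoidHom ⟨g', hg'P⟩ ∈
        Subgroup.zpowers (QuaternionGroup.a 1 : QuaternionGroup (2 ^ k))
      rw [MulEquiv.coe_toMonoidHom, hi]
      exact Quat.a_mem_zpowers i
    obtain ⟨w, hw, hwx⟩ := hDC hx0D
    have hwe : w = e.symm (QuaternionGroup.xa 0) := Subtype.ext hwx
    have hw' : e.toMonoidHom w ∈
        Subgroup.zpowers (QuaternionGroup.a 1 : QuaternionGroup (2 ^ k)) := hw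
    rw [hwe, MulEquiv.coe_toMonoidHom, MulEquiv.apply_symm_apply] at hw'
    obtain ⟨i, hi⟩ := Quat.of_mem_zpowers _ hw'
    exact absurd hi (by simp)
  · push Not at h4
    have hQ2 : ∀ q ∈ Cfsg.pCore 2 G, q ^ 2 = 1 := by
      intro q hq
      obtain ⟨i, hi⟩ := (Cfsg.Agent.Lib.Helper1.pCore_isPGroup (G := G) 2) ⟨q, hq⟩
      have hqi : q ^ 2 ^ i = 1 := by simpa using congrArg Subtype.val hi
      obtain ⟨j, hj, hjord⟩ :=
        (Nat.dvd_prime_pow Nat.prime_two).mp (orderOf_dvd_of_pow_eq_one hqi)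
      by_cases hj2 : 2 ≤ j
      · exfalso
        have h1 : orderOf (q ^ 2 ^ (j - 2)) = 4 := by
          rw [orderOf_pow_of_dvd (pow_ne_zero _ two_ne_zero)
            (by rw [hjord]; exact pow_dvd_pow 2 (Nat.sub_le j 2)), hjord,
            Nat.pow_div (Nat.sub_le j 2) two_pos, Nat.sub_sub_self hj2]
          norm_num
        exact h4 _ (Subgroup.pow_mem _ hq _) h1
      · have hj1 : j ≤ 1 := by omega
        have hd : orderOf q ∣ 2 := by
          rw [hjord]
          calc 2 ^ j ∣ 2 ^ 1 := pow_dvd_pow 2 hj1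
            _ = 2 := pow_one 2
        exact orderOf_dvd_iff_pow_eq_one.mp hd
    have hQc : ∀ q ∈ Cfsg.pCore 2 G, ∀ g : G, g * q * g⁻¹ = q := by
      intro q hq g
      by_cases hq1 : q = 1
      · rw [hq1]; group
      · have hq' : g * q * g⁻¹ ∈ Cfsg.pCore 2 G := hQn.conj_mem q hq g
        have hne : g * q * g⁻¹ ≠ 1 := by
          intro h; apply hq1
          have h2 : q = g⁻¹ * (g * q * g⁻¹) * g := by group
          rw [h2, h]; group
        exact unique_sq (P : Subgroup G) e _ _ (hQP hq') (hQP hq) (hQ2 _ hq') (hQ2 _ hq) hne hq1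
    have htop : (⊤ : Subgroup G) ≤ Subgroup.centralizer (Cfsg.pCore 2 G : Set G) := by
      intro g _
      rw [Subgroup.mem_centralizer_iff]
      intro q hq
      have h1 := hQc q hq g
      calc q * g = (g * q * g⁻¹) * g := by rw [h1]
        _ = g * q := by group
    have hx0Q := hcent (htop (Subgroup.mem_top
      ((e.symm (QuaternionGroup.xa 0) : ↥(P : Subgroup G)) : G)))
    have h1 := hQ2 _ hx0Q
    have hdvd := orderOf_dvd_of_pow_eq_one h1
    rw [hx0ord] at hdvd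
    norm_num at hdvd

/-- A solvable `B`-group has no generalized quaternion Sylow `2`-subgroup of order `≥ 16`. -/
theorem quaternion_false [Group.IsSolvable G] (hB : IsB G) (P : Sylow 2 G) (k : ℕ) (hk : 2 ≤ k)
    (e : ↥(P : Subgroup G) ≃* QuaternionGroup (2 ^ k)) : False := by
  haveI : Fact (Nat.Prime 2) := ⟨Nat.prime_two⟩
  haveI hKn : (Cfsg.pPrimeCore 2 G).Normal := Cfsg.Agent.Lib.Helper1.pPrimeCore_normal 2
  have hcop : (Nat.card ↥(Cfsg.pPrimeCore 2 G)).Coprime 2 :=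
    Cfsg.Agent.Lib.Helper1.pPrimeCore_coprime 2
  have hKodd : Odd (Nat.card ↥(Cfsg.pPrimeCore 2 G)) := Nat.Coprime.odd_of_right hcop
  have hB' : IsB (G ⧸ Cfsg.pPrimeCore 2 G) := Cfsg.Agent.S3911.result hB _ hKodd
  have hK' := Cfsg.Agent.S3303.pPrimeCore_quot_eq_bot (G := G) 2
  let P' : Sylow 2 (G ⧸ Cfsg.pPrimeCore 2 G) :=
    P.mapSurjective (QuotientGroup.mk'_surjective (Cfsg.pPrimeCore 2 G))
  have hP' : (P' : Subgroup (G ⧸ Cfsg.pPrimeCore 2 G)) =
      (P : Subgroup G).map (QuotientGroup.mk' (Cfsg.pPrimeCore 2 G)) :=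
    Sylow.coe_mapSurjective _ _
  have hinj : Function.Injective
      ((QuotientGroup.mk' (Cfsg.pPrimeCore 2 G)).subgroupMap (P : Subgroup G)) := by
    rw [injective_iff_map_eq_one]
    intro x hx
    have hx1 : (QuotientGroup.mk' (Cfsg.pPrimeCore 2 G)) (x : G) = 1 := by
      have h1 := congrArg Subtype.val hx
      simpa using h1
    have hxK : (x : G) ∈ Cfsg.pPrimeCore 2 G := (QuotientGroup.eq_one_iff _).mp hx1
    obtain ⟨i, hi⟩ := P.isPGroup' x
    have hd1 : orderOf (x : G) ∣ 2 ^ i := by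
      apply orderOf_dvd_of_pow_eq_one
      have h1 := congrArg Subtype.val hi
      simpa using h1
    have hd2 : orderOf (x : G) ∣ Nat.card ↥(Cfsg.pPrimeCore 2 G) := by
      have h1 := orderOf_dvd_natCard (⟨_, hxK⟩ : ↥(Cfsg.pPrimeCore 2 G))
      rwa [Subgroup.orderOf_mk] at h1
    have h1 : orderOf (x : G) = 1 :=
      Nat.eq_one_of_dvd_coprimes (Nat.Coprime.pow_left i hcop.symm) hd1 hd2
    exact Subtype.ext (orderOf_eq_one_iff.mp h1)
  let e1 : ↥(P : Subgroup G) ≃*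
      ↥((P : Subgroup G).map (QuotientGroup.mk' (Cfsg.pPrimeCore 2 G))) :=
    MulEquiv.ofBijective _ ⟨hinj, MonoidHom.subgroupMap_surjective _ _⟩
  let e' : ↥(P' : Subgroup (G ⧸ Cfsg.pPrimeCore 2 G)) ≃* QuaternionGroup (2 ^ k) :=
    ((MulEquiv.subgroupCongr hP').trans e1.symm).trans e
  exact quaternion_false_core hB' hK' P' k hk e'

end quat

end Cfsg.Agent.Lib.Helper18.BGroup
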