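import Mathlib
import Cfsg.Agent.Lib.Helper18.BGroupC

/-!
# `B`-groups: quotients by a normal `2`-subgroup
-/

set_option autoImplicit false

namespace Cfsg.Agent.Lib.Helper18.BGroup

variable {G : Type*} [Group G] [Finite G]

/-- `B`-group with Sylow `2`-subgroup `Q₈`: the quotient by the subgroup generated by the unique
involution is a `B`-group. -/
theorem isB_quot_of_q8 (hB : IsB G) (P : Sylow 2 G)
    (e : ↥(P : Subgroup G) ≃* QuaternionGroup (2 ^ 1))
    (N : Subgroup G) [hNn : N.Normal] (hN2 : IsPGroup 2 ↥N) (hN : N ≠ ⊥) :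
    ∃ (Z : Subgroup G) (_ : Z.Normal), Z ≠ ⊥ ∧ Z ≤ N ∧ IsB (G ⧸ Z) := by
  haveI : Fact (Nat.Prime 2) := ⟨Nat.prime_two⟩
  haveI : NeZero (2 ^ 1) := ⟨by norm_num⟩
  have hNP : N ≤ (P : Subgroup G) := hN2.le_sylow_of_normal P
  have h2N : 2 ∣ Nat.card ↥N := by
    obtain ⟨a, ha⟩ := IsPGroup.iff_card.mp hN2
    rcases Nat.eq_zero_or_pos a with h0 | h0
    · exfalso
      rw [h0, pow_zero] at ha
      exact hN (Subgroup.eq_bot_of_card_eq N ha)
    · rw [ha]; exact dvd_pow_self 2 h0.ne'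
  obtain ⟨t, ht⟩ := exists_prime_orderOf_dvd_card' (G := ↥N) 2 h2N
  obtain ⟨z, hz⟩ : ∃ z : G, z = (t : G) := ⟨_, rfl⟩
  have hzN : z ∈ N := hz ▸ t.2
  have hzord : orderOf z = 2 := by rw [hz, Subgroup.orderOf_coe, ht]
  have hz2 : z ^ 2 = 1 := by rw [← hzord]; exact pow_orderOf_eq_one z
  have hz1 : z ≠ 1 := by
    intro h
    rw [h, orderOf_one] at hzord
    norm_num at hzord
  have hzP : z ∈ (P : Subgroup G) := hNP hzN
  have huniq : ∀ g ∈ (P : Subgroup G), g ^ 2 = 1 → g ≠ 1 → g = z := fun g hg h2 h1 =>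
    unique_sq (P : Subgroup G) e g z hg hzP h2 hz2 h1 hz1
  have hzc : ∀ g : G, g * z * g⁻¹ = z := by
    intro g
    have h1 : g * z * g⁻¹ ∈ N := hNn.conj_mem z hzN g
    apply huniq _ (hNP h1)
    · rw [conj_pow, hz2]; group
    · intro h
      apply hz1
      have h2 : z = g⁻¹ * (g * z * g⁻¹) * g := by group
      rw [h2, h]; group
  have hZn : (Subgroup.zpowers z).Normal := by
    refine ⟨fun n hn g => ?_⟩
    obtain ⟨i, rfl⟩ := Subgroup.mem_zpowers_iff.mp hn
    rw [← conj_zpow, hzc g]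
    exact Subgroup.zpow_mem_zpowers z i
  have hZcard : Nat.card ↥(Subgroup.zpowers z) = 2 := by rw [Nat.card_zpowers, hzord]
  have hZN : Subgroup.zpowers z ≤ N := Subgroup.zpowers_le.mpr hzN
  have hZne : Subgroup.zpowers z ≠ ⊥ := by
    intro h
    apply hz1
    have h1 : z ∈ (⊥ : Subgroup G) := h ▸ Subgroup.mem_zpowers z
    exact Subgroup.mem_bot.mp h1
  refine ⟨Subgroup.zpowers z, hZn, hZne, hZN, ?_⟩
  haveI := hZn
  have hinv : ∀ g : G, orderOf g = 2 → g = z := by
    intro g hg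
    have hgZ : g ∈ Subgroup.zpowers z := Cfsg.Agent.S3909.mem_of_orderOf_eq hB _ g
      ⟨z, Subgroup.mem_zpowers z, by rw [hzord, hg]⟩
    obtain ⟨i, rfl⟩ := Subgroup.mem_zpowers_iff.mp hgZ
    have hi : z ^ i = z ^ (i % 2) := by
      have h1 := (zpow_mod_orderOf z i).symm
      rw [hzord] at h1
      exact_mod_cast h1
    rcases Int.emod_two_eq_zero_or_one i with h | h
    · exfalso
      rw [hi, h, zpow_zero, orderOf_one] at hg
      norm_num at hg
    · rw [hi, h, zpow_one]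
  have hp2 : ∀ (p : ℕ) [Fact p.Prime], p ∣ Nat.card ↥(Subgroup.zpowers z) → p = 2 := by
    intro p _ hpZ
    rw [hZcard] at hpZ
    exact (Nat.prime_dvd_prime_iff_eq Fact.out Nat.prime_two).mp hpZ
  have hE : HypE (Subgroup.zpowers z) := by
    intro p _ hpZ b hbk hbZ
    have h2 := hp2 p hpZ
    subst h2
    obtain ⟨k', hk'⟩ := hbk
    have hk0 : k' ≠ 0 := by
      rintro rfl
      rw [pow_zero, orderOf_eq_one_iff] at hk'
      exact hbZ (hk' ▸ Subgroup.one_mem _)
    have hord2 : orderOf (b ^ 2 ^ (k' - 1)) = 2 := by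
      rw [orderOf_pow_of_dvd (pow_ne_zero _ two_ne_zero)
        (by rw [hk']; exact pow_dvd_pow 2 (Nat.sub_le _ _)), hk',
        Nat.pow_div (Nat.sub_le _ _) two_pos,
        Nat.sub_sub_self (Nat.one_le_iff_ne_zero.mpr hk0), pow_one]
    refine ⟨k' - 1, ?_, ?_⟩
    · rw [hinv _ hord2]; exact Subgroup.mem_zpowers z
    · rw [hord2, hZcard, Nat.Prime.factorization_self Nat.prime_two, pow_one]
  have hC : ∀ Abar : Subgroup (G ⧸ Subgroup.zpowers z), ¬ 4 ∣ Nat.card ↥Abar →
      HypC (Subgroup.zpowers z) Abar := by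
    intro Abar h4 p _ hpZ R hR hRA
    have h2 := hp2 p hpZ
    subst h2
    left
    have h1 := Cfsg.Agent.S3911.card_eq_mul R (Subgroup.zpowers z)
    have h2 : Nat.card ↥((Subgroup.zpowers z).subgroupOf R) ∣ 2 :=
      hZcard ▸ Cfsg.Agent.S3911.card_subgroupOf_dvd (Subgroup.zpowers z) R
    have h3 : Nat.card ↥(R.map (QuotientGroup.mk' (Subgroup.zpowers z))) ∣ 2 := by
      have hpg : IsPGroup 2 ↥(R.map (QuotientGroup.mk' (Subgroup.zpowers z))) := hR.map _
      obtain ⟨a, ha⟩ := IsPGroup.iff_card.mp hpg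
      have hdvd : Nat.card ↥(R.map (QuotientGroup.mk' (Subgroup.zpowers z))) ∣
          Nat.card ↥Abar := Subgroup.card_dvd_of_le hRA
      rw [ha] at hdvd ⊢
      have ha1 : a ≤ 1 := by
        by_contra hcon
        push Not at hcon
        apply h4
        have h22 : (4 : ℕ) = 2 ^ 2 := by norm_num
        rw [h22]
        exact dvd_trans (pow_dvd_pow 2 hcon) hdvd
      calc 2 ^ a ∣ 2 ^ 1 := pow_dvd_pow 2 ha1
        _ = 2 := pow_one 2
    have h4' : Nat.card ↥R ∣ 4 := by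
      rw [h1]
      have h22 : (4 : ℕ) = 2 * 2 := by norm_num
      rw [h22]
      exact Nat.mul_dvd_mul h2 h3
    have hcomm := comm_of_card_dvd_four h4'
    intro x hx y hy
    exact congrArg Subtype.val (hcomm ⟨x, hx⟩ ⟨y, hy⟩)
  -- the `2`-part of `|G ⧸ Z|`
  have hfac : (Nat.card (G ⧸ Subgroup.zpowers z)).factorization 2 = 2 := by
    have h1 : Nat.card G = Nat.card (G ⧸ Subgroup.zpowers z) * Nat.card ↥(Subgroup.zpowers z) :=
      Subgroup.card_eq_card_quotient_mul_card_subgroup _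
    have hP8 : Nat.card ↥(P : Subgroup G) = 2 ^ 3 := by
      rw [Nat.card_congr e.toEquiv, Nat.card_eq_fintype_card, QuaternionGroup.card]
      norm_num
    have h3 : (Nat.card G).factorization 2 = 3 := by
      have h4 := P.card_eq_multiplicity
      rw [hP8] at h4
      exact (Nat.pow_right_injective (le_refl 2) h4).symm
    have hq0 : Nat.card (G ⧸ Subgroup.zpowers z) ≠ 0 := Nat.card_pos.ne'
    rw [h1, hZcard, Nat.factorization_mul hq0 two_ne_zero] at h3
    simp only [Finsupp.add_apply, Nat.Prime.factorization_self Nat.prime_two] at h3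
    omega
  apply isB_of_sylow_four hfac
  intro A B hA hB' hcard h4
  exact conj_of_hyps hB _ hE A B hA hB' hcard (hC A h4) (hC B (hcard ▸ h4))

/-- The dichotomy for a normal `2`-subgroup when a Sylow `2`-subgroup is abelian of the
appropriate kind. -/
theorem dich_of_two (N : Subgroup G) (hN2 : IsPGroup 2 ↥N) (P : Sylow 2 G)
    (hP : IsCyclic ↥(P : Subgroup G) ∨ ∀ x ∈ (P : Subgroup G), x ^ 2 = 1) : Dich N := by
  intro p _ hpN
  obtain ⟨a, ha⟩ := IsPGroup.iff_card.mp hN2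
  have hp2 : p = 2 := by
    rw [ha] at hpN
    exact (Nat.prime_dvd_prime_iff_eq Fact.out Nat.prime_two).mp
      ((Fact.out : p.Prime).dvd_of_dvd_pow hpN)
  subst hp2
  exact ⟨P, hP⟩

/-- Quotient step for a nontrivial normal `2`-subgroup of a solvable `B`-group. -/
theorem exists_good_normal_two [Group.IsSolvable G] (hB : IsB G)
    (N : Subgroup G) [hNn : N.Normal] (hN2 : IsPGroup 2 ↥N) (hN : N ≠ ⊥) :
    ∃ (Z : Subgroup G) (_ : Z.Normal), Z ≠ ⊥ ∧ Z ≤ N ∧ IsB (G ⧸ Z) := by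
  haveI : Fact (Nat.Prime 2) := ⟨Nat.prime_two⟩
  let P : Sylow 2 G := default
  rcases (Cfsg.Agent.S3908.result hB).1 P with hcyc | hel | ⟨k, ⟨e⟩⟩
  · exact ⟨N, hNn, hN, le_rfl, isB_quot_of_dich hB N (dich_of_two N hN2 P (Or.inl hcyc))⟩
  · exact ⟨N, hNn, hN, le_rfl, isB_quot_of_dich hB N (dich_of_two N hN2 P (Or.inr hel.2))⟩
  · rcases Nat.lt_or_ge k 2 with hk | hk
    · interval_cases k
      · -- cyclic of order 4
        have hcyc : IsCyclic ↥(P : Subgroup G) := by
          have e' : ↥(P : Subgroup G) ≃* QuaternionGroup 1 := by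
            simpa using e
          haveI := QuaternionGroup.quaternionGroup_one_isCyclic
          exact isCyclic_of_surjective e'.symm e'.symm.surjective
        exact ⟨N, hNn, hN, le_rfl, isB_quot_of_dich hB N (dich_of_two N hN2 P (Or.inl hcyc))⟩
      · exact isB_quot_of_q8 hB P e N hN2 hN
    · exact (quaternion_false hB P k hk e).elim

end Cfsg.Agent.Lib.Helper18.BGroup
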