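import Mathlib
import Cfsg.Prelude.Def_GeometricClasses
import Cfsg.Agent.Lib.Helper13.TensorNM
import Cfsg.Agent.Lib.Helper13.DecompCoords
import Cfsg.Agent.Lib.Helper13.TensorHerm
import Cfsg.Agent.Lib.Helper15.BlkA

/-!
# BlkMax FO-TR : transport of the maximality of the block stabiliser to an arbitrary decomposition
(S5634, part `m ≥ 2`; skeleton notes/S5634BlkSkel_helper15.lean.txt)
-/

set_option autoImplicit false

namespace Cfsg.Agent.Lib.Helper18.BlkTR

open Matrix Cfsg Cfsg.Geo Cfsg.Agent.Lib.Helper13.TNM Cfsg.Agent.Lib.Helper15.BlkMax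

theorem mem_SL_iff' {κ : Type} [Fintype κ] [DecidableEq κ] {F : Type*} [Field F] (g : GL κ F) :
    g ∈ specialLinear κ F ↔ (g : Matrix κ κ F).det = 1 := by
  change g ∈ (Matrix.GeneralLinearGroup.det : GL κ F →* Fˣ).ker ↔ _
  rw [MonoidHom.mem_ker, Units.ext_iff, Matrix.GeneralLinearGroup.val_det_apply, Units.val_one]

/-- FO-TR -/
theorem blk_case_of_coord {F : Type*} [Field F] (n : ℕ) {t : ℕ} (m : ℕ)
    (D : Fin t → Submodule F (Fin n → F)) (hD : IsMDecomposition m D)
    (h : IsMaximalIn (specialLinear (Fin t × Fin m) F) (SS t m F)) :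
    IsMaximalIn (specialLinear (Fin n) F) (decompositionStabilizer D ⊓ specialLinear (Fin n) F) := by
  obtain ⟨e, P, hDe⟩ := exists_coords_of_decomposition D hD
  have hA : ∀ M : GL (Fin t × Fin m) F, psi e P M ∈ decompositionStabilizer D ↔
      M ∈ decompositionStabilizer (blk (F := F) (Prod.fst : Fin t × Fin m → Fin t)) :=
    fun M => psi_mem_decStab_iff e P D Prod.fst hDe M
  have hB : ∀ M : GL (Fin t × Fin m) F, psi e P M ∈ specialLinear (Fin n) F ↔
      M ∈ specialLinear (Fin t × Fin m) F := by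
    intro M
    rw [psi_mem_specialLinear_iff, mem_SL_iff']
  have hsurj := psi_surjective (F := F) e P
  obtain ⟨hlt, hmax⟩ := h
  refine ⟨lt_of_le_of_ne inf_le_right ?_, ?_⟩
  · intro heq
    obtain ⟨g, hg1, hg2⟩ := SetLike.exists_of_lt hlt
    apply hg2
    have : psi e P g ∈ decompositionStabilizer D ⊓ specialLinear (Fin n) F := by
      rw [heq]; exact (hB g).mpr hg1
    exact ⟨(hA g).mp this.1, hg1⟩
  · intro M' hHM hMS
    have h1 : SS t m F ≤ M'.comap (psi e P) := by
      intro g hg
      exact hHM ⟨(hA g).mpr hg.1, (hB g).mpr hg.2⟩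
    have h2 : M'.comap (psi e P) ≤ specialLinear (Fin t × Fin m) F := by
      intro g hg
      exact (hB g).mp (hMS hg)
    rcases hmax _ h1 h2 with h3 | h3
    · left
      apply le_antisymm _ hHM
      intro x hx
      obtain ⟨k, rfl⟩ := hsurj x
      have hk : k ∈ SS t m F := by rw [← h3]; exact hx
      exact ⟨(hA k).mpr hk.1, hMS hx⟩
    · right
      apply le_antisymm hMS
      intro x hx
      obtain ⟨k, rfl⟩ := hsurj x
      have hk : k ∈ M'.comap (psi e P) := by rw [h3]; exact (hB k).mp hx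
      exact hk

end Cfsg.Agent.Lib.Helper18.BlkTR
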