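import Mathlib.Tactic.Group
import Mathlib.GroupTheory.Commutator.Basic
import Cfsg.Agent.Lib.Helper18.CentrallyLarge

set_option autoImplicit false

namespace Cfsg.Agent.Lib.Helper18

open Subgroup
open scoped Pointwise commutatorElement

variable {G : Type*} [Group G]

/-- Multiplying both entries of a commutator by elements commuting with everything in sight does
not change it. -/
theorem commutatorElement_mul_of_commute (z1 d1 z2 d2 : G) (h11 : Commute z1 d1)
    (h12 : Commute z1 d2) (h1z : Commute z1 z2) (h21 : Commute z2 d1) (h22 : Commute z2 d2) :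
    ⁅z1 * d1, z2 * d2⁆ = ⁅d1, d2⁆ := by
  rw [commutatorElement_def, commutatorElement_def]
  have hA : Commute z1 (d1 * (z2 * d2) * d1⁻¹) :=
    (h11.mul_right (h1z.mul_right h12)).mul_right h11.inv_right
  have hB : Commute z2 (d1 * d2 * d1⁻¹ * d2⁻¹) :=
    ((h21.mul_right h22).mul_right h21.inv_right).mul_right h22.inv_right
  calc z1 * d1 * (z2 * d2) * (z1 * d1)⁻¹ * (z2 * d2)⁻¹
      = z1 * (d1 * (z2 * d2) * d1⁻¹) * z1⁻¹ * (z2 * d2)⁻¹ := by group
    _ = (d1 * (z2 * d2) * d1⁻¹) * z1 * z1⁻¹ * (z2 * d2)⁻¹ := by rw [hA.eq]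
    _ = d1 * z2 * d2 * d1⁻¹ * d2⁻¹ * z2⁻¹ := by group
    _ = z2 * d1 * d2 * d1⁻¹ * d2⁻¹ * z2⁻¹ := by rw [h21.eq]
    _ = z2 * (d1 * d2 * d1⁻¹ * d2⁻¹) * z2⁻¹ := by group
    _ = (d1 * d2 * d1⁻¹ * d2⁻¹) * z2 * z2⁻¹ := by rw [hB.eq]
    _ = d1 * d2 * d1⁻¹ * d2⁻¹ := by group

/-- If `Q = D Z(Q)` then `Q` and `D` have the same derived subgroup. -/
theorem commutator_eq_of_sup_center (Q D : Subgroup G) (hD : D ≤ Q)
    (h : D ⊔ (Q ⊓ Subgroup.centralizer (Q : Set G)) = Q) : ⁅Q, Q⁆ = ⁅D, D⁆ := by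
  apply le_antisymm
  · rw [Subgroup.commutator_le]
    intro x hx y hy
    set Z := Q ⊓ Subgroup.centralizer (Q : Set G) with hZ
    have hZC : Z ≤ Subgroup.centralizer (D : Set G) :=
      inf_le_right.trans (Subgroup.centralizer_le (by exact_mod_cast hD))
    have hset : ((Z ⊔ D : Subgroup G) : Set G) = (Z : Set G) * (D : Set G) :=
      Subgroup.coe_mul_of_left_le_normalizer_right Z D
        (hZC.trans (Subgroup.centralizer_le_normalizer _))
    have hx' : x ∈ ((Z ⊔ D : Subgroup G) : Set G) := by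
      rw [sup_comm, h]; exact hx
    have hy' : y ∈ ((Z ⊔ D : Subgroup G) : Set G) := by
      rw [sup_comm, h]; exact hy
    rw [hset] at hx' hy'
    obtain ⟨z1, hz1, d1, hd1, rfl⟩ := hx'
    obtain ⟨z2, hz2, d2, hd2, rfl⟩ := hy'
    have c : ∀ z ∈ Z, ∀ q ∈ Q, Commute z q := fun z hz q hq => (hz.2 q hq).symm
    rw [commutatorElement_mul_of_commute z1 d1 z2 d2 (c z1 hz1 d1 (hD hd1)) (c z1 hz1 d2 (hD hd2))
      (c z1 hz1 z2 hz2.1) (c z2 hz2 d1 (hD hd1)) (c z2 hz2 d2 (hD hd2))]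
    exact Subgroup.commutator_mem_commutator hd1 hd2
  · exact Subgroup.commutator_mono hD hD

theorem clm_of_isMulCommutative (B : Subgroup G) (hB : IsMulCommutative B) :
    clm B = Nat.card B * Nat.card B := by
  rw [clm_eq, inf_eq_left.mpr (le_centralizer_of_isMulCommutative B hB)]

/-- Glauberman: if `Q` is a minimal centrally large subgroup and `R` is centrally large then
`Q = (Q ∩ R) Z(Q)`. -/
theorem sup_centralizer_eq_of_minimal [Finite G] (Q R : Subgroup G) (hQ : clm Q = clmax G)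
    (hR : clm R = clmax G)
    (hmin : ∀ R' : Subgroup G, R' ≤ Q → clm R' = clmax G → R' = Q) :
    (Q ⊓ R) ⊔ Subgroup.centralizer (Q : Set G) = Q := by
  obtain ⟨hQ1, hQ2⟩ := cdm_eq_of_clm_eq Q hQ
  obtain ⟨hR1, hR2⟩ := cdm_eq_of_clm_eq R hR
  obtain ⟨-, hD1, htight⟩ := cdm_sup_inf_of_max Q R hQ1 hR1
  obtain ⟨-, hCD, hCDset⟩ := cdm_mul_eq_imp Q R htight
  obtain ⟨hCQ1, hQCC⟩ := cdm_centralizer_of_max Q hQ1
  obtain ⟨hQ₁, -, -⟩ := cdm_sup_inf_of_max (Q ⊓ R) (Subgroup.centralizer (Q : Set G)) hD1 hCQ1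
  apply hmin _ (sup_le inf_le_left hQ2)
  apply clm_eq_of_cdm_eq _ hQ₁
  rw [centralizer_sup_eq, hCD, ← hQCC]
  rintro x ⟨hx1, hx2⟩
  have hx1' : x ∈ ((Subgroup.centralizer (Q : Set G) ⊔ Subgroup.centralizer (R : Set G) :
      Subgroup G) : Set G) := hx1
  rw [hCDset] at hx1'
  obtain ⟨z, hz, r, hr, rfl⟩ := hx1'
  have hrQ : r ∈ Q := by
    have : r = z⁻¹ * (z * r) := by group
    rw [this]
    exact Q.mul_mem (Q.inv_mem (hQ2 hz)) hx2
  exact Subgroup.mul_mem _ (Subgroup.mem_sup_right hz) (Subgroup.mem_sup_left ⟨hrQ, hR2 hr⟩)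

/-- Glauberman: two centrally large subgroups `Q`, `R` with `Q = (Q ∩ R) Z(Q)` and
`R = (Q ∩ R) Z(R)` have the same order and centres of the same order. -/
theorem card_eq_of_sup_centralizer_eq [Finite G] (Q R : Subgroup G) (hQ : clm Q = clmax G)
    (hR : clm R = clmax G) (hQR : (Q ⊓ R) ⊔ Subgroup.centralizer (Q : Set G) = Q)
    (hRQ : (Q ⊓ R) ⊔ Subgroup.centralizer (R : Set G) = R) :
    Nat.card Q = Nat.card R ∧
      Nat.card ↥(Subgroup.centralizer (Q : Set G)) =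
        Nat.card ↥(Subgroup.centralizer (R : Set G)) := by
  obtain ⟨hQ1, hQ2⟩ := cdm_eq_of_clm_eq Q hQ
  obtain ⟨hR1, hR2⟩ := cdm_eq_of_clm_eq R hR
  obtain ⟨-, hD1, htight⟩ := cdm_sup_inf_of_max Q R hQ1 hR1
  obtain ⟨-, hCD, -⟩ := cdm_mul_eq_imp Q R htight
  obtain ⟨hCQ1, -⟩ := cdm_centralizer_of_max Q hQ1
  obtain ⟨hCR1, -⟩ := cdm_centralizer_of_max R hR1
  obtain ⟨-, -, t1⟩ := cdm_sup_inf_of_max (Subgroup.centralizer (Q : Set G))
    (Subgroup.centralizer (R : Set G)) hCQ1 hCR1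
  obtain ⟨-, -, t2⟩ := cdm_sup_inf_of_max (Q ⊓ R) (Subgroup.centralizer (Q : Set G)) hD1 hCQ1
  obtain ⟨-, -, t3⟩ := cdm_sup_inf_of_max (Q ⊓ R) (Subgroup.centralizer (R : Set G)) hD1 hCR1
  have F4 := card_mul_card_eq_of_tight _ _ t1
  have F5 := card_mul_card_eq_of_tight _ _ t2
  have F6 := card_mul_card_eq_of_tight _ _ t3
  rw [← hCD] at F4
  rw [hQR] at F5
  rw [hRQ] at F6
  have F7 : Nat.card ↥(Subgroup.centralizer (Q : Set G) ⊓ Subgroup.centralizer (R : Set G)) ≤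
      Nat.card ↥(Q ⊓ R ⊓ Subgroup.centralizer (Q : Set G)) :=
    Subgroup.card_le_of_le (fun x hx => ⟨⟨hQ2 hx.1, hR2 hx.2⟩, hx.1⟩)
  have F8 : Nat.card ↥(Subgroup.centralizer (Q : Set G) ⊓ Subgroup.centralizer (R : Set G)) ≤
      Nat.card ↥(Q ⊓ R ⊓ Subgroup.centralizer (R : Set G)) :=
    Subgroup.card_le_of_le (fun x hx => ⟨⟨hQ2 hx.1, hR2 hx.2⟩, hx.2⟩)
  have F1 : Nat.card Q * Nat.card ↥(Subgroup.centralizer (Q : Set G)) = cdmax G := hQ1
  have F2 : Nat.card R * Nat.card ↥(Subgroup.centralizer (R : Set G)) = cdmax G := hR1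
  have F3 : Nat.card ↥(Q ⊓ R) * Nat.card ↥(Subgroup.centralizer ((Q ⊓ R : Subgroup G) : Set G)) =
      cdmax G := hD1
  have hf : 0 < cdmax G := cdmax_pos
  have hcpos : 0 < Nat.card ↥(Subgroup.centralizer (Q : Set G) ⊓
      Subgroup.centralizer (R : Set G)) := Nat.card_pos
  have hdpos : 0 < Nat.card ↥(Q ⊓ R) := Nat.card_pos
  have hzqpos : 0 < Nat.card ↥(Subgroup.centralizer (Q : Set G)) := Nat.card_pos
  generalize Nat.card Q = q at *
  generalize Nat.card R = r at *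
  generalize Nat.card ↥(Subgroup.centralizer (Q : Set G)) = zq at *
  generalize Nat.card ↥(Subgroup.centralizer (R : Set G)) = zr at *
  generalize Nat.card ↥(Q ⊓ R) = d at *
  generalize Nat.card ↥(Subgroup.centralizer ((Q ⊓ R : Subgroup G) : Set G)) = cd at *
  generalize Nat.card ↥(Q ⊓ R ⊓ Subgroup.centralizer (Q : Set G)) = a at *
  generalize Nat.card ↥(Q ⊓ R ⊓ Subgroup.centralizer (R : Set G)) = b at *
  generalize Nat.card ↥(Subgroup.centralizer (Q : Set G) ⊓ Subgroup.centralizer (R : Set G)) = c at *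
  generalize cdmax G = f at *
  -- now pure arithmetic
  have G1 : d * zq * zq = f * a := by
    calc d * zq * zq = q * a * zq := by rw [F5]
      _ = q * zq * a := by ring
      _ = f * a := by rw [F1]
  have G2 : d * zr * zr = f * b := by
    calc d * zr * zr = r * b * zr := by rw [F6]
      _ = r * zr * b := by ring
      _ = f * b := by rw [F2]
  have G3 : d * (zq * zr) = f * c := by
    calc d * (zq * zr) = d * (cd * c) := by rw [F4]
      _ = d * cd * c := by ring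
      _ = f * c := by rw [F3]
  have G4 : c * c = a * b := by
    have : (f * f) * (c * c) = (f * f) * (a * b) := by
      calc (f * f) * (c * c) = (f * c) * (f * c) := by ring
        _ = (d * (zq * zr)) * (d * (zq * zr)) := by rw [G3]
        _ = (d * zq * zq) * (d * zr * zr) := by ring
        _ = (f * a) * (f * b) := by rw [G1, G2]
        _ = (f * f) * (a * b) := by ring
    exact Nat.eq_of_mul_eq_mul_left (Nat.mul_pos hf hf) this
  have hac : a = c := by
    apply le_antisymm _ F7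
    by_contra hlt
    push Not at hlt
    have h1 : c * c < a * c := Nat.mul_lt_mul_of_pos_right hlt hcpos
    have h2 : a * c ≤ a * b := Nat.mul_le_mul_left _ F8
    omega
  have hbc : b = c := by
    apply le_antisymm _ F8
    by_contra hlt
    push Not at hlt
    have h1 : c * c < c * b := Nat.mul_lt_mul_of_pos_left hlt hcpos
    have h2 : c * b ≤ a * b := Nat.mul_le_mul_right _ F7
    omega
  have hz : zq = zr := by
    have h1 : d * (zq * zq) = d * (zr * zr) := by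
      calc d * (zq * zq) = d * zq * zq := by ring
        _ = f * a := G1
        _ = f * b := by rw [hac, hbc]
        _ = d * zr * zr := G2.symm
        _ = d * (zr * zr) := by ring
    exact Nat.mul_self_inj.mp (Nat.eq_of_mul_eq_mul_left hdpos h1)
  refine ⟨?_, hz⟩
  have h2 : q * zq = r * zq := by rw [F1, hz, F2]
  exact Nat.eq_of_mul_eq_mul_right hzqpos h2

/-- Glauberman: any two minimal centrally large subgroups `Q`, `R` satisfy `Q = (Q ∩ R) Z(Q)`,
`[Q, Q] = [R, R]`, `|Q| = |R|` and `|Z(Q)| = |Z(R)|`. -/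
theorem minimalCL_uniform [Finite G] (Q R : Subgroup G) (hQ : clm Q = clmax G)
    (hQmin : ∀ R' : Subgroup G, R' ≤ Q → clm R' = clmax G → R' = Q)
    (hR : clm R = clmax G)
    (hRmin : ∀ R' : Subgroup G, R' ≤ R → clm R' = clmax G → R' = R) :
    (Q ⊓ R) ⊔ (Q ⊓ Subgroup.centralizer (Q : Set G)) = Q ∧ ⁅Q, Q⁆ = ⁅R, R⁆ ∧
      Nat.card Q = Nat.card R ∧
      Nat.card ↥(Q ⊓ Subgroup.centralizer (Q : Set G)) =
        Nat.card ↥(R ⊓ Subgroup.centralizer (R : Set G)) := by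
  obtain ⟨-, hQ2⟩ := cdm_eq_of_clm_eq Q hQ
  obtain ⟨-, hR2⟩ := cdm_eq_of_clm_eq R hR
  have e1 := sup_centralizer_eq_of_minimal Q R hQ hR hQmin
  have e2 := sup_centralizer_eq_of_minimal R Q hR hQ hRmin
  rw [inf_comm] at e2
  have hZQ : Q ⊓ Subgroup.centralizer (Q : Set G) = Subgroup.centralizer (Q : Set G) :=
    inf_eq_right.mpr hQ2
  have hZR : R ⊓ Subgroup.centralizer (R : Set G) = Subgroup.centralizer (R : Set G) :=
    inf_eq_right.mpr hR2
  obtain ⟨c1, c2⟩ := card_eq_of_sup_centralizer_eq Q R hQ hR e1 e2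
  refine ⟨by rw [hZQ]; exact e1, ?_, c1, by rw [hZQ, hZR]; exact c2⟩
  rw [commutator_eq_of_sup_center Q (Q ⊓ R) inf_le_left (by rw [hZQ]; exact e1),
    commutator_eq_of_sup_center R (Q ⊓ R) inf_le_right (by rw [hZR]; exact e2)]

end Cfsg.Agent.Lib.Helper18
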