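import Mathlib
import Cfsg.Agent.Lib.Helper13.Conj
import Cfsg.Agent.Lib.Helper18.MinimalCL

set_option autoImplicit false

/-!
Maximal abelian members of the Chermak–Delgado lattice (the centres of the minimal centrally
large subgroups).
-/

namespace Cfsg.Agent.Lib.Helper18.CLZ

open Subgroup Cfsg.Agent.Lib.Helper18 Cfsg.Agent.Lib.Helper13
open scoped Pointwise

variable {G : Type*} [Group G]

/-- Exact product formula when the join is the product set. -/
theorem card_mul_card_eq_of_coe_sup [Finite G] (H K : Subgroup G)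
    (h : ((H ⊔ K : Subgroup G) : Set G) = (H : Set G) * (K : Set G)) :
    Nat.card H * Nat.card K = Nat.card ↥(H ⊔ K) * Nat.card ↥(H ⊓ K) := by
  apply le_antisymm (card_mul_card_le_card_sup_mul_card_inf H K)
  set e := Subgroup.quotientSubgroupOfEmbeddingOfLE K (le_sup_left : H ≤ H ⊔ K) with he
  have hsurj : Function.Surjective e := by
    intro q
    obtain ⟨⟨x, hx⟩, rfl⟩ := QuotientGroup.mk_surjective q
    have hx' : x ∈ ((H ⊔ K : Subgroup G) : Set G) := hx
    rw [h] at hx'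
    obtain ⟨a, ha, b, hb, hab⟩ := hx'
    refine ⟨QuotientGroup.mk ⟨a, ha⟩, ?_⟩
    rw [he, Subgroup.quotientSubgroupOfEmbeddingOfLE_apply_mk, QuotientGroup.eq,
      Subgroup.mem_subgroupOf]
    have : a⁻¹ * x = b := by rw [← hab]; group
    simpa [this] using hb
  have hcard : Nat.card (↥(H ⊔ K) ⧸ K.subgroupOf (H ⊔ K)) ≤ Nat.card (↥H ⧸ K.subgroupOf H) :=
    Nat.card_le_card_of_surjective e hsurj
  have h1 : Nat.card (↥H ⧸ K.subgroupOf H) = K.relIndex H := rfl
  have h2 : Nat.card (↥(H ⊔ K) ⧸ K.subgroupOf (H ⊔ K)) = K.relIndex (H ⊔ K) := rfl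
  rw [h1, h2] at hcard
  rw [card_eq_card_inf_mul_relIndex H K, card_sup_eq_card_mul_relIndex H K]
  calc Nat.card K * K.relIndex (H ⊔ K) * Nat.card ↥(H ⊓ K)
      ≤ Nat.card K * K.relIndex H * Nat.card ↥(H ⊓ K) := by gcongr
    _ = Nat.card ↥(H ⊓ K) * K.relIndex H * Nat.card K := by ring

/-- `Z` is a maximal abelian member of the Chermak–Delgado lattice. -/
def IsZ (Z : Subgroup G) : Prop :=
  Z ≤ Subgroup.centralizer (Z : Set G) ∧ cdm Z = cdmax G ∧
    ∀ W : Subgroup G, W ≤ Subgroup.centralizer (W : Set G) → cdm W = cdmax G → Z ≤ W → W = Z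

/-- The centre of a minimal centrally large subgroup. -/
theorem isZ_centralizer_of_mcl [Finite G] (Q : Subgroup G) (hQ : clm Q = clmax G)
    (hmin : ∀ R' : Subgroup G, R' ≤ Q → clm R' = clmax G → R' = Q) :
    IsZ (Subgroup.centralizer (Q : Set G)) := by
  obtain ⟨hQ1, hQ2⟩ := cdm_eq_of_clm_eq Q hQ
  obtain ⟨hC1, hQCC⟩ := cdm_centralizer_of_max Q hQ1
  refine ⟨hQ2.trans (le_of_eq hQCC), hC1, ?_⟩
  intro W hWab hWcdm hle
  obtain ⟨hW1, hWCC⟩ := cdm_centralizer_of_max W hWcdm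
  have hCL : clm (Subgroup.centralizer (W : Set G)) = clmax G := by
    apply clm_eq_of_cdm_eq _ hW1
    rw [← hWCC]
    exact hWab
  have hCWQ : Subgroup.centralizer (W : Set G) ≤ Q := by
    rw [hQCC]
    exact Subgroup.centralizer_le (by exact_mod_cast hle)
  have := hmin _ hCWQ hCL
  rw [hWCC, this]

/-- The centralizer of a maximal abelian member is a minimal centrally large subgroup. -/
theorem mcl_of_isZ [Finite G] {Z : Subgroup G} (hZ : IsZ Z) :
    clm (Subgroup.centralizer (Z : Set G)) = clmax G ∧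
    (∀ R' : Subgroup G, R' ≤ Subgroup.centralizer (Z : Set G) → clm R' = clmax G →
      R' = Subgroup.centralizer (Z : Set G)) ∧
    Subgroup.centralizer ((Subgroup.centralizer (Z : Set G) : Subgroup G) : Set G) = Z := by
  obtain ⟨h1, hZCC⟩ := cdm_centralizer_of_max Z hZ.2.1
  refine ⟨?_, ?_, hZCC.symm⟩
  · apply clm_eq_of_cdm_eq _ h1
    rw [← hZCC]
    exact hZ.1
  · intro R' hR'le hR'
    obtain ⟨hR1, hR2⟩ := cdm_eq_of_clm_eq R' hR'
    obtain ⟨hCR1, hRCC⟩ := cdm_centralizer_of_max R' hR1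
    have hab : Subgroup.centralizer (R' : Set G) ≤
        Subgroup.centralizer ((Subgroup.centralizer (R' : Set G) : Subgroup G) : Set G) := by
      rw [← hRCC]; exact hR2
    have hle : Z ≤ Subgroup.centralizer (R' : Set G) := by
      rw [hZCC]
      exact Subgroup.centralizer_le (by exact_mod_cast hR'le)
    have := hZ.2.2 _ hab hCR1 hle
    rw [hRCC, this]

theorem isZ_card_eq [Finite G] {Z₁ Z₂ : Subgroup G} (h₁ : IsZ Z₁) (h₂ : IsZ Z₂) :
    Nat.card Z₁ = Nat.card Z₂ := by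
  obtain ⟨a1, a2, a3⟩ := mcl_of_isZ h₁
  obtain ⟨b1, b2, b3⟩ := mcl_of_isZ h₂
  obtain ⟨-, -, -, h⟩ := minimalCL_uniform _ _ a1 a2 b1 b2
  rw [a3, b3, inf_eq_right.mpr h₁.1, inf_eq_right.mpr h₂.1] at h
  exact h

theorem exists_isZ_ge [Finite G] (W : Subgroup G) (hWab : W ≤ Subgroup.centralizer (W : Set G))
    (hW : cdm W = cdmax G) : ∃ Z : Subgroup G, IsZ Z ∧ W ≤ Z := by
  haveI : Nonempty {X : Subgroup G // X ≤ Subgroup.centralizer (X : Set G) ∧ cdm X = cdmax G ∧
      W ≤ X} := ⟨⟨W, hWab, hW, le_rfl⟩⟩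
  obtain ⟨Z, hZ⟩ := Finite.exists_max
    (fun X : {X : Subgroup G // X ≤ Subgroup.centralizer (X : Set G) ∧ cdm X = cdmax G ∧
      W ≤ X} => Nat.card X.1)
  refine ⟨Z.1, ⟨Z.2.1, Z.2.2.1, ?_⟩, Z.2.2.2⟩
  intro W' hW'ab hW' hle
  have := hZ ⟨W', hW'ab, hW', Z.2.2.2.trans hle⟩
  exact (Subgroup.eq_of_le_of_card_ge hle this).symm

theorem exists_isZ [Finite G] : ∃ Z : Subgroup G, IsZ Z := by
  obtain ⟨M, hM, hmin⟩ := exists_least_cdmax (G := G)
  obtain ⟨hC, -⟩ := cdm_centralizer_of_max M hM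
  obtain ⟨Z, hZ, -⟩ := exists_isZ_ge M (hmin _ hC) hM
  exact ⟨Z, hZ⟩

theorem isZ_of_card_ge [Finite G] {Z W : Subgroup G} (hZ : IsZ Z)
    (hWab : W ≤ Subgroup.centralizer (W : Set G)) (hW : cdm W = cdmax G)
    (h : Nat.card Z ≤ Nat.card W) : IsZ W := by
  obtain ⟨Z', hZ', hle⟩ := exists_isZ_ge W hWab hW
  have h1 : Nat.card Z' = Nat.card Z := isZ_card_eq hZ' hZ
  have : W = Z' := Subgroup.eq_of_le_of_card_ge hle (by omega)
  rw [this]
  exact hZ'

/-- An abelian member meets the centralizer of a maximal abelian member `Z` inside `Z`. -/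
theorem inf_centralizer_le [Finite G] {Z W : Subgroup G} (hZ : IsZ Z)
    (hWab : W ≤ Subgroup.centralizer (W : Set G)) (hW : cdm W = cdmax G) :
    W ⊓ Subgroup.centralizer (Z : Set G) ≤ Z := by
  obtain ⟨hC, -⟩ := cdm_centralizer_of_max Z hZ.2.1
  obtain ⟨-, hV, -⟩ := cdm_sup_inf_of_max W _ hW hC
  set V := W ⊓ Subgroup.centralizer (Z : Set G) with hVdef
  obtain ⟨hU, -, -⟩ := cdm_sup_inf_of_max V Z hV hZ.2.1
  have hVab : V ≤ Subgroup.centralizer (V : Set G) :=
    (inf_le_left.trans hWab).trans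
      (Subgroup.centralizer_le (by exact_mod_cast (inf_le_left : V ≤ W)))
  have hUab := le_centralizer_of_isMulCommutative _
    (isMulCommutative_sup V Z hVab hZ.1 inf_le_right)
  have := hZ.2.2 _ hUab hU le_sup_right
  rw [← this]
  exact le_sup_left

theorem isZ_map_conj [Finite G] {Z : Subgroup G} (hZ : IsZ Z) (g : G) :
    IsZ (Z.map (MulAut.conj g).toMonoidHom) := by
  have hab : ∀ W : Subgroup G, W ≤ Subgroup.centralizer (W : Set G) → ∀ t : G,
      W.map (MulAut.conj t).toMonoidHom ≤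
        Subgroup.centralizer ((W.map (MulAut.conj t).toMonoidHom : Subgroup G) : Set G) := by
    intro W hWab t
    rintro _ ⟨a, ha, rfl⟩ _ ⟨b, hb, rfl⟩
    have : b * a = a * b := hWab ha b hb
    simp only [MulEquiv.coe_toMonoidHom, ← map_mul, this]
  refine ⟨hab Z hZ.1 g, by rw [cdm_map_conj]; exact hZ.2.1, ?_⟩
  intro W hWab hW hle
  have h1 := hab W hWab g⁻¹
  have h2 : cdm (W.map (MulAut.conj g⁻¹).toMonoidHom) = cdmax G := by
    rw [cdm_map_conj]; exact hW
  have h3 : Z ≤ W.map (MulAut.conj g⁻¹).toMonoidHom := by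
    rw [← map_conj_inv_map_conj Z g]
    exact Subgroup.map_mono hle
  have := hZ.2.2 _ h1 h2 h3
  rw [← this, map_conj_map_conj_inv]

end Cfsg.Agent.Lib.Helper18.CLZ
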