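import Mathlib
import Cfsg.Agent.Lib.Helper18.CLZ

set_option autoImplicit false

/-!
A Thompson-type replacement theorem for maximal abelian members of the Chermak–Delgado lattice.
-/

namespace Cfsg.Agent.Lib.Helper18.CLZ

open Subgroup Cfsg.Agent.Lib.Helper18 Cfsg.Agent.Lib.Helper13
open scoped Pointwise

variable {G : Type*} [Group G]

/-- The choice of the conjugating element. -/
theorem exists_conj_normalizing [Finite G] [Group.IsNilpotent G] (Z A : Subgroup G)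
    (hZab : Z ≤ Subgroup.centralizer (Z : Set G))
    (hZA : ((Z ⊔ A : Subgroup G) : Set G) = (Z : Set G) * (A : Set G))
    (hnot : ¬ A ≤ Subgroup.normalizer (Z : Set G)) :
    ∃ x ∈ A, x ∉ Subgroup.normalizer (Z : Set G) ∧
      (∀ z ∈ Z, x * z * x⁻¹ ∈ Subgroup.normalizer (Z : Set G)) ∧
      (∀ z ∈ Z, x⁻¹ * z * x ∈ Subgroup.normalizer (Z : Set G)) := by
  set H := Z ⊔ A with hH
  set M := (Subgroup.normalizer (Z : Set G)).subgroupOf H with hM
  have hlt : M < ⊤ := by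
    rw [lt_top_iff_ne_top, Ne, hM, Subgroup.subgroupOf_eq_top]
    intro hle
    exact hnot (le_sup_right.trans hle)
  have hnc := (Group.normalizerCondition_of_isNilpotent (G := ↥H)) M hlt
  obtain ⟨g, hgN, hgM⟩ := SetLike.exists_of_lt hnc
  have hgH : (g : G) ∈ ((Z ⊔ A : Subgroup G) : Set G) := g.2
  rw [hZA] at hgH
  obtain ⟨z₀, hz₀, a, ha, hza⟩ := hgH
  have hZN : Z ≤ Subgroup.normalizer (Z : Set G) := Subgroup.le_normalizer
  have hg1 : ∀ z ∈ Z, (g : G) * z * (g : G)⁻¹ ∈ Subgroup.normalizer (Z : Set G) := by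
    intro z hz
    have hzH : z ∈ H := Subgroup.mem_sup_left hz
    have h1 : (⟨z, hzH⟩ : ↥H) ∈ M := by
      rw [hM, Subgroup.mem_subgroupOf]; exact hZN hz
    have h2 := (Subgroup.mem_normalizer_iff.mp hgN ⟨z, hzH⟩).mp h1
    rw [hM, Subgroup.mem_subgroupOf] at h2
    simpa using h2
  have hg2 : ∀ z ∈ Z, (g : G)⁻¹ * z * (g : G) ∈ Subgroup.normalizer (Z : Set G) := by
    intro z hz
    have hzH : z ∈ H := Subgroup.mem_sup_left hz
    have h1 : (⟨z, hzH⟩ : ↥H) ∈ M := by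
      rw [hM, Subgroup.mem_subgroupOf]; exact hZN hz
    have h2 := (Subgroup.mem_normalizer_iff''.mp hgN ⟨z, hzH⟩).mp h1
    rw [hM, Subgroup.mem_subgroupOf] at h2
    simpa using h2
  refine ⟨a, ha, ?_, ?_, ?_⟩
  · intro haN
    apply hgM
    rw [hM, Subgroup.mem_subgroupOf, ← hza]
    exact Subgroup.mul_mem _ (hZN hz₀) haN
  · intro z hz
    have : a * z * a⁻¹ = z₀⁻¹ * ((g : G) * z * (g : G)⁻¹) * z₀ := by rw [← hza]; group
    rw [this]
    exact Subgroup.mul_mem _ (Subgroup.mul_mem _ (Subgroup.inv_mem _ (hZN hz₀)) (hg1 z hz))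
      (hZN hz₀)
  · intro z hz
    have hc : z * z₀ = z₀ * z := hZab hz₀ z hz
    have hcomm : z₀ * z * z₀⁻¹ = z := by
      rw [← hc]; group
    have : a⁻¹ * z * a = (g : G)⁻¹ * (z₀ * z * z₀⁻¹) * (g : G) := by rw [← hza]; group
    rw [this, hcomm]
    exact hg2 z hz

/-- **Replacement.** If the abelian subgroup `A` permutes with the maximal abelian member `Z` but
does not normalize it, then some `x ∈ A` not normalizing `Z` normalizes modulo `Z` a maximal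
abelian member `Z₃ ≤ ⟨Z, Z^x⟩`. -/
theorem replacement [Finite G] [Group.IsNilpotent G] (Z A : Subgroup G) (hZ : IsZ Z)
    (hA : A ≤ Subgroup.centralizer (A : Set G))
    (hZA : ((Z ⊔ A : Subgroup G) : Set G) = (Z : Set G) * (A : Set G))
    (hnot : ¬ A ≤ Subgroup.normalizer (Z : Set G)) :
    ∃ x ∈ A, ∃ Z₃ : Subgroup G, IsZ Z₃ ∧
      ¬ Z.map (MulAut.conj x).toMonoidHom ≤ Z ∧
      Z₃ ≤ Z ⊔ Z.map (MulAut.conj x).toMonoidHom ∧
      ∀ z ∈ Z₃, z⁻¹ * (x * z * x⁻¹) ∈ Z := by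
  obtain ⟨x, hxA, hxN, hx1, hx2⟩ := exists_conj_normalizing Z A hZ.1 hZA hnot
  refine ⟨x, hxA, ?_⟩
  set φ := (MulAut.conj x).toMonoidHom with hφ
  have hφapp : ∀ t : G, φ t = x * t * x⁻¹ := fun t => by simp [hφ, MulAut.conj_apply]
  set Z' := Z.map φ with hZ'def
  have hZ' : IsZ Z' := isZ_map_conj hZ x
  have hcardZ' : Nat.card Z' = Nat.card Z := card_map_conj Z x
  have hZ'N : Z' ≤ Subgroup.normalizer (Z : Set G) := by
    rintro _ ⟨z, hz, rfl⟩
    rw [hφapp]; exact hx1 z hz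
  have hnotle : ¬ Z' ≤ Z := by
    intro hle
    apply hxN
    have : Z' = Z := Subgroup.eq_of_le_of_card_ge hle hcardZ'.ge
    exact (map_conj_eq_self_iff_mem_normalizer Z x).mp this
  have hH₁set : ((Z ⊔ Z' : Subgroup G) : Set G) = (Z : Set G) * (Z' : Set G) :=
    Subgroup.coe_mul_of_right_le_normalizer_left Z Z' hZ'N
  obtain ⟨hH₁cdm, hY₁cdm, htight⟩ := cdm_sup_inf_of_max Z Z' hZ.2.1 hZ'.2.1
  have hcard1 := card_mul_card_eq_of_tight Z Z' htight
  rw [hcardZ'] at hcard1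
  have hCH₁ : Subgroup.centralizer ((Z ⊔ Z' : Subgroup G) : Set G) =
      Subgroup.centralizer (Z : Set G) ⊓ Subgroup.centralizer (Z' : Set G) :=
    centralizer_sup_eq Z Z'
  set H₁ := Z ⊔ Z' with hH₁
  set Y₁ := Z ⊓ Z' with hY₁
  have hY₁cent : Y₁ ≤ Subgroup.centralizer ((H₁ : Subgroup G) : Set G) := by
    rw [hCH₁]
    exact le_inf (inf_le_left.trans hZ.1) (inf_le_right.trans hZ'.1)
  have hcenter : H₁ ⊓ Subgroup.centralizer ((H₁ : Subgroup G) : Set G) ≤ Y₁ := by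
    rintro g ⟨hg1, hg2⟩
    rw [hCH₁] at hg2
    have hg1' : g ∈ ((H₁ : Subgroup G) : Set G) := hg1
    rw [hH₁set] at hg1'
    obtain ⟨z, hz, w, hw, rfl⟩ := hg1'
    have hwC : w ∈ Subgroup.centralizer (Z : Set G) := by
      have : w = z⁻¹ * (z * w) := by group
      rw [this]
      exact Subgroup.mul_mem _ (Subgroup.inv_mem _ (hZ.1 hz)) hg2.1
    have hwZ : w ∈ Z := inf_centralizer_le hZ hZ'.1 hZ'.2.1 ⟨hw, hwC⟩
    have hzC : z ∈ Subgroup.centralizer (Z' : Set G) := by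
      have : z = (z * w) * w⁻¹ := by group
      rw [this]
      exact Subgroup.mul_mem _ hg2.2 (Subgroup.inv_mem _ (hZ'.1 hw))
    have hzZ' : z ∈ Z' := inf_centralizer_le hZ' hZ.1 hZ.2.1 ⟨hz, hzC⟩
    exact ⟨Z.mul_mem hz hwZ, Z'.mul_mem hzZ' hw⟩
  -- the subgroup `K`
  have hZ'ZA : Z' ≤ Z ⊔ A := by
    rintro _ ⟨z, hz, rfl⟩
    rw [hφapp]
    exact Subgroup.mul_mem _ (Subgroup.mul_mem _ (Subgroup.mem_sup_right hxA)
      (Subgroup.mem_sup_left hz)) (Subgroup.inv_mem _ (Subgroup.mem_sup_right hxA))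
  set K := H₁ ⊓ A with hK
  have hdecomp : ∀ h ∈ H₁, ∃ z ∈ Z, ∃ k ∈ K, z * k = h := by
    intro h hh
    have h1 : h ∈ ((Z ⊔ A : Subgroup G) : Set G) := (sup_le le_sup_left hZ'ZA) hh
    rw [hZA] at h1
    obtain ⟨z, hz, a, ha, rfl⟩ := h1
    refine ⟨z, hz, a, ⟨?_, ha⟩, rfl⟩
    have : a = z⁻¹ * (z * a) := by group
    rw [this]
    exact Subgroup.mul_mem _ (Subgroup.inv_mem _ (Subgroup.mem_sup_left hz)) hh
  have hZK : Z ⊔ K = H₁ := by
    apply le_antisymm (sup_le le_sup_left inf_le_left)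
    intro h hh
    obtain ⟨z, hz, k, hk, rfl⟩ := hdecomp h hh
    exact Subgroup.mul_mem_sup hz hk
  have hZKset : ((Z ⊔ K : Subgroup G) : Set G) = (Z : Set G) * (K : Set G) := by
    apply Set.Subset.antisymm
    · intro h hh
      have hh' : h ∈ H₁ := by rw [← hZK]; exact hh
      obtain ⟨z, hz, k, hk, rfl⟩ := hdecomp h hh'
      exact ⟨z, hz, k, hk, rfl⟩
    · rintro _ ⟨z, hz, k, hk, rfl⟩
      exact Subgroup.mul_mem_sup hz hk
  have hcard2 := card_mul_card_eq_of_coe_sup Z K hZKset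
  rw [hZK] at hcard2
  -- the replacement
  set Z₃ := Y₁ ⊔ K with hZ₃
  have hKab : K ≤ Subgroup.centralizer (K : Set G) :=
    (inf_le_right.trans hA).trans
      (Subgroup.centralizer_le (by exact_mod_cast (inf_le_right : K ≤ A)))
  have hY₁ab : Y₁ ≤ Subgroup.centralizer (Y₁ : Set G) :=
    (inf_le_left.trans hZ.1).trans
      (Subgroup.centralizer_le (by exact_mod_cast (inf_le_left : Y₁ ≤ Z)))
  have hY₁K : Y₁ ≤ Subgroup.centralizer (K : Set G) :=
    hY₁cent.trans (Subgroup.centralizer_le (by exact_mod_cast (inf_le_left : K ≤ H₁)))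
  have hZ₃ab : Z₃ ≤ Subgroup.centralizer (Z₃ : Set G) :=
    le_centralizer_of_isMulCommutative _ (isMulCommutative_sup Y₁ K hY₁ab hKab hY₁K)
  have hZ₃H₁ : Z₃ ≤ H₁ := sup_le (inf_le_left.trans le_sup_left) inf_le_left
  have hcard3 : Nat.card Z ≤ Nat.card Z₃ := by
    have e1 := card_mul_card_le_card_sup_mul_card_inf Y₁ K
    have e2 : Nat.card ↥(Y₁ ⊓ K) ≤ Nat.card ↥(Z ⊓ K) :=
      Subgroup.card_le_of_le (inf_le_inf_right K inf_le_left)
    have hZpos : 0 < Nat.card Z := Nat.card_pos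
    have hZKpos : 0 < Nat.card ↥(Z ⊓ K) := Nat.card_pos
    have hH₁pos : 0 < Nat.card H₁ := Nat.card_pos
    by_contra hlt
    push Not at hlt
    have h1 : Nat.card Z₃ * Nat.card ↥(Z ⊓ K) * Nat.card H₁ * Nat.card Z <
        Nat.card Z * Nat.card ↥(Z ⊓ K) * Nat.card H₁ * Nat.card Z := by
      apply Nat.mul_lt_mul_of_pos_right _ hZpos
      apply Nat.mul_lt_mul_of_pos_right _ hH₁pos
      exact Nat.mul_lt_mul_of_pos_right hlt hZKpos
    have h2 : Nat.card Z * Nat.card ↥(Z ⊓ K) * Nat.card H₁ * Nat.card Z ≤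
        Nat.card Z₃ * Nat.card ↥(Z ⊓ K) * Nat.card H₁ * Nat.card Z := by
      calc Nat.card Z * Nat.card ↥(Z ⊓ K) * Nat.card H₁ * Nat.card Z
          = (Nat.card Z * Nat.card Z) * (Nat.card H₁ * Nat.card ↥(Z ⊓ K)) := by ring
        _ = (Nat.card H₁ * Nat.card Y₁) * (Nat.card Z * Nat.card K) := by
            rw [hcard1, ← hcard2]
        _ = (Nat.card Y₁ * Nat.card K) * (Nat.card H₁ * Nat.card Z) := by ring
        _ ≤ (Nat.card Z₃ * Nat.card ↥(Y₁ ⊓ K)) * (Nat.card H₁ * Nat.card Z) :=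
            Nat.mul_le_mul_right _ e1
        _ ≤ (Nat.card Z₃ * Nat.card ↥(Z ⊓ K)) * (Nat.card H₁ * Nat.card Z) := by gcongr
        _ = _ := by ring
    omega
  have hDle : Subgroup.centralizer ((H₁ : Subgroup G) : Set G) ≤
      Subgroup.centralizer (Z₃ : Set G) :=
    Subgroup.centralizer_le (by exact_mod_cast hZ₃H₁)
  have hf : Nat.card H₁ * Nat.card ↥(Subgroup.centralizer ((H₁ : Subgroup G) : Set G)) =
      cdmax G := hH₁cdm
  set D := Subgroup.centralizer ((H₁ : Subgroup G) : Set G) with hD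
  have hZ₃cdm : cdm Z₃ = cdmax G := by
    apply le_antisymm (cdm_le_cdmax _)
    have e1 := card_mul_card_le_card_sup_mul_card_inf Z₃ D
    have e2 : Nat.card ↥(Z₃ ⊓ D) ≤ Nat.card Y₁ :=
      Subgroup.card_le_of_le ((inf_le_inf_right D hZ₃H₁).trans hcenter)
    have e3 : Nat.card ↥(Z₃ ⊔ D) ≤ Nat.card ↥(Subgroup.centralizer (Z₃ : Set G)) :=
      Subgroup.card_le_of_le (sup_le hZ₃ab hDle)
    rw [← hf]
    unfold cdm
    have hY₁pos : 0 < Nat.card Y₁ := Nat.card_pos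
    apply Nat.le_of_mul_le_mul_right _ hY₁pos
    calc Nat.card H₁ * Nat.card D * Nat.card Y₁
        = (Nat.card H₁ * Nat.card Y₁) * Nat.card D := by ring
      _ = (Nat.card Z * Nat.card Z) * Nat.card D := by rw [hcard1]
      _ ≤ (Nat.card Z₃ * Nat.card Z₃) * Nat.card D := by gcongr
      _ = Nat.card Z₃ * (Nat.card Z₃ * Nat.card D) := by ring
      _ ≤ Nat.card Z₃ * (Nat.card ↥(Z₃ ⊔ D) * Nat.card ↥(Z₃ ⊓ D)) := Nat.mul_le_mul_left _ e1
      _ ≤ Nat.card Z₃ * (Nat.card ↥(Subgroup.centralizer (Z₃ : Set G)) * Nat.card Y₁) := by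
          gcongr
      _ = _ := by ring
  have hZ₃Z : IsZ Z₃ := isZ_of_card_ge hZ hZ₃ab hZ₃cdm hcard3
  -- invariance under `φ`
  have hφK : ∀ k ∈ K, φ k = k := by
    intro k hk
    rw [hφapp]
    have : k * x = x * k := hA hxA k hk.2
    calc x * k * x⁻¹ = k * x * x⁻¹ := by rw [this]
      _ = k := by group
  have hφH₁ : H₁.map φ ≤ H₁ := by
    have : H₁.map φ = Z' ⊔ K.map φ := by
      conv_lhs => rw [← hZK]
      rw [Subgroup.map_sup]
    rw [this]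
    apply sup_le le_sup_right
    rintro _ ⟨k, hk, rfl⟩
    rw [hφK k hk]
    exact hk.1
  have hφH₁eq : H₁.map φ = H₁ :=
    Subgroup.eq_of_le_of_card_ge hφH₁ (card_map_conj H₁ x).ge
  have hφY₁ : ∀ y ∈ Y₁, φ y ∈ Y₁ := by
    intro y hy
    apply hcenter
    have hyH : y ∈ H₁ := (inf_le_left.trans le_sup_left : Y₁ ≤ H₁) hy
    refine ⟨hφH₁ (Subgroup.mem_map_of_mem φ hyH), ?_⟩
    show φ y ∈ Subgroup.centralizer ((H₁ : Subgroup G) : Set G)
    rw [Subgroup.mem_centralizer_iff]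
    intro h hh
    have hh' : h ∈ H₁.map φ := by rw [hφH₁eq]; exact hh
    obtain ⟨h', hh'1, rfl⟩ := hh'
    have : h' * y = y * h' := (hY₁cent hy) h' hh'1
    rw [← map_mul, ← map_mul, this]
  have hZ₃set : ((Z₃ : Subgroup G) : Set G) = (Y₁ : Set G) * (K : Set G) :=
    Subgroup.coe_mul_of_left_le_normalizer_right Y₁ K
      (hY₁K.trans (Subgroup.centralizer_le_normalizer _))
  refine ⟨Z₃, hZ₃Z, hnotle, hZ₃H₁, ?_⟩
  intro z hz
  have hz' : z ∈ ((Z₃ : Subgroup G) : Set G) := hz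
  rw [hZ₃set] at hz'
  obtain ⟨y, hy, k, hk, rfl⟩ := hz'
  have h1 : x * (y * k) * x⁻¹ = φ y * k := by
    rw [← hφapp, map_mul, hφK k hk]
  rw [h1]
  have hcY : y⁻¹ * φ y ∈ Y₁ := Y₁.mul_mem (Y₁.inv_mem hy) (hφY₁ y hy)
  have hkc : k * (y⁻¹ * φ y) = (y⁻¹ * φ y) * k := hY₁K hcY k hk
  have : (y * k)⁻¹ * (φ y * k) = y⁻¹ * φ y := by
    calc (y * k)⁻¹ * (φ y * k) = k⁻¹ * ((y⁻¹ * φ y) * k) := by group
      _ = k⁻¹ * (k * (y⁻¹ * φ y)) := by rw [hkc]
      _ = y⁻¹ * φ y := by group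
  rw [this]
  exact (inf_le_left : Y₁ ≤ Z) hcY

end Cfsg.Agent.Lib.Helper18.CLZ
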