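import Mathlib
import Cfsg.Agent.Lib.Helper18.CLReplace

set_option autoImplicit false

/-!
A maximal abelian member of the Chermak–Delgado lattice of a nilpotent group which is normalized
by every member of a family of abelian subgroups permuting with the maximal abelian members
(lexicographic maximisation of the intersections with the lower central series plus the
replacement theorem).
-/

namespace Cfsg.Agent.Lib.Helper18.CLZ

open Subgroup Cfsg.Agent.Lib.Helper18 Cfsg.Agent.Lib.Helper13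
open scoped Pointwise commutatorElement

variable {G : Type*} [Group G]

/-- Successive maximisation of `|Z ∩ M j|` over the maximal abelian members. -/
def lexSet (M : ℕ → Subgroup G) : ℕ → Set (Subgroup G)
  | 0 => {Z | IsZ Z}
  | (n + 1) => {Z | Z ∈ lexSet M n ∧
      ∀ Z' ∈ lexSet M n, Nat.card ↥(Z' ⊓ M n) ≤ Nat.card ↥(Z ⊓ M n)}

theorem lexSet_succ_subset (M : ℕ → Subgroup G) (n : ℕ) : lexSet M (n + 1) ⊆ lexSet M n :=
  fun _ hZ => hZ.1

theorem lexSet_anti (M : ℕ → Subgroup G) {m n : ℕ} (h : m ≤ n) : lexSet M n ⊆ lexSet M m := by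
  induction n, h using Nat.le_induction with
  | base => exact subset_rfl
  | succ n _ ih => exact (lexSet_succ_subset M n).trans ih

theorem lexSet_nonempty [Finite G] (M : ℕ → Subgroup G) : ∀ n, (lexSet M n).Nonempty
  | 0 => exists_isZ
  | (n + 1) => by
    obtain ⟨Z₀, hZ₀⟩ := lexSet_nonempty M n
    have : Nonempty ↥(lexSet M n) := ⟨⟨Z₀, hZ₀⟩⟩
    obtain ⟨Z, hZ⟩ := Finite.exists_max (fun X : ↥(lexSet M n) => Nat.card ↥(X.1 ⊓ M n))
    exact ⟨Z.1, Z.2, fun Z' hZ' => hZ ⟨Z', hZ'⟩⟩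

theorem lex_key (M : ℕ → Subgroup G) {n : ℕ} {Z : Subgroup G} (hZ : Z ∈ lexSet M n) :
    ∀ i ≤ n, ∀ Z' : Subgroup G, IsZ Z' →
      (∀ j < i, Nat.card ↥(Z ⊓ M j) ≤ Nat.card ↥(Z' ⊓ M j)) →
      Z' ∈ lexSet M i ∧ ∀ j < i, Nat.card ↥(Z' ⊓ M j) = Nat.card ↥(Z ⊓ M j) := by
  intro i
  induction i with
  | zero =>
    intro _ Z' hZ' _
    exact ⟨hZ', fun j hj => absurd hj (Nat.not_lt_zero j)⟩
  | succ i ih =>
    intro hi Z' hZ' hyp
    obtain ⟨h1, h2⟩ := ih (Nat.le_of_succ_le hi) Z' hZ'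
      (fun j hj => hyp j (Nat.lt_succ_of_lt hj))
    have hZi : Z ∈ lexSet M (i + 1) := lexSet_anti M hi hZ
    have e : Nat.card ↥(Z' ⊓ M i) = Nat.card ↥(Z ⊓ M i) :=
      le_antisymm (hZi.2 Z' h1) (hyp i (Nat.lt_succ_self i))
    refine ⟨⟨h1, fun Z'' hZ'' => ?_⟩, ?_⟩
    · rw [e]; exact hZi.2 Z'' hZ''
    · intro j hj
      rcases Nat.lt_succ_iff_lt_or_eq.mp hj with h | h
      · exact h2 j h
      · rw [h]; exact e

theorem exists_isZ_normalized [Finite G] [hG : Group.IsNilpotent G] (𝓕 : Set (Subgroup G))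
    (hab : ∀ A ∈ 𝓕, A ≤ Subgroup.centralizer (A : Set G))
    (hperm : ∀ A ∈ 𝓕, ∀ Z : Subgroup G, IsZ Z →
      ((Z ⊔ A : Subgroup G) : Set G) = (Z : Set G) * (A : Set G)) :
    ∃ Z : Subgroup G, IsZ Z ∧ ∀ A ∈ 𝓕, A ≤ Subgroup.normalizer (Z : Set G) := by
  obtain ⟨r, hr⟩ := Subgroup.nilpotent_iff_lowerCentralSeries.mp hG
  set M : ℕ → Subgroup G := fun j => (⊤ : Subgroup G).lowerCentralSeries j with hM
  have hMnormal : ∀ j, (M j).Normal := fun j => by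
    show ((⊤ : Subgroup G).lowerCentralSeries j).Normal
    infer_instance
  obtain ⟨Z, hZmem⟩ := lexSet_nonempty M (r + 1)
  have hZ : IsZ Z := lexSet_anti M (Nat.zero_le _) hZmem
  refine ⟨Z, hZ, ?_⟩
  intro A hA𝓕
  by_contra hnot
  obtain ⟨x, hxA, Z₃, hZ₃, hnotle, hZ₃le, hcomm⟩ :=
    replacement Z A hZ (hab A hA𝓕) (hperm A hA𝓕 Z hZ) hnot
  have hR0 : ∀ z ∈ Z, x * z * x⁻¹ ∈ Z ⊔ M 0 := by
    intro z _
    have : M 0 = ⊤ := rfl
    rw [this, sup_top_eq]; exact Subgroup.mem_top _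
  have hRr : ¬ ∀ z ∈ Z, x * z * x⁻¹ ∈ Z ⊔ M r := by
    intro h
    apply hnotle
    rw [map_conj_le_iff]
    intro z hz
    have := h z hz
    have hMr : M r = ⊥ := hr
    rwa [hMr, sup_bot_eq] at this
  -- the first index at which `x` fails to normalize `Z` modulo `M j`
  have hex : ∃ j, ¬ ∀ z ∈ Z, x * z * x⁻¹ ∈ Z ⊔ M j := ⟨r, hRr⟩
  classical
  have hj₀spec := Nat.find_spec hex
  have hj₀pos : Nat.find hex ≠ 0 := by
    intro h0
    rw [h0] at hj₀spec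
    exact hj₀spec hR0
  obtain ⟨i, hi⟩ := Nat.exists_eq_succ_of_ne_zero hj₀pos
  have hRi : ∀ z ∈ Z, x * z * x⁻¹ ∈ Z ⊔ M i :=
    not_not.mp (Nat.find_min hex (m := i) (by rw [hi]; exact Nat.lt_succ_self i))
  have hir : i + 1 ≤ r := by
    have := Nat.find_min' hex hRr
    omega
  have hMi_le : ∀ j ≤ i, M i ≤ M j := fun j hj =>
    (⊤ : Subgroup G).lowerCentralSeries_antitone hj
  have hZ₃Mi : Z₃ ≤ Z ⊔ M i := by
    apply hZ₃le.trans
    apply sup_le le_sup_left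
    rw [map_conj_le_iff]
    exact hRi
  have hcardeq : Nat.card Z₃ = Nat.card Z := isZ_card_eq hZ₃ hZ
  have hprod : ∀ (X : Subgroup G) (j : ℕ), Nat.card X * Nat.card (M j) =
      Nat.card ↥(X ⊔ M j) * Nat.card ↥(X ⊓ M j) := by
    intro X j
    haveI := hMnormal j
    exact card_mul_card_eq_of_coe_sup X (M j) (Subgroup.mul_normal X (M j))
  have hge : ∀ j < i + 1, Nat.card ↥(Z ⊓ M j) ≤ Nat.card ↥(Z₃ ⊓ M j) := by
    intro j hj
    have hji : j ≤ i := Nat.lt_succ_iff.mp hj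
    have hle : Z₃ ⊔ M j ≤ Z ⊔ M j :=
      sup_le (hZ₃Mi.trans (sup_le_sup_left (hMi_le j hji) Z)) le_sup_right
    have h1 := hprod Z j
    have h2 := hprod Z₃ j
    rw [hcardeq] at h2
    have h3 : Nat.card ↥(Z₃ ⊔ M j) ≤ Nat.card ↥(Z ⊔ M j) := Subgroup.card_le_of_le hle
    have hpos : 0 < Nat.card ↥(Z ⊔ M j) := Nat.card_pos
    apply Nat.le_of_mul_le_mul_left _ hpos
    calc Nat.card ↥(Z ⊔ M j) * Nat.card ↥(Z ⊓ M j) = Nat.card Z * Nat.card (M j) := h1.symm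
      _ = Nat.card ↥(Z₃ ⊔ M j) * Nat.card ↥(Z₃ ⊓ M j) := h2
      _ ≤ Nat.card ↥(Z ⊔ M j) * Nat.card ↥(Z₃ ⊓ M j) := Nat.mul_le_mul_right _ h3
  obtain ⟨-, heq⟩ := lex_key M hZmem (i + 1) (by omega) Z₃ hZ₃ hge
  have heqi := heq i (Nat.lt_succ_self i)
  have hsupeq : Z₃ ⊔ M i = Z ⊔ M i := by
    apply Subgroup.eq_of_le_of_card_ge (sup_le hZ₃Mi le_sup_right)
    have h1 := hprod Z i
    have h2 := hprod Z₃ i
    rw [hcardeq, heqi] at h2
    have hpos : 0 < Nat.card ↥(Z ⊓ M i) := Nat.card_pos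
    have : Nat.card ↥(Z ⊔ M i) * Nat.card ↥(Z ⊓ M i) =
        Nat.card ↥(Z₃ ⊔ M i) * Nat.card ↥(Z ⊓ M i) := by rw [← h1, ← h2]
    exact (Nat.eq_of_mul_eq_mul_right hpos this).le
  -- contradiction: `x` normalizes `Z` modulo `M (i + 1)`
  apply hj₀spec
  rw [hi]
  intro z hz
  have hz1 : z ∈ ((Z₃ ⊔ M i : Subgroup G) : Set G) := by
    rw [hsupeq]; exact Subgroup.mem_sup_left hz
  haveI := hMnormal i
  rw [Subgroup.mul_normal] at hz1
  obtain ⟨z₃, hz₃, m, hm, rfl⟩ := hz1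
  have hc := hcomm z₃ hz₃
  have hMsucc : M (i + 1) = ⁅M i, (⊤ : Subgroup G)⁆ := rfl
  have hm' : ⁅m⁻¹, x⁆ ∈ M (i + 1) := by
    rw [hMsucc]
    exact Subgroup.commutator_mem_commutator (Subgroup.inv_mem _ hm) (Subgroup.mem_top x)
  have he : ⁅(z₃⁻¹ * (x * z₃ * x⁻¹))⁻¹, m⁻¹⁆ ∈ M (i + 1) := by
    rw [hMsucc, Subgroup.commutator_comm]
    exact Subgroup.commutator_mem_commutator (Subgroup.mem_top _) (Subgroup.inv_mem _ hm)
  have key : x * (z₃ * m) * x⁻¹ = (z₃ * m) * (z₃⁻¹ * (x * z₃ * x⁻¹)) *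
      ⁅(z₃⁻¹ * (x * z₃ * x⁻¹))⁻¹, m⁻¹⁆ * ⁅m⁻¹, x⁆ := by
    rw [commutatorElement_def, commutatorElement_def]; group
  rw [key]
  exact Subgroup.mul_mem _ (Subgroup.mul_mem _ (Subgroup.mul_mem _ (Subgroup.mem_sup_left hz)
    (Subgroup.mem_sup_left hc)) (Subgroup.mem_sup_right he)) (Subgroup.mem_sup_right hm')

end Cfsg.Agent.Lib.Helper18.CLZ
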