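import Mathlib
import Cfsg.Prelude.Def_LocalEven
import Cfsg.Agent.Lib.Helper13.Conj
import Cfsg.Agent.Lib.Helper13.PGroup
import Cfsg.Agent.Lib.Helper16.SylowInf
import Cfsg.Agent.H5.KInf3

/-!
# Clifford's theorem for subnormal subgroups, in the language of chief factors

For a chief factor `U / V` of `G` and a subnormal subgroup `H` of `G`, the subgroup `U` is generated
by the subgroups `M ≤ U` that are minimal among the `H`-invariant subgroups strictly above `V`
(`gen_of_subnormal`).  We also show that a subgroup between a normal subgroup `K₁` and a normal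
subgroup `R₁ ≤ K₁` containing all `p'`-elements of `K₁` is subnormal (`isSubnormal_of_residual`),
and give the resulting criterion for quadratic action on a chief factor (`quad_of_gen`).
-/

set_option autoImplicit false
set_option linter.unusedSectionVars false

namespace Cfsg.Agent.Lib.Helper18.SubnClifford

open Subgroup Cfsg.Agent.Lib.Helper13
open scoped commutatorElement

variable {G : Type*} [Group G]

/-- `M` is minimal among the `H`-invariant subgroups strictly above `V` -/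
def IsMinOver (H V M : Subgroup G) : Prop :=
  V < M ∧ H ≤ normalizer (M : Set G) ∧
    ∀ M' : Subgroup G, V ≤ M' → M' ≤ M → H ≤ normalizer (M' : Set G) → M' = V ∨ M' = M

theorem exists_isMinOver [Finite G] {H V M : Subgroup G} (hVM : V < M)
    (hHM : H ≤ normalizer (M : Set G)) : ∃ M₀ : Subgroup G, M₀ ≤ M ∧ IsMinOver H V M₀ := by
  obtain ⟨M₀, ⟨hVM₀, hM₀M, hHM₀⟩, hmin⟩ := Set.exists_min_image
    {M' : Subgroup G | V < M' ∧ M' ≤ M ∧ H ≤ normalizer (M' : Set G)} (fun M' => Nat.card M')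
    (Set.toFinite _) ⟨M, hVM, le_rfl, hHM⟩
  refine ⟨M₀, hM₀M, hVM₀, hHM₀, fun M' hVM' hM'M₀ hHM' => ?_⟩
  by_cases h : M' = V
  · exact Or.inl h
  · right
    have h1 : V < M' := lt_of_le_of_ne hVM' (Ne.symm h)
    have h2 := hmin M' ⟨h1, hM'M₀.trans hM₀M, hHM'⟩
    exact Subgroup.eq_of_le_of_card_ge hM'M₀ h2

theorem conj_mem_of_mem_normalizer' {N : Subgroup G} {x y : G}
    (hx : x ∈ normalizer (N : Set G)) (hy : y ∈ N) : x * y * x⁻¹ ∈ N :=
  (mem_normalizer_iff.mp hx y).mp hy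

theorem inv_conj_mem_of_mem_normalizer {N : Subgroup G} {x y : G}
    (hx : x ∈ normalizer (N : Set G)) (hy : y ∈ N) : x⁻¹ * y * x ∈ N := by
  have := conj_mem_of_mem_normalizer' (inv_mem hx) hy
  rwa [inv_inv] at this

theorem le_normalizer_map_conj {H M : Subgroup G} (hHM : H ≤ normalizer (M : Set G)) {l : G}
    (hl : l ∈ normalizer (H : Set G)) :
    H ≤ normalizer ((M.map (MulAut.conj l).toMonoidHom : Subgroup G) : Set G) := by
  intro h hh
  rw [← map_conj_eq_self_iff_mem_normalizer, ← map_conj_mul]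
  have h1 : h * l = l * (l⁻¹ * h * l) := by group
  rw [h1, map_conj_mul]
  have h2 : l⁻¹ * h * l ∈ normalizer (M : Set G) := hHM (inv_conj_mem_of_mem_normalizer hl hh)
  rw [(map_conj_eq_self_iff_mem_normalizer M _).mpr h2]

theorem isMinOver_conj {H V M : Subgroup G} (hM : IsMinOver H V M) {l : G}
    (hlH : l ∈ normalizer (H : Set G)) (hlV : l ∈ normalizer (V : Set G)) :
    IsMinOver H V (M.map (MulAut.conj l).toMonoidHom) := by
  obtain ⟨hVM, hHM, hmin⟩ := hM
  have hinj : Function.Injective (MulAut.conj l).toMonoidHom := (MulAut.conj l).injective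
  have hV1 : V.map (MulAut.conj l).toMonoidHom = V :=
    (map_conj_eq_self_iff_mem_normalizer V l).mpr hlV
  have hV2 : V.map (MulAut.conj l⁻¹).toMonoidHom = V :=
    (map_conj_eq_self_iff_mem_normalizer V l⁻¹).mpr (inv_mem hlV)
  refine ⟨?_, le_normalizer_map_conj hHM hlH, fun M' hVM' hM'M hHM' => ?_⟩
  · have := (Subgroup.map_lt_map_iff_of_injective hinj).mpr hVM
    rwa [hV1] at this
  · have h1 : V ≤ M'.map (MulAut.conj l⁻¹).toMonoidHom := by
      have := Subgroup.map_mono (f := (MulAut.conj l⁻¹).toMonoidHom) hVM'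
      rwa [hV2] at this
    have h2 : M'.map (MulAut.conj l⁻¹).toMonoidHom ≤ M := by
      have := Subgroup.map_mono (f := (MulAut.conj l⁻¹).toMonoidHom) hM'M
      rwa [map_conj_inv_map_conj] at this
    have h3 : H ≤ normalizer ((M'.map (MulAut.conj l⁻¹).toMonoidHom : Subgroup G) : Set G) :=
      le_normalizer_map_conj hHM' (inv_mem hlH)
    rcases hmin _ h1 h2 h3 with h | h
    · left
      have := congrArg (fun X : Subgroup G => X.map (MulAut.conj l).toMonoidHom) h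
      simp only [map_conj_map_conj_inv, hV1] at this
      exact this
    · right
      have := congrArg (fun X : Subgroup G => X.map (MulAut.conj l).toMonoidHom) h
      simp only [map_conj_map_conj_inv] at this
      exact this

/-- one step of Clifford's theorem -/
theorem clifford_step [Finite G] {H L V M : Subgroup G} (hHL : H ≤ L)
    (hLH : L ≤ normalizer (H : Set G)) (hLV : L ≤ normalizer (V : Set G))
    (hM : IsMinOver L V M) : M ≤ sSup {M' : Subgroup G | M' ≤ M ∧ IsMinOver H V M'} := by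
  obtain ⟨M₀, hM₀M, hM₀⟩ := exists_isMinOver hM.1 (hHL.trans hM.2.1)
  obtain ⟨J, hJ⟩ : ∃ J : Subgroup G, J = sSup {M' : Subgroup G | M' ≤ M ∧ IsMinOver H V M'} :=
    ⟨_, rfl⟩
  rw [← hJ]
  have hM₀J : M₀ ≤ J := by rw [hJ]; exact le_sSup ⟨hM₀M, hM₀⟩
  have hJM : J ≤ M := by rw [hJ]; exact sSup_le fun M' h => h.1
  have hVJ : V ≤ J := hM₀.1.le.trans hM₀J
  have hLJ : L ≤ normalizer (J : Set G) := by
    have key : ∀ l ∈ L, ∀ y ∈ J, l * y * l⁻¹ ∈ J := by
      intro l hl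
      have h1 : J ≤ J.comap (MulAut.conj l).toMonoidHom := by
        rw [hJ]
        apply sSup_le
        rintro M' ⟨hM'M, hM'⟩ y hy
        rw [Subgroup.mem_comap]
        have h2 : M'.map (MulAut.conj l).toMonoidHom ≤
            sSup {M' : Subgroup G | M' ≤ M ∧ IsMinOver H V M'} := by
          apply le_sSup
          refine ⟨?_, isMinOver_conj hM' (hLH hl) (hLV hl)⟩
          rw [map_conj_le_iff]
          intro z hz
          exact conj_mem_of_mem_normalizer' (hM.2.1 hl) (hM'M hz)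
        apply h2
        exact ⟨y, hy, rfl⟩
      intro y hy
      have := h1 hy
      rw [Subgroup.mem_comap] at this
      simpa [MulAut.conj_apply] using this
    intro l hl
    rw [mem_normalizer_iff]
    intro y
    refine ⟨key l hl y, fun hy => ?_⟩
    have := key l⁻¹ (inv_mem hl) _ hy
    have e : l⁻¹ * (l * y * l⁻¹) * l⁻¹⁻¹ = y := by group
    rwa [e] at this
  rcases hM.2.2 J hVJ hJM hLJ with h | h
  · exfalso
    exact absurd (hM₀J.trans h.le) (not_le_of_gt hM₀.1)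
  · exact h.ge

/-- **Clifford's theorem for subnormal subgroups**: a chief factor `U / V` of `G` is generated by
the minimal `H`-invariant subgroups above `V`, for every subnormal subgroup `H`. -/
theorem gen_of_subnormal [Finite G] {H : Subgroup G} (hH : H.IsSubnormal) {U V : Subgroup G}
    (hUV : Cfsg.IsChiefFactor U V) : U ≤ sSup {M : Subgroup G | M ≤ U ∧ IsMinOver H V M} := by
  obtain ⟨hVU, hUn, hVn, hmax⟩ := hUV
  induction hH with
  | top =>
    apply le_sSup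
    refine ⟨le_rfl, hVU, ?_, fun M' hVM' hM'U hM' => ?_⟩
    · rw [Subgroup.normalizer_eq_top_iff.mpr hUn]
    · exact hmax M' (Subgroup.normalizer_eq_top_iff.mp (top_le_iff.mp hM')) hVM' hM'U
  | step H K hHK hK hN ih =>
    refine ih.trans (sSup_le ?_)
    rintro M ⟨hMU, hM⟩
    have hKH : K ≤ normalizer (H : Set G) := (Subgroup.normal_subgroupOf_iff_le_normalizer hHK).mp hN
    have hKV : K ≤ normalizer (V : Set G) := by
      rw [Subgroup.normalizer_eq_top_iff.mpr hVn]; exact le_top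
    refine (clifford_step hHK hKH hKV hM).trans (sSup_le_sSup ?_)
    rintro M' ⟨hM'M, hM'⟩
    exact ⟨hM'M.trans hMU, hM'⟩

section residual

variable [Finite G] {p : ℕ} [Fact p.Prime]

/-- if `R₁` contains all `p'`-elements of the normal subgroup `H₁`, then `H₁ = (S₀ ∩ H₁) R₁` for
every Sylow `p`-subgroup `S₀` -/
theorem le_sylow_inf_sup (S₀ : Sylow p G) (H₁ R₁ : Subgroup G) [hH₁ : H₁.Normal] [hR₁ : R₁.Normal]
    (_hR₁H₁ : R₁ ≤ H₁) (hR : ∀ x ∈ H₁, (orderOf x).Coprime p → x ∈ R₁) :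
    H₁ ≤ ((S₀ : Subgroup G) ⊓ H₁) ⊔ R₁ := by
  have hp : p.Prime := Fact.out
  have hidx1 : ¬ p ∣ ((S₀ : Subgroup G) ⊓ H₁).relIndex H₁ := by
    rw [Subgroup.inf_relIndex_right]
    intro h
    exact S₀.not_dvd_index
      (h.trans (Cfsg.Agent.Lib.Helper16.relIndex_dvd_index_of_normal_right' (S₀ : Subgroup G) H₁))
  have hquot : IsPGroup p (↥H₁ ⧸ R₁.subgroupOf H₁) := by
    intro q
    obtain ⟨h, rfl⟩ := QuotientGroup.mk_surjective q
    obtain ⟨t, u, ht, hu, htu, ⟨k, hk⟩, huc⟩ :=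
      Cfsg.Agent.Lib.Helper16.exists_p_decomp' p (h : G)
    refine ⟨k, ?_⟩
    rw [← QuotientGroup.mk_pow, QuotientGroup.eq_one_iff, Subgroup.mem_subgroupOf]
    have hcomm : Commute t u := by
      obtain ⟨i, rfl⟩ := Subgroup.mem_zpowers_iff.mp ht
      obtain ⟨j, rfl⟩ := Subgroup.mem_zpowers_iff.mp hu
      exact (Commute.refl (h : G)).zpow_zpow i j
    have h1 : ((h ^ (p ^ k) : ↥H₁) : G) = u ^ (p ^ k) := by
      rw [Subgroup.coe_pow, htu, hcomm.mul_pow, ← hk, pow_orderOf_eq_one, one_mul]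
    rw [h1]
    apply pow_mem
    apply hR u _ huc
    exact (Subgroup.zpowers_le.mpr h.2) hu
  obtain ⟨n, hn⟩ := (IsPGroup.iff_card).mp hquot
  have hidx2 : R₁.relIndex H₁ = p ^ n := by
    rw [Subgroup.relIndex, Subgroup.index_eq_card]; exact hn
  rw [← Subgroup.relIndex_eq_one]
  have d1 : (((S₀ : Subgroup G) ⊓ H₁) ⊔ R₁).relIndex H₁ ∣ ((S₀ : Subgroup G) ⊓ H₁).relIndex H₁ :=
    Subgroup.relIndex_dvd_of_le_left H₁ le_sup_left
  have d2 : (((S₀ : Subgroup G) ⊓ H₁) ⊔ R₁).relIndex H₁ ∣ p ^ n := by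
    rw [← hidx2]; exact Subgroup.relIndex_dvd_of_le_left H₁ le_sup_right
  obtain ⟨j, -, hj⟩ := (Nat.dvd_prime_pow hp).mp d2
  cases j with
  | zero => rw [hj, pow_zero]
  | succ j =>
    exfalso
    apply hidx1
    exact (Dvd.intro_left (p ^ j) (by rw [hj, pow_succ])).trans d1

/-- every element of `H₁` is a product of an element of `S₀ ∩ H₁` and an element of `R₁` -/
theorem exists_mul_of_residual (S₀ : Sylow p G) (H₁ R₁ : Subgroup G) [hH₁ : H₁.Normal]
    [hR₁ : R₁.Normal] (hR₁H₁ : R₁ ≤ H₁) (hR : ∀ x ∈ H₁, (orderOf x).Coprime p → x ∈ R₁)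
    {c : G} (hc : c ∈ H₁) : ∃ y ∈ (S₀ : Subgroup G) ⊓ H₁, ∃ r ∈ R₁, y * r = c := by
  have hcK := le_sylow_inf_sup S₀ H₁ R₁ hR₁H₁ hR hc
  rw [← SetLike.mem_coe, Subgroup.mul_normal] at hcK
  obtain ⟨y, hy, r, hr, hyr⟩ := Set.mem_mul.mp hcK
  exact ⟨y, hy, r, hr, hyr⟩

/-- a subgroup between `R₁` and `K₁` is subnormal, when `K₁ / R₁` is a `p`-group -/
theorem isSubnormal_of_residual (K₁ R₁ : Subgroup G) [hK₁ : K₁.Normal] [hR₁ : R₁.Normal]
    (hR₁K₁ : R₁ ≤ K₁) (hR : ∀ x ∈ K₁, (orderOf x).Coprime p → x ∈ R₁) (H : Subgroup G)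
    (hRH : R₁ ≤ H) (hHK : H ≤ K₁) : H.IsSubnormal := by
  obtain ⟨S₀⟩ : Nonempty (Sylow p G) := inferInstance
  have hPp : IsPGroup p ↥((S₀ : Subgroup G) ⊓ K₁) := S₀.isPGroup'.to_le inf_le_left
  have key : ∀ n : ℕ, ∀ H : Subgroup G, R₁ ≤ H → H ≤ K₁ → Nat.card K₁ - Nat.card H = n →
      H.IsSubnormal := by
    intro n
    induction n using Nat.strong_induction_on with
    | _ n ih =>
      intro H hRH hHK hn
      by_cases hEq : H = K₁
      · rw [hEq]; exact Subgroup.Normal.isSubnormal hK₁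
      · have hlt : H < K₁ := lt_of_le_of_ne hHK hEq
        -- Dedekind
        have hHd : ∀ h ∈ H, ∃ y ∈ H ⊓ ((S₀ : Subgroup G) ⊓ K₁), ∃ r ∈ R₁, y * r = h := by
          intro h hh
          obtain ⟨y, hy, r, hr, hyr⟩ := exists_mul_of_residual S₀ K₁ R₁ hR₁K₁ hR (hHK hh)
          refine ⟨y, Subgroup.mem_inf.mpr ⟨?_, hy⟩, r, hr, hyr⟩
          have : y = h * r⁻¹ := by rw [← hyr]; group
          rw [this]
          exact mul_mem hh (inv_mem (hRH hr))
        have hQlt : H ⊓ ((S₀ : Subgroup G) ⊓ K₁) < (S₀ : Subgroup G) ⊓ K₁ := by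
          refine lt_of_le_of_ne inf_le_right fun he => ?_
          apply hEq
          apply le_antisymm hHK
          intro c hc
          obtain ⟨y, hy, r, hr, hyr⟩ := exists_mul_of_residual S₀ K₁ R₁ hR₁K₁ hR hc
          rw [← hyr]
          refine mul_mem ?_ (hRH hr)
          rw [← he] at hy
          exact hy.1
        have hgrow := lt_inf_normalizer_of_lt _ _ hPp hQlt
        obtain ⟨x, hx, hxn⟩ := SetLike.exists_of_lt hgrow
        have hxP : x ∈ (S₀ : Subgroup G) ⊓ K₁ := hx.1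
        have hxNQ : x ∈ normalizer ((H ⊓ ((S₀ : Subgroup G) ⊓ K₁) : Subgroup G) : Set G) := hx.2
        have hxH : x ∉ H := fun h => hxn (Subgroup.mem_inf.mpr ⟨h, hxP⟩)
        have hxN : x ∈ normalizer (H : Set G) := by
          have key2 : ∀ x ∈ normalizer ((H ⊓ ((S₀ : Subgroup G) ⊓ K₁) : Subgroup G) : Set G),
              ∀ h ∈ H, x * h * x⁻¹ ∈ H := by
            intro x hx h hh
            obtain ⟨y, hy, r, hr, hyr⟩ := hHd h hh
            have e : x * h * x⁻¹ = (x * y * x⁻¹) * (x * r * x⁻¹) := by rw [← hyr]; group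
            rw [e]
            exact mul_mem (conj_mem_of_mem_normalizer' hx hy).1 (hRH (hR₁.conj_mem r hr x))
          rw [mem_normalizer_iff]
          intro h
          refine ⟨key2 x hxNQ h, fun hh => ?_⟩
          have := key2 x⁻¹ (inv_mem hxNQ) _ hh
          have e : x⁻¹ * (x * h * x⁻¹) * x⁻¹⁻¹ = h := by group
          rwa [e] at this
        obtain ⟨H₂, hH₂⟩ : ∃ H₂ : Subgroup G, H₂ = normalizer (H : Set G) ⊓ K₁ := ⟨_, rfl⟩
        have hHH₂ : H ≤ H₂ := by rw [hH₂]; exact le_inf Subgroup.le_normalizer hHK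
        have hH₂K : H₂ ≤ K₁ := by rw [hH₂]; exact inf_le_right
        have hltH₂ : H < H₂ := by
          refine lt_of_le_of_ne hHH₂ fun he => hxH ?_
          rw [he, hH₂]
          exact Subgroup.mem_inf.mpr ⟨hxN, hxP.2⟩
        have hc1 : Nat.card H < Nat.card H₂ := card_lt_card_of_lt hltH₂
        have hc2 : Nat.card H₂ ≤ Nat.card K₁ := Subgroup.card_le_of_le hH₂K
        have hsub : H₂.IsSubnormal :=
          ih (Nat.card K₁ - Nat.card H₂) (by omega) H₂ (hRH.trans hHH₂) hH₂K rfl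
        refine Subgroup.IsSubnormal.step H H₂ hHH₂ hsub ?_
        rw [Subgroup.normal_subgroupOf_iff_le_normalizer hHH₂, hH₂]
        exact inf_le_left
  exact key _ H hRH hHK rfl

end residual

section quad

/-- the elements of `U` whose commutators with `B` lie in the normal subgroup `V` -/
def cenMod (U V B : Subgroup G) (hV : V.Normal) : Subgroup G where
  carrier := {y | y ∈ U ∧ ∀ b ∈ B, ⁅y, b⁆ ∈ V}
  one_mem' := ⟨one_mem U, fun b _ => by rw [commutatorElement_one_left]; exact one_mem V⟩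
  mul_mem' := by
    rintro x y ⟨hx, hx'⟩ ⟨hy, hy'⟩
    refine ⟨mul_mem hx hy, fun b hb => ?_⟩
    have h1 : ⁅x * y, b⁆ = x * ⁅y, b⁆ * x⁻¹ * ⁅x, b⁆ := by
      simp only [commutatorElement_def]; group
    rw [h1]; exact mul_mem (hV.conj_mem _ (hy' b hb) x) (hx' b hb)
  inv_mem' := by
    rintro x ⟨hx, hx'⟩
    refine ⟨inv_mem hx, fun b hb => ?_⟩
    have h1 : ⁅x⁻¹, b⁆ = x⁻¹ * ⁅x, b⁆⁻¹ * x⁻¹⁻¹ := by
      simp only [commutatorElement_def]; group
    rw [h1]; exact hV.conj_mem _ (inv_mem (hx' b hb)) x⁻¹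

theorem mem_cenMod {U V B : Subgroup G} {hV : V.Normal} {y : G} :
    y ∈ cenMod U V B hV ↔ y ∈ U ∧ ∀ b ∈ B, ⁅y, b⁆ ∈ V := Iff.rfl

theorem le_cenMod {U V B : Subgroup G} (hV : V.Normal) (hVU : V ≤ U) : V ≤ cenMod U V B hV := by
  intro v hv
  refine ⟨hVU hv, fun b _ => ?_⟩
  have h1 : ⁅v, b⁆ = v * (b * v⁻¹ * b⁻¹) := by simp only [commutatorElement_def]; group
  rw [h1]; exact mul_mem hv (hV.conj_mem _ (inv_mem hv) b)

theorem conj_mem_cenMod {U V B : Subgroup G} (hV : V.Normal) (hVU : V ≤ U) (hUU : ⁅U, U⁆ ≤ V)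
    {u y : G} (hu : u ∈ U) (hy : y ∈ cenMod U V B hV) : u * y * u⁻¹ ∈ cenMod U V B hV := by
  have h1 : u * y * u⁻¹ = ⁅u, y⁆ * y := by simp only [commutatorElement_def]; group
  rw [h1]
  exact mul_mem (le_cenMod hV hVU (hUU (Subgroup.commutator_mem_commutator hu hy.1))) hy

/-- the elements of `U` on which `B` acts quadratically modulo `V` -/
def quadMod (U V B : Subgroup G) (hV : V.Normal) (hVU : V ≤ U) (hUU : ⁅U, U⁆ ≤ V) :
    Subgroup G where
  carrier := {m | m ∈ U ∧ ∀ b ∈ B, ⁅m, b⁆ ∈ cenMod U V B hV}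
  one_mem' := ⟨one_mem U, fun b _ => by rw [commutatorElement_one_left]; exact one_mem _⟩
  mul_mem' := by
    rintro x y ⟨hx, hx'⟩ ⟨hy, hy'⟩
    refine ⟨mul_mem hx hy, fun b hb => ?_⟩
    have h1 : ⁅x * y, b⁆ = x * ⁅y, b⁆ * x⁻¹ * ⁅x, b⁆ := by
      simp only [commutatorElement_def]; group
    rw [h1]; exact mul_mem (conj_mem_cenMod hV hVU hUU hx (hy' b hb)) (hx' b hb)
  inv_mem' := by
    rintro x ⟨hx, hx'⟩
    refine ⟨inv_mem hx, fun b hb => ?_⟩
    have h1 : ⁅x⁻¹, b⁆ = x⁻¹ * ⁅x, b⁆⁻¹ * x⁻¹⁻¹ := by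
      simp only [commutatorElement_def]; group
    rw [h1]; exact conj_mem_cenMod hV hVU hUU (inv_mem hx) (inv_mem (hx' b hb))

theorem mem_quadMod {U V B : Subgroup G} {hV : V.Normal} {hVU : V ≤ U} {hUU : ⁅U, U⁆ ≤ V}
    {m : G} : m ∈ quadMod U V B hV hVU hUU ↔ m ∈ U ∧ ∀ b ∈ B, ⁅m, b⁆ ∈ cenMod U V B hV := Iff.rfl

/-- **Quadratic action on a chief factor from a two-step filtration.**  If `U` is generated by
minimal `H'`-invariant subgroups over `V`, and `B ≤ H'` acts quadratically on the `H'`-invariant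
subgroup `Y₀` and maps `U` into `Y₀` after two commutations, then `B` is quadratic on `U / V`. -/
theorem quad_of_gen {H' B U V Y₀ : Subgroup G} (hUn : U.Normal) (hVn : V.Normal) (hVU : V ≤ U)
    (hUU : ⁅U, U⁆ ≤ V) (hBH : B ≤ H') (hHY : H' ≤ normalizer (Y₀ : Set G))
    (hq1 : ∀ y ∈ Y₀, ∀ b ∈ B, ∀ b' ∈ B, ⁅⁅y, b⁆, b'⁆ = 1)
    (hq2 : ∀ u ∈ U, ∀ b ∈ B, ∀ b' ∈ B, ⁅⁅u, b⁆, b'⁆ ∈ Y₀)
    (hgen : U ≤ sSup {M : Subgroup G | M ≤ U ∧ IsMinOver H' V M}) : ⁅⁅U, B⁆, B⁆ ≤ V := by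
  have hcomm_mem : ∀ (M : Subgroup G), B ≤ normalizer (M : Set G) → ∀ m ∈ M, ∀ b ∈ B,
      ⁅m, b⁆ ∈ M := by
    intro M hBM m hm b hb
    have h1 : ⁅m, b⁆ = m * (b * m⁻¹ * b⁻¹) := by simp only [commutatorElement_def]; group
    rw [h1]
    exact mul_mem hm (conj_mem_of_mem_normalizer' (hBM hb) (inv_mem hm))
  have hUE : U ≤ quadMod U V B hVn hVU hUU := by
    refine hgen.trans (sSup_le ?_)
    rintro M ⟨hMU, hVM, hHM, hmin⟩
    have hHV : H' ≤ normalizer (V : Set G) := by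
      rw [Subgroup.normalizer_eq_top_iff.mpr hVn]; exact le_top
    have hN1 : H' ≤ normalizer (((M ⊓ Y₀) ⊔ V : Subgroup G) : Set G) :=
      Cfsg.H5.KI.le_normalizer_sup (Cfsg.H5.KI.le_normalizer_inf hHM hHY) hHV
    have hN2 : V ≤ (M ⊓ Y₀) ⊔ V := le_sup_right
    have hN3 : (M ⊓ Y₀) ⊔ V ≤ M := sup_le inf_le_left hVM.le
    have hBM : B ≤ normalizer (M : Set G) := hBH.trans hHM
    rcases hmin _ hN2 hN3 hN1 with h | h
    · -- `M ∩ Y₀ ≤ V`
      have hMY : M ⊓ Y₀ ≤ V := le_sup_left.trans h.le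
      intro m hm
      refine ⟨hMU hm, fun b hb => ⟨hUn.conj_mem m (hMU hm) b |> fun _ => ?_, fun b' hb' => ?_⟩⟩
      · exact hMU (hcomm_mem M hBM m hm b hb)
      · apply hMY
        refine Subgroup.mem_inf.mpr ⟨?_, hq2 m (hMU hm) b hb b' hb'⟩
        exact hcomm_mem M hBM _ (hcomm_mem M hBM m hm b hb) b' hb'
    · -- `M = (M ∩ Y₀) V`
      rw [← h]
      refine sup_le ?_ ?_
      · intro y hy
        refine ⟨hMU hy.1, fun b hb => ⟨hMU (hcomm_mem M hBM y hy.1 b hb), fun b' hb' => ?_⟩⟩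
        rw [hq1 y hy.2 b hb b' hb']
        exact one_mem V
      · intro v hv
        refine ⟨hVU hv, fun b hb => le_cenMod hVn hVU ?_⟩
        have h1 : ⁅v, b⁆ = v * (b * v⁻¹ * b⁻¹) := by simp only [commutatorElement_def]; group
        rw [h1]; exact mul_mem hv (hVn.conj_mem _ (inv_mem hv) b)
  have h1 : ⁅U, B⁆ ≤ cenMod U V B hVn := by
    rw [Subgroup.commutator_le]
    intro u hu b hb
    exact (hUE hu).2 b hb
  rw [Subgroup.commutator_le]
  intro y hy b' hb'
  exact (h1 hy).2 b' hb'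

end quad

end Cfsg.Agent.Lib.Helper18.SubnClifford
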