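import Mathlib
import Cfsg.Agent.H5.NPStable
import Cfsg.Agent.S3766
import Cfsg.Agent.Lib.Helper20.IterComm
import Cfsg.Agent.Lib.Helper18.SubnClifford

/-!
# A quadratic nontrivial action on a chief factor contradicts `p`-stability of a quotient

If `U / V` is a chief factor of `G` with `U` a `p`-group and `g` acts quadratically but not
trivially on `U / V`, then `G / V` is not `p`-stable in the normalizer form.
-/

set_option autoImplicit false
set_option linter.unusedSectionVars false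
set_option linter.style.haveILetI false

namespace Cfsg.Agent.Lib.Helper18.ChiefNotStable

open Cfsg Subgroup
open scoped commutatorElement

variable {G : Type*} [Group G] [Finite G] {p : ℕ} [Fact p.Prime]

/-- a normal subgroup all of whose elements act as `p`-elements on the chief factor `U / V` of
`p`-power order centralizes `U / V` -/
theorem commutator_le_of_pElements {U V L : Subgroup G} (hUV : Cfsg.IsChiefFactor U V)
    (hUp : IsPGroup p U) [hLn : L.Normal]
    (hL : ∀ l ∈ L, ∃ k : ℕ, ∀ u ∈ U, ⁅l ^ (p ^ k), u⁆ ∈ V) : ⁅U, L⁆ ≤ V := by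
  obtain ⟨hVU, hUn, hVn, hmax⟩ := hUV
  haveI := hUn
  haveI := hVn
  rcases hmax (V ⊔ ⁅U, L⁆) inferInstance le_sup_left
    (sup_le hVU.le (Subgroup.commutator_le_left U L)) with h | h
  · exact le_sup_right.trans h.le
  · exfalso
    -- the centralizer of `U / V`
    obtain ⟨C₀, hC₀⟩ : ∃ C₀ : Subgroup G, C₀ = Cfsg.Agent.S3766.commSub U V := ⟨_, rfl⟩
    haveI hC₀n : C₀.Normal := by rw [hC₀]; infer_instance
    have hC₀mem : ∀ x : G, x ∈ C₀ ↔ ∀ u ∈ U, ⁅x, u⁆ ∈ V := by
      intro x; rw [hC₀]; exact Cfsg.Agent.S3766.mem_commSub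
    obtain ⟨R, hR⟩ : ∃ R : Subgroup G, R = L ⊓ C₀ := ⟨_, rfl⟩
    haveI hRn : R.Normal := by rw [hR]; infer_instance
    have hRL : R ≤ L := by rw [hR]; exact inf_le_left
    have hRgen : ∀ x ∈ L, (orderOf x).Coprime p → x ∈ R := by
      intro x hx hxc
      obtain ⟨k, hk⟩ := hL x hx
      have h1 : x ^ (p ^ k) ∈ C₀ := (hC₀mem _).mpr hk
      have h2 : (p ^ k).Coprime (orderOf x) := (Nat.Coprime.pow_right k hxc).symm
      obtain ⟨m, hm⟩ := exists_pow_eq_self_of_coprime h2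
      rw [hR]
      refine Subgroup.mem_inf.mpr ⟨hx, ?_⟩
      rw [← hm]
      exact pow_mem h1 m
    obtain ⟨S₀⟩ : Nonempty (Sylow p G) := inferInstance
    obtain ⟨P₀, hP₀⟩ : ∃ P₀ : Subgroup G, P₀ = (S₀ : Subgroup G) ⊓ L := ⟨_, rfl⟩
    have hP₀p : IsPGroup p P₀ := by rw [hP₀]; exact S₀.isPGroup'.to_le inf_le_left
    obtain ⟨E, hE⟩ : ∃ E : Subgroup G, E = U ⊔ P₀ := ⟨_, rfl⟩
    have hEp : IsPGroup p E := by rw [hE]; exact IsPGroup.to_sup_of_normal_left hUp hP₀p
    have hUE : U ≤ E := by rw [hE]; exact le_sup_left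
    have hP₀E : P₀ ≤ E := by rw [hE]; exact le_sup_right
    -- `[U, L] ≤ V [U, P₀]`
    have h1 : ⁅U, L⁆ ≤ V ⊔ ⁅U, P₀⁆ := by
      rw [Subgroup.commutator_le]
      intro u hu l hl
      obtain ⟨y, hy, r, hr, hyr⟩ :=
        Cfsg.Agent.Lib.Helper18.SubnClifford.exists_mul_of_residual S₀ L R hRL hRgen hl
      have hrC : r ∈ C₀ := by rw [hR] at hr; exact hr.2
      have h2 : ⁅u, r⁆ ∈ V := by
        have h3 : ⁅u, r⁆ = (⁅r, u⁆)⁻¹ := (commutatorElement_inv r u).symm
        rw [h3]; exact inv_mem ((hC₀mem r).mp hrC u hu)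
      have e : ⁅u, y * r⁆ = ⁅u, y⁆ * (y * ⁅u, r⁆ * y⁻¹) := by
        simp only [commutatorElement_def, mul_inv_rev, mul_assoc, inv_mul_cancel_left]
      rw [← hyr, e]
      have h4 : ⁅u, y⁆ ∈ ⁅U, P₀⁆ := by
        apply Subgroup.commutator_mem_commutator hu
        rw [hP₀]; exact hy
      have h5 : y * ⁅u, r⁆ * y⁻¹ ∈ V := hVn.conj_mem _ h2 y
      exact mul_mem ((le_sup_right : ⁅U, P₀⁆ ≤ V ⊔ ⁅U, P₀⁆) h4)
        ((le_sup_left : V ≤ V ⊔ ⁅U, P₀⁆) h5)
    have h2 : U ≤ V ⊔ ⁅U, E⁆ := by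
      refine h.ge.trans (sup_le le_sup_left (h1.trans (sup_le le_sup_left ?_)))
      exact (Subgroup.commutator_mono le_rfl hP₀E).trans le_sup_right
    -- nilpotency of `E`
    have h3 : ∀ n : ℕ, U ≤ V ⊔ E.lowerCentralSeries n := by
      intro n
      induction n with
      | zero =>
        rw [Subgroup.lowerCentralSeries_zero]
        exact hUE.trans le_sup_right
      | succ n ih =>
        rw [Subgroup.lowerCentralSeries_succ]
        refine h2.trans (sup_le le_sup_left ?_)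
        refine (Subgroup.commutator_mono ih le_rfl).trans ?_
        exact Cfsg.Agent.Lib.Helper20.IterComm.sup_commutator_le_sup
    obtain ⟨n, hn⟩ := (Subgroup.isNilpotent_iff_lowerCentralSeries E).mp hEp.isNilpotent
    have h4 := h3 n
    rw [hn, sup_bot_eq] at h4
    exact not_le_of_gt hVU h4

/-- **A quadratic nontrivial action on a chief factor gives a non-`p`-stable quotient.** -/
theorem not_nps_of_chief {G : Type*} [Group G] [Finite G] {p : ℕ} [Fact p.Prime]
    {U V : Subgroup G} (hUV : Cfsg.IsChiefFactor U V) (hUp : IsPGroup p U) {g : G}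
    (hq : ⁅⁅U, zpowers g⁆, zpowers g⁆ ≤ V) (hnt : ¬ ⁅U, zpowers g⁆ ≤ V) :
    ∃ (N : Subgroup G) (_ : N.Normal), ¬ Cfsg.IsNormalizerPStable p (G ⧸ N) := by
  have hVn : V.Normal := hUV.2.2.1
  have hUn : U.Normal := hUV.2.1
  haveI := hVn
  refine ⟨V, hVn, fun hst => hnt ?_⟩
  have hπs : Function.Surjective (QuotientGroup.mk' V) := QuotientGroup.mk'_surjective V
  obtain ⟨P, hP⟩ : ∃ P : Subgroup (G ⧸ V), P = U.map (QuotientGroup.mk' V) := ⟨_, rfl⟩
  have hPp : IsPGroup p P := by rw [hP]; exact hUp.map _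
  have hPn : P.Normal := by rw [hP]; exact hUn.map _ hπs
  have hNtop : normalizer (P : Set (G ⧸ V)) = ⊤ := Subgroup.normalizer_eq_top_iff.mpr hPn
  have hgN : QuotientGroup.mk' V g ∈ normalizer (P : Set (G ⧸ V)) := by rw [hNtop]; trivial
  have hq' : ⁅⁅P, zpowers (QuotientGroup.mk' V g)⁆, zpowers (QuotientGroup.mk' V g)⁆ = ⊥ := by
    have h2 : zpowers (QuotientGroup.mk' V g) = (zpowers g).map (QuotientGroup.mk' V) :=
      (MonoidHom.map_zpowers _ _).symm
    rw [h2, hP, ← Subgroup.map_commutator, ← Subgroup.map_commutator,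
      (Subgroup.map_eq_bot_iff _), QuotientGroup.ker_mk']
    exact hq
  obtain ⟨Lb, hCL, -, hNL, hpow, hgL⟩ := Cfsg.H5.NPS.inOp_of_nps hst P hPp _ hgN hq'
  have hLbn : Lb.Normal := by
    rw [hNtop] at hNL
    exact Subgroup.normalizer_eq_top_iff.mp (top_le_iff.mp hNL)
  obtain ⟨L, hL⟩ : ∃ L : Subgroup G, L = Lb.comap (QuotientGroup.mk' V) := ⟨_, rfl⟩
  haveI hLn : L.Normal := by rw [hL]; exact hLbn.comap _
  have hgL' : g ∈ L := by rw [hL]; exact hgL
  have hLpow : ∀ l ∈ L, ∃ k : ℕ, ∀ u ∈ U, ⁅l ^ (p ^ k), u⁆ ∈ V := by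
    intro l hl
    rw [hL] at hl
    obtain ⟨k, hk⟩ := hpow _ hl
    refine ⟨k, fun u hu => ?_⟩
    have h1 : QuotientGroup.mk' V u ∈ P := by rw [hP]; exact Subgroup.mem_map_of_mem _ hu
    have h2 := mem_centralizer_iff.mp hk _ h1
    have h3 : QuotientGroup.mk' V ⁅l ^ (p ^ k), u⁆ = 1 := by
      rw [map_commutatorElement, commutatorElement_eq_one_iff_commute, map_pow]
      exact h2.symm
    rwa [QuotientGroup.mk'_apply, QuotientGroup.eq_one_iff] at h3
  exact (Subgroup.commutator_mono le_rfl (Subgroup.zpowers_le.mpr hgL')).trans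
    (commutator_le_of_pElements hUV hUp hLpow)

end Cfsg.Agent.Lib.Helper18.ChiefNotStable
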