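import Mathlib.GroupTheory.Commutator.Basic
import Mathlib.Algebra.BigOperators.Intervals
import Mathlib.Tactic.Group
import Mathlib.Tactic.Ring

/-!
# Elementwise commutator calculus when the relevant commutators are central

`⁅u, v⁆ = u v u⁻¹ v⁻¹`.  All lemmas carry exactly the commutation hypotheses they need, so that
they can be used inside a subgroup of class at most two of a bigger group.
-/

set_option autoImplicit false

namespace Cfsg.Agent.Lib.Helper18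

open scoped commutatorElement

variable {G : Type*} [Group G]

theorem comm_mul_right_of_commute (u v v' : G) (h : Commute v ⁅u, v'⁆) :
    ⁅u, v * v'⁆ = ⁅u, v⁆ * ⁅u, v'⁆ := by
  have e : ⁅u, v * v'⁆ = ⁅u, v⁆ * (v * ⁅u, v'⁆ * v⁻¹) := by
    simp only [commutatorElement_def]; group
  rw [e, h.eq, mul_assoc, mul_inv_cancel, mul_one]

theorem comm_mul_left_of_commute (u u' v : G) (h : Commute u ⁅u', v⁆) :
    ⁅u * u', v⁆ = ⁅u', v⁆ * ⁅u, v⁆ := by
  have e : ⁅u * u', v⁆ = (u * ⁅u', v⁆ * u⁻¹) * ⁅u, v⁆ := by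
    simp only [commutatorElement_def]; group
  rw [e, h.eq, mul_assoc ⁅u', v⁆, mul_inv_cancel, mul_one]

theorem comm_inv_right_of_commute (u v : G) (h : Commute v ⁅u, v⁆) : ⁅u, v⁻¹⁆ = ⁅u, v⁆⁻¹ := by
  have e : ⁅u, v⁻¹⁆ = v⁻¹ * ⁅u, v⁆⁻¹ * v := by
    simp only [commutatorElement_def]; group
  rw [e, mul_assoc, (h.inv_right).symm.eq, ← mul_assoc, inv_mul_cancel, one_mul]

theorem comm_inv_left_of_commute (u v : G) (h : Commute u ⁅u, v⁆) : ⁅u⁻¹, v⁆ = ⁅u, v⁆⁻¹ := by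
  have e : ⁅u⁻¹, v⁆ = u⁻¹ * ⁅u, v⁆⁻¹ * u := by
    simp only [commutatorElement_def]; group
  rw [e, mul_assoc, (h.inv_right).symm.eq, ← mul_assoc, inv_mul_cancel, one_mul]

/-- `y^n x = ⁅y, x⁆^n x y^n` when `y` commutes with `⁅y, x⁆`. -/
theorem pow_mul_comm_of_commute (x y : G) (hy : Commute y ⁅y, x⁆) (n : ℕ) :
    y ^ n * x = ⁅y, x⁆ ^ n * x * y ^ n := by
  induction n with
  | zero => simp
  | succ n ih =>
    have e : y * x = ⁅y, x⁆ * x * y := by rw [commutatorElement_def]; group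
    calc y ^ (n + 1) * x = y * (y ^ n * x) := by rw [pow_succ', mul_assoc]
      _ = y * (⁅y, x⁆ ^ n * x * y ^ n) := by rw [ih]
      _ = (y * ⁅y, x⁆ ^ n) * x * y ^ n := by simp only [mul_assoc]
      _ = (⁅y, x⁆ ^ n * y) * x * y ^ n := by rw [(hy.pow_right n).eq]
      _ = ⁅y, x⁆ ^ n * (y * x) * y ^ n := by simp only [mul_assoc]
      _ = ⁅y, x⁆ ^ n * (⁅y, x⁆ * x * y) * y ^ n := by rw [e]
      _ = ⁅y, x⁆ ^ (n + 1) * x * y ^ (n + 1) := by
        rw [pow_succ ⁅y, x⁆ n, pow_succ' y n]; simp only [mul_assoc]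

/-- The power formula in class two: `(x y)^n = x^n y^n ⁅y, x⁆^(0 + 1 + ⋯ + (n-1))`. -/
theorem mul_pow_of_commute_comm (x y : G) (hx : Commute x ⁅y, x⁆) (hy : Commute y ⁅y, x⁆) (n : ℕ) :
    (x * y) ^ n = x ^ n * y ^ n * ⁅y, x⁆ ^ (∑ i ∈ Finset.range n, i) := by
  induction n with
  | zero => simp
  | succ n ih =>
    obtain ⟨c, hc⟩ : ∃ c, c = ⁅y, x⁆ := ⟨_, rfl⟩
    obtain ⟨T, hT⟩ : ∃ T, T = ∑ i ∈ Finset.range n, i := ⟨_, rfl⟩
    have h1 := pow_mul_comm_of_commute x y hy n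
    rw [Finset.sum_range_succ, ← hT]
    rw [← hc] at hx hy h1 ih ⊢
    rw [← hT] at ih
    have hxc : ∀ k : ℕ, c ^ k * x = x * c ^ k := fun k => ((hx.pow_right k).eq).symm
    have hyc : ∀ k : ℕ, c ^ k * y = y * c ^ k := fun k => ((hy.pow_right k).eq).symm
    have hxnc : ∀ k : ℕ, c ^ k * x ^ n = x ^ n * c ^ k := fun k =>
      (((hx.pow_right k).pow_left n).eq).symm
    have hync : ∀ k : ℕ, c ^ k * y ^ n = y ^ n * c ^ k := fun k =>
      (((hy.pow_right k).pow_left n).eq).symm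
    calc (x * y) ^ (n + 1) = (x * y) ^ n * (x * y) := pow_succ _ _
      _ = x ^ n * y ^ n * c ^ T * (x * y) := by rw [ih]
      _ = x ^ n * y ^ n * (c ^ T * x) * y := by simp only [mul_assoc]
      _ = x ^ n * y ^ n * (x * c ^ T) * y := by rw [hxc]
      _ = x ^ n * (y ^ n * x) * (c ^ T * y) := by simp only [mul_assoc]
      _ = x ^ n * (c ^ n * x * y ^ n) * (y * c ^ T) := by rw [h1, hyc]
      _ = (x ^ n * c ^ n) * x * (y ^ n * y) * c ^ T := by simp only [mul_assoc]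
      _ = (c ^ n * x ^ n) * x * (y ^ n * y) * c ^ T := by rw [hxnc]
      _ = c ^ n * (x ^ n * x) * (y ^ n * y) * c ^ T := by simp only [mul_assoc]
      _ = c ^ n * (x ^ (n + 1) * y ^ (n + 1)) * c ^ T := by
        rw [← pow_succ, ← pow_succ]; simp only [mul_assoc]
      _ = x ^ (n + 1) * y ^ (n + 1) * c ^ (T + n) := by
        have h2 : c ^ n * (x ^ (n + 1) * y ^ (n + 1)) = (x ^ (n + 1) * y ^ (n + 1)) * c ^ n := by
          have hcx : Commute (c ^ n) (x ^ (n + 1)) := ((hx.pow_right n).pow_left (n + 1)).symm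
          have hcy : Commute (c ^ n) (y ^ (n + 1)) := ((hy.pow_right n).pow_left (n + 1)).symm
          exact (hcx.mul_right hcy).eq
        rw [h2, mul_assoc, ← pow_add, Nat.add_comm n T]

/-- For odd `n`, `n` divides `0 + 1 + ⋯ + (n-1)`. -/
theorem sum_range_id_eq_mul_of_odd {n : ℕ} (hn : Odd n) :
    ∃ m : ℕ, (∑ i ∈ Finset.range n, i) = n * m := by
  obtain ⟨m, hm⟩ := hn
  refine ⟨m, ?_⟩
  have h2 := Finset.sum_range_id_mul_two n
  have e : n - 1 = 2 * m := by omega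
  rw [e] at h2
  have h3 : (∑ i ∈ Finset.range n, i) * 2 = (n * m) * 2 := by rw [h2]; ring
  exact Nat.eq_of_mul_eq_mul_right (by norm_num) h3

/-- In class two, `(x y)^n = x^n y^n` when `n` is odd and `⁅y, x⁆^n = 1`. -/
theorem mul_pow_of_odd_of_comm_pow_eq_one (x y : G) (hx : Commute x ⁅y, x⁆)
    (hy : Commute y ⁅y, x⁆) {n : ℕ} (hn : Odd n) (hc : ⁅y, x⁆ ^ n = 1) :
    (x * y) ^ n = x ^ n * y ^ n := by
  obtain ⟨m, hm⟩ := sum_range_id_eq_mul_of_odd hn
  rw [mul_pow_of_commute_comm x y hx hy n, hm, pow_mul, hc, one_pow, mul_one]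

end Cfsg.Agent.Lib.Helper18
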