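import Mathlib
import Cfsg.Prelude.Def_Transfer
import Cfsg.Agent.Lib.Helper18.Conj
import Cfsg.Agent.Lib.Helper18.MaxAbelian

set_option autoImplicit false

/-!
# Elementary abelian subgroups of largest order and the Thompson subgroup `J_e`

`IsMaxEAIn p S B` : `B` is an elementary abelian `p`-subgroup of `S` of largest order (ambient
subgroups, elementwise); `Cfsg.thompsonSubgroupOf p S = sSup {B | IsMaxEAIn p S B}`; conjugation
lemmas.
-/

namespace Cfsg.Agent.Lib.Helper18

open Subgroup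

section MaxEA

variable {G : Type*} [Group G]

/-- `B` is an elementary abelian `p`-subgroup of `S` of largest possible order. -/
def IsMaxEAIn (p : ℕ) (S B : Subgroup G) : Prop :=
  B ≤ S ∧ (∀ x ∈ B, ∀ y ∈ B, x * y = y * x) ∧ (∀ x ∈ B, x ^ p = 1) ∧
    ∀ C : Subgroup G, C ≤ S → (∀ x ∈ C, ∀ y ∈ C, x * y = y * x) → (∀ x ∈ C, x ^ p = 1) →
      Nat.card C ≤ Nat.card B

theorem isMaxEAIn_map (p : ℕ) (S : Subgroup G) {A : Subgroup ↥S}
    (hA : A ∈ Cfsg.maxElementaryAbelianSubgroups p ↥S) : IsMaxEAIn p S (A.map S.subtype) := by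
  obtain ⟨⟨hAc, hAe⟩, hAmax⟩ := hA
  refine ⟨Subgroup.map_subtype_le A, ?_, ?_, ?_⟩
  · rintro _ ⟨a, ha, rfl⟩ _ ⟨b, hb, rfl⟩
    have := (isMulCommutative_iff_forall A).mp hAc a ha b hb
    exact congrArg Subtype.val this
  · rintro _ ⟨a, ha, rfl⟩
    have := hAe a ha
    rw [← map_pow, this, map_one]
  · intro C hCS hC hCe
    have hC' : Cfsg.IsElementaryAbelian p (C.subgroupOf S) := by
      refine ⟨?_, ?_⟩
      · rw [isMulCommutative_iff_forall]
        intro x hx y hy
        apply Subtype.ext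
        exact hC x hx y hy
      · intro x hx
        apply Subtype.ext
        rw [Subgroup.coe_pow]
        exact hCe x hx
    have h1 := hAmax _ hC'
    rw [Subgroup.card_map_of_injective S.subtype_injective]
    rw [Nat.card_congr (Subgroup.subgroupOfEquivOfLe hCS).toEquiv] at h1
    exact h1

theorem mem_maxEA_subgroupOf (p : ℕ) (S : Subgroup G) {B : Subgroup G} (hB : IsMaxEAIn p S B) :
    B.subgroupOf S ∈ Cfsg.maxElementaryAbelianSubgroups p ↥S := by
  obtain ⟨hBS, hBc, hBe, hBmax⟩ := hB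
  refine ⟨⟨?_, ?_⟩, ?_⟩
  · rw [isMulCommutative_iff_forall]
    intro x hx y hy
    apply Subtype.ext
    exact hBc x hx y hy
  · intro x hx
    apply Subtype.ext
    rw [Subgroup.coe_pow]
    exact hBe x hx
  · intro C hC
    obtain ⟨hCc, hCe⟩ := hC
    have hCc' : ∀ x ∈ C.map S.subtype, ∀ y ∈ C.map S.subtype, x * y = y * x := by
      rintro _ ⟨a, ha, rfl⟩ _ ⟨b, hb, rfl⟩
      have := (isMulCommutative_iff_forall C).mp hCc a ha b hb
      exact congrArg Subtype.val this
    have hCe' : ∀ x ∈ C.map S.subtype, x ^ p = 1 := by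
      rintro _ ⟨a, ha, rfl⟩
      rw [← map_pow, hCe a ha, map_one]
    have h1 := hBmax (C.map S.subtype) (Subgroup.map_subtype_le C) hCc' hCe'
    rw [Subgroup.card_map_of_injective S.subtype_injective] at h1
    rw [Nat.card_congr (Subgroup.subgroupOfEquivOfLe hBS).toEquiv]
    exact h1

theorem thompsonSubgroupOf_eq_sSup (p : ℕ) (S : Subgroup G) :
    Cfsg.thompsonSubgroupOf p S = sSup {B | IsMaxEAIn p S B} := by
  unfold Cfsg.thompsonSubgroupOf Cfsg.thompsonSubgroup
  apply le_antisymm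
  · rw [Subgroup.map_le_iff_le_comap]
    apply sSup_le
    intro A hA
    rw [← Subgroup.map_le_iff_le_comap]
    exact le_sSup (isMaxEAIn_map p S hA)
  · apply sSup_le
    intro B hB
    calc B = (B.subgroupOf S).map S.subtype := (Subgroup.map_subgroupOf_eq_of_le hB.1).symm
      _ ≤ _ := Subgroup.map_mono (le_sSup (mem_maxEA_subgroupOf p S hB))

/-- If all elementary abelian subgroups of largest order of `S` lie in `X`, so does `J_e(S)`. -/
theorem thompsonSubgroupOf_le (p : ℕ) (S X : Subgroup G) (h : ∀ B, IsMaxEAIn p S B → B ≤ X) :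
    Cfsg.thompsonSubgroupOf p S ≤ X := by
  rw [thompsonSubgroupOf_eq_sSup]
  exact sSup_le h

theorem isMaxEAIn_cj (p : ℕ) (S : Subgroup G) (g : G) {B : Subgroup G} (hB : IsMaxEAIn p S B)
    (hgB : cj g B ≤ S) : IsMaxEAIn p S (cj g B) := by
  refine ⟨hgB, ?_, ?_, ?_⟩
  · rintro _ ⟨a, ha, rfl⟩ _ ⟨b, hb, rfl⟩
    have := hB.2.1 a ha b hb
    show g * a * g⁻¹ * (g * b * g⁻¹) = g * b * g⁻¹ * (g * a * g⁻¹)
    calc g * a * g⁻¹ * (g * b * g⁻¹) = g * (a * b) * g⁻¹ := by group
      _ = g * (b * a) * g⁻¹ := by rw [this]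
      _ = g * b * g⁻¹ * (g * a * g⁻¹) := by group
  · rintro _ ⟨a, ha, rfl⟩
    rw [← map_pow, hB.2.2.1 a ha, map_one]
  · intro C hC hCc hCe
    rw [card_cj]
    exact hB.2.2.2 C hC hCc hCe

/-- An element conjugating every elementary abelian subgroup of largest order of `S` into `S`
normalizes `J_e(S)`. -/
theorem mem_normalizer_thompsonSubgroupOf [Finite G] (p : ℕ) (S : Subgroup G) (g : G)
    (h : ∀ B, IsMaxEAIn p S B → cj g B ≤ S) :
    g ∈ normalizer (Cfsg.thompsonSubgroupOf p S : Set G) := by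
  rw [mem_normalizer_iff_cj]
  apply cj_eq_of_le
  rw [thompsonSubgroupOf_eq_sSup]
  show Subgroup.map _ _ ≤ _
  rw [Subgroup.map_le_iff_le_comap]
  apply sSup_le
  intro B hB
  rw [← Subgroup.map_le_iff_le_comap]
  exact le_sSup (isMaxEAIn_cj p S g hB (h B hB))

end MaxEA

end Cfsg.Agent.Lib.Helper18
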