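import Mathlib
import Cfsg.Agent.Lib.Helper18.MaxEA
import Cfsg.Agent.Lib.Helper18.OffenderTwoB
import Cfsg.Agent.Lib.Helper18.S4Section
import Cfsg.Agent.Lib.Helper18.ProductFormula
import Cfsg.Agent.Lib.Helper1.ThompsonNPC
import Cfsg.Agent.Lib.Helper1.Hall
import Cfsg.Agent.Lib.Helper1.CoprimeAbelian
import Cfsg.Agent.Lib.Helper10.Basic

set_option autoImplicit false

/-!
# Sylow `2`-subgroups of class at most `2` in `S₄`-free groups

`cenQuot P` : the elements of `G` acting trivially on `P / Z(P)`;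
`pow_two_pow_eq_one_of_mem_cenQuot` : if `C_G(P) ≤ P` for the normal `2`-subgroup `P`, then an
element of `cenQuot P` centralizing `Ω₁(Z(P))` is a `2`-element;
`key_core` : if `O₂(G) = P` contains its centralizer, `S₄` is not involved in `G`, a Sylow
`2`-subgroup `S` has class at most `2` and nontrivial elementary abelian `2`-subgroups of `G / P`
admit "stage 1 data", then every elementary abelian subgroup of largest order of `S` lies in `P`.
-/

namespace Cfsg.Agent.Lib.Helper18.ClassTwoJe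

open Subgroup Cfsg Cfsg.Agent.Lib.Helper18 Cfsg.Agent.Lib.Helper1 Cfsg.Agent.Lib.Helper1.ThompsonNPC
open scoped commutatorElement

universe u

variable {G : Type u} [Group G]

section CenQuot

variable (P : Subgroup G) [hPn : P.Normal]

theorem zcent_conj_mem {c : G} (hc : c ∈ P ⊓ centralizer (P : Set G)) (g : G) :
    g * c * g⁻¹ ∈ P ⊓ centralizer (P : Set G) :=
  Subgroup.mem_inf.mpr ⟨hPn.conj_mem c (Subgroup.mem_inf.mp hc).1 g,
    (Subgroup.normal_centralizer (H := P)).conj_mem c (Subgroup.mem_inf.mp hc).2 g⟩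

theorem zcent_normal : (P ⊓ centralizer (P : Set G)).Normal :=
  ⟨fun _ hn g => zcent_conj_mem P hn g⟩

/-- The elements of `G` acting trivially on `P / Z(P)`. -/
def cenQuot : Subgroup G where
  carrier := {g | ∀ x ∈ P, ⁅x, g⁆ ∈ P ⊓ centralizer (P : Set G)}
  one_mem' := by
    intro x _
    rw [commutatorElement_one_right]
    exact Subgroup.one_mem _
  mul_mem' := by
    intro g h hg hh x hx
    have e : ⁅x, g * h⁆ = ⁅x, g⁆ * (g * ⁅x, h⁆ * g⁻¹) := by
      simp only [commutatorElement_def]; group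
    rw [e]
    exact Subgroup.mul_mem _ (hg x hx) (zcent_conj_mem P (hh x hx) g)
  inv_mem' := by
    intro g hg x hx
    have e : ⁅x, g⁻¹⁆ = g⁻¹ * ⁅x, g⁆⁻¹ * g⁻¹⁻¹ := by
      simp only [commutatorElement_def]; group
    rw [e]
    exact zcent_conj_mem P (Subgroup.inv_mem _ (hg x hx)) g⁻¹

theorem mem_cenQuot {g : G} :
    g ∈ cenQuot P ↔ ∀ x ∈ P, ⁅x, g⁆ ∈ P ⊓ centralizer (P : Set G) := Iff.rfl

theorem cenQuot_normal : (cenQuot P).Normal := by
  constructor
  intro g hg h x hx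
  have e : ⁅x, h * g * h⁻¹⁆ = h * ⁅h⁻¹ * x * h⁻¹⁻¹, g⁆ * h⁻¹ := by
    simp only [commutatorElement_def]; group
  rw [e]
  exact zcent_conj_mem P (hg _ (hPn.conj_mem x hx h⁻¹)) h

/-- If the normal `2`-subgroup `P` contains its centralizer, an element acting trivially on
`P / Z(P)` and on `Ω₁(Z(P))` is a `2`-element. -/
theorem pow_two_pow_eq_one_of_mem_cenQuot [Finite G] (hP2 : IsPGroup 2 P)
    (hC : centralizer (P : Set G) ≤ P) {g : G} (hgM : g ∈ cenQuot P)
    (hgV : ∀ v ∈ P, v ∈ centralizer (P : Set G) → v ^ 2 = 1 → g * v = v * g) :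
    ∃ j : ℕ, g ^ (2 ^ j) = 1 := by
  have hp2 : Fact (Nat.Prime 2) := ⟨Nat.prime_two⟩
  obtain ⟨j, m, hm, hjm⟩ := Nat.exists_eq_two_pow_mul_odd (orderOf_pos g).ne'
  refine ⟨j, ?_⟩
  obtain ⟨g', hg'⟩ : ∃ g' : G, g' = g ^ (2 ^ j) := ⟨_, rfl⟩
  rw [← hg']
  have hg'm : g' ^ m = 1 := by
    rw [hg', ← pow_mul, ← hjm, pow_orderOf_eq_one]
  obtain ⟨B, hB⟩ : ∃ B : Subgroup G, B = zpowers g' := ⟨_, rfl⟩
  have hBcard : Nat.card B ∣ m := by
    rw [hB, Nat.card_zpowers]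
    exact orderOf_dvd_of_pow_eq_one hg'm
  have hBodd : (Nat.card B).Coprime 2 := by
    have h1 : m.Coprime 2 := Nat.Coprime.symm (Nat.coprime_two_left.mpr hm)
    exact Nat.Coprime.coprime_dvd_left hBcard h1
  obtain ⟨k, hk⟩ := hP2.exists_card_eq
  have hBM : B ≤ cenQuot P := by
    rw [hB, Subgroup.zpowers_le, hg']
    exact Subgroup.pow_mem _ hgM _
  have hBP : B ≤ normalizer (P : Set G) := by
    rw [Subgroup.normalizer_eq_top_iff.mpr hPn]; exact le_top
  obtain ⟨Z, hZ⟩ : ∃ Z : Subgroup G, Z = P ⊓ centralizer (P : Set G) := ⟨_, rfl⟩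
  have hZn : Z.Normal := by rw [hZ]; exact zcent_normal P
  have hZc : IsMulCommutative Z := by
    rw [isMulCommutative_iff_forall]
    intro x hx y hy
    rw [hZ] at hx hy
    exact Subgroup.mem_centralizer_iff.mp (Subgroup.mem_inf.mp hy).2 x (Subgroup.mem_inf.mp hx).1
  have hBZ : B ≤ normalizer (Z : Set G) := by
    rw [Subgroup.normalizer_eq_top_iff.mpr hZn]; exact le_top
  have hZP : Z ≤ P := by rw [hZ]; exact inf_le_left
  have hcopP : (Nat.card B).Coprime (Nat.card P) := by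
    rw [hk]; exact Nat.Coprime.pow_right k hBodd
  have hcopZ : (Nat.card B).Coprime (Nat.card Z) :=
    Nat.Coprime.coprime_dvd_right (Subgroup.card_dvd_of_le hZP) hcopP
  -- `B` centralizes `Z(P)`
  have hBZc : B ≤ centralizer (Z : Set G) := by
    apply le_centralizer_of_centralizes_prime_order B Z hBZ hcopZ
    intro v hvZ hvprime a ha
    have hvP : v ∈ P := hZP hvZ
    have hvC : v ∈ centralizer (P : Set G) := by rw [hZ] at hvZ; exact (Subgroup.mem_inf.mp hvZ).2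
    have hov : orderOf v ∣ 2 ^ k := by
      rw [← hk]; exact Subgroup.orderOf_dvd_natCard P hvP
    have hov2 : orderOf v = 2 :=
      (Nat.prime_dvd_prime_iff_eq hvprime Nat.prime_two).mp (hvprime.dvd_of_dvd_pow hov)
    have hv2 : v ^ 2 = 1 := by rw [← hov2]; exact pow_orderOf_eq_one v
    have hgv : g * v = v * g := hgV v hvP hvC hv2
    have hle : B ≤ centralizer ({v} : Set G) := by
      rw [hB, Subgroup.zpowers_le, hg', Subgroup.mem_centralizer_singleton_iff]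
      have hc : Commute g v := hgv
      exact (hc.pow_left _).eq
    exact Subgroup.mem_centralizer_singleton_iff.mp (hle ha)
  -- `[P, B] ≤ Z(P)` and so `[P, B, B] = 1`
  have hPBZ : ⁅P, B⁆ ≤ Z := by
    rw [Subgroup.commutator_le]
    intro x hx b hb
    rw [hZ]
    exact hBM hb x hx
  have hco : CoprimeAct B P :=
    ⟨hBP, hcopP, Or.inr (by
      have := hP2.isNilpotent
      infer_instance)⟩
  have h1 : ⁅⁅P, B⁆, B⁆ = ⊥ := by
    rw [eq_bot_iff]
    refine (Subgroup.commutator_mono hPBZ le_rfl).trans ?_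
    rw [Subgroup.commutator_comm, Subgroup.commutator_eq_bot_iff_le_centralizer.mpr hBZc]
  have h2 : ⁅P, B⁆ = ⊥ := by rw [← hco.commutator_commutator_eq, h1]
  have h3 : B ≤ centralizer (P : Set G) := by
    rw [Subgroup.commutator_comm] at h2
    exact Subgroup.commutator_eq_bot_iff_le_centralizer.mp h2
  have hg'P : g' ∈ P := hC (h3 (by rw [hB]; exact Subgroup.mem_zpowers g'))
  have h4 : orderOf g' ∣ 2 ^ k := by
    rw [← hk]; exact Subgroup.orderOf_dvd_natCard P hg'P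
  have h5 : orderOf g' ∣ m := orderOf_dvd_of_pow_eq_one hg'm
  have h6 : (2 ^ k).Coprime m := Nat.Coprime.pow_left k (Nat.coprime_two_left.mpr hm)
  exact orderOf_eq_one_iff.mp (Nat.eq_one_of_dvd_coprimes h6 h4 h5)

end CenQuot

section Key

variable [Finite G]

/-- **Key lemma.** Let `P ≤ S` be a normal `2`-subgroup of `G` containing its centralizer, let `S₄`
be not involved in `G`, let the Sylow `2`-subgroup `S` have class at most `2`, and assume that
nontrivial elementary abelian `2`-subgroups of `G / P` admit "stage 1 data". Then every elementary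
abelian subgroup of largest order of `S` lies in `P`. -/
theorem key_core (hS4 : ¬ Cfsg.Involves (Equiv.Perm (Fin 4)) G) (P : Subgroup G) [hPn : P.Normal]
    (hPp : IsPGroup 2 P) (hC : centralizer (P : Set G) ≤ P)
    (hst1 : ∀ D : Subgroup (G ⧸ P), D ≠ ⊥ → (∀ a ∈ D, ∀ b ∈ D, a * b = b * a) →
      (∀ d ∈ D, d ^ 2 = 1) →
      ∃ d₁ ∈ D, ∃ D₀ : Subgroup (G ⧸ P), ∃ x z : G ⧸ P,
        z = x⁻¹ * (d₁ * x * d₁⁻¹) ∧ D₀ ≤ D ∧ 2 * Nat.card D₀ = Nat.card D ∧ z ≠ 1 ∧
        (orderOf z).Coprime 2 ∧ d₁ * z * d₁⁻¹ = z⁻¹ ∧ ∀ e ∈ D₀, e * z = z * e)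
    (S : Sylow 2 G) (hPS : P ≤ S)
    (hcl : ∀ s ∈ (S : Subgroup G), ∀ t ∈ (S : Subgroup G), ∀ u ∈ (S : Subgroup G),
      ⁅⁅s, t⁆, u⁆ = 1)
    (A : Subgroup G) (hA : IsMaxEAIn 2 (S : Subgroup G) A) : A ≤ P := by
  classical
  have hp2 : Fact (Nat.Prime 2) := ⟨Nat.prime_two⟩
  by_contra hAP
  obtain ⟨hAS, hAab, hA2, hAmax⟩ := hA
  obtain ⟨V, hV⟩ : ∃ V : Subgroup G, V = omegaCenter 2 P := ⟨_, rfl⟩
  have hVn : V.Normal := by rw [hV]; exact omegaCenter_normal P
  have hVmem : ∀ v, v ∈ V ↔ v ∈ P ∧ v ∈ centralizer (P : Set G) ∧ v ^ 2 = 1 := by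
    intro v; rw [hV]; exact Iff.rfl
  have hVP : V ≤ P := fun x hx => ((hVmem x).mp hx).1
  have hVS : V ≤ S := hVP.trans hPS
  have hVab : ∀ a ∈ V, ∀ b ∈ V, a * b = b * a := fun a ha b hb =>
    Subgroup.mem_centralizer_iff.mp ((hVmem b).mp hb).2.1 a ((hVmem a).mp ha).1
  have hV2' : ∀ v ∈ V, v ^ 2 = 1 := fun v hv => ((hVmem v).mp hv).2.2
  have hPV : ∀ x ∈ P, ∀ v ∈ V, x * v = v * x := fun x hx v hv =>
    Subgroup.mem_centralizer_iff.mp ((hVmem v).mp hv).2.1 x hx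
  -- `S` acts trivially on `P / Z(P)`
  obtain ⟨M, hM⟩ : ∃ M : Subgroup G, M = cenQuot P := ⟨_, rfl⟩
  have hMn : M.Normal := by rw [hM]; exact cenQuot_normal P
  have hSM : (S : Subgroup G) ≤ M := by
    intro s hs
    rw [hM, mem_cenQuot]
    intro x hx
    refine Subgroup.mem_inf.mpr ⟨?_, ?_⟩
    · have e : ⁅x, s⁆ = x * (s * x⁻¹ * s⁻¹) := by rw [commutatorElement_def]; group
      rw [e]
      exact P.mul_mem hx (hPn.conj_mem _ (P.inv_mem hx) s)
    · rw [Subgroup.mem_centralizer_iff]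
      intro y hy
      have h1 := hcl x (hPS hx) s hs y (hPS hy)
      rw [commutatorElement_eq_one_iff_commute] at h1
      exact h1.eq.symm
  -- the quotient and the action on `V`
  set π := QuotientGroup.mk' P with hπ
  have hπs : Function.Surjective π := QuotientGroup.mk'_surjective _
  have hπker : ∀ g : G, π g = 1 ↔ g ∈ P := by
    intro g; rw [hπ]; exact QuotientGroup.eq_one_iff g
  let _ : CommGroup V :=
    { (inferInstance : Group V) with
      mul_comm := fun x y => Subtype.ext (hVab x x.2 y y.2) }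
  let φ₀ : G →* MulAut V := MulAut.conjNormal
  have hker : ∀ g : G, g ∈ P → φ₀ g = 1 := by
    intro g hg
    apply MulEquiv.ext
    intro v
    apply Subtype.ext
    rw [MulAut.conjNormal_apply]
    have := hPV g hg v v.2
    rw [this]
    simp
  let φ : (G ⧸ P) →* MulAut V := QuotientGroup.lift P φ₀ hker
  have hφ : ∀ g : G, φ (π g) = φ₀ g := fun g => rfl
  have hφval : ∀ (g : G) (v : V), ((φ (π g) v : V) : G) = g * (v : G) * g⁻¹ := by
    intro g v
    rw [hφ]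
    exact MulAut.conjNormal_apply g v
  have hV2 : ∀ m : V, m ^ 2 = 1 := by
    intro m
    apply Subtype.ext
    rw [Subgroup.coe_pow]
    exact hV2' m m.2
  -- the image of `A`
  obtain ⟨D, hD⟩ : ∃ D : Subgroup (G ⧸ P), D = A.map π := ⟨_, rfl⟩
  have hDne : D ≠ ⊥ := by
    intro hbot
    apply hAP
    intro b hb
    have h1 : π b ∈ D := by rw [hD]; exact Subgroup.mem_map_of_mem π hb
    rw [hbot, Subgroup.mem_bot] at h1
    exact (hπker b).mp h1
  have hDab : ∀ a ∈ D, ∀ b ∈ D, a * b = b * a := by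
    rw [hD]
    rintro _ ⟨a, ha, rfl⟩ _ ⟨b, hb, rfl⟩
    rw [← map_mul, ← map_mul, hAab a ha b hb]
  have hD2 : ∀ d ∈ D, d ^ 2 = 1 := by
    rw [hD]
    rintro _ ⟨a, ha, rfl⟩
    rw [← map_pow, hA2 a ha, map_one]
  have hquad : ∀ a ∈ D, ∀ b ∈ D, ∀ v : V, φ a (φ b v / v) = φ b v / v := by
    rw [hD]
    rintro _ ⟨a, ha, rfl⟩ _ ⟨b, hb, rfl⟩ v
    apply Subtype.ext
    rw [hφval, Subgroup.coe_div, hφval]
    have h1 := hcl b (hAS hb) (v : G) (hVS v.2) a (hAS ha)
    rw [commutatorElement_eq_one_iff_commute] at h1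
    have h2 : a * ⁅b, (v : G)⁆ = ⁅b, (v : G)⁆ * a := h1.eq.symm
    rw [commutatorElement_def] at h2
    rw [div_eq_mul_inv, h2, mul_inv_cancel_right]
  -- stage 1
  obtain ⟨d₁, hd₁D, D₀, xbar, z, hzdef, hD₀D, hcard, hz1, hzodd, hinv, hcomm⟩ :=
    hst1 D hDne hDab hD2
  obtain ⟨a₁, ha₁A, ha₁⟩ : ∃ a₁ ∈ A, π a₁ = d₁ := by
    rw [hD] at hd₁D
    obtain ⟨a₁, h1, h2⟩ := hd₁D
    exact ⟨a₁, h1, h2⟩
  obtain ⟨x₀, hx₀⟩ := hπs xbar
  obtain ⟨z₀, hz₀⟩ : ∃ z₀ : G, z₀ = x₀⁻¹ * (a₁ * x₀ * a₁⁻¹) := ⟨_, rfl⟩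
  have hπz₀ : π z₀ = z := by
    rw [hz₀, hzdef, map_mul, map_mul, map_mul, map_inv, map_inv, hx₀, ha₁]
  have hz₀M : z₀ ∈ M := by
    rw [hz₀]
    have h1 : a₁ ∈ M := hSM (hAS ha₁A)
    have h2 : x₀⁻¹ * a₁ * x₀⁻¹⁻¹ ∈ M := hMn.conj_mem a₁ h1 x₀⁻¹
    have h3 : x₀⁻¹ * (a₁ * x₀ * a₁⁻¹) = (x₀⁻¹ * a₁ * x₀⁻¹⁻¹) * a₁⁻¹ := by group
    rw [h3]
    exact M.mul_mem h2 (M.inv_mem h1)
  -- faithfulness on the powers of `z`
  have hφz : ∀ k : ℕ, φ (z ^ k) = 1 → z ^ k = 1 := by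
    intro k hk
    have h1 : z₀ ^ k ∈ cenQuot P := by rw [← hM]; exact M.pow_mem hz₀M k
    have h2 : ∀ v ∈ P, v ∈ centralizer (P : Set G) → v ^ 2 = 1 → z₀ ^ k * v = v * z₀ ^ k := by
      intro v hvP hvC hv2
      have hvV : v ∈ V := (hVmem v).mpr ⟨hvP, hvC, hv2⟩
      have h3 : φ (π (z₀ ^ k)) ⟨v, hvV⟩ = ⟨v, hvV⟩ := by
        rw [map_pow, hπz₀, hk]; rfl
      have h4 : z₀ ^ k * v * (z₀ ^ k)⁻¹ = v := by
        have := congrArg Subtype.val h3
        rwa [hφval] at this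
      calc z₀ ^ k * v = (z₀ ^ k * v * (z₀ ^ k)⁻¹) * z₀ ^ k := by group
        _ = v * z₀ ^ k := by rw [h4]
    obtain ⟨j, hj⟩ := pow_two_pow_eq_one_of_mem_cenQuot P hPp hC h1 h2
    have h5 : (z ^ k) ^ (2 ^ j) = 1 := by
      rw [← hπz₀, ← map_pow, ← map_pow, hj, map_one]
    have h6 : orderOf (z ^ k) ∣ 2 ^ j := orderOf_dvd_of_pow_eq_one h5
    have h7 : orderOf (z ^ k) ∣ orderOf z := orderOf_pow_dvd k
    have h8 : (orderOf z).Coprime (2 ^ j) := Nat.Coprime.pow_right j hzodd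
    exact orderOf_eq_one_iff.mp (Nat.eq_one_of_dvd_coprimes h8 h7 h6)
  -- fixed points
  have hfixeq : ∀ Y : Subgroup G, ∀ v : V,
      v ∈ OffenderTwo.fixV φ (Y.map π) ↔ (v : G) ∈ V ⊓ centralizer (Y : Set G) := by
    intro Y v
    rw [OffenderTwo.mem_fixV]
    constructor
    · intro h
      refine Subgroup.mem_inf.mpr ⟨v.2, ?_⟩
      rw [Subgroup.mem_centralizer_iff]
      intro y hy
      have h2 := h (π y) (Subgroup.mem_map_of_mem π hy)
      have h3 : y * (v : G) * y⁻¹ = v := by rw [← hφval, h2]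
      calc y * (v : G) = (y * v * y⁻¹) * y := by group
        _ = v * y := by rw [h3]
    · rintro h _ ⟨y, hy, rfl⟩
      apply Subtype.ext
      rw [hφval]
      have h2 := Subgroup.mem_centralizer_iff.mp (Subgroup.mem_inf.mp h).2 y hy
      rw [h2, mul_inv_cancel_right]
  have hfixcard : ∀ Y : Subgroup G,
      Nat.card (OffenderTwo.fixV φ (Y.map π)) = Nat.card ↥(V ⊓ centralizer (Y : Set G)) := by
    intro Y
    have e : OffenderTwo.fixV φ (Y.map π) = (V ⊓ centralizer (Y : Set G)).subgroupOf V := by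
      ext v
      rw [hfixeq, Subgroup.mem_subgroupOf]
    rw [e]
    exact Nat.card_congr (Subgroup.subgroupOfEquivOfLe inf_le_left).toEquiv
  -- the offender inequality
  have hoff : Nat.card (OffenderTwo.fixV φ D₀) ≤ 2 * Nat.card (OffenderTwo.fixV φ D) := by
    obtain ⟨Y, hY⟩ : ∃ Y : Subgroup G, Y = A ⊓ D₀.comap π := ⟨_, rfl⟩
    have hYA : Y ≤ A := by rw [hY]; exact inf_le_left
    have hYmap : Y.map π = D₀ := by
      apply le_antisymm
      · rw [hY]
        rintro _ ⟨y, hy, rfl⟩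
        exact (Subgroup.mem_inf.mp hy).2
      · intro d hd
        have hdD := hD₀D hd
        rw [hD] at hdD
        obtain ⟨b, hb, rfl⟩ := hdD
        refine ⟨b, ?_, rfl⟩
        rw [hY]
        exact Subgroup.mem_inf.mpr ⟨hb, hd⟩
    have hk : Y ⊓ π.ker = A ⊓ π.ker := by
      apply le_antisymm (inf_le_inf_right _ hYA)
      intro x hx
      obtain ⟨hx1, hx2⟩ := Subgroup.mem_inf.mp hx
      refine Subgroup.mem_inf.mpr ⟨?_, hx2⟩
      rw [hY]
      refine Subgroup.mem_inf.mpr ⟨hx1, ?_⟩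
      show π x ∈ D₀
      rw [MonoidHom.mem_ker.mp hx2]; exact D₀.one_mem
    have h1 := card_map_mul_card_inf_ker π Y
    have h2 := card_map_mul_card_inf_ker π A
    rw [hYmap, hk] at h1
    rw [← hD] at h2
    have hAY : Nat.card A = 2 * Nat.card Y := by
      rw [← h1, ← h2, ← hcard]; ring
    -- `Y C_V(Y)` is elementary abelian
    obtain ⟨F, hF⟩ : ∃ F : Subgroup G, F = V ⊓ centralizer (Y : Set G) := ⟨_, rfl⟩
    have hFV : F ≤ V := by rw [hF]; exact inf_le_left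
    have hcommYF : ∀ a ∈ Y, ∀ b ∈ F, a * b = b * a := by
      intro a ha b hb
      rw [hF] at hb
      exact Subgroup.mem_centralizer_iff.mp (Subgroup.mem_inf.mp hb).2 a ha
    have hEab : ∀ x ∈ Y ⊔ F, ∀ y ∈ Y ⊔ F, x * y = y * x := by
      intro x hx y hy
      obtain ⟨a, ha, b, hb, rfl⟩ :=
        (Cfsg.Agent.Lib.Helper10.mem_sup_of_commute Y _ hcommYF).mp hx
      obtain ⟨a', ha', b', hb', rfl⟩ :=
        (Cfsg.Agent.Lib.Helper10.mem_sup_of_commute Y _ hcommYF).mp hy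
      have e1 : a * a' = a' * a := hAab a (hYA ha) a' (hYA ha')
      have e2 : b * b' = b' * b := hVab b (hFV hb) b' (hFV hb')
      have e3 : a * b' = b' * a := hcommYF a ha b' hb'
      have e4 : a' * b = b * a' := hcommYF a' ha' b hb
      calc a * b * (a' * b') = a * (b * a') * b' := by group
        _ = a * (a' * b) * b' := by rw [e4]
        _ = (a * a') * (b * b') := by group
        _ = (a' * a) * (b' * b) := by rw [e1, e2]
        _ = a' * (a * b') * b := by group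
        _ = a' * (b' * a) * b := by rw [e3]
        _ = a' * b' * (a * b) := by group
    have hEexp : ∀ x ∈ Y ⊔ F, x ^ 2 = 1 := by
      intro x hx
      obtain ⟨a, ha, b, hb, rfl⟩ :=
        (Cfsg.Agent.Lib.Helper10.mem_sup_of_commute Y _ hcommYF).mp hx
      have hc : Commute a b := hcommYF a ha b hb
      rw [hc.mul_pow, hA2 a (hYA ha), hV2' b (hFV hb), one_mul]
    have hES : Y ⊔ F ≤ S := sup_le (hYA.trans hAS) (hFV.trans hVS)
    have h3 := hAmax _ hES hEab hEexp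
    have h4 := card_mul_card_le_card_sup_mul_card_inf Y F
    have h5 : Y ⊓ F ≤ V ⊓ centralizer (A : Set G) := by
      intro x hx
      obtain ⟨hx1, hx2⟩ := Subgroup.mem_inf.mp hx
      refine Subgroup.mem_inf.mpr ⟨hFV hx2, ?_⟩
      rw [Subgroup.mem_centralizer_iff]
      intro b hb
      exact hAab b hb x (hYA hx1)
    have h6 := Subgroup.card_le_of_le h5
    rw [← hYmap, hfixcard, hD, hfixcard, ← hF]
    have hYpos : 0 < Nat.card Y := Nat.card_pos
    have h7 : Nat.card Y * Nat.card F ≤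
        Nat.card Y * (2 * Nat.card ↥(V ⊓ centralizer (A : Set G))) := by
      calc Nat.card Y * Nat.card F ≤ Nat.card ↥(Y ⊔ F) * Nat.card ↥(Y ⊓ F) := h4
        _ ≤ Nat.card A * Nat.card ↥(V ⊓ centralizer (A : Set G)) := Nat.mul_le_mul h3 h6
        _ = Nat.card Y * (2 * Nat.card ↥(V ⊓ centralizer (A : Set G))) := by rw [hAY]; ring
    exact Nat.le_of_mul_le_mul_left h7 hYpos
  -- stage 2
  obtain ⟨W', hW'4, hz3, hdW', hzW', hfpf'⟩ :=
    OffenderTwoB.stage2w φ hV2 D D₀ hDab hD2 hquad hD₀D d₁ hd₁D z hz1 hzodd hinv hcomm hφz hoff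
  obtain ⟨W, hW⟩ : ∃ W : Subgroup G, W = W'.map V.subtype := ⟨_, rfl⟩
  have hW4 : Nat.card W = 4 := by
    rw [hW, Subgroup.card_map_of_injective V.subtype_injective]; exact hW'4
  have hWV : W ≤ V := by rw [hW]; exact Subgroup.map_subtype_le W'
  have hPW : P ≤ centralizer (W : Set G) := by
    intro x hx
    rw [Subgroup.mem_centralizer_iff]
    intro w hw
    exact (hPV x hx w (hWV hw)).symm
  have hconjW : ∀ g : G, (∀ w ∈ W', φ (π g) w ∈ W') → ∀ w ∈ W, g * w * g⁻¹ ∈ W := by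
    intro g hg w hw
    rw [hW] at hw ⊢
    obtain ⟨w', hw', rfl⟩ := hw
    exact ⟨φ (π g) w', hg w' hw', hφval g w'⟩
  have hfpf : ∀ w ∈ W, z₀ * w * z₀⁻¹ = w → w = 1 := by
    intro w hw hfix
    rw [hW] at hw
    obtain ⟨w', hw', rfl⟩ := hw
    have h1 : φ (π z₀) w' = w' := Subtype.ext ((hφval z₀ w').trans hfix)
    rw [hπz₀] at h1
    rw [hfpf' w' hw' h1]
    exact map_one _
  apply hS4
  refine involves_s4_of_data P hPp W hPW a₁ z₀ hW4 ?_ ?_ (hconjW a₁ ?_) (hconjW z₀ ?_) hfpf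
  · show (π z₀) ^ 3 = 1
    rw [hπz₀]; exact hz3
  · show π a₁ * π z₀ * (π a₁)⁻¹ = (π z₀)⁻¹
    rw [hπz₀, ha₁]; exact hinv
  · rw [ha₁]; exact hdW'
  · rw [hπz₀]; exact hzW'

end Key

end Cfsg.Agent.Lib.Helper18.ClassTwoJe
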