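import Mathlib
import Cfsg.Prelude.Def_Transfer
import Cfsg.Prelude.Def_KGroupFacts

/-!
# Orthogonal transvections of an extraspecial 2-group, and non-splitting of `Aut` over `Inn`

Setting: a group `Q` with a central involution `z` such that any two elements commute up to
`z`.  For `a` with `a * a = z` the map `x ↦ x` (if `x` commutes with `a`) and `x ↦ x * a`
(otherwise) is an automorphism `tau a`; `tau a * tau a = conj a`, and `tau a`, `tau b` commute
when `a`, `b` do.  Four pairwise commuting such automorphisms `tau a₁, tau a₂, tau a₃,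
tau (a₁ a₂ a₃)` cannot be lifted to commuting involutions of a complement of `Inn Q`.
-/

set_option autoImplicit false

namespace Cfsg.Agent.Lib.Helper18.ExtraTau

open scoped Classical

variable {Q : Type*} [Group Q]

/-- The hypotheses on `(Q, z)`. -/
structure Setting (z : Q) : Prop where
  central : ∀ x : Q, x * z = z * x
  sq : z * z = 1
  ne : z ≠ 1
  comm : ∀ x y : Q, x * y = y * x ∨ x * y = y * x * z
  center : ∀ w : Q, (∀ x : Q, w * x = x * w) → w = 1 ∨ w = z

/-- The underlying function of the transvection. -/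
noncomputable def tauFun (a x : Q) : Q := if x * a = a * x then x else x * a

theorem tauFun_of_comm {a x : Q} (h : x * a = a * x) : tauFun a x = x := by
  simp [tauFun, h]

theorem tauFun_of_not_comm {a x : Q} (h : x * a ≠ a * x) : tauFun a x = x * a := by
  simp [tauFun, h]

theorem tauFun_inv_cancel (a x : Q) : tauFun a⁻¹ (tauFun a x) = x := by
  by_cases h : x * a = a * x
  · rw [tauFun_of_comm h]
    have h' : x * a⁻¹ = a⁻¹ * x := by
      have : a⁻¹ * (x * a) * a⁻¹ = a⁻¹ * (a * x) * a⁻¹ := by rw [h]
      simpa [mul_assoc] using this.symm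
    rw [tauFun_of_comm h']
  · rw [tauFun_of_not_comm h]
    have h' : (x * a) * a⁻¹ ≠ a⁻¹ * (x * a) := by
      intro hh
      apply h
      have : a * ((x * a) * a⁻¹) = a * (a⁻¹ * (x * a)) := by rw [hh]
      simpa [mul_assoc] using this.symm
    rw [tauFun_of_not_comm h']
    simp

section
variable {z : Q} (hS : Setting z)
include hS

theorem Setting.swap {x y : Q} (h : x * y ≠ y * x) : x * y = y * x * z := by
  rcases hS.comm x y with h' | h'
  · exact absurd h' h
  · exact h'

theorem Setting.sq_central (p x : Q) : (p * p) * x = x * (p * p) := by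
  rcases hS.comm p x with h | h
  · calc p * p * x = p * (p * x) := by rw [mul_assoc]
      _ = p * (x * p) := by rw [h]
      _ = (p * x) * p := by rw [mul_assoc]
      _ = x * p * p := by rw [h]
      _ = x * (p * p) := by rw [mul_assoc]
  · calc p * p * x = p * (p * x) := by rw [mul_assoc]
      _ = p * (x * p * z) := by rw [h]
      _ = (p * x) * (p * z) := by simp only [mul_assoc]
      _ = (x * p * z) * (p * z) := by rw [h]
      _ = x * p * (z * p) * z := by simp only [mul_assoc]
      _ = x * p * (p * z) * z := by rw [hS.central p]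
      _ = x * (p * p) * (z * z) := by simp only [mul_assoc]
      _ = x * (p * p) := by rw [hS.sq, mul_one]

theorem Setting.mul_comm_of_not {a x y : Q} (hx : x * a ≠ a * x) (hy : y * a ≠ a * y) :
    (x * y) * a = a * (x * y) := by
  have hx' := hS.swap hx
  have hy' := hS.swap hy
  calc x * y * a = x * (y * a) := by rw [mul_assoc]
    _ = x * (a * y * z) := by rw [hy']
    _ = (x * a) * (y * z) := by simp only [mul_assoc]
    _ = (a * x * z) * (y * z) := by rw [hx']
    _ = a * x * (z * y) * z := by simp only [mul_assoc]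
    _ = a * x * (y * z) * z := by rw [hS.central y]
    _ = a * (x * y) * (z * z) := by simp only [mul_assoc]
    _ = a * (x * y) := by rw [hS.sq, mul_one]

theorem tauFun_mul {a : Q} (ha : a * a = z) (x y : Q) :
    tauFun a (x * y) = tauFun a x * tauFun a y := by
  by_cases hx : x * a = a * x
  · by_cases hy : y * a = a * y
    · have hxy : (x * y) * a = a * (x * y) := by
        rw [mul_assoc, hy, ← mul_assoc, hx, mul_assoc]
      rw [tauFun_of_comm hx, tauFun_of_comm hy, tauFun_of_comm hxy]
    · have hxy : (x * y) * a ≠ a * (x * y) := by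
        intro h
        apply hy
        have h2 : x * (y * a) = x * (a * y) := by
          calc x * (y * a) = x * y * a := by rw [mul_assoc]
            _ = a * (x * y) := h
            _ = a * x * y := by rw [mul_assoc]
            _ = x * a * y := by rw [hx]
            _ = x * (a * y) := by rw [mul_assoc]
        exact mul_left_cancel h2
      rw [tauFun_of_comm hx, tauFun_of_not_comm hy, tauFun_of_not_comm hxy, mul_assoc]
  · by_cases hy : y * a = a * y
    · have hxy : (x * y) * a ≠ a * (x * y) := by
        intro h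
        apply hx
        have h2 : (x * a) * y = (a * x) * y := by
          rw [mul_assoc, ← hy, ← mul_assoc, h, mul_assoc]
        exact mul_right_cancel h2
      rw [tauFun_of_not_comm hx, tauFun_of_comm hy, tauFun_of_not_comm hxy]
      simp only [mul_assoc, hy]
    · have hxy := hS.mul_comm_of_not hx hy
      have hy' := hS.swap hy
      rw [tauFun_of_not_comm hx, tauFun_of_not_comm hy, tauFun_of_comm hxy]
      calc x * y = x * y * (z * z) := by rw [hS.sq, mul_one]
        _ = x * (z * y) * z := by rw [← hS.central y]; simp only [mul_assoc]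
        _ = x * (a * a * y) * z := by rw [ha]
        _ = x * a * (a * y * z) := by simp only [mul_assoc]
        _ = x * a * (y * a) := by rw [hy']

theorem inv_sq {a : Q} (ha : a * a = z) : a⁻¹ * a⁻¹ = z := by
  have h1 : (a * a)⁻¹ = z⁻¹ := by rw [ha]
  have h2 : z⁻¹ = z := by
    rw [inv_eq_iff_mul_eq_one]; exact hS.sq
  rw [mul_inv_rev, h2] at h1
  exact h1

/-- The transvection `tau a` as an automorphism. -/
noncomputable def tau {a : Q} (ha : a * a = z) : MulAut Q where
  toFun := tauFun a
  invFun := tauFun a⁻¹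
  left_inv := tauFun_inv_cancel a
  right_inv := fun x => by
    have := tauFun_inv_cancel a⁻¹ x
    rwa [inv_inv] at this
  map_mul' := tauFun_mul hS ha

theorem tau_apply {a : Q} (ha : a * a = z) (x : Q) : tau hS ha x = tauFun a x := rfl

theorem tau_mul_tau {a : Q} (ha : a * a = z) : tau hS ha * tau hS ha = MulAut.conj a := by
  ext x
  rw [MulAut.mul_apply, tau_apply, tau_apply, MulAut.conj_apply]
  by_cases hx : x * a = a * x
  · rw [tauFun_of_comm hx, tauFun_of_comm hx, ← hx]; simp
  · rw [tauFun_of_not_comm hx]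
    have h2 : (x * a) * a ≠ a * (x * a) := by
      intro h
      apply hx
      have : (x * a) * a = (a * x) * a := by rw [h, mul_assoc]
      exact mul_right_cancel this
    rw [tauFun_of_not_comm h2]
    have hx' := hS.swap hx
    -- x * a * a = a * x * a⁻¹
    have : a * x = x * a * z := by
      rw [hx']
      simp only [mul_assoc, hS.sq, mul_one]
    rw [this]
    rw [mul_assoc x a a, ha]
    calc x * z = x * (a * a⁻¹) * z := by simp
      _ = x * a * (a⁻¹ * z) := by simp only [mul_assoc]
      _ = x * a * (z * a⁻¹) := by rw [hS.central a⁻¹]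
      _ = x * a * z * a⁻¹ := by simp only [mul_assoc]

theorem tau_comm {a b : Q} (ha : a * a = z) (hb : b * b = z) (hab : a * b = b * a) :
    tau hS ha * tau hS hb = tau hS hb * tau hS ha := by
  ext x
  simp only [MulAut.mul_apply, tau_apply]
  by_cases hxa : x * a = a * x
  · by_cases hxb : x * b = b * x
    · rw [tauFun_of_comm hxb, tauFun_of_comm hxa, tauFun_of_comm hxb]
    · rw [tauFun_of_not_comm hxb, tauFun_of_comm hxa, tauFun_of_not_comm hxb]
      have : (x * b) * a = a * (x * b) := by
        rw [mul_assoc, ← hab, ← mul_assoc, hxa, mul_assoc]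
      rw [tauFun_of_comm this]
  · by_cases hxb : x * b = b * x
    · rw [tauFun_of_comm hxb, tauFun_of_not_comm hxa]
      have : (x * a) * b = b * (x * a) := by
        rw [mul_assoc, hab, ← mul_assoc, hxb, mul_assoc]
      rw [tauFun_of_comm this]
    · rw [tauFun_of_not_comm hxb, tauFun_of_not_comm hxa]
      have h1 : (x * b) * a ≠ a * (x * b) := by
        intro h
        apply hxa
        have : (x * a) * b = (a * x) * b := by
          rw [mul_assoc, hab, ← mul_assoc, h, mul_assoc]
        exact mul_right_cancel this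
      have h2 : (x * a) * b ≠ b * (x * a) := by
        intro h
        apply hxb
        have : (x * b) * a = (b * x) * a := by
          rw [mul_assoc, ← hab, ← mul_assoc, h, mul_assoc]
        exact mul_right_cancel this
      rw [tauFun_of_not_comm h1, tauFun_of_not_comm h2]
      simp only [mul_assoc, hab]

end

theorem conj_eq_one_iff (w : Q) : MulAut.conj w = 1 ↔ ∀ x : Q, w * x = x * w := by
  constructor
  · intro h x
    have := congrArg (fun f : MulAut Q => f x) h
    simp only [MulAut.conj_apply, MulAut.one_apply] at this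
    calc w * x = (w * x * w⁻¹) * w := by simp
      _ = x * w := by rw [this]
  · intro h
    ext x
    rw [MulAut.conj_apply, MulAut.one_apply, h x]
    simp

theorem aut_mul_conj (φ : MulAut Q) (p : Q) : φ * MulAut.conj p = MulAut.conj (φ p) * φ := by
  ext x
  simp [MulAut.mul_apply, MulAut.conj_apply, map_mul, map_inv]

section
variable {z : Q} (hS : Setting z)
include hS

theorem conj_z : MulAut.conj z = 1 :=
  (conj_eq_one_iff z).2 (fun x => (hS.central x).symm)

theorem conj_sq (p : Q) : MulAut.conj (p * p) = 1 :=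
  (conj_eq_one_iff (p * p)).2 (fun x => hS.sq_central p x)

theorem conj_comm (x y : Q) : MulAut.conj x * MulAut.conj y = MulAut.conj y * MulAut.conj x := by
  rcases hS.comm x y with h | h
  · rw [← map_mul, ← map_mul, h]
  · rw [← map_mul, ← map_mul, h, map_mul _ (y * x) z, conj_z hS, mul_one]

theorem conj_ne_one_of_sq {a : Q} (ha : a * a = z) : MulAut.conj a ≠ 1 := by
  intro h
  have hc := (conj_eq_one_iff a).1 h
  rcases hS.center a hc with h1 | h1
  · rw [h1, mul_one] at ha
    exact hS.ne ha.symm
  · rw [h1, hS.sq] at ha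
    exact hS.ne ha.symm

theorem lift_mul {a b : Q} (ha : a * a = z) (hb : b * b = z) (p q : Q) :
    (MulAut.conj p * tau hS ha) * (MulAut.conj q * tau hS hb)
      = MulAut.conj (p * tau hS ha q) * (tau hS ha * tau hS hb) := by
  calc (MulAut.conj p * tau hS ha) * (MulAut.conj q * tau hS hb)
      = MulAut.conj p * (tau hS ha * MulAut.conj q) * tau hS hb := by simp only [mul_assoc]
    _ = MulAut.conj p * (MulAut.conj (tau hS ha q) * tau hS ha) * tau hS hb := by
        rw [aut_mul_conj]
    _ = MulAut.conj (p * tau hS ha q) * (tau hS ha * tau hS hb) := by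
        rw [map_mul]; simp only [mul_assoc]

theorem lift_sq {a : Q} (ha : a * a = z) (p : Q) :
    (MulAut.conj p * tau hS ha) * (MulAut.conj p * tau hS ha)
      = MulAut.conj (p * tau hS ha p * a) := by
  rw [lift_mul hS ha ha, tau_mul_tau hS ha, ← map_mul]

theorem not_comm_of_lift_sq {a : Q} (ha : a * a = z) (p : Q)
    (h : MulAut.conj (p * tau hS ha p * a) = 1) : p * a ≠ a * p := by
  intro hpa
  rw [tau_apply, tauFun_of_comm hpa, map_mul, conj_sq hS p, one_mul] at h
  exact conj_ne_one_of_sq hS ha h

theorem comm_of_lifts_commute {a b : Q} (ha : a * a = z) (hb : b * b = z) (hab : a * b = b * a)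
    (hne : MulAut.conj a ≠ MulAut.conj b) (p q : Q)
    (h : (MulAut.conj p * tau hS ha) * (MulAut.conj q * tau hS hb)
      = (MulAut.conj q * tau hS hb) * (MulAut.conj p * tau hS ha)) :
    p * b = b * p := by
  by_contra hpb
  rw [lift_mul hS ha hb, lift_mul hS hb ha, tau_comm hS hb ha hab.symm] at h
  have h' : MulAut.conj (p * tau hS ha q) = MulAut.conj (q * tau hS hb p) := mul_right_cancel h
  rw [tau_apply, tau_apply, tauFun_of_not_comm hpb] at h'
  by_cases hqa : q * a = a * q
  · rw [tauFun_of_comm hqa] at h'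
    -- conj p * conj q = conj q * conj p * conj b
    rw [map_mul, map_mul, map_mul, conj_comm hS p q] at h'
    have : MulAut.conj b = 1 := by
      have h2 : MulAut.conj q * MulAut.conj p * 1 = MulAut.conj q * (MulAut.conj p * MulAut.conj b) := by
        rw [mul_one]; exact h'
      rw [← mul_assoc] at h2
      exact (mul_left_cancel h2).symm
    exact conj_ne_one_of_sq hS hb this
  · rw [tauFun_of_not_comm hqa] at h'
    rw [map_mul, map_mul, map_mul, map_mul, ← mul_assoc, conj_comm hS p q] at h'
    have h2 : MulAut.conj q * MulAut.conj p * MulAut.conj a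
        = MulAut.conj q * MulAut.conj p * MulAut.conj b := by
      rw [h']; simp only [mul_assoc]
    exact hne (mul_left_cancel h2)

/-- Main non-splitting theorem: three pairwise commuting elements of square `z`, pairwise
distinct modulo the centre, obstruct a complement of `Inn Q` in `Aut Q`. -/
theorem no_complement {a1 a2 a3 : Q} (h1 : a1 * a1 = z) (h2 : a2 * a2 = z) (h3 : a3 * a3 = z)
    (h12 : a1 * a2 = a2 * a1) (h13 : a1 * a3 = a3 * a1) (h23 : a2 * a3 = a3 * a2)
    (n12 : MulAut.conj (a1 * a2) ≠ 1) (n13 : MulAut.conj (a1 * a3) ≠ 1)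
    (n23 : MulAut.conj (a2 * a3) ≠ 1)
    (L : Subgroup (MulAut Q)) : ¬ (Cfsg.Inn Q).IsComplement' L := by
  intro hc
  -- the fourth element
  have h4 : (a1 * a2 * a3) * (a1 * a2 * a3) = z := by
    calc (a1 * a2 * a3) * (a1 * a2 * a3)
        = a1 * a2 * (a3 * a1) * (a2 * a3) := by simp only [mul_assoc]
      _ = a1 * a2 * (a1 * a3) * (a2 * a3) := by rw [h13]
      _ = a1 * (a2 * a1) * (a3 * a2) * a3 := by simp only [mul_assoc]
      _ = a1 * (a1 * a2) * (a2 * a3) * a3 := by rw [h12, h23]
      _ = (a1 * a1) * (a2 * a2) * (a3 * a3) := by simp only [mul_assoc]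
      _ = z := by rw [h1, h2, h3, hS.sq, one_mul]
  have c41 : (a1 * a2 * a3) * a1 = a1 * (a1 * a2 * a3) := by
    calc (a1 * a2 * a3) * a1 = a1 * a2 * (a3 * a1) := by simp only [mul_assoc]
      _ = a1 * a2 * (a1 * a3) := by rw [h13]
      _ = a1 * (a2 * a1) * a3 := by simp only [mul_assoc]
      _ = a1 * (a1 * a2) * a3 := by rw [h12]
      _ = a1 * (a1 * a2 * a3) := by simp only [mul_assoc]
  have c42 : (a1 * a2 * a3) * a2 = a2 * (a1 * a2 * a3) := by
    calc (a1 * a2 * a3) * a2 = a1 * a2 * (a3 * a2) := by simp only [mul_assoc]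
      _ = a1 * a2 * (a2 * a3) := by rw [h23]
      _ = (a1 * a2) * a2 * a3 := by simp only [mul_assoc]
      _ = (a2 * a1) * a2 * a3 := by rw [h12]
      _ = a2 * (a1 * a2 * a3) := by simp only [mul_assoc]
  have c43 : (a1 * a2 * a3) * a3 = a3 * (a1 * a2 * a3) := by
    calc (a1 * a2 * a3) * a3 = a1 * (a2 * a3) * a3 := by simp only [mul_assoc]
      _ = a1 * (a3 * a2) * a3 := by rw [h23]
      _ = (a1 * a3) * a2 * a3 := by simp only [mul_assoc]
      _ = (a3 * a1) * a2 * a3 := by rw [h13]
      _ = a3 * (a1 * a2 * a3) := by simp only [mul_assoc]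
  -- distinctness modulo the centre
  have e4 : MulAut.conj (a1 * a2 * a3) = MulAut.conj a1 * MulAut.conj a2 * MulAut.conj a3 := by
    rw [map_mul, map_mul]
  have d1 : MulAut.conj (a1 * a2 * a3) ≠ MulAut.conj a1 := by
    intro h
    apply n23
    rw [e4, mul_assoc] at h
    rw [map_mul]
    exact mul_left_cancel (h.trans (mul_one _).symm)
  have d2 : MulAut.conj (a1 * a2 * a3) ≠ MulAut.conj a2 := by
    intro h
    apply n13
    rw [e4, conj_comm hS a1 a2, mul_assoc] at h
    rw [map_mul]
    exact mul_left_cancel (h.trans (mul_one _).symm)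
  have d3 : MulAut.conj (a1 * a2 * a3) ≠ MulAut.conj a3 := by
    intro h
    apply n12
    rw [e4] at h
    rw [map_mul]
    exact mul_right_cancel (h.trans (one_mul _).symm)
  -- lifting
  have hdisj : ∀ x : MulAut Q, x ∈ L → x ∈ Cfsg.Inn Q → x = 1 := by
    intro x hxL hxI
    have := hc.disjoint
    rw [Subgroup.disjoint_def] at this
    exact this hxI hxL
  have lift : ∀ φ : MulAut Q, ∃ p : Q, MulAut.conj p * φ ∈ L := by
    intro φ
    obtain ⟨⟨⟨i, hi⟩, ⟨l, hl⟩⟩, hx, -⟩ := hc.existsUnique φ
    obtain ⟨w, rfl⟩ := hi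
    refine ⟨w⁻¹, ?_⟩
    simp only at hx
    rw [← hx, map_inv, inv_mul_cancel_left]
    exact hl
  obtain ⟨p4, hp4⟩ := lift (tau hS h4)
  obtain ⟨p1, hp1⟩ := lift (tau hS h1)
  obtain ⟨p2, hp2⟩ := lift (tau hS h2)
  obtain ⟨p3, hp3⟩ := lift (tau hS h3)
  -- the lift of tau a4 is an involution
  have s4 : p4 * (a1 * a2 * a3) ≠ (a1 * a2 * a3) * p4 := by
    apply not_comm_of_lift_sq hS h4
    rw [← lift_sq hS h4]
    apply hdisj
    · exact L.mul_mem hp4 hp4
    · rw [lift_sq hS h4]; exact ⟨_, rfl⟩
  -- the lifts commute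
  have key : ∀ {b : Q} (hb : b * b = z) (q : Q), (a1 * a2 * a3) * b = b * (a1 * a2 * a3) →
      MulAut.conj (a1 * a2 * a3) ≠ MulAut.conj b → MulAut.conj q * tau hS hb ∈ L →
      p4 * b = b * p4 := by
    intro b hb q hcomm hne hq
    apply comm_of_lifts_commute hS h4 hb hcomm hne p4 q
    have hmem : (MulAut.conj p4 * tau hS h4) * (MulAut.conj q * tau hS hb)
        * ((MulAut.conj q * tau hS hb) * (MulAut.conj p4 * tau hS h4))⁻¹ = 1 := by
      apply hdisj
      · exact L.mul_mem (L.mul_mem hp4 hq) (L.inv_mem (L.mul_mem hq hp4))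
      · rw [lift_mul hS h4 hb, lift_mul hS hb h4, tau_comm hS hb h4 hcomm.symm]
        rw [mul_inv_rev, mul_assoc, mul_inv_cancel_left, ← map_inv, ← map_mul]
        exact ⟨_, rfl⟩
    exact mul_inv_eq_one.1 hmem
  have k1 := key h1 p1 c41 d1 hp1
  have k2 := key h2 p2 c42 d2 hp2
  have k3 := key h3 p3 c43 d3 hp3
  apply s4
  calc p4 * (a1 * a2 * a3) = (p4 * a1) * a2 * a3 := by simp only [mul_assoc]
    _ = a1 * (p4 * a2) * a3 := by rw [k1]; simp only [mul_assoc]
    _ = a1 * a2 * (p4 * a3) := by rw [k2]; simp only [mul_assoc]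
    _ = (a1 * a2 * a3) * p4 := by rw [k3]; simp only [mul_assoc]

end

end Cfsg.Agent.Lib.Helper18.ExtraTau
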