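import Mathlib

/-!
# Fixed-point-free automorphisms: basic facts

`φ : MulAut G` fixed-point-free on a finite group `G` (`φ g = g → g = 1`).

* `eq_of_comm_eq`, `exists_comm_eq` : `g ↦ g⁻¹ φ(g)` is a bijection.
* `mem_of_comm_mem` : for a `φ`-invariant subgroup `E`, `g⁻¹ φ(g) ∈ E → g ∈ E`
  (so `φ` is fixed-point-free on quotients).
* `odd_card` : if moreover `φ⁴ = 1` then `|G|` is odd.
* `invSet φ` (elements inverted by `φ²`), `K φ = ⟨invSet φ⟩ = [G, φ²]`: normal, `φ`-invariant,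
  contains the commutator subgroup.
* `quotAut`: induced automorphism on a quotient; `restrictAut`: restriction to an invariant subgroup.
-/

set_option autoImplicit false
set_option linter.unusedSectionVars false

namespace Cfsg.Agent.Lib.Helper18.FpfFour

open scoped commutatorElement

universe u

variable {G : Type u} [Group G]

section Basic

variable [Finite G] (φ : MulAut G) (hfpf : ∀ g : G, φ g = g → g = 1)
include hfpf

theorem eq_of_comm_eq {g h : G} (e : g⁻¹ * φ g = h⁻¹ * φ h) : g = h := by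
  have h2 : φ g = g * (h⁻¹ * φ h) := by rw [← e]; group
  have h1 : φ (g * h⁻¹) = g * h⁻¹ := by
    rw [map_mul, map_inv, h2]; group
  exact mul_inv_eq_one.mp (hfpf _ h1)

theorem exists_comm_eq (x : G) : ∃ g : G, x = g⁻¹ * φ g := by
  have hinj : Function.Injective (fun g : G => g⁻¹ * φ g) :=
    fun g h e => eq_of_comm_eq φ hfpf e
  obtain ⟨g, hg⟩ := Finite.surjective_of_injective hinj x
  exact ⟨g, hg.symm⟩

theorem mem_of_comm_mem (E : Subgroup G) (hE : ∀ e ∈ E, φ e ∈ E) {g : G}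
    (hg : g⁻¹ * φ g ∈ E) : g ∈ E := by
  let ψ : E → E := fun e => ⟨(e : G)⁻¹ * φ e, E.mul_mem (E.inv_mem e.2) (hE e e.2)⟩
  have hinj : Function.Injective ψ := by
    intro a b h
    exact Subtype.ext (eq_of_comm_eq φ hfpf (congrArg Subtype.val h))
  obtain ⟨e, he⟩ := Finite.surjective_of_injective hinj ⟨_, hg⟩
  have h1 : (e : G)⁻¹ * φ e = g⁻¹ * φ g := congrArg Subtype.val he
  rw [← eq_of_comm_eq φ hfpf h1]
  exact e.2

theorem odd_card (h4 : ∀ g : G, φ (φ (φ (φ g))) = g) : Odd (Nat.card G) := by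
  classical
  have := Fintype.ofFinite G
  let f : Function.End G := fun x => φ x
  have hf : f ^ 2 ^ 2 = 1 := by
    have h1 : ((f ^ (2 ^ 2) : Function.End G) : G → G) = (f : G → G)^[2 ^ 2] :=
      hom_coe_pow (fun g : Function.End G ↦ (g : G → G)) rfl (fun g h ↦ rfl) f (2 ^ 2)
    show ((f ^ (2 ^ 2) : Function.End G) : G → G) = id
    rw [h1]
    funext x
    simp [f, h4]
  have : Fact (Nat.Prime 2) := ⟨Nat.prime_two⟩
  have h := Equiv.Perm.card_fixedPoints_modEq (p := 2) (n := 2) hf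
  have hfix : Fintype.card (Function.fixedPoints f) = 1 := by
    rw [Fintype.card_eq_one_iff]
    refine ⟨⟨1, map_one φ⟩, fun y => Subtype.ext (hfpf y y.2)⟩
  rw [hfix] at h
  rw [Nat.odd_iff, Nat.card_eq_fintype_card]
  exact h

end Basic

section Odd

variable [Finite G]

theorem eq_one_of_sq (hodd : Odd (Nat.card G)) {x : G} (hx : x * x = 1) : x = 1 := by
  have h1 : orderOf x ∣ 2 := orderOf_dvd_of_pow_eq_one (by rw [pow_two]; exact hx)
  have h2 : orderOf x ∣ Nat.card G := orderOf_dvd_natCard x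
  have h3 : orderOf x = 1 := by
    rcases (Nat.dvd_prime Nat.prime_two).1 h1 with h | h
    · exact h
    · exfalso
      rw [h] at h2
      exact (Nat.not_even_iff_odd.2 hodd) (even_iff_two_dvd.2 h2)
  exact orderOf_eq_one_iff.1 h3

theorem exists_sqrt (hodd : Odd (Nat.card G)) (x : G) : ∃ m : ℕ, (x ^ m) * (x ^ m) = x := by
  have hn : Odd (orderOf x) := hodd.of_dvd_nat (orderOf_dvd_natCard x)
  obtain ⟨k, hk⟩ := hn
  refine ⟨k + 1, ?_⟩
  rw [← pow_add]
  have h1 : k + 1 + (k + 1) = orderOf x + 1 := by omega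
  rw [h1, pow_succ, pow_orderOf_eq_one, one_mul]

end Odd

/-- Elements inverted by `φ²`. -/
def invSet (φ : MulAut G) : Set G := {y | φ (φ y) = y⁻¹}

/-- `[G, φ²]`, generated by the elements inverted by `φ²`. -/
def K (φ : MulAut G) : Subgroup G := Subgroup.closure (invSet φ)

section KBasic

variable (φ : MulAut G) (h4 : ∀ g : G, φ (φ (φ (φ g))) = g)

theorem mem_invSet_iff {y : G} : y ∈ invSet φ ↔ φ (φ y) = y⁻¹ := Iff.rfl

include h4

theorem comm_mem_invSet (g : G) : g⁻¹ * φ (φ g) ∈ invSet φ := by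
  show φ (φ (g⁻¹ * φ (φ g))) = (g⁻¹ * φ (φ g))⁻¹
  simp only [map_mul, map_inv, h4]
  group

theorem map_mem_invSet {y : G} (hy : y ∈ invSet φ) : φ y ∈ invSet φ := by
  show φ (φ (φ y)) = (φ y)⁻¹
  rw [show φ (φ y) = y⁻¹ from hy, map_inv]

omit h4 in
theorem pow_mem_invSet {y : G} (hy : y ∈ invSet φ) (n : ℕ) : y ^ n ∈ invSet φ := by
  show φ (φ (y ^ n)) = (y ^ n)⁻¹
  rw [map_pow, map_pow, show φ (φ y) = y⁻¹ from hy, inv_pow]

theorem K_normal : (K φ).Normal := by
  constructor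
  intro n hn g
  induction hn using Subgroup.closure_induction with
  | mem y hy =>
    have e : g * y * g⁻¹ = (g * y * (φ (φ g))⁻¹) * (φ (φ g) * g⁻¹) := by group
    rw [e]
    refine (K φ).mul_mem (Subgroup.subset_closure ?_) (Subgroup.subset_closure ?_)
    · show φ (φ (g * y * (φ (φ g))⁻¹)) = (g * y * (φ (φ g))⁻¹)⁻¹
      simp only [map_mul, map_inv, h4]
      rw [show φ (φ y) = y⁻¹ from hy]
      group
    · show φ (φ (φ (φ g) * g⁻¹)) = (φ (φ g) * g⁻¹)⁻¹
      simp only [map_mul, map_inv, h4]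
      group
  | one => simp
  | mul x y _ _ hx hy =>
    have e : g * (x * y) * g⁻¹ = (g * x * g⁻¹) * (g * y * g⁻¹) := by group
    rw [e]; exact mul_mem hx hy
  | inv x _ hx =>
    have e : g * x⁻¹ * g⁻¹ = (g * x * g⁻¹)⁻¹ := by group
    rw [e]; exact inv_mem hx

theorem map_mem_K {k : G} (hk : k ∈ K φ) : φ k ∈ K φ := by
  have h : K φ ≤ (K φ).comap φ.toMonoidHom := by
    rw [K, Subgroup.closure_le]
    intro y hy
    exact Subgroup.subset_closure (map_mem_invSet φ h4 hy)
  exact h hk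

theorem commutator_le_K [Finite G] (hfpf : ∀ g : G, φ g = g → g = 1) : commutator G ≤ K φ := by
  have hn := K_normal φ h4
  have key : ∀ g : G, g * φ g ∈ K φ := by
    intro g
    obtain ⟨h, rfl⟩ := exists_comm_eq φ hfpf g
    have e : h⁻¹ * φ h * φ (h⁻¹ * φ h) = h⁻¹ * φ (φ h) := by
      simp only [map_mul, map_inv]; group
    rw [e]
    exact Subgroup.subset_closure (comm_mem_invSet φ h4 h)
  have hπ : ∀ g : G, ((φ g : G) : G ⧸ K φ) = ((g : G) : G ⧸ K φ)⁻¹ := by
    intro g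
    apply eq_inv_of_mul_eq_one_right
    rw [← QuotientGroup.mk_mul, QuotientGroup.eq_one_iff]
    exact key g
  rw [commutator_def, Subgroup.commutator_le]
  intro x _ y _
  rw [← QuotientGroup.eq_one_iff]
  have h1 : ((φ (x * y) : G) : G ⧸ K φ) = ((y : G) : G ⧸ K φ)⁻¹ * ((x : G) : G ⧸ K φ)⁻¹ := by
    rw [hπ, QuotientGroup.mk_mul, mul_inv_rev]
  have h2 : ((φ (x * y) : G) : G ⧸ K φ) = ((x : G) : G ⧸ K φ)⁻¹ * ((y : G) : G ⧸ K φ)⁻¹ := by
    rw [map_mul, QuotientGroup.mk_mul, hπ, hπ]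
  have h3 : ((x : G) : G ⧸ K φ) * ((y : G) : G ⧸ K φ) = ((y : G) : G ⧸ K φ) * ((x : G) : G ⧸ K φ) := by
    have h5 := h1.symm.trans h2
    have h6 := congrArg (fun z => z⁻¹) h5
    simpa [mul_inv_rev] using h6
  rw [commutatorElement_def, QuotientGroup.mk_mul, QuotientGroup.mk_mul, QuotientGroup.mk_mul,
    QuotientGroup.mk_inv, QuotientGroup.mk_inv, h3]
  group

end KBasic

section Quot

variable [Finite G] (φ : MulAut G)

theorem map_eq_of_forall_mem (N : Subgroup G) (hN : ∀ n ∈ N, φ n ∈ N) :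
    N.map φ.toMonoidHom = N := by
  apply Subgroup.eq_of_le_of_card_ge
  · rintro _ ⟨n, hn, rfl⟩
    exact hN n hn
  · exact (Nat.card_congr (N.equivMapOfInjective φ.toMonoidHom φ.injective).toEquiv).le

/-- The automorphism induced on the quotient by an invariant normal subgroup. -/
noncomputable def quotAut (N : Subgroup G) [N.Normal] (hN : ∀ n ∈ N, φ n ∈ N) : MulAut (G ⧸ N) :=
  QuotientGroup.congr N N φ (map_eq_of_forall_mem φ N hN)

variable (N : Subgroup G) [N.Normal] (hN : ∀ n ∈ N, φ n ∈ N)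

theorem quotAut_mk (g : G) : quotAut φ N hN (g : G ⧸ N) = ((φ g : G) : G ⧸ N) :=
  QuotientGroup.congr_mk N N φ _ g

theorem quotAut_fpf (hfpf : ∀ g : G, φ g = g → g = 1) :
    ∀ x : G ⧸ N, quotAut φ N hN x = x → x = 1 := by
  intro x
  induction x using QuotientGroup.induction_on with
  | H g =>
    intro h
    rw [quotAut_mk] at h
    have h1 : g⁻¹ * φ g ∈ N := QuotientGroup.eq.mp h.symm
    exact (QuotientGroup.eq_one_iff g).2 (mem_of_comm_mem φ hfpf N hN h1)

theorem quotAut_pow4 (h4 : ∀ g : G, φ (φ (φ (φ g))) = g) :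
    ∀ x : G ⧸ N, quotAut φ N hN (quotAut φ N hN (quotAut φ N hN (quotAut φ N hN x))) = x := by
  intro x
  induction x using QuotientGroup.induction_on with
  | H g => simp only [quotAut_mk, h4]

theorem mk_mem_invSet {y : G} (hy : y ∈ invSet φ) : (y : G ⧸ N) ∈ invSet (quotAut φ N hN) := by
  show quotAut φ N hN (quotAut φ N hN (y : G ⧸ N)) = (y : G ⧸ N)⁻¹
  rw [quotAut_mk, quotAut_mk, show φ (φ y) = y⁻¹ from hy, QuotientGroup.mk_inv]

theorem map_K_le : (K φ).map (QuotientGroup.mk' N) ≤ K (quotAut φ N hN) := by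
  rw [Subgroup.map_le_iff_le_comap, K, Subgroup.closure_le]
  intro y hy
  exact Subgroup.subset_closure (mk_mem_invSet φ N hN hy)

/-- Restriction of an automorphism to an invariant subgroup. -/
noncomputable def restrictAut (V : Subgroup G) (hV : ∀ v ∈ V, φ v ∈ V) : MulAut V :=
  (φ.subgroupMap V).trans (MulEquiv.subgroupCongr (map_eq_of_forall_mem φ V hV))

theorem restrictAut_coe (V : Subgroup G) (hV : ∀ v ∈ V, φ v ∈ V) (v : V) :
    ((restrictAut φ V hV v : V) : G) = φ v := rfl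

end Quot

end Cfsg.Agent.Lib.Helper18.FpfFour
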