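import Mathlib
import Cfsg.Agent.Lib.Helper18.FpfBasic

/-!
# Frobenius norm argument and the key lemma for fixed-point-free automorphisms of order 4

* `frob_norm`, `frob_trivial`: if `X` normalizes `M` (subgroups of `MulAut V`, `V` finite abelian),
  `M X` is "Frobenius" (`hfrob`), `X` has no nontrivial fixed point on `V` and `|M|` is prime to `|V|`,
  then `M` acts trivially.
* `key_lemma`: a finite solvable group `H` with a fixed-point-free automorphism `φ`, `φ⁴ = 1`,
  acting faithfully and `φ`-equivariantly on a finite abelian group `V` on which `φ` (as `f`) is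
  fixed-point-free: every `φ`-invariant subgroup of order prime to `|V|` is centralized by `φ²`.
-/

set_option autoImplicit false
set_option linter.unusedSectionVars false

namespace Cfsg.Agent.Lib.Helper18.FpfFour

open scoped commutatorElement

theorem frob_norm {V : Type*} [CommGroup V] [Finite V] (M X : Subgroup (MulAut V))
    [Fintype M] [Fintype X]
    (hXM : X ≤ Subgroup.normalizer (M : Set (MulAut V)))
    (hfrob : ∀ g ∈ X, g ≠ 1 → ∀ m ∈ M, m * g = g * m → m = 1)
    (hX : ∀ v : V, (∀ g ∈ X, g v = v) → v = 1) (v : V) :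
    v ^ Fintype.card M = ∏ m : M, (m : MulAut V) v := by
  classical
  have hNX : ∀ w : V, ∏ g : X, (g : MulAut V) w = 1 := by
    intro w
    apply hX
    intro g₀ hg₀
    rw [map_prod]
    refine Fintype.prod_equiv (Equiv.mulLeft (⟨g₀, hg₀⟩ : X)) _ _ ?_
    intro g
    simp [MulAut.mul_apply]
  have h1 : ∏ m : M, (m : MulAut V) (∏ g : X, (g : MulAut V) ((m : MulAut V)⁻¹ v)) = 1 := by
    apply Finset.prod_eq_one
    intro m _
    rw [hNX, map_one]
  have h2 : ∀ m : M, (m : MulAut V) (∏ g : X, (g : MulAut V) ((m : MulAut V)⁻¹ v)) =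
      ∏ g : X, ((m : MulAut V) * g * (m : MulAut V)⁻¹) v := by
    intro m
    rw [map_prod]
    apply Finset.prod_congr rfl
    intro g _
    simp [MulAut.mul_apply]
  rw [Finset.prod_congr rfl (fun m _ => h2 m), Finset.prod_comm] at h1
  have h3 : ∀ g : X, g ≠ 1 → ∏ m : M, ((m : MulAut V) * g * (m : MulAut V)⁻¹) v =
      (g : MulAut V) (∏ m : M, (m : MulAut V) v) := by
    intro g hg
    have hgN : (g : MulAut V) ∈ Subgroup.normalizer (M : Set (MulAut V)) := hXM g.2
    have hmem : ∀ m : M, (g : MulAut V)⁻¹ * m * g * (m : MulAut V)⁻¹ ∈ M := by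
      intro m
      apply M.mul_mem _ (M.inv_mem m.2)
      have := (Subgroup.mem_normalizer_iff.mp (Subgroup.inv_mem _ hgN) (m : MulAut V)).mp m.2
      simpa using this
    let e : M → M := fun m => ⟨(g : MulAut V)⁻¹ * m * g * (m : MulAut V)⁻¹, hmem m⟩
    have he : Function.Injective e := by
      intro m m' hmm'
      have h4 : (g : MulAut V)⁻¹ * m * g * (m : MulAut V)⁻¹ =
          (g : MulAut V)⁻¹ * m' * g * (m' : MulAut V)⁻¹ := congrArg Subtype.val hmm'
      have h5 : ((m' : MulAut V)⁻¹ * m) * g = g * ((m' : MulAut V)⁻¹ * m) := by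
        have h6 : (m : MulAut V) * g * (m : MulAut V)⁻¹ = m' * g * (m' : MulAut V)⁻¹ := by
          have := congrArg (fun z => (g : MulAut V) * z) h4
          simpa [mul_assoc] using this
        calc ((m' : MulAut V)⁻¹ * m) * g
            = (m' : MulAut V)⁻¹ * (m * g * (m : MulAut V)⁻¹) * m := by group
          _ = (m' : MulAut V)⁻¹ * (m' * g * (m' : MulAut V)⁻¹) * m := by rw [h6]
          _ = g * ((m' : MulAut V)⁻¹ * m) := by group
      have h7 := hfrob g g.2 (fun h => hg (Subtype.ext h)) _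
        (M.mul_mem (M.inv_mem m'.2) m.2) h5
      apply Subtype.ext
      have : (m : MulAut V) = m' := by
        have := congrArg (fun z => (m' : MulAut V) * z) h7
        simpa using this
      exact this
    have hb := Finite.injective_iff_bijective.mp he
    have h8 : ∏ m : M, ((m : MulAut V) * g * (m : MulAut V)⁻¹) v =
        ∏ m : M, ((g : MulAut V) * (e m : MulAut V)) v := by
      apply Finset.prod_congr rfl
      intro m _
      have e1 : (m : MulAut V) * g * (m : MulAut V)⁻¹ = (g : MulAut V) * (e m : MulAut V) := by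
        show (m : MulAut V) * g * (m : MulAut V)⁻¹ =
          (g : MulAut V) * ((g : MulAut V)⁻¹ * m * g * (m : MulAut V)⁻¹)
        group
      rw [e1]
    rw [h8, Fintype.prod_bijective e hb (fun m => ((g : MulAut V) * (e m : MulAut V)) v)
      (fun m' => ((g : MulAut V) * (m' : MulAut V)) v) (fun _ => rfl)]
    rw [map_prod]
    apply Finset.prod_congr rfl
    intro m' _
    simp [MulAut.mul_apply]
  -- split off g = 1
  rw [Fintype.prod_eq_mul_prod_compl (1 : X)] at h1
  have h9 : ∏ m : M, ((m : MulAut V) * ((1 : X) : MulAut V) * (m : MulAut V)⁻¹) v =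
      v ^ Fintype.card M := by
    simp [Finset.prod_const, Finset.card_univ]
  have h10 : ∏ g ∈ ({(1 : X)} : Finset X)ᶜ, ∏ m : M, ((m : MulAut V) * g * (m : MulAut V)⁻¹) v =
      ∏ g ∈ ({(1 : X)} : Finset X)ᶜ, (g : MulAut V) (∏ m : M, (m : MulAut V) v) := by
    apply Finset.prod_congr rfl
    intro g hg
    apply h3
    simpa using hg
  rw [h9, h10] at h1
  have h11 := hNX (∏ m : M, (m : MulAut V) v)
  rw [Fintype.prod_eq_mul_prod_compl (1 : X)] at h11
  have h12 : ((1 : X) : MulAut V) (∏ m : M, (m : MulAut V) v) = ∏ m : M, (m : MulAut V) v := by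
    simp
  rw [h12] at h11
  -- h1 : v^n * P = 1, h11 : w * P = 1
  have h13 : v ^ Fintype.card M * (∏ g ∈ ({(1 : X)} : Finset X)ᶜ,
      (g : MulAut V) (∏ m : M, (m : MulAut V) v)) =
      (∏ m : M, (m : MulAut V) v) * (∏ g ∈ ({(1 : X)} : Finset X)ᶜ,
      (g : MulAut V) (∏ m : M, (m : MulAut V) v)) := h1.trans h11.symm
  exact mul_right_cancel h13

theorem frob_trivial {V : Type*} [CommGroup V] [Finite V] (M X : Subgroup (MulAut V))
    (hXM : X ≤ Subgroup.normalizer (M : Set (MulAut V)))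
    (hfrob : ∀ g ∈ X, g ≠ 1 → ∀ m ∈ M, m * g = g * m → m = 1)
    (hX : ∀ v : V, (∀ g ∈ X, g v = v) → v = 1)
    (hcop : (Nat.card M).Coprime (Nat.card V)) : ∀ m ∈ M, ∀ v : V, m v = v := by
  classical
  have : Fintype M := Fintype.ofFinite M
  have : Fintype X := Fintype.ofFinite X
  intro m₀ hm₀ v
  have h1 := frob_norm M X hXM hfrob hX v
  have h2 := frob_norm M X hXM hfrob hX (m₀ v)
  have h3 : ∏ m : M, (m : MulAut V) (m₀ v) = ∏ m : M, (m : MulAut V) v := by
    refine Fintype.prod_equiv (Equiv.mulRight (⟨m₀, hm₀⟩ : M)) _ _ ?_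
    intro m
    simp [MulAut.mul_apply]
  have h4 : (m₀ v * v⁻¹) ^ Fintype.card M = 1 := by
    rw [mul_pow, inv_pow, h2, h3, ← h1, mul_inv_cancel]
  have h5 : orderOf (m₀ v * v⁻¹) ∣ Nat.card M := by
    rw [Nat.card_eq_fintype_card]; exact orderOf_dvd_of_pow_eq_one h4
  have h6 : orderOf (m₀ v * v⁻¹) ∣ Nat.card V := orderOf_dvd_natCard _
  have h7 : orderOf (m₀ v * v⁻¹) = 1 := Nat.eq_one_of_dvd_coprimes hcop h5 h6
  exact mul_inv_eq_one.mp (orderOf_eq_one_iff.mp h7)

theorem key_lemma {H : Type*} [Group H] [Finite H] [Group.IsSolvable H] (φ : MulAut H)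
    (hfpf : ∀ g : H, φ g = g → g = 1) (h4 : ∀ g : H, φ (φ (φ (φ g))) = g)
    {V : Type*} [CommGroup V] [Finite V] (ρ : H →* MulAut V) (hρ : Function.Injective ρ)
    (f : MulAut V) (hf : ∀ v : V, f v = v → v = 1) (hf4 : ∀ v : V, f (f (f (f v))) = v)
    (hequiv : ∀ (h : H) (v : V), f (ρ h v) = ρ (φ h) (f v))
    (Q : Subgroup H) (hQ : ∀ x ∈ Q, φ x ∈ Q) (hcop : (Nat.card Q).Coprime (Nat.card V)) :
    ∀ x ∈ Q, φ (φ x) = x := by
  classical
  have hodd : Odd (Nat.card H) := odd_card φ hfpf h4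
  by_contra hcon
  push Not at hcon
  obtain ⟨R, hRS, hRmin⟩ := WellFounded.has_min (wellFounded_lt (α := Subgroup H))
    {R : Subgroup H | R ≤ Q ∧ (∀ x ∈ R, φ x ∈ R) ∧ ∃ x ∈ R, φ (φ x) ≠ x} ⟨Q, le_rfl, hQ, hcon⟩
  obtain ⟨hRQ, hRφ, x, hxR, hx⟩ := hRS
  have hmin : ∀ R' : Subgroup H, R' ≤ R → (∀ x ∈ R', φ x ∈ R') → (∃ x ∈ R', φ (φ x) ≠ x) →
      R' = R := by
    intro R' hle hφ' hex
    by_contra hne
    exact hRmin R' ⟨hle.trans hRQ, hφ', hex⟩ (lt_of_le_of_ne hle hne)
  -- the inverted element a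
  obtain ⟨a, ha⟩ : ∃ a : H, a = x⁻¹ * φ (φ x) := ⟨_, rfl⟩
  have haR : a ∈ R := by rw [ha]; exact R.mul_mem (R.inv_mem hxR) (hRφ _ (hRφ _ hxR))
  have hainv : φ (φ a) = a⁻¹ := by rw [ha]; exact comm_mem_invSet φ h4 x
  have ha1 : a ≠ 1 := by
    intro h
    apply hx
    rw [ha] at h
    exact (inv_mul_eq_one.mp h).symm
  have haa : a⁻¹ ≠ a := by
    intro h
    apply ha1
    apply eq_one_of_sq hodd
    calc a * a = a⁻¹ * a := by rw [h]
      _ = 1 := inv_mul_cancel a
  obtain ⟨b, hb⟩ : ∃ b : H, b = φ a := ⟨_, rfl⟩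
  have hbR : b ∈ R := by rw [hb]; exact hRφ a haR
  have hφb : φ b = a⁻¹ := by rw [hb]; exact hainv
  have hbinv : φ (φ b) = b⁻¹ := by rw [hφb, map_inv, hb]
  -- closure {a, b} = R
  have hY : Subgroup.closure ({a, b} : Set H) = R := by
    apply hmin
    · rw [Subgroup.closure_le]
      intro y hy
      simp only [Set.mem_insert_iff, Set.mem_singleton_iff] at hy
      rcases hy with h | h
      · rw [h]; exact haR
      · rw [h]; exact hbR
    · intro y hy
      have hle : Subgroup.closure ({a, b} : Set H) ≤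
          (Subgroup.closure ({a, b} : Set H)).comap φ.toMonoidHom := by
        rw [Subgroup.closure_le]
        intro y hy
        simp only [Set.mem_insert_iff, Set.mem_singleton_iff] at hy
        simp only [SetLike.mem_coe, Subgroup.mem_comap, MulEquiv.coe_toMonoidHom]
        rcases hy with h | h
        · rw [h, ← hb]
          exact Subgroup.subset_closure (by simp)
        · rw [h, hφb]
          exact inv_mem (Subgroup.subset_closure (by simp))
      exact hle hy
    · exact ⟨a, Subgroup.subset_closure (by simp), by rw [hainv]; exact haa⟩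
  have hR1 : R ≠ ⊥ := by
    rintro rfl
    exact ha1 (Subgroup.mem_bot.mp haR)
  have hDlt : ⁅R, R⁆ < R := Group.IsSolvable.commutator_lt_of_ne_bot hR1
  have hDφ : ∀ d ∈ ⁅R, R⁆, φ d ∈ ⁅R, R⁆ := by
    intro d hd
    have h1 : φ d ∈ (⁅R, R⁆).map φ.toMonoidHom := Subgroup.mem_map_of_mem _ hd
    rw [Subgroup.map_commutator] at h1
    have h2 : R.map φ.toMonoidHom ≤ R := by
      rintro _ ⟨r, hr, rfl⟩
      exact hRφ r hr
    exact Subgroup.commutator_mono h2 h2 h1
  have hDfix : ∀ d ∈ ⁅R, R⁆, φ (φ d) = d := by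
    intro d hd
    by_contra hne
    exact hDlt.ne (hmin ⁅R, R⁆ hDlt.le hDφ ⟨d, hd, hne⟩)
  -- inverted elements of R centralize the derived subgroup
  have hcomm : ∀ y ∈ R, φ (φ y) = y⁻¹ → ∀ d ∈ ⁅R, R⁆, y * d = d * y := by
    intro y hyR hy d hd
    obtain ⟨m, hm⟩ := exists_sqrt hodd y
    obtain ⟨u, hu⟩ : ∃ u : H, u = y ^ m := ⟨_, rfl⟩
    rw [← hu] at hm
    have huR : u ∈ R := by rw [hu]; exact R.pow_mem hyR m
    have huinv : φ (φ u) = u⁻¹ := by rw [hu]; exact pow_mem_invSet φ hy m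
    have hd' : u * d * u⁻¹ ∈ ⁅R, R⁆ := by
      have e : u * d * u⁻¹ = ⁅u, d⁆ * d := by rw [commutatorElement_def]; group
      rw [e]
      exact mul_mem (Subgroup.commutator_mem_commutator huR (hDlt.le hd)) hd
    have h1 := hDfix _ hd'
    simp only [map_mul, map_inv] at h1
    rw [huinv, hDfix d hd, inv_inv] at h1
    rw [← hm]
    calc u * u * d = u * (u * d * u⁻¹) * u := by group
      _ = u * (u⁻¹ * d * u) * u := by rw [h1]
      _ = d * (u * u) := by group
  -- a and b commute
  have hab : a * b = b * a := by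
    have hzD : ⁅a, b⁆ ∈ ⁅R, R⁆ := Subgroup.commutator_mem_commutator haR hbR
    have hza := hcomm a haR hainv _ hzD
    have hφz : φ ⁅a, b⁆ = ⁅a, b⁆ := by
      rw [map_commutatorElement, ← hb, hφb]
      have e : ⁅b, a⁻¹⁆ = a⁻¹ * (⁅a, b⁆ * a) := by
        simp only [commutatorElement_def]; group
      rw [e, ← hza]
      group
    exact commutatorElement_eq_one_iff_mul_comm.mp (hfpf _ hφz)
  -- R is abelian and inverted
  have hRab : ∀ r ∈ R, r * a = a * r ∧ r * b = b * r := by
    intro r hr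
    rw [← hY] at hr
    induction hr using Subgroup.closure_induction with
    | mem y hy =>
      simp only [Set.mem_insert_iff, Set.mem_singleton_iff] at hy
      rcases hy with h | h
      · rw [h]; exact ⟨rfl, hab⟩
      · rw [h]; exact ⟨hab.symm, rfl⟩
    | one => simp
    | mul x y _ _ hx hy =>
      obtain ⟨hxa, hxb⟩ := hx
      obtain ⟨hya, hyb⟩ := hy
      constructor
      · rw [mul_assoc, hya, ← mul_assoc, hxa, mul_assoc]
      · rw [mul_assoc, hyb, ← mul_assoc, hxb, mul_assoc]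
    | inv x _ hx =>
      obtain ⟨hxa, hxb⟩ := hx
      constructor
      · have : a = x⁻¹ * (x * a) := by group
        rw [hxa] at this
        calc x⁻¹ * a = x⁻¹ * a * x * x⁻¹ := by group
          _ = x⁻¹ * (a * x) * x⁻¹ := by group
          _ = x⁻¹ * (x * a) * x⁻¹ := by rw [hxa]
          _ = a * x⁻¹ := by group
      · calc x⁻¹ * b = x⁻¹ * (b * x) * x⁻¹ := by group
          _ = x⁻¹ * (x * b) * x⁻¹ := by rw [hxb]
          _ = b * x⁻¹ := by group
  have hRcomm : ∀ r ∈ R, ∀ s ∈ R, r * s = s * r := by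
    intro r hr s hs
    rw [← hY] at hs
    induction hs using Subgroup.closure_induction with
    | mem y hy =>
      simp only [Set.mem_insert_iff, Set.mem_singleton_iff] at hy
      rcases hy with h | h
      · rw [h]; exact (hRab r hr).1
      · rw [h]; exact (hRab r hr).2
    | one => simp
    | mul x y _ _ hx hy =>
      rw [← mul_assoc, hx, mul_assoc, hy, mul_assoc]
    | inv x _ hx =>
      calc r * x⁻¹ = x⁻¹ * (x * r) * x⁻¹ := by group
        _ = x⁻¹ * (r * x) * x⁻¹ := by rw [hx]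
        _ = x⁻¹ * r := by group
  have hRinv : ∀ r ∈ R, φ (φ r) = r⁻¹ := by
    intro r hr
    have hr' := hr
    rw [← hY] at hr'
    induction hr' using Subgroup.closure_induction with
    | mem y hy =>
      simp only [Set.mem_insert_iff, Set.mem_singleton_iff] at hy
      rcases hy with h | h
      · rw [h]; exact hainv
      · rw [h]; exact hbinv
    | one => simp
    | mul x y hx' hy' hx hy =>
      have hxR' : x ∈ R := hY ▸ hx'
      have hyR' : y ∈ R := hY ▸ hy'
      rw [map_mul, map_mul, hx hxR', hy hyR', mul_inv_rev]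
      have := hRcomm _ (R.inv_mem hxR') _ (R.inv_mem hyR')
      exact this
    | inv x hx' hx =>
      have hxR' : x ∈ R := hY ▸ hx'
      rw [map_inv, map_inv, hx hxR']
  -- the Frobenius argument
  have hconj : ∀ r : H, f * ρ r * f⁻¹ = ρ (φ r) := by
    intro r
    ext v
    simp only [MulAut.mul_apply]
    rw [hequiv]
    simp
  have hf4' : f ^ 4 = 1 := by
    ext v
    simp [pow_succ, MulAut.mul_apply, hf4]
  have hMX : Subgroup.zpowers f ≤ Subgroup.normalizer ((R.map ρ : Subgroup (MulAut V)) : Set (MulAut V)) := by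
    rw [Subgroup.zpowers_le, Subgroup.mem_normalizer_iff]
    intro n
    constructor
    · rintro ⟨r, hr, rfl⟩
      rw [hconj]
      exact ⟨φ r, hRφ r hr, rfl⟩
    · rintro ⟨r, hr, hrn⟩
      refine ⟨φ (φ (φ r)), hRφ _ (hRφ _ (hRφ _ hr)), ?_⟩
      have h1 : f * ρ (φ (φ (φ r))) * f⁻¹ = f * n * f⁻¹ := by
        rw [hconj, h4]; exact hrn
      have h2 := congrArg (fun z => f⁻¹ * z * f) h1
      simpa [mul_assoc] using h2
  have hfrob : ∀ g ∈ Subgroup.zpowers f, g ≠ 1 → ∀ m ∈ (R.map ρ : Subgroup (MulAut V)),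
      m * g = g * m → m = 1 := by
    intro g hg hg1 m hm hmg
    obtain ⟨r, hr, rfl⟩ := hm
    -- case f
    have case1 : ρ r * f = f * ρ r → ρ r = 1 := by
      intro hc
      have h1 : ρ (φ r) = ρ r := by
        rw [← hconj, ← hc]; group
      have h2 : φ r = r := hρ h1
      rw [hfpf r h2, map_one]
    have case2 : ρ r * (f * f) = (f * f) * ρ r → ρ r = 1 := by
      intro hc
      have h1 : ρ (φ (φ r)) = ρ r := by
        rw [← hconj, ← hconj]
        calc f * (f * ρ r * f⁻¹) * f⁻¹ = (f * f) * ρ r * f⁻¹ * f⁻¹ := by group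
          _ = ρ r * (f * f) * f⁻¹ * f⁻¹ := by rw [hc]
          _ = ρ r := by group
      have h2 : φ (φ r) = r := hρ h1
      rw [hRinv r hr] at h2
      have h3 : r = 1 := by
        apply eq_one_of_sq hodd
        calc r * r = r⁻¹ * r := by rw [h2]
          _ = 1 := inv_mul_cancel r
      rw [h3, map_one]
    obtain ⟨k, rfl⟩ := Subgroup.mem_zpowers_iff.mp hg
    have hk : f ^ k = f ^ (k % 4) := by
      conv_lhs => rw [← Int.mul_ediv_add_emod k 4]
      rw [zpow_add, zpow_mul]
      have : f ^ (4 : ℤ) = 1 := by exact_mod_cast hf4'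
      rw [this, one_zpow, one_mul]
    have h0 : 0 ≤ k % 4 := Int.emod_nonneg _ (by norm_num)
    have h3 : k % 4 < 4 := Int.emod_lt_of_pos _ (by norm_num)
    obtain ⟨j, hj⟩ : ∃ j : ℕ, k % 4 = j := ⟨(k % 4).toNat, (Int.toNat_of_nonneg h0).symm⟩
    rw [hk, hj, zpow_natCast] at hmg hg1
    have hj4 : j < 4 := by omega
    interval_cases j
    · exact absurd (pow_zero f) hg1
    · rw [pow_one] at hmg; exact case1 hmg
    · rw [pow_two] at hmg; exact case2 hmg
    · -- f^3 = f⁻¹
      have hf3 : f ^ 3 = f⁻¹ := by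
        apply eq_inv_of_mul_eq_one_left
        rw [← pow_succ]; exact hf4'
      rw [hf3] at hmg
      apply case1
      calc ρ r * f = f * (f⁻¹ * ρ r) * f := by group
        _ = f * (ρ r * f⁻¹) * f := by rw [hmg]
        _ = f * ρ r := by group
  have hXfix : ∀ v : V, (∀ g ∈ Subgroup.zpowers f, g v = v) → v = 1 :=
    fun v hv => hf v (hv f (Subgroup.mem_zpowers f))
  have hcop' : (Nat.card (R.map ρ : Subgroup (MulAut V))).Coprime (Nat.card V) := by
    have h1 : Nat.card (R.map ρ : Subgroup (MulAut V)) = Nat.card R :=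
      (Nat.card_congr (R.equivMapOfInjective ρ hρ).toEquiv).symm
    rw [h1]
    exact Nat.Coprime.coprime_dvd_left (Subgroup.card_dvd_of_le hRQ) hcop
  have htriv := frob_trivial (R.map ρ) (Subgroup.zpowers f) hMX hfrob hXfix hcop'
  apply ha1
  apply hρ
  rw [map_one]
  ext v
  exact htriv (ρ a) ⟨a, haR, rfl⟩ v

end Cfsg.Agent.Lib.Helper18.FpfFour
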