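import Mathlib
import Cfsg.Agent.Lib.Helper1.Cores
import Cfsg.Agent.Lib.Helper10.CNGroup
import Cfsg.Agent.Lib.Helper10.FittingHall
import Cfsg.Agent.Lib.Helper18.FpfKey

/-!
# Gorenstein–Herstein: fixed-point-free automorphisms of order dividing 4

`main`: for a finite solvable group `G` with a fixed-point-free automorphism `φ`, `φ⁴ = 1`,
the subgroup `K φ = [G, φ²]` is nilpotent.  Since `G' ≤ K φ` (`commutator_le_K`), the derived
subgroup is nilpotent (`commutator_isNilpotent`).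
-/

set_option autoImplicit false
set_option linter.unusedSectionVars false
set_option linter.style.haveILetI false

namespace Cfsg.Agent.Lib.Helper18.FpfFour

open scoped commutatorElement
open Cfsg

universe u

/-- An element of prime power order of a nilpotent normal subgroup lies in the corresponding core. -/
theorem mem_pCore_of_mem_nilpotent_normal {G : Type*} [Group G] [Finite G] {N : Subgroup G}
    (hN : N.Normal) (h : Group.IsNilpotent N) {s : ℕ} [Fact s.Prime] {z : G} (hz : z ∈ N)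
    (hord : ∃ j : ℕ, orderOf z = s ^ j) : z ∈ pCore s G := by
  obtain ⟨P⟩ : Nonempty (Sylow s N) := inferInstance
  have hPn : (P : Subgroup N).Normal := inferInstance
  have hPc : (P : Subgroup N).Characteristic := P.characteristic_of_normal hPn
  have hQn : ((P : Subgroup N).map N.subtype).Normal := inferInstance
  have hQp : IsPGroup s ((P : Subgroup N).map N.subtype) := P.2.map _
  apply Cfsg.Agent.Lib.Helper1.le_pCore hQn hQp
  -- ⟨z, hz⟩ lies in P
  obtain ⟨j, hj⟩ := hord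
  have hzp : IsPGroup s (Subgroup.zpowers (⟨z, hz⟩ : N)) := by
    apply IsPGroup.of_card (n := j)
    rw [Nat.card_zpowers, Subgroup.orderOf_mk, hj]
  obtain ⟨P', hP'⟩ := hzp.exists_le_sylow
  obtain ⟨g, hg⟩ := MulAction.exists_smul_eq N P P'
  have hPP' : P' = P := by rw [← hg]; exact Sylow.smul_eq_of_normal
  rw [hPP'] at hP'
  exact ⟨⟨z, hz⟩, hP' (Subgroup.mem_zpowers _), rfl⟩

/-- A nontrivial finite solvable group has a nontrivial normal abelian `p`-subgroup invariant under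
a given automorphism. -/
theorem exists_abelian_p_subgroup {G : Type*} [Group G] [Finite G] [Nontrivial G]
    (hsol : Group.IsSolvable G) (φ : MulAut G) :
    ∃ (p : ℕ) (_ : Fact p.Prime) (V : Subgroup G), V ≠ ⊥ ∧ V.Normal ∧ (∀ v ∈ V, φ v ∈ V) ∧
      (∀ v ∈ V, ∀ w ∈ V, v * w = w * v) ∧ IsPGroup p V := by
  classical
  obtain ⟨n, hn⟩ := hsol.solvable
  have hex : ∃ n, derivedSeries G n = ⊥ := ⟨n, hn⟩
  have hfind := Nat.find_spec hex
  have h0 : Nat.find hex ≠ 0 := by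
    intro h
    rw [h, derivedSeries_zero] at hfind
    exact top_ne_bot hfind
  obtain ⟨m, hm⟩ := Nat.exists_eq_succ_of_ne_zero h0
  have hA1 : derivedSeries G m ≠ ⊥ := Nat.find_min hex (by omega)
  have hA2 : ⁅derivedSeries G m, derivedSeries G m⁆ = ⊥ := by
    rw [← derivedSeries_succ]; rw [hm] at hfind; exact hfind
  obtain ⟨A, hA⟩ : ∃ A : Subgroup G, A = derivedSeries G m := ⟨_, rfl⟩
  rw [← hA] at hA1 hA2
  have hAchar : A.Characteristic := hA ▸ derivedSeries_characteristic G m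
  have hAn : A.Normal := inferInstance
  have hAab : ∀ x ∈ A, ∀ y ∈ A, x * y = y * x := by
    intro x hx y hy
    have h1 := Subgroup.commutator_eq_bot_iff_le_centralizer.mp hA2 hx
    exact (Subgroup.mem_centralizer_iff.mp h1 y hy).symm
  have hAφ : ∀ x ∈ A, φ x ∈ A := by
    intro x hx
    have h1 := Subgroup.characteristic_iff_map_eq.mp hAchar φ
    rw [← h1]
    exact Subgroup.mem_map_of_mem _ hx
  have hcard : Nat.card A ≠ 1 := by
    intro h
    exact hA1 (Subgroup.card_eq_one.mp h)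
  obtain ⟨p, hp, hpdvd⟩ := Nat.exists_prime_and_dvd hcard
  have hpf : Fact p.Prime := ⟨hp⟩
  obtain ⟨x, hx⟩ := exists_prime_orderOf_dvd_card' (G := A) p hpdvd
  let V : Subgroup G :=
    { carrier := {a | a ∈ A ∧ a ^ p = 1}
      mul_mem' := by
        rintro a b ⟨ha, hap⟩ ⟨hb, hbp⟩
        refine ⟨A.mul_mem ha hb, ?_⟩
        have hc : Commute a b := hAab a ha b hb
        rw [hc.mul_pow, hap, hbp, one_mul]
      one_mem' := ⟨A.one_mem, one_pow p⟩
      inv_mem' := by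
        rintro a ⟨ha, hap⟩
        exact ⟨A.inv_mem ha, by rw [inv_pow, hap, inv_one]⟩ }
  have hVmem : ∀ a : G, a ∈ V ↔ a ∈ A ∧ a ^ p = 1 := fun a => Iff.rfl
  refine ⟨p, hpf, V, ?_, ?_, ?_, ?_, ?_⟩
  · intro hV
    have hxV : (x : G) ∈ V := by
      rw [hVmem]
      refine ⟨x.2, ?_⟩
      have : x ^ p = 1 := by rw [← hx]; exact pow_orderOf_eq_one x
      exact_mod_cast congrArg Subtype.val this
    rw [hV, Subgroup.mem_bot] at hxV
    have : x = 1 := Subtype.ext hxV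
    rw [this, orderOf_one] at hx
    exact hp.one_lt.ne hx
  · constructor
    intro a ha g
    rw [hVmem] at ha ⊢
    exact ⟨hAn.conj_mem a ha.1 g, by rw [conj_pow, ha.2]; group⟩
  · intro v hv
    rw [hVmem] at hv ⊢
    exact ⟨hAφ v hv.1, by rw [← map_pow, hv.2, map_one]⟩
  · intro v hv w hw
    exact hAab v hv.1 w hw.1
  · intro v
    refine ⟨1, ?_⟩
    rw [pow_one]
    exact Subtype.ext v.2.2

theorem main : ∀ n : ℕ, ∀ (G : Type u) [Group G] [Finite G], Nat.card G = n → Group.IsSolvable G →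
    ∀ φ : MulAut G, (∀ g : G, φ g = g → g = 1) → (∀ g : G, φ (φ (φ (φ g))) = g) →
      Group.IsNilpotent ↥(K φ) := by
  intro n
  induction n using Nat.strong_induction_on with
  | _ n IH =>
  intro G _ _ hn hsol φ hfpf h4
  by_cases hnt : Nontrivial G
  swap
  · rw [not_nontrivial_iff_subsingleton] at hnt
    have : Subsingleton ↥(K φ) := inferInstance
    exact Group.isNilpotent_of_subsingleton
  have hsolI : Group.IsSolvable G := hsol
  -- the step to a quotient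
  have quot_step : ∀ (N : Subgroup G) [N.Normal] (hN : ∀ x ∈ N, φ x ∈ N), N ≠ ⊥ →
      Group.IsNilpotent ↥(K (quotAut φ N hN)) := by
    intro N _ hN hN1
    have hlt : Nat.card (G ⧸ N) < n := by
      rw [← hn, Subgroup.card_eq_card_quotient_mul_card_subgroup N]
      have h1 : 1 < Nat.card N := (Subgroup.one_lt_card_iff_ne_bot N).2 hN1
      have h2 : 0 < Nat.card (G ⧸ N) := Nat.card_pos
      nlinarith
    exact IH _ hlt (G ⧸ N) rfl inferInstance (quotAut φ N hN) (quotAut_fpf φ N hN hfpf)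
      (quotAut_pow4 φ N hN h4)
  obtain ⟨p, hp, V, hV1, hVn, hVφ, hVab, hVp⟩ := exists_abelian_p_subgroup hsol φ
  letI : CommGroup ↥V :=
    { (inferInstance : Group ↥V) with mul_comm := fun a b => Subtype.ext (hVab a a.2 b b.2) }
  -- quotient by V
  have hnil₂ := quot_step V hVφ hV1
  -- the action on V
  obtain ⟨ρ, hρdef⟩ : ∃ ρ : G →* MulAut ↥V, ρ = MulAut.conjNormal := ⟨_, rfl⟩
  have hρapp : ∀ (g : G) (v : V), ((ρ g v : V) : G) = g * v * g⁻¹ := by
    intro g v; rw [hρdef]; exact MulAut.conjNormal_apply g v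
  obtain ⟨f, hfdef⟩ : ∃ f : MulAut ↥V, f = restrictAut φ V hVφ := ⟨_, rfl⟩
  have hfapp : ∀ v : V, ((f v : V) : G) = φ v := by
    intro v; rw [hfdef]; rfl
  have hf : ∀ v : V, f v = v → v = 1 := by
    intro v hv
    have h1 : φ (v : G) = v := by rw [← hfapp, hv]
    exact Subtype.ext (hfpf _ h1)
  have hf4 : ∀ v : V, f (f (f (f v))) = v := by
    intro v
    apply Subtype.ext
    rw [hfapp, hfapp, hfapp, hfapp, h4]
  have hequiv : ∀ (g : G) (v : V), f (ρ g v) = ρ (φ g) (f v) := by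
    intro g v
    apply Subtype.ext
    rw [hfapp, hρapp, hρapp, hfapp, map_mul, map_mul, map_inv]
  have hker_inv : ∀ x ∈ ρ.ker, φ x ∈ ρ.ker := by
    intro x hx
    rw [MonoidHom.mem_ker] at hx ⊢
    ext w
    have h1 : ρ (φ x) (f (f.symm w)) = f (ρ x (f.symm w)) := (hequiv x (f.symm w)).symm
    rw [hx] at h1
    simpa using h1
  have hVker : V ≤ ρ.ker := by
    intro v hv
    rw [MonoidHom.mem_ker]
    ext w
    rw [hρapp]
    have := hVab v hv w w.2
    simp only [MulAut.one_apply]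
    rw [this]; group
  have hker1 : ρ.ker ≠ ⊥ := by
    intro h
    rw [h] at hVker
    exact hV1 (le_bot_iff.mp hVker)
  have hnil₁ := quot_step ρ.ker hker_inv hker1
  obtain ⟨φ₁, hφ₁def⟩ : ∃ φ₁ : MulAut (G ⧸ ρ.ker), φ₁ = quotAut φ ρ.ker hker_inv := ⟨_, rfl⟩
  rw [← hφ₁def] at hnil₁
  have hφ₁mk : ∀ g : G, φ₁ (g : G ⧸ ρ.ker) = ((φ g : G) : G ⧸ ρ.ker) := by
    intro g; rw [hφ₁def]; exact quotAut_mk φ ρ.ker hker_inv g
  have hfpf₁ : ∀ x : G ⧸ ρ.ker, φ₁ x = x → x = 1 := by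
    rw [hφ₁def]; exact quotAut_fpf φ ρ.ker hker_inv hfpf
  have h4₁ : ∀ x : G ⧸ ρ.ker, φ₁ (φ₁ (φ₁ (φ₁ x))) = x := by
    rw [hφ₁def]; exact quotAut_pow4 φ ρ.ker hker_inv h4
  have hodd₁ : Odd (Nat.card (G ⧸ ρ.ker)) := odd_card φ₁ hfpf₁ h4₁
  obtain ⟨ρ₁, hρ₁def⟩ : ∃ ρ₁ : G ⧸ ρ.ker →* MulAut ↥V, ρ₁ = QuotientGroup.kerLift ρ := ⟨_, rfl⟩
  have hρ₁inj : Function.Injective ρ₁ := by rw [hρ₁def]; exact QuotientGroup.kerLift_injective ρ
  have hρ₁mk : ∀ g : G, ρ₁ (g : G ⧸ ρ.ker) = ρ g := by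
    intro g; rw [hρ₁def]; exact QuotientGroup.kerLift_mk ρ g
  have hequiv₁ : ∀ (h : G ⧸ ρ.ker) (v : V), f (ρ₁ h v) = ρ₁ (φ₁ h) (f v) := by
    intro h v
    induction h using QuotientGroup.induction_on with
    | H g => rw [hφ₁mk, hρ₁mk, hρ₁mk]; exact hequiv g v
  have hKnorm₁ : (K φ₁).Normal := K_normal φ₁ h4₁
  have hmap₁ : (K φ).map (QuotientGroup.mk' ρ.ker) ≤ K φ₁ := by
    rw [hφ₁def]; exact map_K_le φ ρ.ker hker_inv
  obtain ⟨b, hb⟩ := hVp.exists_card_eq
  -- generators act as p-elements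
  have hgen : ∀ ι ∈ invSet φ, ((ι : G) : G ⧸ ρ.ker) ∈ pCore p (G ⧸ ρ.ker) := by
    intro ι hι
    have hι₁ : (ι : G ⧸ ρ.ker) ∈ invSet φ₁ := by
      rw [hφ₁def]; exact mk_mem_invSet φ ρ.ker hker_inv hι
    have hιK : (ι : G ⧸ ρ.ker) ∈ K φ₁ := Subgroup.subset_closure hι₁
    apply mem_pCore_of_mem_nilpotent_normal hKnorm₁ hnil₁ hιK
    by_contra hnot
    have hpos : orderOf (ι : G ⧸ ρ.ker) ≠ 0 := (orderOf_pos _).ne'
    have hex : ∃ s : ℕ, s.Prime ∧ s ∣ orderOf (ι : G ⧸ ρ.ker) ∧ s ≠ p := by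
      by_contra hno
      push Not at hno
      apply hnot
      exact ⟨_, Nat.eq_prime_pow_of_unique_prime_dvd hpos (fun {d} hd hdd => hno d hd hdd)⟩
    obtain ⟨s, hs, hsdvd, hsp⟩ := hex
    have hsf : Fact s.Prime := ⟨hs⟩
    obtain ⟨z, hzdef⟩ : ∃ z : G ⧸ ρ.ker,
        z = (ι : G ⧸ ρ.ker) ^ (orderOf (ι : G ⧸ ρ.ker) / s) := ⟨_, rfl⟩
    have hzord : orderOf z = s := by rw [hzdef]; exact orderOf_pow_orderOf_div hpos hsdvd
    have hzinv : z ∈ invSet φ₁ := by rw [hzdef]; exact pow_mem_invSet φ₁ hι₁ _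
    have hzK : z ∈ K φ₁ := by rw [hzdef]; exact (K φ₁).pow_mem hιK _
    have hzQ : z ∈ pCore s (G ⧸ ρ.ker) :=
      mem_pCore_of_mem_nilpotent_normal hKnorm₁ hnil₁ hzK ⟨1, by rw [hzord, pow_one]⟩
    have hQφ : ∀ x ∈ pCore s (G ⧸ ρ.ker), φ₁ x ∈ pCore s (G ⧸ ρ.ker) := by
      intro x hx
      have h1 := Subgroup.characteristic_iff_map_eq.mp
        (Cfsg.Agent.Lib.Helper1.pCore_characteristic (G := G ⧸ ρ.ker) s) φ₁
      rw [← h1]
      exact Subgroup.mem_map_of_mem _ hx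
    have hcop : (Nat.card (pCore s (G ⧸ ρ.ker))).Coprime (Nat.card V) := by
      obtain ⟨a, ha⟩ := (Cfsg.Agent.Lib.Helper1.pCore_isPGroup (G := G ⧸ ρ.ker) s).exists_card_eq
      rw [ha, hb]
      exact Nat.Coprime.pow _ _ ((Nat.coprime_primes hs hp.out).2 hsp)
    have hfix := key_lemma φ₁ hfpf₁ h4₁ ρ₁ hρ₁inj f hf hf4 hequiv₁ (pCore s (G ⧸ ρ.ker)) hQφ hcop
      z hzQ
    have hz1 : z = 1 := by
      apply eq_one_of_sq hodd₁
      have h1 : z = z⁻¹ := hfix.symm.trans hzinv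
      calc z * z = z⁻¹ * z := by rw [← h1]
        _ = 1 := inv_mul_cancel z
    rw [hz1, orderOf_one] at hzord
    exact hs.one_lt.ne hzord
  have hKp : (K φ).map (QuotientGroup.mk' ρ.ker) ≤ pCore p (G ⧸ ρ.ker) := by
    rw [Subgroup.map_le_iff_le_comap, K, Subgroup.closure_le]
    intro ι hι
    exact hgen ι hι
  -- elements of K of order prime to p centralize V
  have hcent : ∀ y ∈ K φ, ∀ s j : ℕ, s.Prime → s ≠ p → orderOf y = s ^ j → y ∈ ρ.ker := by
    intro y hy s j hs hsp hord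
    have h1 : (y : G ⧸ ρ.ker) ∈ pCore p (G ⧸ ρ.ker) := hKp (Subgroup.mem_map_of_mem _ hy)
    obtain ⟨k, hk⟩ := (Cfsg.Agent.Lib.Helper1.pCore_isPGroup (G := G ⧸ ρ.ker) p) ⟨_, h1⟩
    have h2 : ((y : G ⧸ ρ.ker)) ^ p ^ k = 1 := by
      have := congrArg Subtype.val hk
      simpa using this
    have h3 : ((y : G ⧸ ρ.ker)) ^ s ^ j = 1 := by
      rw [← QuotientGroup.mk_pow, ← hord, pow_orderOf_eq_one]
      rfl
    have h5 : orderOf (y : G ⧸ ρ.ker) = 1 := by
      have hc : (p ^ k).Coprime (s ^ j) :=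
        Nat.Coprime.pow _ _ ((Nat.coprime_primes hp.out hs).2 (Ne.symm hsp))
      exact Nat.eq_one_of_dvd_coprimes hc (orderOf_dvd_of_pow_eq_one h2)
        (orderOf_dvd_of_pow_eq_one h3)
    exact (QuotientGroup.eq_one_iff y).1 (orderOf_eq_one_iff.1 h5)
  -- commuting of elements of coprime prime power order
  obtain ⟨φ₂, hφ₂def⟩ : ∃ φ₂ : MulAut (G ⧸ V), φ₂ = quotAut φ V hVφ := ⟨_, rfl⟩
  rw [← hφ₂def] at hnil₂
  have hmap₂ : (K φ).map (QuotientGroup.mk' V) ≤ K φ₂ := by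
    rw [hφ₂def]; exact map_K_le φ V hVφ
  have key : ∀ X Y : G, X ∈ K φ → Y ∈ K φ → (orderOf X).Coprime (orderOf Y) →
      (∃ s j : ℕ, s.Prime ∧ s ≠ p ∧ orderOf Y = s ^ j) → X * Y = Y * X := by
    intro X Y hX hY hcop ⟨s, j, hs, hsp, hYord⟩
    have hYker : Y ∈ ρ.ker := hcent Y hY s j hs hsp hYord
    have hXK : (X : G ⧸ V) ∈ K φ₂ := hmap₂ (Subgroup.mem_map_of_mem _ hX)
    have hYK : (Y : G ⧸ V) ∈ K φ₂ := hmap₂ (Subgroup.mem_map_of_mem _ hY)
    have hc : Commute (⟨(X : G ⧸ V), hXK⟩ : K φ₂) ⟨(Y : G ⧸ V), hYK⟩ := by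
      haveI := hnil₂
      apply Cfsg.Agent.Lib.Helper10.commute_of_coprime_orderOf
      rw [Subgroup.orderOf_mk, Subgroup.orderOf_mk]
      exact (hcop.coprime_dvd_left (orderOf_map_dvd (QuotientGroup.mk' V) X)).coprime_dvd_right
        (orderOf_map_dvd (QuotientGroup.mk' V) Y)
    have hc' : (X : G ⧸ V) * (Y : G ⧸ V) = Y * X := congrArg Subtype.val hc.eq
    have hv : Y⁻¹ * (X⁻¹ * Y * X) ∈ V := by
      rw [← QuotientGroup.eq_one_iff]
      have e : ((X : G ⧸ V))⁻¹ * (Y : G ⧸ V) * (X : G ⧸ V) = (Y : G ⧸ V) := by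
        rw [mul_assoc, ← hc', ← mul_assoc, inv_mul_cancel, one_mul]
      rw [QuotientGroup.mk_mul, QuotientGroup.mk_mul, QuotientGroup.mk_mul, QuotientGroup.mk_inv,
        QuotientGroup.mk_inv, e, inv_mul_cancel]
    obtain ⟨v, hvdef⟩ : ∃ v : G, v = Y⁻¹ * (X⁻¹ * Y * X) := ⟨_, rfl⟩
    rw [← hvdef] at hv
    have hYv : Y * v * Y⁻¹ = v := by
      rw [MonoidHom.mem_ker] at hYker
      have h1 : ((ρ Y ⟨v, hv⟩ : V) : G) = v := by rw [hYker]; rfl
      rw [hρapp] at h1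
      exact h1
    have hcomm : Commute Y v := by
      have : Y * v = v * Y := by
        calc Y * v = Y * v * Y⁻¹ * Y := by group
          _ = v * Y := by rw [hYv]
      exact this
    have hconj : X⁻¹ * Y * X = Y * v := by rw [hvdef]; group
    have hvpow : v ^ orderOf Y = 1 := by
      have h1 : (X⁻¹ * Y * X) ^ orderOf Y = 1 := by
        have h2 := conj_pow (i := orderOf Y) (a := X⁻¹) (b := Y)
        rw [inv_inv] at h2
        rw [h2, pow_orderOf_eq_one]; group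
      rw [hconj, hcomm.mul_pow, pow_orderOf_eq_one, one_mul] at h1
      exact h1
    obtain ⟨k, hk⟩ := hVp ⟨v, hv⟩
    have hvpk : v ^ p ^ k = 1 := by
      have := congrArg Subtype.val hk
      simpa using this
    have hv1 : orderOf v = 1 := by
      have hc : (p ^ k).Coprime (orderOf Y) := by
        rw [hYord]
        exact Nat.Coprime.pow _ _ ((Nat.coprime_primes hp.out hs).2 (Ne.symm hsp))
      exact Nat.eq_one_of_dvd_coprimes hc (orderOf_dvd_of_pow_eq_one hvpk)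
        (orderOf_dvd_of_pow_eq_one hvpow)
    have hv1' : v = 1 := orderOf_eq_one_iff.1 hv1
    rw [hv1', mul_one] at hconj
    calc X * Y = X * (X⁻¹ * Y * X) := by rw [hconj]
      _ = Y * X := by group
  apply Cfsg.Agent.Lib.Helper10.isNilpotent_of_commute_coprime
  intro x y hx hy hxy
  rw [← Subgroup.orderOf_coe] at hx hy hxy
  rw [← Subgroup.orderOf_coe y] at hxy
  obtain ⟨r, i, hr, hi, hri⟩ := (isPrimePow_nat_iff _).1 hx
  obtain ⟨s, j, hs, hj, hsj⟩ := (isPrimePow_nat_iff _).1 hy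
  apply Subtype.ext
  by_cases hsp : s = p
  · have hrp : r ≠ p := by
      intro hrp
      rw [← hri, ← hsj, hrp, hsp] at hxy
      have h1 : p ∣ Nat.gcd (p ^ i) (p ^ j) :=
        Nat.dvd_gcd (dvd_pow_self p hi.ne') (dvd_pow_self p hj.ne')
      rw [Nat.Coprime] at hxy
      rw [hxy] at h1
      exact hp.out.one_lt.ne' (Nat.dvd_one.mp h1)
    exact (key y x y.2 x.2 hxy.symm ⟨r, i, hr, hrp, hri.symm⟩).symm
  · exact key x y x.2 y.2 hxy ⟨s, j, hs, hsp, hsj.symm⟩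

/-- **Gorenstein–Herstein**: a finite solvable group with a fixed-point-free automorphism `φ`,
`φ⁴ = 1`, has nilpotent derived subgroup. -/
theorem commutator_isNilpotent {G : Type u} [Group G] [Finite G] (hsol : Group.IsSolvable G)
    (φ : MulAut G) (hfpf : ∀ g : G, φ g = g → g = 1) (h4 : ∀ g : G, φ (φ (φ (φ g))) = g) :
    Group.IsNilpotent ↥(commutator G) :=
  Cfsg.Agent.Lib.Helper10.isNilpotent_of_le (commutator_le_K φ h4 hfpf)
    (main (Nat.card G) G rfl hsol φ hfpf h4)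

end Cfsg.Agent.Lib.Helper18.FpfFour
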