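import Mathlib
import Cfsg.Agent.Lib.Helper18.SylowRules

/-!
# More rules on Sylow data (helper18)

* `sd_not_two_part_dvd`: if `2 ^ a ‖ |G|` (`a > 0`) then `2 ^ a ∤ e`: otherwise a Sylow 2-subgroup of
  `N(P)` is a Sylow 2-subgroup of `G` embedded in the cyclic group `Aut(P)`, and a non-abelian
  simple group has no cyclic Sylow 2-subgroup.
* `strong_kill2`: `strong_kill` with this extra rule.
-/

set_option autoImplicit false
set_option linter.unusedSectionVars false
set_option maxRecDepth 100000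

namespace Cfsg.Agent.Lib.Helper18.SylowRules

open Cfsg.H5.SmallOrd Cfsg.H5.SylowTuple Cfsg.Agent.Lib.Helper18.SylowOver
  Cfsg.Agent.Lib.Helper18.SylowFix Cfsg.Agent.Lib.Helper18.Ord3960

variable {G : Type*} [Group G] [Finite G]

/-- **Rule E2.** If `2 ^ a` is the exact power of `2` dividing `|G|` (`a > 0`), then `2 ^ a ∤ e`. -/
theorem sd_not_two_part_dvd [IsSimpleGroup G] (hG : ¬ IsMulCommutative G) {a : ℕ} (ha : 0 < a)
    (hfull : ¬ 2 ^ (a + 1) ∣ Nat.card G) {p k e c : ℕ} [hp : Fact p.Prime]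
    (hsd : IsSD G p k e c) : ¬ 2 ^ a ∣ e := by
  intro h4
  classical
  haveI h2 : Fact (Nat.Prime 2) := ⟨by norm_num⟩
  obtain ⟨P⟩ : Nonempty (Sylow p G) := inferInstance
  set N : Subgroup G := Subgroup.normalizer ((P : Subgroup G) : Set G) with hNdef
  set C : Subgroup G := Subgroup.centralizer ((P : Subgroup G) : Set G) with hCdef
  have hN : Nat.card N = p * (e * c) := hsd.card_N P
  have hC : Nat.card C = p * c := hsd.card_C P
  have hPc : Nat.card (P : Subgroup G) = p := hsd.card_P P
  obtain ⟨b, hb⟩ := h4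
  have hpc_odd : ¬ 2 ∣ p * c := by
    rintro ⟨d, hd⟩
    apply hfull
    rw [hsd.card_G]
    refine ⟨k * b * d, ?_⟩
    calc p * (k * (e * c)) = k * e * (p * c) := by ring
      _ = 2 ^ (a + 1) * (k * b * d) := by rw [hb, hd, pow_succ]; ring
  have hb_odd : ¬ 2 ∣ b := by
    rintro ⟨d, hd⟩
    apply hfull
    rw [hsd.card_G]
    refine ⟨p * k * d * c, ?_⟩
    rw [hb, hd, pow_succ]; ring
  have h4G : 2 ^ a ∣ Nat.card G := by
    rw [hsd.card_G, hb]
    exact ⟨p * k * b * c, by ring⟩
  obtain ⟨T0⟩ : Nonempty (Sylow 2 N) := inferInstance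
  have hT0 : Nat.card (T0 : Subgroup N) = 2 ^ a := by
    apply sylow_card 2 a (b * (p * c))
    · intro h
      rcases (Nat.Prime.dvd_mul Nat.prime_two).mp h with h | h
      · exact hb_odd h
      · exact hpc_odd h
    · rw [hN, hb]; ring
  set T : Subgroup G := (T0 : Subgroup N).map N.subtype with hTdef
  have hTc : Nat.card T = 2 ^ a := by
    rw [hTdef, Subgroup.card_map_of_injective (Subgroup.subtype_injective _), hT0]
  have hTN : T ≤ N := Subgroup.map_subtype_le _
  have hG0 : Nat.card G ≠ 0 := Nat.card_pos.ne'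
  have hfac : (Nat.card G).factorization 2 = a := by
    have hk1 : a ≤ (Nat.card G).factorization 2 :=
      (Nat.prime_two.pow_dvd_iff_le_factorization hG0).mp h4G
    have hk2 : (Nat.card G).factorization 2 < a + 1 := by
      by_contra hge
      push Not at hge
      exact hfull ((Nat.prime_two.pow_dvd_iff_le_factorization hG0).mpr hge)
    omega
  have hTcard : Nat.card T = 2 ^ (Nat.card G).factorization 2 := by rw [hfac, hTc]
  set TS : Sylow 2 G := Sylow.ofCard T hTcard with hTSdef
  have h2G : 2 ∣ Nat.card G := (dvd_pow_self 2 (by omega)).trans h4G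
  -- T embeds into Aut(P)
  let φ : T →* MulAut (P : Subgroup G) :=
    (Subgroup.normalizerMonoidHom (P : Subgroup G)).comp (Subgroup.inclusion hTN)
  have hφ : Function.Injective φ := by
    rw [injective_iff_map_eq_one]
    intro t ht
    have hker : Subgroup.inclusion hTN t ∈ (Subgroup.normalizerMonoidHom (P : Subgroup G)).ker :=
      MonoidHom.mem_ker.mpr ht
    rw [Subgroup.normalizerMonoidHom_ker, Subgroup.mem_subgroupOf] at hker
    have htC : (t : G) ∈ C := hker
    have h1 : orderOf (t : G) ∣ p * c := by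
      rw [← hC]
      have := orderOf_dvd_natCard (⟨(t : G), htC⟩ : C)
      rwa [Subgroup.orderOf_mk] at this
    have h2' : orderOf (t : G) ∣ 2 ^ a := by
      rw [← hTc, Subgroup.orderOf_coe]
      exact orderOf_dvd_natCard t
    have hcop : Nat.Coprime (2 ^ a) (p * c) := by
      have : Nat.Coprime 2 (p * c) := (Nat.Prime.coprime_iff_not_dvd Nat.prime_two).mpr hpc_odd
      exact Nat.Coprime.pow_left a this
    have h3 : orderOf (t : G) = 1 := Nat.eq_one_of_dvd_coprimes hcop h2' h1
    have : (t : G) = 1 := orderOf_eq_one_iff.mp h3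
    exact Subtype.ext this
  haveI : Fact (Nat.card (P : Subgroup G)).Prime := ⟨by rw [hPc]; exact hp.out⟩
  haveI : IsCyclic (P : Subgroup G) := isCyclic_of_prime_card hPc
  let ψ : T →* (ZMod (Nat.card (P : Subgroup G)))ˣ :=
    (IsCyclic.mulAutMulEquiv (P : Subgroup G)).toMonoidHom.comp φ
  have hψ : Function.Injective ψ :=
    (IsCyclic.mulAutMulEquiv (P : Subgroup G)).injective.comp hφ
  have hcyc : IsCyclic (TS : Subgroup G) := isCyclic_of_injective ψ hψ
  have hmin : (Nat.card G).minFac = 2 := (Nat.minFac_eq_two_iff _).mpr h2G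
  have hle := IsCyclic.normalizer_le_centralizer hmin hcyc
  have hc2 := Cfsg.Agent.Lib.Helper7.card_eq_prime_of_simple_of_normalizer_le_centralizer TS h2G hle
  apply hG
  have : IsCyclic G := isCyclic_of_prime_card hc2
  exact this.isMulCommutative

/-- exact power of two dividing `n`, found among `0, …, 15` -/
def twoPart (n : ℕ) : ℕ :=
  ((List.range 16).filter fun a => decide (2 ^ a ∣ n) && !(decide (2 ^ (a + 1) ∣ n))).headD 0

/-- all the unary rules, second version -/
def ruleOk2 (n p : ℕ) (t : ℕ × ℕ × ℕ) : Bool :=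
  ruleOk n p t && (decide (twoPart n = 0) || !(decide (2 ^ twoPart n ∣ t.2.1)))

theorem twoPart_spec (n : ℕ) (h : twoPart n ≠ 0) :
    2 ^ twoPart n ∣ n ∧ ¬ 2 ^ (twoPart n + 1) ∣ n := by
  unfold twoPart at h ⊢
  generalize hl : ((List.range 16).filter fun a => decide (2 ^ a ∣ n) &&
    !(decide (2 ^ (a + 1) ∣ n))) = l at h ⊢
  rcases l with _ | ⟨x, l⟩
  · simp at h
  · have hx : x ∈ ((List.range 16).filter fun a => decide (2 ^ a ∣ n) &&
        !(decide (2 ^ (a + 1) ∣ n))) := by rw [hl]; exact List.mem_cons_self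
    rw [List.mem_filter] at hx
    simp only [Bool.and_eq_true, decide_eq_true_eq, Bool.not_eq_true', decide_eq_false_iff_not]
      at hx
    simpa using hx.2

theorem ruleOk2_of [IsSimpleGroup G] (hG : ¬ IsMulCommutative G) {n p : ℕ} {t : ℕ × ℕ × ℕ}
    (hn : Nat.card G = n) (h : IsSD' G (p, t)) : ruleOk2 n p t = true := by
  unfold ruleOk2
  rw [Bool.and_eq_true]
  refine ⟨ruleOk_of hG hn h, ?_⟩
  obtain ⟨hp, hsd⟩ := h
  obtain ⟨k, e, c⟩ := t
  change @IsSD G _ p hp k e c at hsd
  simp only [Bool.or_eq_true, decide_eq_true_eq, Bool.not_eq_true', decide_eq_false_iff_not]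
  by_cases h0 : twoPart n = 0
  · exact Or.inl h0
  · right
    obtain ⟨h1, h2⟩ := twoPart_spec n h0
    exact sd_not_two_part_dvd hG (Nat.pos_of_ne_zero h0) (by rw [hn]; exact h2) hsd

def ftriples2 (n p : ℕ) : List (ℕ × ℕ × ℕ) := (triples n p).filter (ruleOk2 n p)

theorem exists_mem_ftriples2 [IsSimpleGroup G] (hG : ¬ IsMulCommutative G) (n p : ℕ)
    (hn : Nat.card G = n) (hp : p.Prime) (hpn : p ∣ n) (hpm : ¬ p ∣ n / p) (hm1 : 1 < n / p) :
    ∃ t ∈ ftriples2 n p, IsSD' G (p, t) := by
  obtain ⟨t, ht, hsd⟩ := exists_mem_triples hG n p hn hp hpn hpm hm1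
  exact ⟨t, List.mem_filter.mpr ⟨ht, ruleOk2_of hG hn hsd⟩, hsd⟩

/-- **Sylow tuple certificate**, with all the unary rules of `ruleOk2`. -/
theorem strong_kill2 [IsSimpleGroup G] (hG : ¬ IsMulCommutative G) (n : ℕ) (ps : List ℕ)
    (hps : primesOk n ps = true)
    (cert : search n (ps.map fun p => (p, ftriples2 n p)) [] = false) : Nat.card G ≠ n := by
  intro hn
  have h := search_sound (G := G) n hn (ps.map fun p => (p, ftriples2 n p)) []
    (fun x hx => absurd hx List.not_mem_nil) ?_
  · rw [h] at cert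
    exact absurd cert (by decide)
  · intro pt hpt
    rw [List.mem_map] at hpt
    obtain ⟨p, hp, rfl⟩ := hpt
    unfold primesOk at hps
    rw [List.all_eq_true] at hps
    have h1 := hps p hp
    simp only [Bool.and_eq_true, decide_eq_true_eq, Bool.not_eq_true', decide_eq_false_iff_not]
      at h1
    obtain ⟨⟨⟨hpp, hpn⟩, hpm⟩, hm1⟩ := h1
    exact exists_mem_ftriples2 hG n p hn hpp hpn hpm hm1

end Cfsg.Agent.Lib.Helper18.SylowRules
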