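import Mathlib
import Cfsg.Agent.S0071
import Cfsg.Agent.Lib.Helper10.Ord7920A
import Cfsg.Agent.Lib.Helper18.SylowRules2

/-!
# A Frobenius-complement kill, and order 5104 (helper18, for S0983)

If `|G| = 2^a m` with `m` odd, and for every prime `r ∣ m` the Sylow `r`-subgroups have order `r`,
have centralizers of odd order and `r ∤ 2^j - 1` for `1 ≤ j ≤ a`, then no odd-order element
normalizes a non-trivial 2-subgroup, and Frobenius' theorem (S0071) gives a normal 2-complement.
-/

set_option autoImplicit false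
set_option linter.unusedSectionVars false
set_option maxRecDepth 100000

namespace Cfsg.Agent.Lib.Helper18.Frob2

open Cfsg.H5.SmallOrd Cfsg.H5.SylowTuple Cfsg.Agent.Lib.Helper18.SylowRules

variable {G : Type*} [Group G] [Finite G]

/-- an element of order `r` (Sylow data with `r c` odd) commutes with no non-trivial 2-element -/
theorem not_commute_of_odd {r k e c : ℕ} [hr : Fact r.Prime] (hsd : IsSD G r k e c)
    (hodd : ¬ 2 ∣ r * c) (y x : G) (hy : orderOf y = r) (hx1 : x ≠ 1) (i : ℕ)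
    (hx2 : x ^ (2 ^ i) = 1) (hcomm : Commute y x) : False := by
  obtain ⟨R, hR⟩ := hsd.exists_sylow_eq_zpowers y hy
  have hxR : x ∈ Subgroup.centralizer ((R : Subgroup G) : Set G) := by
    rw [Subgroup.mem_centralizer_iff]
    intro w hw
    rw [hR, SetLike.mem_coe, Subgroup.mem_zpowers_iff] at hw
    obtain ⟨j, rfl⟩ := hw
    exact (hcomm.zpow_left j).eq
  have h1 : orderOf x ∣ r * c := by
    rw [← hsd.card_C R]
    have := orderOf_dvd_natCard (⟨x, hxR⟩ : Subgroup.centralizer ((R : Subgroup G) : Set G))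
    rwa [Subgroup.orderOf_mk] at this
  have h2 : orderOf x ∣ 2 ^ i := orderOf_dvd_of_pow_eq_one hx2
  have hcop : Nat.Coprime (2 ^ i) (r * c) :=
    Nat.Coprime.pow_left i ((Nat.Prime.coprime_iff_not_dvd Nat.prime_two).mpr hodd)
  have h3 : orderOf x = 1 := Nat.eq_one_of_dvd_coprimes hcop h2 h1
  exact hx1 (orderOf_eq_one_iff.mp h3)

/-- **Frobenius kill.** -/
theorem frob2_kill [IsSimpleGroup G] (hG : ¬ IsMulCommutative G) (a m : ℕ)
    (hn : Nat.card G = 2 ^ a * m) (hm : ¬ 2 ∣ m) (hm1 : 1 < m) (ha : 0 < a)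
    (H : ∀ r : ℕ, r.Prime → r ∣ m → ∃ (hr : Fact r.Prime) (k e c : ℕ),
      @IsSD G _ r hr k e c ∧ ¬ 2 ∣ r * c ∧ ∀ j : ℕ, 1 ≤ j → j ≤ a → ¬ r ∣ 2 ^ j - 1) : False := by
  classical
  haveI h2 : Fact (Nat.Prime 2) := ⟨by norm_num⟩
  obtain ⟨P⟩ : Nonempty (Sylow 2 G) := inferInstance
  have hPc : Nat.card (P : Subgroup G) = 2 ^ a := sylow_card 2 a m hm hn P
  have key : ∀ Q : Subgroup G, Q ≤ (P : Subgroup G) → ∀ g ∈ Subgroup.normalizer (Q : Set G),
      Nat.Coprime (orderOf g) 2 → g ∈ Subgroup.centralizer (Q : Set G) := by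
    intro Q hQP g hgN hgo
    by_cases hQ1 : Q = ⊥
    · rw [hQ1, Subgroup.mem_centralizer_iff]
      intro w hw
      have : w = 1 := by simpa using hw
      rw [this, one_mul, mul_one]
    by_cases hg1 : g = 1
    · rw [hg1]; exact Subgroup.one_mem _
    exfalso
    obtain ⟨r, hr, hrd, hyo⟩ := Cfsg.Agent.Lib.Helper10.Ord7920.exists_prime_orderOf_pow hg1
    have hrm : r ∣ m := by
      have h1 : r ∣ 2 ^ a * m := by rw [← hn]; exact hrd.trans (orderOf_dvd_natCard g)
      rcases (Nat.Prime.dvd_mul hr).mp h1 with h | h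
      · exfalso
        have hr2 : r = 2 := (Nat.prime_dvd_prime_iff_eq hr Nat.prime_two).mp (hr.dvd_of_dvd_pow h)
        rw [hr2] at hrd
        have := Nat.Coprime.eq_one_of_dvd hgo.symm hrd
        omega
      · exact h
    obtain ⟨hrf, k, e, c, hsd, hodd, hj⟩ := H r hr hrm
    set y : G := g ^ (orderOf g / r) with hydef
    have hyN : y ∈ Subgroup.normalizer (Q : Set G) := Subgroup.pow_mem _ hgN _
    -- the order of `Q`
    have hQpg : IsPGroup 2 Q := (IsPGroup.of_card hPc).to_le hQP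
    obtain ⟨j, hjc⟩ := IsPGroup.iff_card.mp hQpg
    have hj1 : 1 ≤ j := by
      rcases Nat.eq_zero_or_pos j with h0 | h0
      · exfalso
        rw [h0, pow_zero] at hjc
        exact hQ1 (Subgroup.card_eq_one.mp hjc)
      · exact h0
    have hja : j ≤ a := by
      have h1 : 2 ^ j ∣ 2 ^ a := by
        rw [← hjc, ← hPc]; exact Subgroup.card_dvd_of_le hQP
      exact (Nat.pow_dvd_pow_iff_le_right (by norm_num)).mp h1
    have hnd : ¬ Nat.card (Subgroup.zpowers y) ∣ Nat.card Q - 1 := by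
      rw [Nat.card_zpowers, hyo, hjc]
      exact hj j hj1 hja
    have hQP' : ∀ y' ∈ Subgroup.zpowers y, ∀ x ∈ Q, y' * x * y'⁻¹ ∈ Q := by
      intro y' hy' x hx
      have hy'N : y' ∈ Subgroup.normalizer (Q : Set G) :=
        (Subgroup.zpowers_le.mpr hyN) hy'
      exact (Subgroup.mem_normalizer_iff.mp hy'N x).mp hx
    obtain ⟨y', hy', hy'1, x, hx, hx1, hcomm⟩ :=
      Cfsg.Agent.Lib.Helper10.Ord7920.exists_commute_of_not_dvd (Subgroup.zpowers y) Q hQP' hnd
    have hy'o : orderOf y' = r := by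
      have h1 : orderOf y' ∣ r := by
        have := orderOf_dvd_natCard (⟨y', hy'⟩ : Subgroup.zpowers y)
        rwa [Subgroup.orderOf_mk, Nat.card_zpowers, hyo] at this
      rcases (Nat.dvd_prime hr).mp h1 with h | h
      · exact absurd (orderOf_eq_one_iff.mp h) hy'1
      · exact h
    have hx2 : x ^ (2 ^ j) = 1 := by
      have := pow_card_eq_one' (G := Q) (x := ⟨x, hx⟩)
      rw [hjc] at this
      exact congrArg Subtype.val this
    exact @not_commute_of_odd G _ _ r k e c hrf hsd hodd y' x hy'o hx1 j hx2 hcomm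
  obtain ⟨N, hNn, hNc⟩ := (Cfsg.Agent.S0071.result P).mpr key
  have hcard := hNc.card_mul_card
  rw [hPc, hn] at hcard
  have hNcard : Nat.card N = m := by
    have hpos : 0 < 2 ^ a := pow_pos (by norm_num) a
    apply Nat.eq_of_mul_eq_mul_right hpos
    rw [hcard]; ring
  rcases hNn.eq_bot_or_eq_top with hb | ht
  · rw [hb, Subgroup.card_bot] at hNcard
    omega
  · rw [ht, Subgroup.card_top, hn] at hNcard
    have h2a : 2 ≤ 2 ^ a := by
      calc 2 = 2 ^ 1 := by norm_num
        _ ≤ 2 ^ a := Nat.pow_le_pow_right (by norm_num) ha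
    nlinarith

theorem no_5104 [IsSimpleGroup G] (hG : ¬ IsMulCommutative G) : Nat.card G ≠ 5104 := by
  intro hn
  obtain ⟨t29, ht29, hsd29⟩ :=
    exists_mem_ftriples2 hG 5104 29 hn (by norm_num) (by norm_num) (by norm_num) (by norm_num)
  obtain ⟨t11, ht11, hsd11⟩ :=
    exists_mem_ftriples2 hG 5104 11 hn (by norm_num) (by norm_num) (by norm_num) (by norm_num)
  have h29 : ftriples2 5104 29 = [(88, 2, 1)] := by decide +kernel
  have h11 : ftriples2 5104 11 = [(232, 2, 1)] := by decide +kernel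
  rw [h29, List.mem_singleton] at ht29
  rw [h11, List.mem_singleton] at ht11
  subst ht29
  subst ht11
  obtain ⟨hp29, hsd29⟩ := hsd29
  obtain ⟨hp11, hsd11⟩ := hsd11
  apply frob2_kill hG 4 319 (by rw [hn]; norm_num) (by norm_num) (by norm_num) (by norm_num)
  intro r hr hrm
  have hr' : r = 11 ∨ r = 29 := by
    have h1 : r ∣ 11 * 29 := by norm_num; exact hrm
    rcases (Nat.Prime.dvd_mul hr).mp h1 with h | h
    · exact Or.inl ((Nat.prime_dvd_prime_iff_eq hr (by norm_num)).mp h)
    · exact Or.inr ((Nat.prime_dvd_prime_iff_eq hr (by norm_num)).mp h)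
  rcases hr' with rfl | rfl
  · refine ⟨hp11, 232, 2, 1, hsd11, by norm_num, ?_⟩
    intro j h1 h4
    interval_cases j <;> norm_num
  · refine ⟨hp29, 88, 2, 1, hsd29, by norm_num, ?_⟩
    intro j h1 h4
    interval_cases j <;> norm_num

end Cfsg.Agent.Lib.Helper18.Frob2
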