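import Mathlib
import Cfsg.Prelude.Def_LocalEven
import Cfsg.Agent.Lib.Helper18.FunctorMain

/-!
# Consequences of the main theorem on section conjugacy functors, in the vocabulary of the statements
-/

set_option autoImplicit false

universe u

namespace Cfsg.Agent.Lib.Helper18.FunctorApps

open Cfsg Cfsg.Agent.Lib.Helper13 Cfsg.Agent.Lib.Helper18.FunctorMain

variable {p : ℕ} {W : ∀ (Q : Type u) [Group Q], Subgroup Q}

/-- from the subgroup form of control to the vocabulary of the statements -/
theorem controlsStrongFusion_of_ctl {Y : Type u} [Group Y] (h : Ctl p W Y) (T : Sylow p Y) :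
    Cfsg.ControlsStrongFusion p (inducedFunctor (G := Y) W (T : Subgroup Y)) := by
  refine ⟨T, inducedFunctor_le _, ?_⟩
  intro A hA
  refine ⟨hA, ?_⟩
  intro g hg
  obtain ⟨m, hm, hmA⟩ := h T (Subgroup.closure A) g ((Subgroup.closure_le _).mpr hA)
    (conj_closure_mem (fun a ha => hg ⟨a, ha, rfl⟩))
  exact ⟨m, hm, fun a ha => (hmA a (Subgroup.subset_closure ha)).symm⟩

/-- the hypothesis on all sections of `G` gives control in all sections of `G` -/
theorem ctl_sections [Fact p.Prime] (hW : IsCharPFunctor.{u} p W) {G : Type u} [Group G] [Finite G]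
    (hsec : SecAll (Φ p W) G) (K R : Subgroup G) [hR : (R.subgroupOf K).Normal] :
    Ctl p W (↥K ⧸ R.subgroupOf K) := by
  have hiso := isoInv_Φ (p := p) hW
  exact main hW _ _ rfl (secAll_quotient hiso (secAll_subgroup hiso hsec K) (R.subgroupOf K))

end Cfsg.Agent.Lib.Helper18.FunctorApps
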