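import Mathlib
import Cfsg.Prelude.Def_FusionReduction
import Cfsg.Agent.Lib.Helper27.FusionSat
import Cfsg.Agent.Lib.Helper27.FusionRealizedSub

set_option autoImplicit false

/-!
# Bridges: fusion systems read through maps into groups

A *bridge* on a subgroup `N ≤ Ω` is a function `e : Ω → G` which restricted to `N` is an injective
homomorphism.  `Ind e N M 𝒩` says that the subgroup `M ≤ G` induces on `N` (through `e`) exactly the
maps in the family `𝒩`.  We develop the calculus needed to pass local realizations of a fusion system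
to normalizer systems: normalizers `NB e X` of images, conjugation maps `bconj`, the description of
`N_F(U)` through a bridge, transport along a map of the system, and the comparison of two bridges
inducing the same family.
-/

namespace Cfsg.Agent.Lib.Helper18.FusFree

open Cfsg Cfsg.FusionSystem Cfsg.Agent.Lib.Helper27 Cfsg.Agent.H26

section bridge

variable {Ω : Type*} [Group Ω] {G : Type*} [Group G]

/-- `e` restricted to `N` is an injective homomorphism. -/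
structure IsBridge (N : Subgroup Ω) (e : Ω → G) : Prop where
  mul : ∀ x ∈ N, ∀ y ∈ N, e (x * y) = e x * e y
  inj : ∀ x ∈ N, ∀ y ∈ N, e x = e y → x = y

theorem IsBridge.one {N : Subgroup Ω} {e : Ω → G} (he : IsBridge N e) : e 1 = 1 := by
  have h := he.mul 1 N.one_mem 1 N.one_mem
  rw [mul_one] at h
  have h2 : e 1 * e 1 = e 1 * 1 := by rw [← h, mul_one]
  exact mul_left_cancel h2

theorem IsBridge.inv {N : Subgroup Ω} {e : Ω → G} (he : IsBridge N e) {x : Ω} (hx : x ∈ N) :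
    e x⁻¹ = (e x)⁻¹ := by
  have h := he.mul x hx x⁻¹ (N.inv_mem hx)
  rw [mul_inv_cancel, he.one] at h
  exact eq_inv_of_mul_eq_one_right h.symm

theorem IsBridge.mono {N N₀ : Subgroup Ω} {e : Ω → G} (he : IsBridge N e) (h : N₀ ≤ N) :
    IsBridge N₀ e :=
  ⟨fun x hx y hy => he.mul x (h hx) y (h hy), fun x hx y hy => he.inj x (h hx) y (h hy)⟩

theorem IsBridge.conj {N : Subgroup Ω} {e : Ω → G} (he : IsBridge N e) {x y : Ω} (hx : x ∈ N)
    (hy : y ∈ N) : e (x * y * x⁻¹) = e x * e y * (e x)⁻¹ := by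
  rw [he.mul _ (N.mul_mem hx hy) _ (N.inv_mem hx), he.mul x hx y hy, he.inv hx]

theorem isBridge_ext1 {S : Subgroup Ω} (ι : S →* G) (hinj : Function.Injective ι) :
    IsBridge S (ext1 ι) :=
  ⟨fun _ hx _ hy => ext1_mul ι hx hy, fun _ hx _ hy h => ext1_inj hinj hx hy h⟩

/-- The elements of `G` normalizing the image `e(X)`. -/
def NB (e : Ω → G) (X : Subgroup Ω) : Subgroup G where
  carrier := {g | (∀ x ∈ X, ∃ y ∈ X, g * e x * g⁻¹ = e y) ∧ (∀ x ∈ X, ∃ y ∈ X, g⁻¹ * e x * g = e y)}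
  one_mem' := ⟨fun x hx => ⟨x, hx, by simp⟩, fun x hx => ⟨x, hx, by simp⟩⟩
  mul_mem' := by
    rintro a b ⟨ha1, ha2⟩ ⟨hb1, hb2⟩
    refine ⟨fun x hx => ?_, fun x hx => ?_⟩
    · obtain ⟨y, hy, h1⟩ := hb1 x hx
      obtain ⟨z, hz, h2⟩ := ha1 y hy
      refine ⟨z, hz, ?_⟩
      rw [← h2, ← h1]
      group
    · obtain ⟨y, hy, h1⟩ := ha2 x hx
      obtain ⟨z, hz, h2⟩ := hb2 y hy
      refine ⟨z, hz, ?_⟩
      rw [← h2, ← h1]
      group
  inv_mem' := by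
    rintro a ⟨ha1, ha2⟩
    refine ⟨fun x hx => ?_, fun x hx => ?_⟩
    · obtain ⟨y, hy, h⟩ := ha2 x hx
      refine ⟨y, hy, ?_⟩
      rw [← h]
      group
    · obtain ⟨y, hy, h⟩ := ha1 x hx
      refine ⟨y, hy, ?_⟩
      rw [← h]
      group

theorem mem_NB_iff {e : Ω → G} {X : Subgroup Ω} {g : G} :
    g ∈ NB e X ↔ (∀ x ∈ X, ∃ y ∈ X, g * e x * g⁻¹ = e y) ∧ (∀ x ∈ X, ∃ y ∈ X, g⁻¹ * e x * g = e y) :=
  Iff.rfl

theorem mem_NB_of_finite {N X : Subgroup Ω} {e : Ω → G} (he : IsBridge N e) (hXN : X ≤ N) [Finite X]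
    {g : G} (h : ∀ x ∈ X, ∃ y ∈ X, g * e x * g⁻¹ = e y) : g ∈ NB e X := by
  refine ⟨h, ?_⟩
  choose f hf hfe using h
  have hinj : Function.Injective (fun x : X => (⟨f x x.2, hf x x.2⟩ : X)) := by
    intro a b hab
    have h1 : f a a.2 = f b b.2 := congrArg Subtype.val hab
    have h2 : g * e a * g⁻¹ = g * e b * g⁻¹ := by rw [hfe a a.2, hfe b b.2, h1]
    have h3 : e (a : Ω) = e b := mul_left_cancel (mul_right_cancel h2)
    exact Subtype.ext (he.inj _ (hXN a.2) _ (hXN b.2) h3)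
  have hsurj := Finite.surjective_of_injective hinj
  intro x hx
  obtain ⟨y, hy⟩ := hsurj ⟨x, hx⟩
  refine ⟨y, y.2, ?_⟩
  have h1 : f y y.2 = x := congrArg Subtype.val hy
  have h2 := hfe y y.2
  rw [h1] at h2
  rw [← h2]
  group

/-- If `g` maps `e(U)` into `e(U)` and `e(R)` into `e(R)` then it maps `e(U ⊔ R)` into `e(U ⊔ R)`. -/
theorem nb_sup_aux {N U R : Subgroup Ω} {e : Ω → G} (he : IsBridge N e) (hU : U ≤ N) (hR : R ≤ N) {g : G}
    (hgU : ∀ x ∈ U, ∃ y ∈ U, g * e x * g⁻¹ = e y) (hgR : ∀ x ∈ R, ∃ y ∈ R, g * e x * g⁻¹ = e y) :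
    ∀ x ∈ U ⊔ R, ∃ y ∈ U ⊔ R, g * e x * g⁻¹ = e y := by
  have hle : U ⊔ R ≤ N := sup_le hU hR
  intro x hx
  have key : x ∈ N ∧ ∃ y ∈ U ⊔ R, g * e x * g⁻¹ = e y := by
    rw [Subgroup.sup_eq_closure] at hx
    induction hx using Subgroup.closure_induction with
    | mem z hz =>
      rcases hz with hz | hz
      · obtain ⟨y, hy, h⟩ := hgU z hz
        exact ⟨hU hz, y, Subgroup.mem_sup_left hy, h⟩
      · obtain ⟨y, hy, h⟩ := hgR z hz
        exact ⟨hR hz, y, Subgroup.mem_sup_right hy, h⟩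
    | one => exact ⟨N.one_mem, 1, Subgroup.one_mem _, by rw [he.one]; group⟩
    | mul a b _ _ iha ihb =>
      obtain ⟨haN, y, hy, h1⟩ := iha
      obtain ⟨hbN, z, hz, h2⟩ := ihb
      refine ⟨N.mul_mem haN hbN, y * z, Subgroup.mul_mem _ hy hz, ?_⟩
      rw [he.mul a haN b hbN, he.mul y (hle hy) z (hle hz), ← h1, ← h2]
      group
    | inv a _ iha =>
      obtain ⟨haN, y, hy, h1⟩ := iha
      refine ⟨N.inv_mem haN, y⁻¹, Subgroup.inv_mem _ hy, ?_⟩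
      rw [he.inv haN, he.inv (hle hy), ← h1]
      group
  exact key.2

theorem nb_sup {N U R : Subgroup Ω} {e : Ω → G} (he : IsBridge N e) (hU : U ≤ N) (hR : R ≤ N) :
    NB e U ⊓ NB e R ≤ NB e (U ⊔ R) := by
  rintro g ⟨⟨hU1, hU2⟩, ⟨hR1, hR2⟩⟩
  refine ⟨nb_sup_aux he hU hR hU1 hR1, ?_⟩
  have h := nb_sup_aux (g := g⁻¹) he hU hR (by simpa using hU2) (by simpa using hR2)
  simpa using h

/-- The subgroup of `N` on which conjugation by `g` (read through `e`) lands in `e(N)`. -/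
def domB (e : Ω → G) (N : Subgroup Ω) (he : IsBridge N e) (g : G) : Subgroup Ω where
  carrier := {y | y ∈ N ∧ ∃ z ∈ N, g * e y * g⁻¹ = e z}
  one_mem' := ⟨N.one_mem, 1, N.one_mem, by rw [he.one]; group⟩
  mul_mem' := by
    rintro a b ⟨ha, z, hz, h1⟩ ⟨hb, w, hw, h2⟩
    refine ⟨N.mul_mem ha hb, z * w, N.mul_mem hz hw, ?_⟩
    rw [he.mul a ha b hb, he.mul z hz w hw, ← h1, ← h2]
    group
  inv_mem' := by
    rintro a ⟨ha, z, hz, h1⟩
    refine ⟨N.inv_mem ha, z⁻¹, N.inv_mem hz, ?_⟩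
    rw [he.inv ha, he.inv hz, ← h1]
    group

theorem mem_domB {e : Ω → G} {N : Subgroup Ω} {he : IsBridge N e} {g : G} {y : Ω} :
    y ∈ domB e N he g ↔ y ∈ N ∧ ∃ z ∈ N, g * e y * g⁻¹ = e z := Iff.rfl

theorem domB_le {e : Ω → G} {N : Subgroup Ω} {he : IsBridge N e} {g : G} : domB e N he g ≤ N :=
  fun _ hy => hy.1

/-- Conjugation by `g` read through the bridge `e`. -/
noncomputable def bconj (e : Ω → G) (N : Subgroup Ω) (he : IsBridge N e) (g : G) :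
    ↥(domB e N he g) →* Ω :=
  MonoidHom.mk' (fun y => (mem_domB.mp y.2).2.choose) (by
    intro a b
    have ha := (mem_domB.mp a.2).2.choose_spec
    have hb := (mem_domB.mp b.2).2.choose_spec
    have hab := (mem_domB.mp (a * b).2).2.choose_spec
    apply he.inj _ hab.1 _ (N.mul_mem ha.1 hb.1)
    rw [← hab.2, he.mul _ ha.1 _ hb.1, ← ha.2, ← hb.2, Subgroup.coe_mul,
      he.mul _ (mem_domB.mp a.2).1 _ (mem_domB.mp b.2).1]
    group)

theorem bconj_mem (e : Ω → G) (N : Subgroup Ω) (he : IsBridge N e) (g : G) (y : ↥(domB e N he g)) :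
    bconj e N he g y ∈ N :=
  (mem_domB.mp y.2).2.choose_spec.1

theorem e_bconj (e : Ω → G) (N : Subgroup Ω) (he : IsBridge N e) (g : G) (y : ↥(domB e N he g)) :
    e (bconj e N he g y) = g * e y * g⁻¹ :=
  (mem_domB.mp y.2).2.choose_spec.2.symm

/-- `M ≤ G` induces on `N`, through `e`, exactly the maps of the family `𝒩`. -/
def Ind (e : Ω → G) (N : Subgroup Ω) (M : Subgroup G) (𝒩 : ∀ P : Subgroup Ω, Set (P →* Ω)) : Prop :=
  ∀ (P : Subgroup Ω) (φ : P →* Ω), P ≤ N → (∀ x : P, φ x ∈ N) →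
    (φ ∈ 𝒩 P ↔ ∃ g ∈ M, ∀ x : P, e (φ x) = g * e x * g⁻¹)

theorem ind_of_realized {S : Subgroup Ω} {F : FusionSystem S} {ι : S →* G} (hreal : F.IsRealizedBy ι) :
    Ind (ext1 ι) S ⊤ F.Hom := by
  intro P φ hP hφ
  rw [realized_hom_iff hreal φ]
  constructor
  · rintro ⟨-, -, g, hg⟩
    exact ⟨g, Subgroup.mem_top g, hg⟩
  · rintro ⟨g, -, hg⟩
    exact ⟨hP, hφ, g, hg⟩

theorem Ind.congr {e : Ω → G} {N : Subgroup Ω} {M : Subgroup G} {𝒩 𝒩' : ∀ P : Subgroup Ω, Set (P →* Ω)}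
    (h : Ind e N M 𝒩) (h' : ∀ P, 𝒩' P = 𝒩 P) : Ind e N M 𝒩' := by
  intro P φ hP hφ
  rw [h' P]
  exact h P φ hP hφ

/-- The normalizer family `N_F(U)` through a bridge. -/
theorem ind_normalizerHom {S : Subgroup Ω} {F : FusionSystem S} {e : Ω → G} (he : IsBridge S e)
    {M : Subgroup G} (hF : Ind e S M F.Hom) {U : Subgroup Ω} (hU : U ≤ S) :
    Ind e (normalizerIn S U) (M ⊓ NB e U) (F.normalizerHom U) := by
  intro P φ hP hφ
  have hPS : P ≤ S := hP.trans inf_le_left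
  have hφS : ∀ x : P, φ x ∈ S := fun x => (hφ x).1
  have hPU : P ⊔ U ≤ S := sup_le hPS hU
  constructor
  · rintro ⟨-, -, -, ψ, hψ, hψφ, hψU⟩
    obtain ⟨g, hgM, hg⟩ := (hF (P ⊔ U) ψ hPU (fun x => (F.le_of_mem hψ).2 x)).mp hψ
    refine ⟨g, ⟨hgM, ?_, ?_⟩, fun x => ?_⟩
    · intro u hu
      have h1 := hg ⟨u, (le_sup_right : U ≤ P ⊔ U) hu⟩
      refine ⟨ψ ⟨u, (le_sup_right : U ≤ P ⊔ U) hu⟩, ?_, h1.symm⟩
      exact (le_of_eq hψU) ⟨⟨u, (le_sup_right : U ≤ P ⊔ U) hu⟩, Subgroup.mem_subgroupOf.mpr hu, rfl⟩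
    · intro u hu
      have hu' : u ∈ (U.subgroupOf (P ⊔ U)).map ψ := (le_of_eq hψU.symm) hu
      obtain ⟨y, hy, hyu⟩ := hu'
      refine ⟨(y : Ω), Subgroup.mem_subgroupOf.mp hy, ?_⟩
      have h1 := hg y
      rw [hyu] at h1
      rw [h1]
      group
    · have h1 := hg (Subgroup.inclusion le_sup_left x)
      rw [hψφ x] at h1
      exact h1
  · rintro ⟨g, ⟨hgM, hg1, hg2⟩, hg⟩
    have hPd : P ≤ domB e S he g := fun x hx =>
      mem_domB.mpr ⟨hPS hx, φ ⟨x, hx⟩, hφS _, (hg ⟨x, hx⟩).symm⟩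
    have hUd : U ≤ domB e S he g := fun u hu => by
      obtain ⟨y, hy, h⟩ := hg1 u hu
      exact mem_domB.mpr ⟨hU hu, y, hU hy, h⟩
    have hle : P ⊔ U ≤ domB e S he g := sup_le hPd hUd
    have hψe : ∀ y : ↥(P ⊔ U), e (((bconj e S he g).comp (Subgroup.inclusion hle)) y) = g * e y * g⁻¹ :=
      fun y => e_bconj e S he g (Subgroup.inclusion hle y)
    have hψS : ∀ y : ↥(P ⊔ U), ((bconj e S he g).comp (Subgroup.inclusion hle)) y ∈ S :=
      fun y => bconj_mem e S he g (Subgroup.inclusion hle y)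
    have hψ : (bconj e S he g).comp (Subgroup.inclusion hle) ∈ F.Hom (P ⊔ U) :=
      (hF _ _ hPU hψS).mpr ⟨g, hgM, hψe⟩
    have hφF : φ ∈ F.Hom P := (hF P φ hPS hφS).mpr ⟨g, hgM, hg⟩
    refine ⟨hφF, hP, hφ, (bconj e S he g).comp (Subgroup.inclusion hle), hψ, fun x => ?_, ?_⟩
    · apply he.inj _ (hψS _) _ (hφS x)
      rw [hψe, hg x]
      rfl
    · apply le_antisymm
      · rintro _ ⟨y, hy, rfl⟩
        obtain ⟨z, hz, h⟩ := hg1 y (Subgroup.mem_subgroupOf.mp hy)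
        have h1 : ((bconj e S he g).comp (Subgroup.inclusion hle)) y = z :=
          he.inj _ (hψS y) _ (hU hz) (by rw [hψe, h])
        rw [h1]
        exact hz
      · intro u hu
        obtain ⟨y, hy, h⟩ := hg2 u hu
        refine ⟨⟨y, (le_sup_right : U ≤ P ⊔ U) hy⟩, Subgroup.mem_subgroupOf.mpr hy, ?_⟩
        apply he.inj _ (hψS _) _ (hU hu)
        rw [hψe]
        show g * e y * g⁻¹ = e u
        rw [← h]
        group

/-- Normalizing is transferred from one bridge to another along a map induced by both. -/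
theorem nb_transfer {N : Subgroup Ω} {G₂ : Type*} [Group G₂] {e₁ : Ω → G} {e₂ : Ω → G₂}
    (he₁ : IsBridge N e₁) {A : Subgroup Ω} (hA : A ≤ N) (ψ : A →* Ω) (hψN : ∀ y : A, ψ y ∈ N)
    {g : G} {l : G₂} (hg : ∀ y : A, e₁ (ψ y) = g * e₁ y * g⁻¹) (hl : ∀ y : A, e₂ (ψ y) = l * e₂ y * l⁻¹)
    {X : Subgroup Ω} (hXA : X ≤ A) (hgX : g ∈ NB e₁ X) : l ∈ NB e₂ X := by
  obtain ⟨h1, h2⟩ := hgX
  refine ⟨fun x hx => ?_, fun x hx => ?_⟩
  · obtain ⟨y, hy, h⟩ := h1 x hx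
    have h3 : ψ ⟨x, hXA hx⟩ = y :=
      he₁.inj _ (hψN _) _ (hA (hXA hy)) (by rw [hg]; exact h)
    refine ⟨y, hy, ?_⟩
    rw [← h3, hl]
  · obtain ⟨y, hy, h⟩ := h2 x hx
    have h3 : ψ ⟨y, hXA hy⟩ = x := by
      apply he₁.inj _ (hψN _) _ (hA (hXA hx))
      rw [hg]
      show g * e₁ y * g⁻¹ = e₁ x
      rw [← h]
      group
    refine ⟨y, hy, ?_⟩
    have h4 := hl ⟨y, hXA hy⟩
    rw [h3] at h4
    show l⁻¹ * e₂ x * l = e₂ y
    rw [h4]
    group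

/-- Two bridges inducing the same family on `N`: what the normalizers of the images of `X`, `Y` induce
is the same. -/
theorem transfer_aux {N : Subgroup Ω} {G₂ : Type*} [Group G₂] {e₁ : Ω → G} {e₂ : Ω → G₂}
    (he₁ : IsBridge N e₁) {M₁ : Subgroup G} {M₂ : Subgroup G₂}
    {𝒩 : ∀ P : Subgroup Ω, Set (P →* Ω)} (h₁ : Ind e₁ N M₁ 𝒩) (h₂ : Ind e₂ N M₂ 𝒩)
    {X Y : Subgroup Ω} (hX : X ≤ N) (hY : Y ≤ N) {P : Subgroup Ω} (hP : P ≤ N) (φ : P →* Ω)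
    (hφ : ∀ x : P, φ x ∈ N)
    (h : ∃ g ∈ M₁ ⊓ NB e₁ X ⊓ NB e₁ Y, ∀ x : P, e₁ (φ x) = g * e₁ x * g⁻¹) :
    ∃ l ∈ M₂ ⊓ NB e₂ X ⊓ NB e₂ Y, ∀ x : P, e₂ (φ x) = l * e₂ x * l⁻¹ := by
  obtain ⟨g, ⟨⟨hgM, hgX⟩, hgY⟩, hg⟩ := h
  have hPd : P ≤ domB e₁ N he₁ g := fun x hx =>
    mem_domB.mpr ⟨hP hx, φ ⟨x, hx⟩, hφ _, (hg ⟨x, hx⟩).symm⟩
  have hXd : X ≤ domB e₁ N he₁ g := fun u hu => by
    obtain ⟨y, hy, h⟩ := hgX.1 u hu
    exact mem_domB.mpr ⟨hX hu, y, hX hy, h⟩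
  have hYd : Y ≤ domB e₁ N he₁ g := fun u hu => by
    obtain ⟨y, hy, h⟩ := hgY.1 u hu
    exact mem_domB.mpr ⟨hY hu, y, hY hy, h⟩
  have hle : P ⊔ X ⊔ Y ≤ domB e₁ N he₁ g := sup_le (sup_le hPd hXd) hYd
  have hAN : P ⊔ X ⊔ Y ≤ N := sup_le (sup_le hP hX) hY
  have hψe : ∀ y : ↥(P ⊔ X ⊔ Y),
      e₁ (((bconj e₁ N he₁ g).comp (Subgroup.inclusion hle)) y) = g * e₁ y * g⁻¹ :=
    fun y => e_bconj e₁ N he₁ g (Subgroup.inclusion hle y)
  have hψN : ∀ y : ↥(P ⊔ X ⊔ Y), ((bconj e₁ N he₁ g).comp (Subgroup.inclusion hle)) y ∈ N :=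
    fun y => bconj_mem e₁ N he₁ g (Subgroup.inclusion hle y)
  have hψ : (bconj e₁ N he₁ g).comp (Subgroup.inclusion hle) ∈ 𝒩 (P ⊔ X ⊔ Y) :=
    (h₁ _ _ hAN hψN).mpr ⟨g, hgM, hψe⟩
  obtain ⟨l, hlM, hl⟩ := (h₂ _ _ hAN hψN).mp hψ
  have hXA : X ≤ P ⊔ X ⊔ Y := le_sup_right.trans le_sup_left
  have hYA : Y ≤ P ⊔ X ⊔ Y := le_sup_right
  have hPA : P ≤ P ⊔ X ⊔ Y := le_sup_left.trans le_sup_left
  refine ⟨l, ⟨⟨hlM, nb_transfer he₁ hAN _ hψN hψe hl hXA hgX⟩,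
    nb_transfer he₁ hAN _ hψN hψe hl hYA hgY⟩, fun x => ?_⟩
  have h3 : ((bconj e₁ N he₁ g).comp (Subgroup.inclusion hle)) (Subgroup.inclusion hPA x) = φ x := by
    apply he₁.inj _ (hψN _) _ (hφ x)
    rw [hψe, hg x]
    rfl
  have h4 := hl (Subgroup.inclusion hPA x)
  rw [h3] at h4
  exact h4

end bridge

end Cfsg.Agent.Lib.Helper18.FusFree
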