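import Mathlib
import Cfsg.Agent.Lib.Helper18.FusFreeA
import Cfsg.Agent.Lib.Helper18.Basic
import Cfsg.Agent.H26.NormalizerConstrained

set_option autoImplicit false

/-!
# Bridges and normalizer systems

Transport of an inducing bridge along a map of the system, the move to a fully normalized conjugate,
`U ⊔ R` is centric when `R` is centric in `N_F(U)`, and the Sylow estimate for the group inducing
`N_{N_F(U)}(R)`.
-/

namespace Cfsg.Agent.Lib.Helper18.FusFree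

open Cfsg Cfsg.FusionSystem Cfsg.Agent.Lib.Helper27 Cfsg.Agent.H26

section

variable {Ω : Type*} [Group Ω] {G : Type*} [Group G]

theorem isBridge_comp {L : Type*} [Group L] {N N' : Subgroup Ω} {γ : ↥N →* Ω}
    (hγinj : Function.Injective γ) (hγN : ∀ x, γ x ∈ N') {e' : Ω → L} (he' : IsBridge N' e') :
    IsBridge N (fun x => e' (ext1 γ x)) := by
  refine ⟨fun x hx y hy => ?_, fun x hx y hy h => ?_⟩
  · show e' (ext1 γ (x * y)) = e' (ext1 γ x) * e' (ext1 γ y)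
    rw [ext1_mul γ hx hy, ext1_of_mem γ hx, ext1_of_mem γ hy]
    exact he'.mul _ (hγN _) _ (hγN _)
  · have h' : e' (ext1 γ x) = e' (ext1 γ y) := h
    rw [ext1_of_mem γ hx, ext1_of_mem γ hy] at h'
    have h1 := he'.inj _ (hγN _) _ (hγN _) h'
    exact congrArg Subtype.val (hγinj h1)

/-- Transport of an inducing bridge for `N_F(Q')` along a map `γ : N_S(Q) → N_S(Q')` of the system
carrying `Q` onto `Q'`. -/
theorem ind_conj {S : Subgroup Ω} {F : FusionSystem S} {e : Ω → G} (he : IsBridge S e)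
    (hF : Ind e S ⊤ F.Hom) {Q Q' : Subgroup Ω} (hQ : Q ≤ S) (hQ' : Q' ≤ S)
    {γ : ↥(normalizerIn S Q) →* Ω} (hγ : γ ∈ F.Hom (normalizerIn S Q))
    (hγN : ∀ x, γ x ∈ normalizerIn S Q')
    (hγQ : ∀ x : ↥(normalizerIn S Q), (x : Ω) ∈ Q → γ x ∈ Q')
    (hγQ' : ∀ y ∈ Q', ∃ x : ↥(normalizerIn S Q), (x : Ω) ∈ Q ∧ γ x = y)
    {L : Type*} [Group L] {e' : Ω → L} (he' : IsBridge (normalizerIn S Q') e') {M' : Subgroup L}
    (hL : Ind e' (normalizerIn S Q') M' (F.normalizerHom Q')) :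
    Ind (fun x => e' (ext1 γ x)) (normalizerIn S Q) M' (F.normalizerHom Q) := by
  have hNS : normalizerIn S Q ≤ S := inf_le_left
  have hN'S : normalizerIn S Q' ≤ S := inf_le_left
  have hQN : Q ≤ normalizerIn S Q := le_normalizerIn hQ
  obtain ⟨a, -, ha⟩ := (hF _ γ hNS (fun x => (F.le_of_mem hγ).2 x)).mp hγ
  have h1 := ind_normalizerHom he hF hQ
  have h1' := ind_normalizerHom he hF hQ'
  -- conjugating normalizers
  have hNBa : ∀ g, g ∈ NB e Q → a * g * a⁻¹ ∈ NB e Q' := by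
    intro g hg
    refine ⟨fun q' hq' => ?_, fun q' hq' => ?_⟩
    · obtain ⟨x, hxQ, rfl⟩ := hγQ' q' hq'
      obtain ⟨y, hy, h⟩ := hg.1 x hxQ
      refine ⟨γ ⟨y, hQN hy⟩, hγQ _ hy, ?_⟩
      rw [ha x, ha ⟨y, hQN hy⟩]
      show a * g * a⁻¹ * (a * e x * a⁻¹) * (a * g * a⁻¹)⁻¹ = a * e y * a⁻¹
      rw [← h]
      group
    · obtain ⟨x, hxQ, rfl⟩ := hγQ' q' hq'
      obtain ⟨y, hy, h⟩ := hg.2 x hxQ
      refine ⟨γ ⟨y, hQN hy⟩, hγQ _ hy, ?_⟩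
      rw [ha x, ha ⟨y, hQN hy⟩]
      show (a * g * a⁻¹)⁻¹ * (a * e x * a⁻¹) * (a * g * a⁻¹) = a * e y * a⁻¹
      rw [← h]
      group
  have hNBa' : ∀ g', g' ∈ NB e Q' → a⁻¹ * g' * a ∈ NB e Q := by
    intro g' hg'
    refine ⟨fun q hq => ?_, fun q hq => ?_⟩
    · obtain ⟨y', hy', h⟩ := hg'.1 (γ ⟨q, hQN hq⟩) (hγQ _ hq)
      obtain ⟨z, hzQ, rfl⟩ := hγQ' y' hy'
      refine ⟨z, hzQ, ?_⟩
      rw [ha, ha] at h
      have h2 : g' * (a * e q * a⁻¹) * g'⁻¹ = a * e z * a⁻¹ := h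
      calc a⁻¹ * g' * a * e q * (a⁻¹ * g' * a)⁻¹ = a⁻¹ * (g' * (a * e q * a⁻¹) * g'⁻¹) * a := by group
        _ = e z := by rw [h2]; group
    · obtain ⟨y', hy', h⟩ := hg'.2 (γ ⟨q, hQN hq⟩) (hγQ _ hq)
      obtain ⟨z, hzQ, rfl⟩ := hγQ' y' hy'
      refine ⟨z, hzQ, ?_⟩
      rw [ha, ha] at h
      have h2 : g'⁻¹ * (a * e q * a⁻¹) * g' = a * e z * a⁻¹ := h
      calc (a⁻¹ * g' * a)⁻¹ * e q * (a⁻¹ * g' * a) = a⁻¹ * (g'⁻¹ * (a * e q * a⁻¹) * g') * a := by group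
        _ = e z := by rw [h2]; group
  intro P φ hP hφ
  have hP'N' : (P.subgroupOf (normalizerIn S Q)).map γ ≤ normalizerIn S Q' := by
    rintro _ ⟨x, -, rfl⟩
    exact hγN x
  have hmemP' : ∀ x : P, γ ⟨x, hP x.2⟩ ∈ (P.subgroupOf (normalizerIn S Q)).map γ := fun x =>
    ⟨⟨x, hP x.2⟩, Subgroup.mem_subgroupOf.mpr x.2, rfl⟩
  constructor
  · intro hφn
    obtain ⟨g, ⟨-, hgQ⟩, hg⟩ := (h1 P φ hP hφ).mp hφn
    have hg' := hNBa g hgQ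
    have hP'd : (P.subgroupOf (normalizerIn S Q)).map γ ≤ domB e S he (a * g * a⁻¹) := by
      rintro _ ⟨x, hx, rfl⟩
      have hxP : (x : Ω) ∈ P := Subgroup.mem_subgroupOf.mp hx
      refine mem_domB.mpr ⟨hN'S (hγN x), γ ⟨φ ⟨x, hxP⟩, hφ _⟩, hN'S (hγN _), ?_⟩
      rw [ha x, ha ⟨φ ⟨x, hxP⟩, hφ _⟩]
      show a * g * a⁻¹ * (a * e x * a⁻¹) * (a * g * a⁻¹)⁻¹ = a * e (φ ⟨x, hxP⟩) * a⁻¹
      rw [hg ⟨x, hxP⟩]
      group
    have hφ'e : ∀ y : ↥((P.subgroupOf (normalizerIn S Q)).map γ),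
        e (((bconj e S he (a * g * a⁻¹)).comp (Subgroup.inclusion hP'd)) y) =
          a * g * a⁻¹ * e y * (a * g * a⁻¹)⁻¹ :=
      fun y => e_bconj e S he _ (Subgroup.inclusion hP'd y)
    have hφ'γ : ∀ x : P, ((bconj e S he (a * g * a⁻¹)).comp (Subgroup.inclusion hP'd))
        ⟨γ ⟨x, hP x.2⟩, hmemP' x⟩ = γ ⟨φ x, hφ x⟩ := by
      intro x
      apply he.inj _ (bconj_mem e S he _ _) _ (hN'S (hγN _))
      refine (hφ'e ⟨γ ⟨x, hP x.2⟩, hmemP' x⟩).trans ?_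
      rw [ha ⟨φ x, hφ x⟩]
      show a * g * a⁻¹ * e (γ ⟨x, hP x.2⟩) * (a * g * a⁻¹)⁻¹ = a * e (φ x) * a⁻¹
      rw [ha ⟨x, hP x.2⟩, hg x]
      group
    have hφ'N' : ∀ y : ↥((P.subgroupOf (normalizerIn S Q)).map γ),
        ((bconj e S he (a * g * a⁻¹)).comp (Subgroup.inclusion hP'd)) y ∈ normalizerIn S Q' := by
      rintro ⟨_, x, hx, rfl⟩
      have hxP : (x : Ω) ∈ P := Subgroup.mem_subgroupOf.mp hx
      have h2 := hφ'γ ⟨x, hxP⟩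
      have h3 : (⟨γ x, ⟨x, hx, rfl⟩⟩ : ↥((P.subgroupOf (normalizerIn S Q)).map γ)) =
          ⟨γ ⟨(⟨x, hxP⟩ : P), hP hxP⟩, hmemP' ⟨x, hxP⟩⟩ := Subtype.ext rfl
      rw [h3, h2]
      exact hγN _
    have hφ'n := (h1' _ _ hP'N' hφ'N').mpr ⟨a * g * a⁻¹, ⟨Subgroup.mem_top _, hg'⟩, hφ'e⟩
    obtain ⟨l, hlM, hl⟩ := (hL _ _ hP'N' hφ'N').mp hφ'n
    refine ⟨l, hlM, fun x => ?_⟩
    show e' (ext1 γ (φ x)) = l * e' (ext1 γ x) * l⁻¹
    rw [ext1_of_mem γ (hφ x), ext1_of_mem γ (hP x.2), ← hφ'γ x]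
    exact hl ⟨γ ⟨x, hP x.2⟩, hmemP' x⟩
  · rintro ⟨l, hlM, hl⟩
    have hl' : ∀ x : P, e' (γ ⟨φ x, hφ x⟩) = l * e' (γ ⟨x, hP x.2⟩) * l⁻¹ := by
      intro x
      have h2 : e' (ext1 γ (φ x)) = l * e' (ext1 γ x) * l⁻¹ := hl x
      rwa [ext1_of_mem γ (hφ x), ext1_of_mem γ (hP x.2)] at h2
    have hP'd : (P.subgroupOf (normalizerIn S Q)).map γ ≤ domB e' (normalizerIn S Q') he' l := by
      rintro _ ⟨x, hx, rfl⟩
      have hxP : (x : Ω) ∈ P := Subgroup.mem_subgroupOf.mp hx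
      exact mem_domB.mpr ⟨hγN x, γ ⟨φ ⟨x, hxP⟩, hφ _⟩, hγN _, (hl' ⟨x, hxP⟩).symm⟩
    have hφ'e : ∀ y : ↥((P.subgroupOf (normalizerIn S Q)).map γ),
        e' (((bconj e' _ he' l).comp (Subgroup.inclusion hP'd)) y) = l * e' y * l⁻¹ :=
      fun y => e_bconj e' _ he' _ (Subgroup.inclusion hP'd y)
    have hφ'N' : ∀ y : ↥((P.subgroupOf (normalizerIn S Q)).map γ),
        ((bconj e' _ he' l).comp (Subgroup.inclusion hP'd)) y ∈ normalizerIn S Q' :=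
      fun y => bconj_mem e' _ he' _ _
    have hφ'γ : ∀ x : P, ((bconj e' _ he' l).comp (Subgroup.inclusion hP'd))
        ⟨γ ⟨x, hP x.2⟩, hmemP' x⟩ = γ ⟨φ x, hφ x⟩ := by
      intro x
      apply he'.inj _ (hφ'N' _) _ (hγN _)
      refine (hφ'e ⟨γ ⟨x, hP x.2⟩, hmemP' x⟩).trans ?_
      exact (hl' x).symm
    have hφ'n := (hL _ _ hP'N' hφ'N').mpr ⟨l, hlM, hφ'e⟩
    obtain ⟨g', ⟨-, hg'Q⟩, hg'⟩ := (h1' _ _ hP'N' hφ'N').mp hφ'n
    refine (h1 P φ hP hφ).mpr ⟨a⁻¹ * g' * a, ⟨Subgroup.mem_top _, hNBa' g' hg'Q⟩, fun x => ?_⟩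
    have h2 := hg' ⟨γ ⟨x, hP x.2⟩, hmemP' x⟩
    rw [hφ'γ x, ha] at h2
    have h3 : a * e (φ x) * a⁻¹ = g' * (a * e x * a⁻¹) * g'⁻¹ := by
      rw [h2]
      show g' * e (γ ⟨x, hP x.2⟩) * g'⁻¹ = _
      rw [ha]
    calc e (φ x) = a⁻¹ * (a * e (φ x) * a⁻¹) * a := by group
      _ = a⁻¹ * (g' * (a * e x * a⁻¹) * g'⁻¹) * a := by rw [h3]
      _ = a⁻¹ * g' * a * e x * (a⁻¹ * g' * a)⁻¹ := by group

/-- Moving to a fully normalized subgroup: an element of `G` conjugating (through the bridge) `N_S(U₁)`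
into `N_S(U)` and `U₁` into `U`. -/
theorem exists_to_normalizer {S : Subgroup Ω} [Finite S] {p : ℕ} [Fact p.Prime] (hS : IsPGroup p S)
    {F : FusionSystem S} (hF : F.IsSaturated p) {e : Ω → G} (hG : Ind e S ⊤ F.Hom)
    {U U₁ : Subgroup Ω} (hU : F.IsFullyNormalized U) (hconj : F.IsConj U₁ U) :
    ∃ c : G, (∀ s ∈ normalizerIn S U₁, ∃ z ∈ normalizerIn S U, c * e s * c⁻¹ = e z) ∧
      (∀ u₁ ∈ U₁, ∃ u ∈ U, c * e u₁ * c⁻¹ = e u) := by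
  obtain ⟨β, hβ, χ, -, hβχ⟩ := exists_hom_normalizerIn_of_fullyNormalized hS hF hU hconj
  have hU₁S : U₁ ≤ S := isConj_le_left F hconj
  have hUS : U ≤ S := hU.1
  have : Finite ↥U := Finite.of_injective (Subgroup.inclusion hUS) (Subgroup.inclusion_injective hUS)
  have hβχ' : ∀ x : U₁, β ⟨x, le_normalizerIn hU₁S x.2⟩ = χ x := fun x => hβχ x x.2 _
  have hβN : ∀ n : ↥(normalizerIn S U₁), β n ∈ normalizerIn S U :=
    hom_normalizerIn_mem_normalizerIn hU₁S hβ hβχ'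
  obtain ⟨c, -, hc⟩ := (hG _ β inf_le_left (fun x => (F.le_of_mem hβ).2 x)).mp hβ
  refine ⟨c, fun s hs => ⟨β ⟨s, hs⟩, hβN _, (hc ⟨s, hs⟩).symm⟩, fun u₁ hu₁ => ?_⟩
  refine ⟨χ ⟨u₁, hu₁⟩, (χ _).2, ?_⟩
  rw [← hβχ' ⟨u₁, hu₁⟩]
  exact (hc ⟨u₁, le_normalizerIn hU₁S hu₁⟩).symm

/-- If `R` is centric in `N_F(U)` (`U` fully normalized) then `U ⊔ R` is centric in `F`. -/
theorem centric_sup {S : Subgroup Ω} [Finite S] {p : ℕ} [Fact p.Prime] (hS : IsPGroup p S)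
    {F : FusionSystem S} (hF : F.IsSaturated p) {e : Ω → G} (he : IsBridge S e) (hG : Ind e S ⊤ F.Hom)
    {U : Subgroup Ω} (hU : F.IsFullyNormalized U) {E : FusionSystem (normalizerIn S U)}
    (hE : F.IsNormalizerSystem U E) {R : Subgroup Ω} (hR : E.IsCentric R) : F.IsCentric (U ⊔ R) := by
  have hUS : U ≤ S := hU.1
  have hTS : normalizerIn S U ≤ S := inf_le_left
  have hRT : R ≤ normalizerIn S U := hR.1
  have hUT : U ≤ normalizerIn S U := le_normalizerIn hUS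
  have hQT : U ⊔ R ≤ normalizerIn S U := sup_le hUT hRT
  have hQS : U ⊔ R ≤ S := hQT.trans hTS
  have : Finite ↥U := Finite.of_injective (Subgroup.inclusion hUS) (Subgroup.inclusion_injective hUS)
  have heT : IsBridge (normalizerIn S U) e := he.mono hTS
  have hET : Ind e (normalizerIn S U) (⊤ ⊓ NB e U) E.Hom :=
    (ind_normalizerHom he hG hUS).congr hE
  refine ⟨hQS, ?_⟩
  rintro Q₁ ⟨α, hα, rfl⟩
  obtain ⟨m, -, hm⟩ := (hG _ α hQS (fun x => (F.le_of_mem hα).2 x)).mp hα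
  have hαS : ∀ x, α x ∈ S := fun x => (F.le_of_mem hα).2 x
  have hUQ : U ≤ U ⊔ R := le_sup_left
  have hRQ : R ≤ U ⊔ R := le_sup_right
  have hαU : α.comp (Subgroup.inclusion hUQ) ∈ F.Hom U := hom_restrict F hUQ hα
  have hconj : F.IsConj U (α.comp (Subgroup.inclusion hUQ)).range := ⟨_, hαU, rfl⟩
  have hU₁S : (α.comp (Subgroup.inclusion hUQ)).range ≤ S := isConj_le_right F hconj
  have : Finite ↥((α.comp (Subgroup.inclusion hUQ)).range) :=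
    Finite.of_injective (Subgroup.inclusion hU₁S) (Subgroup.inclusion_injective hU₁S)
  obtain ⟨c, hc1, hc2⟩ := exists_to_normalizer hS hF hG hU (isConj_symm F hconj)
  -- `α(Q)` normalizes `α(U)`
  have hαN : ∀ q : ↥(U ⊔ R), α q ∈ normalizerIn S (α.comp (Subgroup.inclusion hUQ)).range := by
    intro q
    refine ⟨hαS q, mem_normalizer_of_conj_mem ?_⟩
    rintro _ ⟨u, rfl⟩
    have h1 : (q : Ω) * u * (q : Ω)⁻¹ ∈ U := conj_mem_of_mem_normalizerIn (hQT q.2) u.2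
    refine ⟨⟨_, h1⟩, ?_⟩
    show α (Subgroup.inclusion hUQ ⟨_, h1⟩) = α q * α (Subgroup.inclusion hUQ u) * (α q)⁻¹
    rw [← map_inv, ← map_mul, ← map_mul]
    rfl
  have hd : ∀ q : ↥(U ⊔ R), ∃ z ∈ normalizerIn S U, c * m * e q * (c * m)⁻¹ = e z := by
    intro q
    obtain ⟨z, hz, h⟩ := hc1 _ (hαN q)
    refine ⟨z, hz, ?_⟩
    rw [← h, hm q]
    group
  have hdU : c * m ∈ NB e U := by
    apply mem_NB_of_finite he hUS
    intro u hu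
    obtain ⟨u₂, hu₂, h⟩ := hc2 (α ⟨u, hUQ hu⟩) ⟨⟨u, hu⟩, rfl⟩
    refine ⟨u₂, hu₂, ?_⟩
    rw [← h, hm ⟨u, hUQ hu⟩]
    group
  have hRd : R ≤ domB e (normalizerIn S U) heT (c * m) := by
    intro r hr
    obtain ⟨z, hz, h⟩ := hd ⟨r, hRQ hr⟩
    exact mem_domB.mpr ⟨hRT hr, z, hz, h⟩
  have hρe : ∀ r : R, e (((bconj e _ heT (c * m)).comp (Subgroup.inclusion hRd)) r) =
      c * m * e r * (c * m)⁻¹ := fun r => e_bconj e _ heT _ (Subgroup.inclusion hRd r)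
  have hρT : ∀ r : R, ((bconj e _ heT (c * m)).comp (Subgroup.inclusion hRd)) r ∈ normalizerIn S U :=
    fun r => bconj_mem e _ heT _ _
  have hρ : (bconj e _ heT (c * m)).comp (Subgroup.inclusion hRd) ∈ E.Hom R :=
    (hET R _ hRT hρT).mpr ⟨c * m, ⟨Subgroup.mem_top _, hdU⟩, hρe⟩
  have hcen := hR.2 _ ⟨_, hρ, rfl⟩
  intro z hz
  obtain ⟨hzS, hzc⟩ := mem_centralizerIn_iff.mp hz
  -- `z` normalizes `α(U)`
  have hzN : z ∈ normalizerIn S (α.comp (Subgroup.inclusion hUQ)).range := by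
    refine ⟨hzS, mem_normalizer_of_conj_mem ?_⟩
    rintro _ ⟨u, rfl⟩
    have h1 := hzc (α (Subgroup.inclusion hUQ u)) ⟨Subgroup.inclusion hUQ u, rfl⟩
    have h2 : z * α (Subgroup.inclusion hUQ u) * z⁻¹ = α (Subgroup.inclusion hUQ u) := by
      rw [← h1]
      group
    show z * α (Subgroup.inclusion hUQ u) * z⁻¹ ∈ _
    rw [h2]
    exact ⟨u, rfl⟩
  obtain ⟨w, hwT, hw⟩ := hc1 z hzN
  have hwc : w ∈ centralizerIn (normalizerIn S U)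
      ((bconj e _ heT (c * m)).comp (Subgroup.inclusion hRd)).range := by
    rw [mem_centralizerIn_iff]
    refine ⟨hwT, ?_⟩
    rintro _ ⟨r, rfl⟩
    apply he.inj _ (S.mul_mem (hTS (hρT r)) (hTS hwT)) _ (S.mul_mem (hTS hwT) (hTS (hρT r)))
    rw [he.mul _ (hTS (hρT r)) _ (hTS hwT), he.mul _ (hTS hwT) _ (hTS (hρT r)), hρe, ← hw]
    have h1 := hzc (α ⟨r, hRQ r.2⟩) ⟨_, rfl⟩
    have h2 : e (α ⟨r, hRQ r.2⟩) * e z = e z * e (α ⟨r, hRQ r.2⟩) := by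
      rw [← he.mul _ (hαS _) _ hzS, ← he.mul _ hzS _ (hαS _), h1]
    rw [hm ⟨r, hRQ r.2⟩] at h2
    calc c * m * e r * (c * m)⁻¹ * (c * e z * c⁻¹) = c * (m * e r * m⁻¹ * e z) * c⁻¹ := by group
      _ = c * (e z * (m * e r * m⁻¹)) * c⁻¹ := by rw [h2]
      _ = c * e z * c⁻¹ * (c * m * e r * (c * m)⁻¹) := by group
  obtain ⟨r, hr⟩ := hcen hwc
  have h3 : e z = e (α ⟨r, hRQ r.2⟩) := by
    have h4 : e w = c * m * e r * (c * m)⁻¹ := by rw [← hr, hρe]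
    rw [← hw] at h4
    have h5 : c * e z * c⁻¹ = c * (m * e r * m⁻¹) * c⁻¹ := by rw [h4]; group
    rw [hm ⟨r, hRQ r.2⟩]
    exact mul_left_cancel (mul_right_cancel h5)
  have h6 := he.inj _ hzS _ (hαS _) h3
  rw [h6]
  exact ⟨_, rfl⟩

end

end Cfsg.Agent.Lib.Helper18.FusFree
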