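import Mathlib
import Cfsg.Agent.Lib.Helper18.FusFreeB

set_option autoImplicit false

/-!
# The Sylow estimate

For `R` fully normalized in `N_F(U)` (`U` fully normalized in `F`): in a finite group `L` inducing
`N_F(Q')` on `N_S(Q')` as a Sylow subgroup, `Q'` a conjugate of `U ⊔ R`, every `p`-subgroup of the
normalizer of the images of `U` and `R` has order at most `|N_{N_S(U)}(R)|`.
-/

namespace Cfsg.Agent.Lib.Helper18.FusFree

open Cfsg Cfsg.FusionSystem Cfsg.Agent.Lib.Helper27 Cfsg.Agent.H26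

section

variable {Ω : Type*} [Group Ω] {G : Type*} [Group G]

theorem card_le_of_le_NB {S : Subgroup Ω} [Finite S] {p : ℕ} [Fact p.Prime] (hS : IsPGroup p S)
    {F : FusionSystem S} (hF : F.IsSaturated p) {e : Ω → G} (he : IsBridge S e) (hG : Ind e S ⊤ F.Hom)
    {U : Subgroup Ω} (hUfn : F.IsFullyNormalized U) {E : FusionSystem (normalizerIn S U)}
    (hE : F.IsNormalizerSystem U E) {R : Subgroup Ω} (hRfn : E.IsFullyNormalized R)
    {Q' : Subgroup Ω} (hQ'S : Q' ≤ S)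
    {γ : ↥(normalizerIn S (U ⊔ R)) →* Ω} (hγ : γ ∈ F.Hom (normalizerIn S (U ⊔ R)))
    (hγN : ∀ x, γ x ∈ normalizerIn S Q')
    (hγQ : ∀ x : ↥(normalizerIn S (U ⊔ R)), (x : Ω) ∈ U ⊔ R → γ x ∈ Q')
    (hγQ' : ∀ y ∈ Q', ∃ x : ↥(normalizerIn S (U ⊔ R)), (x : Ω) ∈ U ⊔ R ∧ γ x = y)
    {L : Type*} [Group L] [Finite L] {ι' : ↥(normalizerIn S Q') →* L} (hinj : Function.Injective ι')
    (Sy : Sylow p L) (hSy : (Sy : Subgroup L) = ι'.range)
    (hL : Ind (ext1 ι') (normalizerIn S Q') ⊤ (F.normalizerHom Q'))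
    (X : Subgroup L) (hXp : IsPGroup p X)
    (hXK : X ≤ NB (fun x => ext1 ι' (ext1 γ x)) U ⊓ NB (fun x => ext1 ι' (ext1 γ x)) R) :
    Nat.card X ≤ Nat.card (normalizerIn (normalizerIn S U) R) := by
  classical
  have hUS : U ≤ S := hUfn.1
  have hTS : normalizerIn S U ≤ S := inf_le_left
  have hRT : R ≤ normalizerIn S U := hRfn.1
  have hRS : R ≤ S := hRT.trans hTS
  have hUT : U ≤ normalizerIn S U := le_normalizerIn hUS
  have hQT : U ⊔ R ≤ normalizerIn S U := sup_le hUT hRT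
  have hQS : U ⊔ R ≤ S := hQT.trans hTS
  have hNS : normalizerIn S (U ⊔ R) ≤ S := inf_le_left
  have hQN : U ⊔ R ≤ normalizerIn S (U ⊔ R) := le_normalizerIn hQS
  have hUQ : U ≤ U ⊔ R := le_sup_left
  have hRQ : R ≤ U ⊔ R := le_sup_right
  have hUN : U ≤ normalizerIn S (U ⊔ R) := hUQ.trans hQN
  have hRN : R ≤ normalizerIn S (U ⊔ R) := hRQ.trans hQN
  have hN'S : normalizerIn S Q' ≤ S := inf_le_left
  have hQ'N' : Q' ≤ normalizerIn S Q' := le_normalizerIn hQ'S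
  have finOf : ∀ {V : Subgroup Ω}, V ≤ S → Finite ↥V := fun hV =>
    Finite.of_injective (Subgroup.inclusion hV) (Subgroup.inclusion_injective hV)
  have : Finite ↥U := finOf hUS
  have : Finite ↥R := finOf hRS
  have : Finite ↥Q' := finOf hQ'S
  have : Finite ↥(normalizerIn S Q') := finOf hN'S
  have he' : IsBridge (normalizerIn S Q') (ext1 ι') := isBridge_ext1 ι' hinj
  have hγinj : Function.Injective γ := F.injective_of_mem hγ
  have he₂ : IsBridge (normalizerIn S (U ⊔ R)) (fun x => ext1 ι' (ext1 γ x)) :=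
    isBridge_comp hγinj hγN he'
  have he₂eq : ∀ x : ↥(normalizerIn S (U ⊔ R)),
      (fun x => ext1 ι' (ext1 γ x)) (x : Ω) = ext1 ι' (γ x) := fun x => by
    show ext1 ι' (ext1 γ (x : Ω)) = _
    rw [ext1_coe]
  have heT : IsBridge (normalizerIn S U) e := he.mono hTS
  have hET : Ind e (normalizerIn S U) (⊤ ⊓ NB e U) E.Hom :=
    (ind_normalizerHom he hG hUS).congr hE
  obtain ⟨a, -, ha⟩ := (hG _ γ hNS (fun x => (F.le_of_mem hγ).2 x)).mp hγ
  -- Step 1: `X` normalizes the image of `Q'`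
  have hXQ : X ≤ NB (fun x => ext1 ι' (ext1 γ x)) (U ⊔ R) := fun k hk => nb_sup he₂ hUN hRN (hXK hk)
  have hXQ' : X ≤ NB (ext1 ι') Q' := by
    intro k hk
    obtain ⟨h1, h2⟩ := hXQ hk
    refine ⟨fun q' hq' => ?_, fun q' hq' => ?_⟩
    · obtain ⟨x, hxQ, rfl⟩ := hγQ' q' hq'
      obtain ⟨y, hy, h⟩ := h1 x hxQ
      refine ⟨γ ⟨y, hQN hy⟩, hγQ _ hy, ?_⟩
      rw [← he₂eq x, ← he₂eq ⟨y, hQN hy⟩]
      exact h
    · obtain ⟨x, hxQ, rfl⟩ := hγQ' q' hq'
      obtain ⟨y, hy, h⟩ := h2 x hxQ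
      refine ⟨γ ⟨y, hQN hy⟩, hγQ _ hy, ?_⟩
      rw [← he₂eq x, ← he₂eq ⟨y, hQN hy⟩]
      exact h
  -- Step 2: the image of `Q'` in `L`
  have hmemQL : ∀ q' (hq' : q' ∈ Q'), ext1 ι' q' ∈ (Q'.subgroupOf (normalizerIn S Q')).map ι' := by
    intro q' hq'
    rw [ext1_of_mem ι' (hQ'N' hq')]
    exact ⟨⟨q', hQ'N' hq'⟩, Subgroup.mem_subgroupOf.mpr hq', rfl⟩
  have hXnorm : X ≤ Subgroup.normalizer (((Q'.subgroupOf (normalizerIn S Q')).map ι' : Subgroup L) : Set L) := by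
    intro k hk
    apply mem_normalizer_of_conj_mem
    rintro _ ⟨q, hq, rfl⟩
    have hq' : (q : Ω) ∈ Q' := Subgroup.mem_subgroupOf.mp hq
    obtain ⟨y, hy, h⟩ := (hXQ' hk).1 q hq'
    rw [ext1_coe] at h
    rw [h]
    exact hmemQL y hy
  have hSp : IsPGroup p ↥(normalizerIn S Q') :=
    hS.of_injective (Subgroup.inclusion hN'S) (Subgroup.inclusion_injective hN'S)
  have hQLp : IsPGroup p ↥((Q'.subgroupOf (normalizerIn S Q')).map ι') :=
    (hSp.to_subgroup _).map ι'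
  have hX₁p : IsPGroup p ↥(X ⊔ (Q'.subgroupOf (normalizerIn S Q')).map ι') :=
    hXp.to_sup_of_normal_right' hQLp hXnorm
  -- Step 3: Sylow
  obtain ⟨l, -, hl⟩ := Cfsg.Agent.Lib.Helper18.exists_conj_le_sylow_of_le Sy ⊤ le_top _ hX₁p le_top
  have hlr : ∀ x ∈ X ⊔ (Q'.subgroupOf (normalizerIn S Q')).map ι', l * x * l⁻¹ ∈ ι'.range := by
    intro x hx
    rw [← hSy]
    exact hl ⟨x, hx, rfl⟩
  -- Step 4: the automorphism `δ` of `Q'` induced by `l`
  have hQ'd : Q' ≤ domB (ext1 ι') (normalizerIn S Q') he' l := by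
    intro q' hq'
    obtain ⟨z, hz⟩ := hlr _ (Subgroup.mem_sup_right (hmemQL q' hq'))
    exact mem_domB.mpr ⟨hQ'N' hq', z, z.2, by rw [ext1_coe]; exact hz.symm⟩
  have hδe : ∀ y : Q', ext1 ι' (((bconj (ext1 ι') _ he' l).comp (Subgroup.inclusion hQ'd)) y) =
      l * ext1 ι' y * l⁻¹ := fun y => e_bconj _ _ he' _ (Subgroup.inclusion hQ'd y)
  have hδN : ∀ y : Q', ((bconj (ext1 ι') _ he' l).comp (Subgroup.inclusion hQ'd)) y ∈ normalizerIn S Q' :=
    fun y => bconj_mem _ _ he' _ _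
  have hδn : (bconj (ext1 ι') _ he' l).comp (Subgroup.inclusion hQ'd) ∈ F.normalizerHom Q' Q' :=
    (hL Q' _ hQ'N' hδN).mpr ⟨l, Subgroup.mem_top _, hδe⟩
  obtain ⟨b, ⟨-, -⟩, hb⟩ := (ind_normalizerHom he hG hQ'S Q' _ hQ'N' hδN).mp hδn
  obtain ⟨-, -, -, ψ, -, hψδ, hψQ'⟩ := hδn
  have hδQ' : ∀ y : Q', ((bconj (ext1 ι') _ he' l).comp (Subgroup.inclusion hQ'd)) y ∈ Q' := by
    intro y
    rw [← hψδ y]
    exact (le_of_eq hψQ') ⟨_, Subgroup.mem_subgroupOf.mpr y.2, rfl⟩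
  have hδsurj : ∀ z ∈ Q', ∃ y : Q', ((bconj (ext1 ι') _ he' l).comp (Subgroup.inclusion hQ'd)) y = z := by
    intro z hz
    obtain ⟨w, hw, hwz⟩ := (le_of_eq hψQ'.symm) hz
    refine ⟨⟨w, Subgroup.mem_subgroupOf.mp hw⟩, ?_⟩
    rw [← hψδ]
    exact hwz
  -- Step 5: the map `ρ₁ = δ ∘ γ` on `U ⊔ R`, induced by `b * a`
  have hρ₁aux : ∀ q (hq : q ∈ U ⊔ R),
      b * a * e q * (b * a)⁻¹ = e (((bconj (ext1 ι') _ he' l).comp (Subgroup.inclusion hQ'd))
        ⟨γ ⟨q, hQN hq⟩, hγQ _ hq⟩) := by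
    intro q hq
    rw [hb ⟨γ ⟨q, hQN hq⟩, hγQ _ hq⟩]
    show _ = b * e (γ ⟨q, hQN hq⟩) * b⁻¹
    rw [ha ⟨q, hQN hq⟩]
    group
  have hQd : U ⊔ R ≤ domB e S he (b * a) := by
    intro q hq
    exact mem_domB.mpr ⟨hQS hq, _, hQ'S (hδQ' ⟨γ ⟨q, hQN hq⟩, hγQ _ hq⟩), hρ₁aux q hq⟩
  have hρ₁e : ∀ q : ↥(U ⊔ R), e (((bconj e S he (b * a)).comp (Subgroup.inclusion hQd)) q) =
      b * a * e q * (b * a)⁻¹ := fun q => e_bconj e S he _ (Subgroup.inclusion hQd q)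
  have hρ₁S : ∀ q : ↥(U ⊔ R), ((bconj e S he (b * a)).comp (Subgroup.inclusion hQd)) q ∈ S :=
    fun q => bconj_mem e S he _ _
  have hρ₁ : ∀ q : ↥(U ⊔ R), ((bconj e S he (b * a)).comp (Subgroup.inclusion hQd)) q =
      ((bconj (ext1 ι') _ he' l).comp (Subgroup.inclusion hQ'd)) ⟨γ ⟨q, hQN q.2⟩, hγQ _ q.2⟩ := by
    intro q
    apply he.inj _ (hρ₁S q) _ (hQ'S (hδQ' _))
    rw [hρ₁e, hρ₁aux q q.2]
  have hρ₁Q' : ∀ q : ↥(U ⊔ R), ((bconj e S he (b * a)).comp (Subgroup.inclusion hQd)) q ∈ Q' := by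
    intro q
    rw [hρ₁]
    exact hδQ' _
  have hρ₁e' : ∀ q : ↥(U ⊔ R), ext1 ι' (((bconj e S he (b * a)).comp (Subgroup.inclusion hQd)) q) =
      l * (fun x => ext1 ι' (ext1 γ x)) (q : Ω) * l⁻¹ := by
    intro q
    rw [hρ₁, hδe, he₂eq ⟨q, hQN q.2⟩]
  have hρ₁inj : Function.Injective ((bconj e S he (b * a)).comp (Subgroup.inclusion hQd)) := by
    intro q q' h
    have h1 : b * a * e q * (b * a)⁻¹ = b * a * e q' * (b * a)⁻¹ := by rw [← hρ₁e, ← hρ₁e, h]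
    exact Subtype.ext (he.inj _ (hQS q.2) _ (hQS q'.2) (mul_left_cancel (mul_right_cancel h1)))
  -- Step 6: `U'' = ρ₁(U)` and the move back to `N_S(U)`
  have hρU : ((bconj e S he (b * a)).comp (Subgroup.inclusion hQd)).comp (Subgroup.inclusion hUQ) ∈
      F.Hom U :=
    (hG U _ hUS (fun u => hρ₁S _)).mpr ⟨b * a, Subgroup.mem_top _, fun u => hρ₁e _⟩
  have hconj : F.IsConj U
      (((bconj e S he (b * a)).comp (Subgroup.inclusion hQd)).comp (Subgroup.inclusion hUQ)).range :=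
    ⟨_, hρU, rfl⟩
  have hU''S : (((bconj e S he (b * a)).comp (Subgroup.inclusion hQd)).comp
      (Subgroup.inclusion hUQ)).range ≤ S := isConj_le_right F hconj
  have : Finite ↥((((bconj e S he (b * a)).comp (Subgroup.inclusion hQd)).comp
      (Subgroup.inclusion hUQ)).range) := finOf hU''S
  obtain ⟨c, hc1, hc2⟩ := exists_to_normalizer hS hF hG hUfn (isConj_symm F hconj)
  -- the image of `U ⊔ R` normalizes `U''`
  have hρ₁N : ∀ q : ↥(U ⊔ R), ((bconj e S he (b * a)).comp (Subgroup.inclusion hQd)) q ∈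
      normalizerIn S (((bconj e S he (b * a)).comp (Subgroup.inclusion hQd)).comp
        (Subgroup.inclusion hUQ)).range := by
    intro q
    refine ⟨hρ₁S q, mem_normalizer_of_conj_mem ?_⟩
    rintro _ ⟨u, rfl⟩
    have h1 : (q : Ω) * u * (q : Ω)⁻¹ ∈ U := conj_mem_of_mem_normalizerIn (hQT q.2) u.2
    refine ⟨⟨_, h1⟩, ?_⟩
    show ((bconj e S he (b * a)).comp (Subgroup.inclusion hQd)) (Subgroup.inclusion hUQ ⟨_, h1⟩) =
      ((bconj e S he (b * a)).comp (Subgroup.inclusion hQd)) q *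
        ((bconj e S he (b * a)).comp (Subgroup.inclusion hQd)) (Subgroup.inclusion hUQ u) *
        (((bconj e S he (b * a)).comp (Subgroup.inclusion hQd)) q)⁻¹
    rw [← map_inv, ← map_mul, ← map_mul]
    rfl
  have hd : ∀ q : ↥(U ⊔ R), ∃ z ∈ normalizerIn S U, c * (b * a) * e q * (c * (b * a))⁻¹ = e z := by
    intro q
    obtain ⟨z, hz, h⟩ := hc1 _ (hρ₁N q)
    refine ⟨z, hz, ?_⟩
    rw [← h, hρ₁e q]
    group
  have hdU : c * (b * a) ∈ NB e U := by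
    apply mem_NB_of_finite he hUS
    intro u hu
    obtain ⟨u₂, hu₂, h⟩ := hc2 _ ⟨⟨u, hu⟩, rfl⟩
    refine ⟨u₂, hu₂, ?_⟩
    rw [← h]
    show _ = c * e (((bconj e S he (b * a)).comp (Subgroup.inclusion hQd)) ⟨u, hUQ hu⟩) * c⁻¹
    rw [hρ₁e ⟨u, hUQ hu⟩]
    group
  have hRd : R ≤ domB e (normalizerIn S U) heT (c * (b * a)) := by
    intro r hr
    obtain ⟨z, hz, h⟩ := hd ⟨r, hRQ hr⟩
    exact mem_domB.mpr ⟨hRT hr, z, hz, h⟩
  have hρe : ∀ r : R, e (((bconj e _ heT (c * (b * a))).comp (Subgroup.inclusion hRd)) r) =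
      c * (b * a) * e r * (c * (b * a))⁻¹ := fun r => e_bconj e _ heT _ (Subgroup.inclusion hRd r)
  have hρT : ∀ r : R, ((bconj e _ heT (c * (b * a))).comp (Subgroup.inclusion hRd)) r ∈
      normalizerIn S U := fun r => bconj_mem e _ heT _ _
  have hρ : (bconj e _ heT (c * (b * a))).comp (Subgroup.inclusion hRd) ∈ E.Hom R :=
    (hET R _ hRT hρT).mpr ⟨c * (b * a), ⟨Subgroup.mem_top _, hdU⟩, hρe⟩
  have hcard := hRfn.2 _ ⟨_, hρ, rfl⟩
  have hR₃T : ((bconj e _ heT (c * (b * a))).comp (Subgroup.inclusion hRd)).range ≤ normalizerIn S U := by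
    rintro _ ⟨r, rfl⟩
    exact hρT r
  have : Finite ↥(((bconj e _ heT (c * (b * a))).comp (Subgroup.inclusion hRd)).range) :=
    finOf (hR₃T.trans hTS)
  -- Step 7: the pull-back `X̃` of `l X l⁻¹`
  have hAr : X.map (MulAut.conj l).toMonoidHom ≤ ι'.range := by
    rintro _ ⟨x, hx, rfl⟩
    exact hlr x (Subgroup.mem_sup_left hx)
  have hcardA : Nat.card ↥((X.map (MulAut.conj l).toMonoidHom).comap ι') = Nat.card X := by
    have h1 : ((X.map (MulAut.conj l).toMonoidHom).comap ι').map ι' = X.map (MulAut.conj l).toMonoidHom :=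
      Subgroup.map_comap_eq_self hAr
    have h2 := Subgroup.card_map_of_injective (K := (X.map (MulAut.conj l).toMonoidHom).comap ι') hinj
    have h3 := Subgroup.card_map_of_injective (K := X) (f := (MulAut.conj l).toMonoidHom)
      (MulAut.conj l).injective
    rw [h1] at h2
    rw [← h2]
    exact h3
  -- conjugation by elements of `X̃` preserves `ρ₁(V)` for `V = U, R`
  have key : ∀ V : Subgroup Ω, ∀ hVQ : V ≤ U ⊔ R, X ≤ NB (fun x => ext1 ι' (ext1 γ x)) V →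
      ∀ n : ↥(normalizerIn S Q'), ι' n ∈ X.map (MulAut.conj l).toMonoidHom → ∀ v (hv : v ∈ V),
        ∃ v₂, ∃ hv₂ : v₂ ∈ V, (n : Ω) * ((bconj e S he (b * a)).comp (Subgroup.inclusion hQd)) ⟨v, hVQ hv⟩ *
          (n : Ω)⁻¹ = ((bconj e S he (b * a)).comp (Subgroup.inclusion hQd)) ⟨v₂, hVQ hv₂⟩ := by
    intro V hVQ hXV n hn v hv
    obtain ⟨k, hk, hkn⟩ := hn
    obtain ⟨v₂, hv₂, h⟩ := (hXV hk).1 v hv
    refine ⟨v₂, hv₂, ?_⟩
    have hm1 : ((bconj e S he (b * a)).comp (Subgroup.inclusion hQd)) ⟨v, hVQ hv⟩ ∈ normalizerIn S Q' :=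
      hQ'N' (hρ₁Q' _)
    have hm2 : ((bconj e S he (b * a)).comp (Subgroup.inclusion hQd)) ⟨v₂, hVQ hv₂⟩ ∈ normalizerIn S Q' :=
      hQ'N' (hρ₁Q' _)
    apply he'.inj _ (Subgroup.mul_mem _ (Subgroup.mul_mem _ n.2 hm1) (Subgroup.inv_mem _ n.2)) _ hm2
    rw [he'.conj n.2 hm1, hρ₁e', hρ₁e', ext1_coe, ← hkn]
    show l * k * l⁻¹ * (l * (fun x => ext1 ι' (ext1 γ x)) v * l⁻¹) * (l * k * l⁻¹)⁻¹ =
      l * (fun x => ext1 ι' (ext1 γ x)) v₂ * l⁻¹
    rw [← h]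
    group
  -- Step 8: the map `β` on `N_S(U'')`
  have hβd : normalizerIn S (((bconj e S he (b * a)).comp (Subgroup.inclusion hQd)).comp
      (Subgroup.inclusion hUQ)).range ≤ domB e S he c := by
    intro s hs
    obtain ⟨z, hz, h⟩ := hc1 s hs
    exact mem_domB.mpr ⟨hs.1, z, hTS hz, h⟩
  have hβe : ∀ s, e (((bconj e S he c).comp (Subgroup.inclusion hβd)) s) = c * e s * c⁻¹ :=
    fun s => e_bconj e S he _ (Subgroup.inclusion hβd s)
  have hβS : ∀ s, ((bconj e S he c).comp (Subgroup.inclusion hβd)) s ∈ S :=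
    fun s => bconj_mem e S he _ _
  have hβT : ∀ s, ((bconj e S he c).comp (Subgroup.inclusion hβd)) s ∈ normalizerIn S U := by
    intro s
    obtain ⟨z, hz, h⟩ := hc1 s s.2
    have h1 : ((bconj e S he c).comp (Subgroup.inclusion hβd)) s = z :=
      he.inj _ (hβS s) _ (hTS hz) (by rw [hβe, h])
    rw [h1]
    exact hz
  have hβinj : Function.Injective ((bconj e S he c).comp (Subgroup.inclusion hβd)) := by
    intro s s' h
    have h1 : c * e s * c⁻¹ = c * e s' * c⁻¹ := by rw [← hβe, ← hβe, h]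
    exact Subtype.ext (he.inj _ s.2.1 _ s'.2.1 (mul_left_cancel (mul_right_cancel h1)))
  -- `ρ = β ∘ ρ₁` on `R`
  have hρβ : ∀ r : R, ((bconj e _ heT (c * (b * a))).comp (Subgroup.inclusion hRd)) r =
      ((bconj e S he c).comp (Subgroup.inclusion hβd)) ⟨_, hρ₁N ⟨r, hRQ r.2⟩⟩ := by
    intro r
    apply he.inj _ (hTS (hρT r)) _ (hβS _)
    rw [hρe, hβe]
    show _ = c * e (((bconj e S he (b * a)).comp (Subgroup.inclusion hQd)) ⟨r, hRQ r.2⟩) * c⁻¹
    rw [hρ₁e]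
    group
  -- `X̃ ≤ N_S(U'')`
  have hXtN : ((X.map (MulAut.conj l).toMonoidHom).comap ι').map (normalizerIn S Q').subtype ≤
      normalizerIn S (((bconj e S he (b * a)).comp (Subgroup.inclusion hQd)).comp
        (Subgroup.inclusion hUQ)).range := by
    rintro _ ⟨n, hn, rfl⟩
    refine ⟨hN'S n.2, mem_normalizer_of_conj_mem ?_⟩
    rintro _ ⟨u, rfl⟩
    obtain ⟨v₂, hv₂, h⟩ := key U hUQ (hXK.trans inf_le_left) n hn u u.2
    exact ⟨⟨v₂, hv₂⟩, h.symm⟩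
  have hcardB : Nat.card ↥(((((X.map (MulAut.conj l).toMonoidHom).comap ι').map
      (normalizerIn S Q').subtype).subgroupOf _).map ((bconj e S he c).comp (Subgroup.inclusion hβd))) =
      Nat.card X := by
    rw [Subgroup.card_map_of_injective hβinj,
      Nat.card_congr (Subgroup.subgroupOfEquivOfLe hXtN).toEquiv,
      Subgroup.card_map_of_injective (Subgroup.subtype_injective _), hcardA]
  have hBle : ((((X.map (MulAut.conj l).toMonoidHom).comap ι').map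
      (normalizerIn S Q').subtype).subgroupOf _).map ((bconj e S he c).comp (Subgroup.inclusion hβd)) ≤
      normalizerIn (normalizerIn S U)
        ((bconj e _ heT (c * (b * a))).comp (Subgroup.inclusion hRd)).range := by
    rintro _ ⟨s, hs, rfl⟩
    obtain ⟨n, hn, hns⟩ := Subgroup.mem_subgroupOf.mp hs
    refine ⟨hβT s, mem_normalizer_of_conj_mem ?_⟩
    rintro _ ⟨r, rfl⟩
    obtain ⟨r₂, hr₂, h⟩ := key R hRQ (hXK.trans inf_le_right) n hn r r.2
    refine ⟨⟨r₂, hr₂⟩, ?_⟩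
    rw [hρβ ⟨r₂, hr₂⟩, hρβ r, ← map_inv, ← map_mul, ← map_mul]
    congr 1
    apply Subtype.ext
    show ((bconj e S he (b * a)).comp (Subgroup.inclusion hQd)) ⟨r₂, hRQ hr₂⟩ = (s : Ω) * _ * (s : Ω)⁻¹
    rw [← h, ← hns]
    rfl
  have : Finite ↥(normalizerIn (normalizerIn S U)
      ((bconj e _ heT (c * (b * a))).comp (Subgroup.inclusion hRd)).range) :=
    finOf ((inf_le_left : normalizerIn (normalizerIn S U) _ ≤ normalizerIn S U).trans hTS)
  calc Nat.card X = _ := hcardB.symm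
    _ ≤ Nat.card ↥(normalizerIn (normalizerIn S U)
        ((bconj e _ heT (c * (b * a))).comp (Subgroup.inclusion hRd)).range) :=
      Subgroup.card_le_of_le hBle
    _ ≤ _ := hcard

end

end Cfsg.Agent.Lib.Helper18.FusFree
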