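import Mathlib
import Cfsg.Agent.Lib.Helper18.FusFreeC
import Cfsg.Agent.Lib.Helper27.ParkMain
import Cfsg.Agent.Lib.Helper27.Involves

set_option autoImplicit false

/-!
# Locally `H`-free fusion systems

`LocFree H p F`: for every fully normalized centric `Q` some finite `H`-free group induces `N_F(Q)` on
`N_S(Q)`, a Sylow subgroup.  This passes to normalizer systems of fully normalized subgroups.
-/

namespace Cfsg.Agent.Lib.Helper18.FusFree

open Cfsg Cfsg.FusionSystem Cfsg.Agent.Lib.Helper27 Cfsg.Agent.H26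

universe u

/-- For every fully normalized centric `Q`, some finite `H`-free group induces `N_F(Q)` on its Sylow
subgroup `N_S(Q)`. -/
def LocFree (H : Type*) [Group H] (p : ℕ) {Ω : Type u} [Group Ω] {S : Subgroup Ω} (F : FusionSystem S) :
    Prop :=
  ∀ Q : Subgroup Ω, F.IsFullyNormalized Q → F.IsCentric Q →
    ∃ (L : Type u) (_ : Group L) (_ : Finite L) (ι : ↥(normalizerIn S Q) →* L),
      Function.Injective ι ∧ (∃ T : Sylow p L, (T : Subgroup L) = ι.range) ∧ ¬ Involves H L ∧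
        Ind (ext1 ι) (normalizerIn S Q) ⊤ (F.normalizerHom Q)

/-- Universe-polymorphic variant of `LocFree`: the finite groups live in `Type v`. -/
def LocFreeU.{w, v, u'} (H : Type w) [Group H] (p : ℕ) {Ω : Type u'} [Group Ω] {S : Subgroup Ω}
    (F : FusionSystem S) : Prop :=
  ∀ Q : Subgroup Ω, F.IsFullyNormalized Q → F.IsCentric Q →
    ∃ (L : Type v) (_ : Group L) (_ : Finite L) (ι : ↥(normalizerIn S Q) →* L),
      Function.Injective ι ∧ (∃ T : Sylow p L, (T : Subgroup L) = ι.range) ∧ ¬ Involves H L ∧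
        Ind (ext1 ι) (normalizerIn S Q) ⊤ (F.normalizerHom Q)

theorem conj_mem_sup {Ω : Type*} [Group Ω] {U R : Subgroup Ω} {x : Ω}
    (hU : ∀ u ∈ U, x * u * x⁻¹ ∈ U) (hR : ∀ r ∈ R, x * r * x⁻¹ ∈ R) :
    ∀ y ∈ U ⊔ R, x * y * x⁻¹ ∈ U ⊔ R := by
  have hle : U ⊔ R ≤ (U ⊔ R).comap (MulAut.conj x).toMonoidHom := by
    apply sup_le
    · intro u hu
      exact Subgroup.mem_sup_left (hU u hu)
    · intro r hr
      exact Subgroup.mem_sup_right (hR r hr)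
  intro y hy
  exact hle hy

/-- Local `H`-freeness passes to the normalizer system of a fully normalized subgroup. -/
theorem locFree_normalizerSystem {H : Type*} [Group H] {Ω : Type u} [Group Ω] {S : Subgroup Ω} [Finite S]
    {p : ℕ} [Fact p.Prime] (hS : IsPGroup p S) {F : FusionSystem S} (hF : F.IsSaturated p)
    (hfree : LocFree H p F) {U : Subgroup Ω} (hU : F.IsFullyNormalized U)
    {E : FusionSystem (normalizerIn S U)} (hE : F.IsNormalizerSystem U E) : LocFree H p E := by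
  intro R hRfn hRc
  obtain ⟨G, _, _, j, hreal⟩ := Park.park_realized F
  have he : IsBridge S (ext1 j) := isBridge_ext1 j hreal.1
  have hG : Ind (ext1 j) S ⊤ F.Hom := ind_of_realized hreal
  have hUS : U ≤ S := hU.1
  have hTS : normalizerIn S U ≤ S := inf_le_left
  have hRT : R ≤ normalizerIn S U := hRfn.1
  have hRS : R ≤ S := hRT.trans hTS
  have hUT : U ≤ normalizerIn S U := le_normalizerIn hUS
  have hQS : U ⊔ R ≤ S := sup_le hUS hRS
  have hQN : U ⊔ R ≤ normalizerIn S (U ⊔ R) := le_normalizerIn hQS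
  have hUN : U ≤ normalizerIn S (U ⊔ R) := le_sup_left.trans hQN
  have hRN : R ≤ normalizerIn S (U ⊔ R) := le_sup_right.trans hQN
  have finOf : ∀ {V : Subgroup Ω}, V ≤ S → Finite ↥V := fun hV =>
    Finite.of_injective (Subgroup.inclusion hV) (Subgroup.inclusion_injective hV)
  have : Finite ↥U := finOf hUS
  have : Finite ↥R := finOf hRS
  have : Finite ↥(U ⊔ R) := finOf hQS
  have hN₂S : normalizerIn (normalizerIn S U) R ≤ S := inf_le_left.trans hTS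
  have : Finite ↥(normalizerIn (normalizerIn S U) R) := finOf hN₂S
  have hQc : F.IsCentric (U ⊔ R) := centric_sup hS hF he hG hU hE hRc
  obtain ⟨Q', hQQ', hQ'fn⟩ := exists_fullyNormalized_conj F hQS
  obtain ⟨γ, hγ, χ, -, hγχ⟩ := exists_hom_normalizerIn_of_fullyNormalized hS hF hQ'fn hQQ'
  have hQ'S : Q' ≤ S := hQ'fn.1
  have : Finite ↥Q' := finOf hQ'S
  have hγχ' : ∀ x : ↥(U ⊔ R), γ ⟨x, hQN x.2⟩ = χ x := fun x => hγχ x x.2 _
  have hγN : ∀ n : ↥(normalizerIn S (U ⊔ R)), γ n ∈ normalizerIn S Q' :=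
    hom_normalizerIn_mem_normalizerIn hQS hγ hγχ'
  have hγQ : ∀ x : ↥(normalizerIn S (U ⊔ R)), (x : Ω) ∈ U ⊔ R → γ x ∈ Q' := by
    intro x hx
    have h1 := hγχ x hx x.2
    rw [h1]
    exact (χ _).2
  have hγQ' : ∀ y ∈ Q', ∃ x : ↥(normalizerIn S (U ⊔ R)), (x : Ω) ∈ U ⊔ R ∧ γ x = y := by
    intro y hy
    refine ⟨⟨χ.symm ⟨y, hy⟩, hQN (χ.symm ⟨y, hy⟩).2⟩, (χ.symm ⟨y, hy⟩).2, ?_⟩
    rw [hγχ' (χ.symm ⟨y, hy⟩)]
    simp
  have hQ'c : F.IsCentric Q' := ⟨hQ'S, fun Q₁ h => hQc.2 Q₁ (isConj_trans F hQQ' h)⟩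
  obtain ⟨L, _, _, ι', hinj, ⟨Sy, hSy⟩, hHfree, hL⟩ := hfree Q' hQ'fn hQ'c
  have he' : IsBridge (normalizerIn S Q') (ext1 ι') := isBridge_ext1 ι' hinj
  have he₂ : IsBridge (normalizerIn S (U ⊔ R)) (fun x => ext1 ι' (ext1 γ x)) :=
    isBridge_comp (F.injective_of_mem hγ) hγN he'
  have h₂ : Ind (fun x => ext1 ι' (ext1 γ x)) (normalizerIn S (U ⊔ R)) ⊤ (F.normalizerHom (U ⊔ R)) :=
    ind_conj he hG hQS hQ'S hγ hγN hγQ hγQ' he' hL
  have h₁ : Ind (ext1 j) (normalizerIn S (U ⊔ R)) (⊤ ⊓ NB (ext1 j) (U ⊔ R))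
      (F.normalizerHom (U ⊔ R)) := ind_normalizerHom he hG hQS
  have heT : IsBridge (normalizerIn S U) (ext1 j) := he.mono hTS
  have heN : IsBridge (normalizerIn S (U ⊔ R)) (ext1 j) := he.mono inf_le_left
  have hET : Ind (ext1 j) (normalizerIn S U) (⊤ ⊓ NB (ext1 j) U) E.Hom :=
    (ind_normalizerHom he hG hUS).congr hE
  have h₃ : Ind (ext1 j) (normalizerIn (normalizerIn S U) R) ((⊤ ⊓ NB (ext1 j) U) ⊓ NB (ext1 j) R)
      (E.normalizerHom R) := ind_normalizerHom heT hET hRT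
  have hN₂N : normalizerIn (normalizerIn S U) R ≤ normalizerIn S (U ⊔ R) := by
    intro x hx
    refine ⟨hN₂S hx, mem_normalizer_of_conj_mem ?_⟩
    exact conj_mem_sup (fun u hu => conj_mem_of_mem_normalizerIn hx.1 hu)
      (fun r hr => conj_mem_of_mem_normalizerIn hx hr)
  -- the group
  have hmemK : ∀ x ∈ normalizerIn (normalizerIn S U) R, (fun x => ext1 ι' (ext1 γ x)) x ∈
      NB (fun x => ext1 ι' (ext1 γ x)) U ⊓ NB (fun x => ext1 ι' (ext1 γ x)) R := by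
    intro x hx
    refine ⟨mem_NB_of_finite he₂ hUN fun u hu => ?_, mem_NB_of_finite he₂ hRN fun r hr => ?_⟩
    · exact ⟨x * u * x⁻¹, conj_mem_of_mem_normalizerIn hx.1 hu, (he₂.conj (hN₂N hx) (hUN hu)).symm⟩
    · exact ⟨x * r * x⁻¹, conj_mem_of_mem_normalizerIn hx hr, (he₂.conj (hN₂N hx) (hRN hr)).symm⟩
  obtain ⟨ι₂, hι₂⟩ : ∃ ι₂ : ↥(normalizerIn (normalizerIn S U) R) →*
      ↥(NB (fun x => ext1 ι' (ext1 γ x)) U ⊓ NB (fun x => ext1 ι' (ext1 γ x)) R),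
      ∀ x, ((ι₂ x : ↥(NB (fun x => ext1 ι' (ext1 γ x)) U ⊓ NB (fun x => ext1 ι' (ext1 γ x)) R)) : L) =
        ext1 ι' (ext1 γ (x : Ω)) :=
    ⟨MonoidHom.mk' (fun x => ⟨ext1 ι' (ext1 γ (x : Ω)), hmemK x x.2⟩) (fun a b => Subtype.ext
      (he₂.mul _ (hN₂N a.2) _ (hN₂N b.2))), fun x => rfl⟩
  have hι₂inj : Function.Injective ι₂ := by
    intro a b hab
    have h1 : ext1 ι' (ext1 γ (a : Ω)) = ext1 ι' (ext1 γ (b : Ω)) := by
      rw [← hι₂ a, ← hι₂ b, hab]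
    exact Subtype.ext (he₂.inj _ (hN₂N a.2) _ (hN₂N b.2) h1)
  have hext : ∀ x (hx : x ∈ normalizerIn (normalizerIn S U) R),
      ((ext1 ι₂ x : ↥(NB (fun x => ext1 ι' (ext1 γ x)) U ⊓ NB (fun x => ext1 ι' (ext1 γ x)) R)) : L) =
        ext1 ι' (ext1 γ x) := by
    intro x hx
    rw [ext1_of_mem ι₂ hx, hι₂]
  refine ⟨_, inferInstance, inferInstance, ι₂, hι₂inj, ?_, ?_, ?_⟩
  · -- Sylow
    have hN₂p : IsPGroup p ↥(normalizerIn (normalizerIn S U) R) :=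
      hS.of_injective (Subgroup.inclusion hN₂S) (Subgroup.inclusion_injective hN₂S)
    have hYp : IsPGroup p ↥ι₂.range := by
      have h1 : IsPGroup p ↥((⊤ : Subgroup ↥(normalizerIn (normalizerIn S U) R)).map ι₂) :=
        (hN₂p.to_subgroup ⊤).map ι₂
      rwa [← MonoidHom.range_eq_map] at h1
    obtain ⟨P, hP⟩ := hYp.exists_le_sylow
    have hPp : IsPGroup p ↥((P : Subgroup _).map (Subgroup.subtype
        (NB (fun x => ext1 ι' (ext1 γ x)) U ⊓ NB (fun x => ext1 ι' (ext1 γ x)) R))) :=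
      P.isPGroup'.map _
    have hPle : (P : Subgroup _).map (Subgroup.subtype
        (NB (fun x => ext1 ι' (ext1 γ x)) U ⊓ NB (fun x => ext1 ι' (ext1 γ x)) R)) ≤
        NB (fun x => ext1 ι' (ext1 γ x)) U ⊓ NB (fun x => ext1 ι' (ext1 γ x)) R := by
      rintro _ ⟨k, -, rfl⟩
      exact k.2
    have h1 := card_le_of_le_NB hS hF he hG hU hE hRfn hQ'S hγ hγN hγQ hγQ' hinj Sy hSy hL _ hPp hPle
    rw [Subgroup.card_map_of_injective (Subgroup.subtype_injective _)] at h1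
    have h2 : Nat.card ↥ι₂.range = Nat.card ↥(normalizerIn (normalizerIn S U) R) :=
      (Nat.card_congr (MonoidHom.ofInjective hι₂inj).toEquiv).symm
    have h3 : ι₂.range = (P : Subgroup _) := Subgroup.eq_of_le_of_card_ge hP (by rw [h2]; exact h1)
    exact ⟨P, h3.symm⟩
  · -- `H`-free
    intro h
    exact hHfree (involves_of_injective (Subgroup.subtype _) (Subgroup.subtype_injective _) h)
  · -- the induced maps
    intro P φ hP hφ
    rw [h₃ P φ hP hφ]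
    constructor
    · rintro ⟨g, ⟨⟨-, hgU⟩, hgR⟩, hg⟩
      have hgQ : g ∈ NB (ext1 j) (U ⊔ R) := nb_sup he hUS hRS ⟨hgU, hgR⟩
      obtain ⟨l, ⟨⟨-, hlU⟩, hlR⟩, hl⟩ := transfer_aux heN h₁ h₂ hUN hRN (hP.trans hN₂N) φ
        (fun x => hN₂N (hφ x)) ⟨g, ⟨⟨⟨Subgroup.mem_top _, hgQ⟩, hgU⟩, hgR⟩, hg⟩
      refine ⟨⟨l, ⟨hlU, hlR⟩⟩, Subgroup.mem_top _, fun x => Subtype.ext ?_⟩
      rw [hext _ (hφ x), Subgroup.coe_mul, Subgroup.coe_mul, Subgroup.coe_inv, hext _ (hP x.2)]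
      exact hl x
    · rintro ⟨k, -, hk⟩
      have hk' : ∀ x : P, (fun x => ext1 ι' (ext1 γ x)) (φ x) =
          (k : L) * (fun x => ext1 ι' (ext1 γ x)) (x : Ω) * (k : L)⁻¹ := by
        intro x
        have h1 := congrArg Subtype.val (hk x)
        rw [hext _ (hφ x), Subgroup.coe_mul, Subgroup.coe_mul, Subgroup.coe_inv, hext _ (hP x.2)] at h1
        exact h1
      obtain ⟨g, ⟨⟨-, hgU⟩, hgR⟩, hg⟩ := transfer_aux he₂ h₂ h₁ hUN hRN (hP.trans hN₂N) φ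
        (fun x => hN₂N (hφ x)) ⟨(k : L), ⟨⟨Subgroup.mem_top _, k.2.1⟩, k.2.2⟩, hk'⟩
      exact ⟨g, ⟨⟨Subgroup.mem_top _, hgU⟩, hgR⟩, hg⟩

end Cfsg.Agent.Lib.Helper18.FusFree
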