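import Mathlib
import Cfsg.Agent.Lib.Helper18.FusFreeD
import Cfsg.Agent.S5134
import Cfsg.Agent.H26.MorphismSat

set_option autoImplicit false

/-!
# Local `H`-freeness passes to factor systems
-/

namespace Cfsg.Agent.Lib.Helper18.FusFree

open Cfsg Cfsg.FusionSystem Cfsg.Agent.Lib.Helper27 Cfsg.Agent.H26

universe u

section aux

theorem card_eq_ker_mul_range {A B : Type*} [Group A] [Group B] [Finite A] (g : A →* B) :
    Nat.card A = Nat.card g.ker * Nat.card g.range := by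
  rw [Subgroup.card_eq_card_quotient_mul_card_subgroup g.ker, mul_comm]
  congr 1
  exact Nat.card_congr (QuotientGroup.quotientKerEquivRange g).toEquiv

variable {Ω : Type*} [Group Ω] {T : Subgroup Ω} {Ω' : Type*} [Group Ω'] {S' : Subgroup Ω'}

theorem mem_normalizerIn_preimage [Finite T] {θ : T →* Ω'} {R' : Subgroup Ω'} {x : Ω} (hx : x ∈ T)
    (h : θ ⟨x, hx⟩ ∈ Subgroup.normalizer (R' : Set Ω')) : x ∈ normalizerIn T (preimageAlong θ R') := by
  have hfin : Finite ↥(preimageAlong θ R') :=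
    Finite.of_injective (Subgroup.inclusion (preimageAlong_le θ R')) (Subgroup.inclusion_injective _)
  refine ⟨hx, mem_normalizer_of_conj_mem ?_⟩
  intro y hy
  obtain ⟨hyT, hyR⟩ := mem_preimageAlong.mp hy
  refine mem_preimageAlong.mpr ⟨T.mul_mem (T.mul_mem hx hyT) (T.inv_mem hx), ?_⟩
  have h3 : (⟨x * y * x⁻¹, T.mul_mem (T.mul_mem hx hyT) (T.inv_mem hx)⟩ : T) =
      ⟨x, hx⟩ * ⟨y, hyT⟩ * ⟨x, hx⟩⁻¹ := rfl
  rw [h3, map_mul, map_mul, map_inv]
  rw [Subgroup.mem_normalizer_iff] at h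
  exact (h _).mp hyR

theorem map_mem_normalizerIn {θ : T →* Ω'} (hrange : θ.range = S') {Y : Subgroup Ω}
    [Finite ↥(imageAlong θ Y)] {x : Ω} (hx : x ∈ normalizerIn T Y) :
    θ ⟨x, hx.1⟩ ∈ normalizerIn S' (imageAlong θ Y) := by
  refine ⟨hrange ▸ ⟨_, rfl⟩, mem_normalizer_of_conj_mem ?_⟩
  rintro _ ⟨s, hs, rfl⟩
  have hsY : (s : Ω) ∈ Y := Subgroup.mem_subgroupOf.mp hs
  have h1 : x * s * x⁻¹ ∈ Y := conj_mem_of_mem_normalizerIn hx hsY
  refine ⟨⟨x, hx.1⟩ * s * ⟨x, hx.1⟩⁻¹, Subgroup.mem_subgroupOf.mpr h1, ?_⟩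
  rw [map_mul, map_mul, map_inv]

end aux

/-- Local `H`-freeness passes to the factor system modulo a normal subgroup (universe-polymorphic form). -/
theorem locFreeU_factor.{w, v, u₁, u₂} {H : Type w} [Group H] {Ω : Type u₁} [Group Ω] {T : Subgroup Ω}
    [Finite T] {p : ℕ} [Fact p.Prime] (hT : IsPGroup p T) {E : FusionSystem T} (hE : E.IsSaturated p)
    (hfree : LocFreeU.{w, v, u₁} H p E) {U : Subgroup Ω} (hU : E.IsNormal U) {Ω' : Type u₂} [Group Ω']
    {S' : Subgroup Ω'} {θ : T →* Ω'} {E' : FusionSystem S'} (hfac : E.IsFactorSystem U θ E') :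
    LocFreeU.{w, v, u₂} H p E' := by
  classical
  have hUsc : E.StronglyClosed U := normal_stronglyClosed hU
  have hsm : E.IsSurjectiveMorphism E' θ := Cfsg.Agent.S5134.result p hT E hE U hUsc θ E' hfac
  obtain ⟨hUT, hker, hrange, hhom⟩ := hfac
  intro R' hR'fn hR'c
  have hR'S' : R' ≤ S' := hR'fn.1
  have hR'r : R' ≤ θ.range := hrange ▸ hR'S'
  have finT : ∀ {V : Subgroup Ω}, V ≤ T → Finite ↥V := fun hV =>
    Finite.of_injective (Subgroup.inclusion hV) (Subgroup.inclusion_injective hV)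
  have hfinS' : Finite ↥S' := by
    rw [← hrange]
    exact Finite.of_surjective θ.rangeRestrict θ.rangeRestrict_surjective
  have finS' : ∀ {V : Subgroup Ω'}, V ≤ S' → Finite ↥V := fun hV =>
    Finite.of_injective (Subgroup.inclusion hV) (Subgroup.inclusion_injective hV)
  have hRT : preimageAlong θ R' ≤ T := preimageAlong_le θ R'
  have hUR : U ≤ preimageAlong θ R' := fun u hu =>
    mem_preimageAlong.mpr ⟨hUT hu, by rw [(hker ⟨u, hUT hu⟩).mpr hu]; exact R'.one_mem⟩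
  have himR : imageAlong θ (preimageAlong θ R') = R' := imageAlong_preimageAlong hR'r
  have : Finite ↥U := finT hUT
  have : Finite ↥R' := finS' hR'S'
  have : Finite ↥(preimageAlong θ R') := finT hRT
  have hUnorm : ∀ t ∈ T, ∀ u ∈ U, t * u * t⁻¹ ∈ U := by
    intro t ht u hu
    have h1 := hUsc.2 U le_rfl (conjHom U t) (E.conj_mem hUT ht) ⟨u, hu⟩
    simpa [conjHom] using h1
  -- images of conjugates
  have hconj' : ∀ φ : ↥(preimageAlong θ R') →* Ω, φ ∈ E.Hom (preimageAlong θ R') →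
      E'.IsConj R' (imageAlong θ φ.range) := by
    intro φ hφ
    obtain ⟨φ', hφ', hP, hφT, hP', Hind⟩ := hsm.1.2 _ φ hφ
    have hrange' : φ'.range = imageAlong θ φ.range := by
      ext y
      constructor
      · rintro ⟨⟨_, s, hs, rfl⟩, rfl⟩
        have hsR : (s : Ω) ∈ preimageAlong θ R' := Subgroup.mem_subgroupOf.mp hs
        have h1 := Hind ⟨s, hsR⟩
        refine ⟨⟨φ ⟨s, hsR⟩, hφT _⟩, Subgroup.mem_subgroupOf.mpr ⟨⟨s, hsR⟩, rfl⟩, ?_⟩
        rw [← h1]
      · rintro ⟨s, hs, rfl⟩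
        obtain ⟨r, hr⟩ := Subgroup.mem_subgroupOf.mp hs
        refine ⟨⟨θ ⟨r, hP r.2⟩, hP' r⟩, ?_⟩
        rw [Hind r]
        congr 1
        exact Subtype.ext hr
    have key : ∀ (A' : Subgroup Ω') (_ : A' = R') (ψ : A' →* Ω'), ψ ∈ E'.Hom A' →
        ψ.range = imageAlong θ φ.range → E'.IsConj R' (imageAlong θ φ.range) := by
      intro A' hA'
      subst hA'
      intro ψ h1 h2
      exact ⟨ψ, h1, h2⟩
    exact key _ himR φ' hφ' hrange'
  -- `R` is fully normalized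
  have hRfn : E.IsFullyNormalized (preimageAlong θ R') := by
    refine ⟨hRT, ?_⟩
    rintro R₁ ⟨φ, hφ, rfl⟩
    have hR₁T : φ.range ≤ T := hom_range_le E hφ
    have h1 := hR'fn.2 _ (hconj' φ hφ)
    have hN₁T : normalizerIn T φ.range ≤ T := inf_le_left
    have hNT : normalizerIn T (preimageAlong θ R') ≤ T := inf_le_left
    have : Finite ↥(normalizerIn T φ.range) := finT hN₁T
    have : Finite ↥(normalizerIn T (preimageAlong θ R')) := finT hNT
    have hi1 : imageAlong θ φ.range ≤ S' := by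
      rintro _ ⟨s, -, rfl⟩
      exact hrange ▸ ⟨s, rfl⟩
    have : Finite ↥(imageAlong θ φ.range) := finS' hi1
    have : Finite ↥(normalizerIn S' (imageAlong θ φ.range)) := finS' inf_le_left
    have : Finite ↥(normalizerIn S' R') := finS' inf_le_left
    -- the first normalizer
    have e1 := card_eq_ker_mul_range (θ.comp (Subgroup.inclusion hN₁T))
    have hk1 : Nat.card ↥(θ.comp (Subgroup.inclusion hN₁T)).ker ≤ Nat.card ↥U := by
      have hmem : ∀ x : ↥(θ.comp (Subgroup.inclusion hN₁T)).ker, ((x : ↥(normalizerIn T φ.range)) : Ω) ∈ U :=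
        fun x => (hker _).mp x.2
      apply Nat.card_le_card_of_injective (fun x => (⟨_, hmem x⟩ : U))
      intro a b hab
      have h : ((a : ↥(normalizerIn T φ.range)) : Ω) = ((b : ↥(normalizerIn T φ.range)) : Ω) :=
        congrArg (fun u : U => (u : Ω)) hab
      exact Subtype.ext (Subtype.ext h)
    have hr1 : Nat.card ↥(θ.comp (Subgroup.inclusion hN₁T)).range ≤
        Nat.card ↥(normalizerIn S' (imageAlong θ φ.range)) := by
      apply Subgroup.card_le_of_le
      rintro _ ⟨x, rfl⟩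
      exact map_mem_normalizerIn hrange x.2
    -- the second normalizer
    have e2 := card_eq_ker_mul_range (θ.comp (Subgroup.inclusion hNT))
    have hk2 : Nat.card ↥U ≤ Nat.card ↥(θ.comp (Subgroup.inclusion hNT)).ker := by
      have hmem : ∀ u : U, (u : Ω) ∈ normalizerIn T (preimageAlong θ R') :=
        fun u => le_normalizerIn hRT (hUR u.2)
      apply Nat.card_le_card_of_injective (fun u : U =>
        (⟨⟨u, hmem u⟩, (hker ⟨u, hUT u.2⟩).mpr u.2⟩ : ↥(θ.comp (Subgroup.inclusion hNT)).ker))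
      intro a b hab
      have := congrArg (fun z : ↥(θ.comp (Subgroup.inclusion hNT)).ker =>
        ((z : ↥(normalizerIn T (preimageAlong θ R'))) : Ω)) hab
      exact Subtype.ext this
    have : Finite ↥(θ.comp (Subgroup.inclusion hNT)).range :=
      Finite.of_surjective _ (MonoidHom.rangeRestrict_surjective _)
    have hr2 : Nat.card ↥(normalizerIn S' R') ≤ Nat.card ↥(θ.comp (Subgroup.inclusion hNT)).range := by
      apply Subgroup.card_le_of_le
      intro y hy
      obtain ⟨t, rfl⟩ : y ∈ θ.range := hrange ▸ hy.1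
      exact ⟨⟨t, mem_normalizerIn_preimage t.2 hy.2⟩, rfl⟩
    calc Nat.card ↥(normalizerIn T φ.range) = _ := e1
      _ ≤ Nat.card ↥U * Nat.card ↥(normalizerIn S' (imageAlong θ φ.range)) := Nat.mul_le_mul hk1 hr1
      _ ≤ Nat.card ↥U * Nat.card ↥(normalizerIn S' R') := Nat.mul_le_mul le_rfl h1
      _ ≤ _ := Nat.mul_le_mul hk2 hr2
      _ = _ := e2.symm
  -- `R` is centric
  have hRc : E.IsCentric (preimageAlong θ R') := by
    refine ⟨hRT, ?_⟩
    rintro R₁ ⟨φ, hφ, rfl⟩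
    have hcen := hR'c.2 _ (hconj' φ hφ)
    have hφU : ∀ u : U, φ (Subgroup.inclusion hUR u) ∈ U :=
      hUsc.2 U le_rfl _ (hom_restrict E hUR hφ)
    have hUφ : U ≤ φ.range := by
      have hinj : Function.Injective (fun u : U => (⟨_, hφU u⟩ : U)) := by
        intro a b hab
        have h1 : φ (Subgroup.inclusion hUR a) = φ (Subgroup.inclusion hUR b) := congrArg Subtype.val hab
        exact Subgroup.inclusion_injective hUR (E.injective_of_mem hφ h1)
      intro u hu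
      obtain ⟨u', hu'⟩ := Finite.surjective_of_injective hinj ⟨u, hu⟩
      exact ⟨_, congrArg Subtype.val hu'⟩
    intro z hz
    obtain ⟨hzT, hzc⟩ := mem_centralizerIn_iff.mp hz
    have h1 : θ ⟨z, hzT⟩ ∈ centralizerIn S' (imageAlong θ φ.range) := by
      rw [mem_centralizerIn_iff]
      refine ⟨hrange ▸ ⟨_, rfl⟩, ?_⟩
      rintro _ ⟨s, hs, rfl⟩
      have h2 := hzc s (Subgroup.mem_subgroupOf.mp hs)
      rw [← map_mul, ← map_mul]
      congr 1
      exact Subtype.ext h2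
    obtain ⟨s, hs, hsz⟩ := hcen h1
    have hsφ : (s : Ω) ∈ φ.range := Subgroup.mem_subgroupOf.mp hs
    have h3 : θ (s⁻¹ * ⟨z, hzT⟩) = 1 := by rw [map_mul, map_inv, hsz, inv_mul_cancel]
    have h4 : ((s⁻¹ * ⟨z, hzT⟩ : T) : Ω) ∈ U := (hker _).mp h3
    have h5 : z = (s : Ω) * ((s⁻¹ * ⟨z, hzT⟩ : T) : Ω) := by
      simp
    rw [h5]
    exact Subgroup.mul_mem _ hsφ (hUφ h4)
  -- the group
  obtain ⟨L, _, _, ι, hinj, ⟨Sy, hSy⟩, hHfree, hL⟩ := hfree _ hRfn hRc
  have he : IsBridge (normalizerIn T (preimageAlong θ R')) (ext1 ι) := isBridge_ext1 ι hinj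
  have hNT : normalizerIn T (preimageAlong θ R') ≤ T := inf_le_left
  have hRN : preimageAlong θ R' ≤ normalizerIn T (preimageAlong θ R') := le_normalizerIn hRT
  have hUN : U ≤ normalizerIn T (preimageAlong θ R') := hUR.trans hRN
  have : Finite ↥(normalizerIn T (preimageAlong θ R')) := finT hNT
  have hN'S' : normalizerIn S' R' ≤ S' := inf_le_left
  have hιL₁ : ∀ x : ↥(normalizerIn T (preimageAlong θ R')), ι x ∈ NB (ext1 ι) U := by
    intro x
    apply mem_NB_of_finite he hUN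
    intro u hu
    refine ⟨x * u * (x : Ω)⁻¹, hUnorm x (hNT x.2) u hu, ?_⟩
    rw [he.conj x.2 (hUN hu), ext1_coe]
  -- the normal subgroup `ι(U)` of `L₁`
  have hULmem : ∀ k : ↥(NB (ext1 ι) U), k ∈ ((U.subgroupOf (normalizerIn T (preimageAlong θ R'))).map ι).subgroupOf
      (NB (ext1 ι) U) ↔ ∃ u ∈ U, ext1 ι u = (k : L) := by
    intro k
    rw [Subgroup.mem_subgroupOf]
    constructor
    · rintro ⟨x, hx, hxk⟩
      refine ⟨x, Subgroup.mem_subgroupOf.mp hx, ?_⟩
      rw [ext1_coe]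
      exact hxk
    · rintro ⟨u, hu, huk⟩
      refine ⟨⟨u, hUN hu⟩, Subgroup.mem_subgroupOf.mpr hu, ?_⟩
      rw [← huk, ext1_of_mem ι (hUN hu)]
  have hULn : (((U.subgroupOf (normalizerIn T (preimageAlong θ R'))).map ι).subgroupOf
      (NB (ext1 ι) U)).Normal := by
    refine ⟨fun y hy k => ?_⟩
    obtain ⟨u, hu, huy⟩ := (hULmem y).mp hy
    obtain ⟨u₂, hu₂, h⟩ := k.2.1 u hu
    refine (hULmem _).mpr ⟨u₂, hu₂, ?_⟩
    rw [← h, huy]
    rfl
  -- the maps
  have hfmem : ∀ x : ↥(normalizerIn T (preimageAlong θ R')),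
      (θ.comp (Subgroup.inclusion hNT)) x ∈ normalizerIn S' R' := by
    intro x
    have : Finite ↥(imageAlong θ (preimageAlong θ R')) := by rw [himR]; infer_instance
    have h1 := map_mem_normalizerIn (Y := preimageAlong θ R') hrange x.2
    rw [himR] at h1
    exact h1
  have hfsurj : Function.Surjective
      ((θ.comp (Subgroup.inclusion hNT)).codRestrict (normalizerIn S' R') hfmem) := by
    rintro ⟨y, hy⟩
    obtain ⟨t, rfl⟩ : y ∈ θ.range := hrange ▸ hy.1
    exact ⟨⟨t, mem_normalizerIn_preimage t.2 hy.2⟩, Subtype.ext rfl⟩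
  have hle : ((θ.comp (Subgroup.inclusion hNT)).codRestrict (normalizerIn S' R') hfmem).ker ≤
      ((QuotientGroup.mk' (((U.subgroupOf (normalizerIn T (preimageAlong θ R'))).map ι).subgroupOf
        (NB (ext1 ι) U))).comp (ι.codRestrict (NB (ext1 ι) U) hιL₁)).ker := by
    intro x hx
    rw [MonoidHom.mem_ker] at hx ⊢
    have h1 : θ ⟨x, hNT x.2⟩ = 1 := congrArg Subtype.val hx
    have h2 : (x : Ω) ∈ U := (hker _).mp h1
    show QuotientGroup.mk' _ (ι.codRestrict (NB (ext1 ι) U) hιL₁ x) = 1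
    rw [QuotientGroup.mk'_apply, QuotientGroup.eq_one_iff]
    exact (hULmem _).mpr ⟨x, h2, ext1_coe ι x⟩
  obtain ⟨ιb, hιb⟩ : ∃ ιb : ↥(normalizerIn S' R') →* ↥(NB (ext1 ι) U) ⧸
      (((U.subgroupOf (normalizerIn T (preimageAlong θ R'))).map ι).subgroupOf (NB (ext1 ι) U)),
      ∀ x : ↥(normalizerIn T (preimageAlong θ R')),
        ιb ⟨θ ⟨x, hNT x.2⟩, hfmem x⟩ = QuotientGroup.mk' _ (⟨ι x, hιL₁ x⟩ : ↥(NB (ext1 ι) U)) :=
    ⟨((θ.comp (Subgroup.inclusion hNT)).codRestrict (normalizerIn S' R') hfmem).liftOfRightInverse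
      (Function.surjInv hfsurj) (Function.rightInverse_surjInv hfsurj) ⟨_, hle⟩,
      fun x => MonoidHom.liftOfRightInverse_comp_apply _ _ (Function.rightInverse_surjInv hfsurj)
        ⟨_, hle⟩ x⟩
  have hιbinj : Function.Injective ιb := by
    rw [injective_iff_map_eq_one]
    rintro ⟨y, hy⟩ h1
    obtain ⟨x, hx⟩ := hfsurj ⟨y, hy⟩
    have hx' : (⟨θ ⟨x, hNT x.2⟩, hfmem x⟩ : ↥(normalizerIn S' R')) = ⟨y, hy⟩ := hx
    rw [← hx', hιb, QuotientGroup.mk'_apply, QuotientGroup.eq_one_iff] at h1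
    obtain ⟨u, hu, hux⟩ := (hULmem _).mp h1
    have h2 : ext1 ι u = ext1 ι (x : Ω) := by rw [hux, ext1_coe]
    have h3 := he.inj _ (hUN hu) _ x.2 h2
    rw [← hx']
    apply Subtype.ext
    show θ ⟨x, hNT x.2⟩ = 1
    rw [hker]
    rw [← h3]
    exact hu
  have hextb : ∀ (x : Ω) (hx : x ∈ normalizerIn T (preimageAlong θ R')),
      ext1 ιb (θ ⟨x, hNT hx⟩) = QuotientGroup.mk' _ (⟨ι ⟨x, hx⟩, hιL₁ _⟩ : ↥(NB (ext1 ι) U)) := by
    intro x hx
    rw [ext1_of_mem ιb (x := θ ⟨x, hNT hx⟩) (hfmem ⟨x, hx⟩)]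
    exact hιb ⟨x, hx⟩
  refine ⟨_, inferInstance, inferInstance, ιb, hιbinj, ?_, ?_, ?_⟩
  · -- Sylow
    have hSyle : (Sy : Subgroup L) ≤ NB (ext1 ι) U := by
      rw [hSy]
      rintro _ ⟨x, rfl⟩
      exact hιL₁ x
    refine ⟨(Sy.subtype hSyle).mapSurjective (QuotientGroup.mk'_surjective _), ?_⟩
    rw [Sylow.coe_mapSurjective, Sylow.coe_subtype]
    ext y
    constructor
    · rintro ⟨k, hk, rfl⟩
      have hk' : (k : L) ∈ (Sy : Subgroup L) := Subgroup.mem_subgroupOf.mp hk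
      rw [hSy] at hk'
      obtain ⟨x, hx⟩ := hk'
      refine ⟨⟨θ ⟨x, hNT x.2⟩, hfmem x⟩, ?_⟩
      rw [hιb]
      congr 1
      exact Subtype.ext hx
    · rintro ⟨⟨y', hy'⟩, rfl⟩
      obtain ⟨x, hx⟩ := hfsurj ⟨y', hy'⟩
      have hx' : (⟨θ ⟨x, hNT x.2⟩, hfmem x⟩ : ↥(normalizerIn S' R')) = ⟨y', hy'⟩ := hx
      rw [← hx', hιb]
      refine ⟨⟨ι x, hιL₁ x⟩, Subgroup.mem_subgroupOf.mpr ?_, rfl⟩
      rw [hSy]
      exact ⟨x, rfl⟩
  · -- `H`-free
    intro h
    have h1 : Involves H ↥(NB (ext1 ι) U) :=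
      involves_trans h (involves_of_surjective (QuotientGroup.mk' _) (QuotientGroup.mk'_surjective _))
    exact hHfree (involves_of_injective (Subgroup.subtype _) (Subgroup.subtype_injective _) h1)
  · -- the induced maps
    intro P' φ' hP' hφ'
    have hP'S' : P' ≤ S' := hP'.trans hN'S'
    have hPN : preimageAlong θ P' ≤ normalizerIn T (preimageAlong θ R') := by
      intro x hx
      obtain ⟨hxT, hxP'⟩ := mem_preimageAlong.mp hx
      exact mem_normalizerIn_preimage hxT (hP' hxP').2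
    have hPT : preimageAlong θ P' ≤ T := preimageAlong_le θ P'
    have hUP : U ≤ preimageAlong θ P' := fun u hu =>
      mem_preimageAlong.mpr ⟨hUT hu, by rw [(hker ⟨u, hUT hu⟩).mpr hu]; exact P'.one_mem⟩
    have hsurjP : ∀ y : P', ∃ x : ↥(preimageAlong θ P'), θ ⟨x, hPT x.2⟩ = y := by
      intro y
      obtain ⟨t, ht⟩ : (y : Ω') ∈ θ.range := hrange ▸ hP'S' y.2
      exact ⟨⟨t, mem_preimageAlong.mpr ⟨t.2, by rw [Subtype.coe_eta, ht]; exact y.2⟩⟩, ht⟩
    constructor
    · rintro ⟨-, -, -, ψ', hψ', hψ'φ', hψ'R'⟩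
      obtain ⟨-, ψ, hψ, hA, hψT, hA', Hind⟩ := (hhom _ ψ').mp hψ'
      have hPA : preimageAlong θ P' ≤ preimageAlong θ (P' ⊔ R') := preimageAlong_mono θ le_sup_left
      have hRA : preimageAlong θ R' ≤ preimageAlong θ (P' ⊔ R') := preimageAlong_mono θ le_sup_right
      have hPRA : preimageAlong θ P' ⊔ preimageAlong θ R' ≤ preimageAlong θ (P' ⊔ R') := sup_le hPA hRA
      -- `ψ` maps `R` to `R`
      have hψR : ∀ r : ↥(preimageAlong θ (P' ⊔ R')), (r : Ω) ∈ preimageAlong θ R' →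
          ψ r ∈ preimageAlong θ R' := by
        intro r hr
        refine mem_preimageAlong.mpr ⟨hψT r, ?_⟩
        rw [← Hind r]
        have h1 : (⟨θ ⟨r, hA r.2⟩, hA' r⟩ : ↥(P' ⊔ R')) ∈ R'.subgroupOf (P' ⊔ R') :=
          Subgroup.mem_subgroupOf.mpr (mem_preimageAlong.mp hr).2
        exact (le_of_eq hψ'R') ⟨_, h1, rfl⟩
      -- values on `P`
      have hψP : ∀ x : ↥(preimageAlong θ P'), θ ⟨ψ (Subgroup.inclusion hPA x), hψT _⟩ =
          φ' ⟨θ ⟨x, hPT x.2⟩, (mem_preimageAlong.mp x.2).2⟩ := by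
        intro x
        rw [← Hind (Subgroup.inclusion hPA x), ← hψ'φ']
        rfl
      have hψPN : ∀ x : ↥(preimageAlong θ P'), ψ (Subgroup.inclusion hPA x) ∈
          normalizerIn T (preimageAlong θ R') := by
        intro x
        apply mem_normalizerIn_preimage (hψT _)
        rw [hψP x]
        exact (hφ' _).2
      have hψn : ψ.comp (Subgroup.inclusion hPA) ∈ E.normalizerHom (preimageAlong θ R')
          (preimageAlong θ P') := by
        refine ⟨hom_restrict E hPA hψ, hPN, hψPN, ψ.comp (Subgroup.inclusion hPRA),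
          hom_restrict E hPRA hψ, fun x => rfl, ?_⟩
        have hsub : ((preimageAlong θ R').subgroupOf (preimageAlong θ P' ⊔ preimageAlong θ R')).map
            (ψ.comp (Subgroup.inclusion hPRA)) ≤ preimageAlong θ R' := by
          rintro _ ⟨y, hy, rfl⟩
          exact hψR _ (Subgroup.mem_subgroupOf.mp hy)
        apply Subgroup.eq_of_le_of_card_ge hsub
        have hinj' : Function.Injective (ψ.comp (Subgroup.inclusion hPRA)) :=
          (E.injective_of_mem hψ).comp (Subgroup.inclusion_injective hPRA)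
        rw [Subgroup.card_map_of_injective hinj']
        exact (Nat.card_congr (Subgroup.subgroupOfEquivOfLe
          (le_sup_right : preimageAlong θ R' ≤ preimageAlong θ P' ⊔ preimageAlong θ R')).toEquiv).ge
      obtain ⟨l, -, hl⟩ := (hL _ _ hPN hψPN).mp hψn
      have hlU : l ∈ NB (ext1 ι) U := by
        apply mem_NB_of_finite he hUN
        intro u hu
        have h1 := hl ⟨u, hUP hu⟩
        refine ⟨_, ?_, h1.symm⟩
        have h2 := hUsc.2 U le_rfl _ (hom_restrict E (hUP.trans hPA) hψ) ⟨u, hu⟩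
        exact h2
      refine ⟨QuotientGroup.mk' _ (⟨l, hlU⟩ : ↥(NB (ext1 ι) U)), Subgroup.mem_top _, fun y => ?_⟩
      obtain ⟨x, hx⟩ := hsurjP y
      have hy1 : (y : Ω') = θ ⟨x, hPT x.2⟩ := hx.symm
      have hy2 : φ' y = θ ⟨ψ (Subgroup.inclusion hPA x), hψT _⟩ := by
        rw [hψP x]
        congr 1
        exact Subtype.ext hy1
      rw [hy2, hy1, hextb _ (hψPN x), hextb _ (hPN x.2), ← map_inv, ← map_mul, ← map_mul]
      congr 1
      apply Subtype.ext
      show ι ⟨ψ (Subgroup.inclusion hPA x), hψPN x⟩ = l * ι ⟨x, hPN x.2⟩ * l⁻¹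
      have h1 := hl x
      rw [ext1_of_mem ι (x := (ψ.comp (Subgroup.inclusion hPA)) x) (hψPN x),
        ext1_of_mem ι (hPN x.2)] at h1
      exact h1
    · rintro ⟨lb, -, hlb⟩
      obtain ⟨⟨l, hlU⟩, rfl⟩ := QuotientGroup.mk'_surjective _ lb
      -- conjugation by `l` maps `ι(P)` into `ι(N)`
      have hkey : ∀ x : ↥(preimageAlong θ P'), ∃ z, ∃ hz : z ∈ normalizerIn T (preimageAlong θ R'),
          l * ext1 ι x * l⁻¹ = ext1 ι z ∧ θ ⟨z, hNT hz⟩ = φ' ⟨θ ⟨x, hPT x.2⟩, (mem_preimageAlong.mp x.2).2⟩ := by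
        intro x
        have h1 := hlb ⟨θ ⟨x, hPT x.2⟩, (mem_preimageAlong.mp x.2).2⟩
        obtain ⟨w, hw⟩ := hfsurj ⟨_, hφ' ⟨θ ⟨x, hPT x.2⟩, (mem_preimageAlong.mp x.2).2⟩⟩
        have hw' : θ ⟨w, hNT w.2⟩ = φ' ⟨θ ⟨x, hPT x.2⟩, (mem_preimageAlong.mp x.2).2⟩ :=
          congrArg Subtype.val hw
        rw [← hw', hextb _ w.2, hextb _ (hPN x.2), ← map_inv, ← map_mul, ← map_mul,
          QuotientGroup.mk'_apply, QuotientGroup.mk'_apply, QuotientGroup.eq] at h1
        obtain ⟨u, hu, huk⟩ := (hULmem _).mp h1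
        have huk' : ext1 ι u = (ι ⟨w, w.2⟩)⁻¹ * (l * ι ⟨x, hPN x.2⟩ * l⁻¹) := by
          rw [huk]
          rfl
        refine ⟨(w : Ω) * u, Subgroup.mul_mem _ w.2 (hUN hu), ?_, ?_⟩
        · rw [he.mul _ w.2 _ (hUN hu), huk', ext1_coe, ext1_of_mem ι (hPN x.2)]
          group
        · rw [← hw']
          have h2 : (⟨(w : Ω) * u, hNT (Subgroup.mul_mem _ w.2 (hUN hu))⟩ : T) =
              ⟨w, hNT w.2⟩ * ⟨u, hUT hu⟩ := rfl
          rw [h2, map_mul, (hker ⟨u, hUT hu⟩).mpr hu, mul_one]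
      have hPd : preimageAlong θ P' ≤ domB (ext1 ι) _ he l := by
        intro x hx
        obtain ⟨z, hz, h1, -⟩ := hkey ⟨x, hx⟩
        exact mem_domB.mpr ⟨hPN hx, z, hz, h1⟩
      have hφe : ∀ x : ↥(preimageAlong θ P'),
          ext1 ι (((bconj (ext1 ι) _ he l).comp (Subgroup.inclusion hPd)) x) = l * ext1 ι x * l⁻¹ :=
        fun x => e_bconj _ _ he _ (Subgroup.inclusion hPd x)
      have hφN : ∀ x : ↥(preimageAlong θ P'),
          ((bconj (ext1 ι) _ he l).comp (Subgroup.inclusion hPd)) x ∈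
            normalizerIn T (preimageAlong θ R') := fun x => bconj_mem _ _ he _ _
      have hφθ : ∀ x : ↥(preimageAlong θ P'),
          θ ⟨((bconj (ext1 ι) _ he l).comp (Subgroup.inclusion hPd)) x, hNT (hφN x)⟩ =
            φ' ⟨θ ⟨x, hPT x.2⟩, (mem_preimageAlong.mp x.2).2⟩ := by
        intro x
        obtain ⟨z, hz, h1, h2⟩ := hkey x
        have h3 : ((bconj (ext1 ι) _ he l).comp (Subgroup.inclusion hPd)) x = z :=
          he.inj _ (hφN x) _ hz (by rw [hφe, h1])
        rw [← h2]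
        congr 1
        exact Subtype.ext h3
      have hφn := (hL _ _ hPN hφN).mpr ⟨l, Subgroup.mem_top _, hφe⟩
      obtain ⟨hφE, -, -, ψ, hψ, hψφ, hψR⟩ := hφn
      have hind : InducedAlong θ ((bconj (ext1 ι) _ he l).comp (Subgroup.inclusion hPd)) φ' :=
        ⟨hPT, fun x => hNT (hφN x), fun x => (mem_preimageAlong.mp x.2).2, fun x => (hφθ x).symm⟩
      have hφ'E : φ' ∈ E'.Hom P' := (hhom P' φ').mpr ⟨hP'S', _, hφE, hind⟩
      -- the extension
      obtain ⟨ψ'', hψ'', hB, hψT, hB', Hind⟩ := hsm.1.2 _ ψ hψ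
      have hPRim : P' ⊔ R' ≤ imageAlong θ (preimageAlong θ P' ⊔ preimageAlong θ R') := by
        apply sup_le
        · intro y hy
          obtain ⟨x, hx⟩ := hsurjP ⟨y, hy⟩
          exact ⟨⟨x, hPT x.2⟩, Subgroup.mem_subgroupOf.mpr (Subgroup.mem_sup_left x.2), hx⟩
        · intro y hy
          obtain ⟨t, ht⟩ : y ∈ θ.range := hR'r hy
          refine ⟨t, Subgroup.mem_subgroupOf.mpr (Subgroup.mem_sup_right ?_), ht⟩
          exact mem_preimageAlong.mpr ⟨t.2, by rw [Subtype.coe_eta, ht]; exact hy⟩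
      have hψ''val : ∀ (x : Ω) (hx : x ∈ preimageAlong θ P' ⊔ preimageAlong θ R')
          (hy : θ ⟨x, hB hx⟩ ∈ P' ⊔ R'),
          (ψ''.comp (Subgroup.inclusion hPRim)) ⟨θ ⟨x, hB hx⟩, hy⟩ = θ ⟨ψ ⟨x, hx⟩, hψT _⟩ := by
        intro x hx hy
        rw [← Hind ⟨x, hx⟩]
        rfl
      refine ⟨hφ'E, hP', hφ', ψ''.comp (Subgroup.inclusion hPRim), hom_restrict E' hPRim hψ'',
        fun y => ?_, ?_⟩
      · obtain ⟨x, hx⟩ := hsurjP y
        have h1 : (Subgroup.inclusion (le_sup_left : P' ≤ P' ⊔ R') y : ↥(P' ⊔ R')) =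
            ⟨θ ⟨x, hB (Subgroup.mem_sup_left x.2)⟩, by rw [hx]; exact Subgroup.mem_sup_left y.2⟩ :=
          Subtype.ext hx.symm
        rw [h1, hψ''val _ (Subgroup.mem_sup_left x.2)]
        have h2 : ψ ⟨x, Subgroup.mem_sup_left x.2⟩ =
            ((bconj (ext1 ι) _ he l).comp (Subgroup.inclusion hPd)) x := hψφ x
        have h3 : φ' y = φ' ⟨θ ⟨x, hPT x.2⟩, (mem_preimageAlong.mp x.2).2⟩ := by
          congr 1
          exact Subtype.ext hx.symm
        rw [h3, ← hφθ x]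
        congr 1
        exact Subtype.ext h2
      · have hsub : (R'.subgroupOf (P' ⊔ R')).map (ψ''.comp (Subgroup.inclusion hPRim)) ≤ R' := by
          rintro _ ⟨y, hy, rfl⟩
          have hyR' : (y : Ω') ∈ R' := Subgroup.mem_subgroupOf.mp hy
          obtain ⟨t, ht⟩ : (y : Ω') ∈ θ.range := hR'r hyR'
          have htR : (t : Ω) ∈ preimageAlong θ R' :=
            mem_preimageAlong.mpr ⟨t.2, by rw [Subtype.coe_eta, ht]; exact hyR'⟩
          have h1 : y = ⟨θ ⟨t, hB (Subgroup.mem_sup_right htR)⟩, by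
              show θ t ∈ P' ⊔ R'
              rw [ht]; exact y.2⟩ := Subtype.ext (by show (y : Ω') = θ t; exact ht.symm)
          rw [h1, hψ''val _ (Subgroup.mem_sup_right htR)]
          have h2 : ψ ⟨t, Subgroup.mem_sup_right htR⟩ ∈ preimageAlong θ R' := by
            have h3 : ψ ⟨t, Subgroup.mem_sup_right htR⟩ ∈
                ((preimageAlong θ R').subgroupOf (preimageAlong θ P' ⊔ preimageAlong θ R')).map ψ :=
              ⟨_, Subgroup.mem_subgroupOf.mpr htR, rfl⟩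
            exact (le_of_eq hψR) h3
          exact (mem_preimageAlong.mp h2).2
        apply Subgroup.eq_of_le_of_card_ge hsub
        have hinj' : Function.Injective (ψ''.comp (Subgroup.inclusion hPRim)) :=
          (E'.injective_of_mem hψ'').comp (Subgroup.inclusion_injective hPRim)
        rw [Subgroup.card_map_of_injective hinj']
        exact (Nat.card_congr (Subgroup.subgroupOfEquivOfLe
          (le_sup_right : R' ≤ P' ⊔ R')).toEquiv).ge

/-- Local `H`-freeness passes to the factor system modulo a normal subgroup. -/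
theorem locFree_factor {H : Type*} [Group H] {Ω : Type u} [Group Ω] {T : Subgroup Ω} [Finite T] {p : ℕ}
    [Fact p.Prime] (hT : IsPGroup p T) {E : FusionSystem T} (hE : E.IsSaturated p) (hfree : LocFree H p E)
    {U : Subgroup Ω} (hU : E.IsNormal U) {Ω' : Type u} [Group Ω'] {S' : Subgroup Ω'} {θ : T →* Ω'}
    {E' : FusionSystem S'} (hfac : E.IsFactorSystem U θ E') : LocFree H p E' :=
  locFreeU_factor hT hE hfree hU hfac

end Cfsg.Agent.Lib.Helper18.FusFree
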