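import Mathlib
import Cfsg.Agent.Lib.Helper18.FusFreeE
import Cfsg.Agent.Lib.Helper27.LGMain

set_option autoImplicit false

/-!
# Local `H`-freeness: from `IsSectionFree`, and the realizing group of a constrained system
-/

namespace Cfsg.Agent.Lib.Helper18.FusFree

open Cfsg Cfsg.FusionSystem Cfsg.Agent.Lib.Helper27 Cfsg.Agent.H26 Cfsg.Agent.Lib.Helper27.LG

universe u

/-- An `H`-free system (all local models `H`-free) is locally `H`-free. -/
theorem locFree_of_isSectionFree {H : Type*} [Group H] {Ω : Type u} [Group Ω] {S : Subgroup Ω} [Finite S]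
    {p : ℕ} [Fact p.Prime] (hS : IsPGroup p S) {F : FusionSystem S} (hF : F.IsSaturated p)
    (h : F.IsSectionFree p H) : LocFree H p F := by
  intro Q hQfn hQc
  have hQS : Q ≤ S := hQfn.1
  have hN : F.IsNormalizerSystem Q (nsys F Q hQS) := nsys_spec F Q hQS
  have hTS : normalizerIn S Q ≤ S := inf_le_left
  have : Finite ↥(normalizerIn S Q) :=
    Finite.of_injective (Subgroup.inclusion hTS) (Subgroup.inclusion_injective hTS)
  have hTp : IsPGroup p ↥(normalizerIn S Q) :=
    hS.of_injective (Subgroup.inclusion hTS) (Subgroup.inclusion_injective hTS)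
  have hNsat : (nsys F Q hQS).IsSaturated p := normalizerSystem_saturated hS hF hQfn _ hN
  have hQn : (nsys F Q hQS).IsNormal Q := normalizerSystem_isNormal hQS hN
  have hQc' : (nsys F Q hQS).IsCentric Q := by
    refine ⟨le_normalizerIn hQS, fun Q₁ hQ₁ => ?_⟩
    have hQQ : Q₁ = Q := weaklyClosed_eq_of_isConj (normal_weaklyClosed hQn) hQ₁
    rw [hQQ]
    intro x hx
    exact hQc.2 Q (isConj_refl F hQS) ⟨hTS hx.1, hx.2⟩
  obtain ⟨L, _, ι, hmod⟩ := Mod.exists_model_of_normal_centric hTp hNsat hQn hQc'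
  have hfree := h Q hQfn hQc _ hN L ι hmod
  obtain ⟨hfin, hreal, hsyl, -⟩ := hmod
  exact ⟨L, inferInstance, hfin, ι, hreal.1, hsyl, hfree,
    (ind_of_realized hreal).congr (fun P => (hN P).symm)⟩

/-- A subgroup normal in the system is normalized by `T`. -/
theorem normalizerIn_eq_of_isNormal {Ω : Type*} [Group Ω] {T : Subgroup Ω} [Finite T] {E : FusionSystem T}
    {R : Subgroup Ω} (hR : E.IsNormal R) : normalizerIn T R = T := by
  have hRT : R ≤ T := hR.1
  have : Finite ↥R := Finite.of_injective (Subgroup.inclusion hRT) (Subgroup.inclusion_injective hRT)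
  have hsc := normal_stronglyClosed hR
  apply le_antisymm inf_le_left
  intro t ht
  refine ⟨ht, mem_normalizer_of_conj_mem ?_⟩
  intro r hr
  have h1 := hsc.2 R le_rfl (conjHom R t) (E.conj_mem hRT ht) ⟨r, hr⟩
  simpa [conjHom] using h1

/-- A locally `H`-free system with a normal centric subgroup is realized by a finite `H`-free group on a
Sylow subgroup. -/
theorem exists_realizing_of_normal_centric {H : Type*} [Group H] {Ω : Type u} [Group Ω] {T : Subgroup Ω}
    [Finite T] {p : ℕ} {E : FusionSystem T} (hfree : LocFree H p E) {R : Subgroup Ω}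
    (hRn : E.IsNormal R) (hRc : E.IsCentric R) :
    ∃ (L : Type u) (_ : Group L) (_ : Finite L) (ι : T →* L), E.IsRealizedBy ι ∧
      (∃ Sy : Sylow p L, (Sy : Subgroup L) = ι.range) ∧ ¬ Involves H L := by
  have hRT : R ≤ T := hRn.1
  have hNT : normalizerIn T R = T := normalizerIn_eq_of_isNormal hRn
  have hfn : E.IsFullyNormalized R := isFullyNormalized_of_normal E hRT hNT
  obtain ⟨L, _, _, ι₀, hinj, ⟨Sy, hSy⟩, hHfree, hL⟩ := hfree R hfn hRc
  have hle : T ≤ normalizerIn T R := le_of_eq hNT.symm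
  refine ⟨L, inferInstance, inferInstance, ι₀.comp (Subgroup.inclusion hle), ⟨?_, ?_⟩, ⟨Sy, ?_⟩, hHfree⟩
  · exact hinj.comp (Subgroup.inclusion_injective hle)
  · intro P hP φ hφ
    have hPN : P ≤ normalizerIn T R := hP.trans hle
    have hφN : ∀ x : P, φ x ∈ normalizerIn T R := fun x => hle (hφ x)
    have h1 : φ ∈ E.Hom P ↔ φ ∈ E.normalizerHom R P := by
      constructor
      · intro h
        obtain ⟨ψ, hψ, h2, h3⟩ := hRn.2 P φ h
        exact ⟨h, hPN, hφN, ψ, hψ, h2, h3⟩
      · intro h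
        exact h.1
    rw [h1, hL P φ hPN hφN]
    constructor
    · rintro ⟨g, -, hg⟩
      refine ⟨g, fun x => ?_⟩
      have h2 := hg x
      rw [ext1_of_mem ι₀ (hφN x), ext1_of_mem ι₀ (hPN x.2)] at h2
      exact h2
    · rintro ⟨g, hg⟩
      refine ⟨g, Subgroup.mem_top _, fun x => ?_⟩
      rw [ext1_of_mem ι₀ (hφN x), ext1_of_mem ι₀ (hPN x.2)]
      exact hg x
  · rw [hSy]
    ext y
    constructor
    · rintro ⟨n, rfl⟩
      exact ⟨⟨n, (inf_le_left : normalizerIn T R ≤ T) n.2⟩, rfl⟩
    · rintro ⟨t, rfl⟩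
      exact ⟨_, rfl⟩

end Cfsg.Agent.Lib.Helper18.FusFree
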