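import Mathlib
import Cfsg.Agent.Lib.Helper18.FusFreeF

set_option autoImplicit false

/-!
# The local-to-global theorem with an invariant

A copy of helper27's `LG.alt` in which the hypothesis on models is replaced by a hypothesis on saturated
systems with a normal centric subgroup satisfying an invariant `Inv` which passes to normalizer systems
of fully normalized subgroups and to factor systems modulo normal subgroups.
-/

namespace Cfsg.Agent.Lib.Helper18.FusFree

open Cfsg Cfsg.FusionSystem Cfsg.Agent.Lib.Helper27 Cfsg.Agent.H26 Cfsg.Agent.Lib.Helper27.LG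

universe u

/-- The hypotheses on the designated subgroups and on the invariant. -/
structure GoodInv (Inv : ∀ (Ω : Type u) [Group Ω] (S : Subgroup Ω), FusionSystem S → Prop)
    (𝒩 𝒞 𝒜 : ∀ (Ω : Type u) [Group Ω], Subgroup Ω → Set (Subgroup Ω)) (p : ℕ) : Prop where
  char : ∀ (Ω : Type u) [Group Ω] (S : Subgroup Ω) [Finite S], IsPGroup p S → S ≠ ⊥ →
    ∀ V, (V ∈ 𝒩 Ω S ∨ V ∈ 𝒞 Ω S ∨ V ∈ 𝒜 Ω S) → V ≠ ⊥ ∧ V ≤ S ∧ (V.subgroupOf S).Characteristic
  nsys : ∀ (Ω : Type u) [Group Ω] (S : Subgroup Ω) [Finite S], IsPGroup p S → ∀ F : FusionSystem S,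
    F.IsSaturated p → Inv Ω S F → ∀ U : Subgroup Ω, F.IsFullyNormalized U →
      ∀ E : FusionSystem (normalizerIn S U), F.IsNormalizerSystem U E → Inv Ω (normalizerIn S U) E
  quot : ∀ (Ω : Type u) [Group Ω] (T : Subgroup Ω) [Finite T], IsPGroup p T → ∀ E : FusionSystem T,
    E.IsSaturated p → Inv Ω T E → ∀ U : Subgroup Ω, E.IsNormal U → ∀ [(U.subgroupOf T).Normal]
      (E' : FusionSystem (⊤ : Subgroup (↥T ⧸ U.subgroupOf T))),
      E.IsFactorSystem U (QuotientGroup.mk' (U.subgroupOf T)) E' → Inv (↥T ⧸ U.subgroupOf T) ⊤ E'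
  model : ∀ (Ω : Type u) [Group Ω] (S : Subgroup Ω) [Finite S], IsPGroup p S → ∀ F : FusionSystem S,
    F.IsSaturated p → Inv Ω S F → ∀ R : Subgroup Ω, F.IsNormal R → F.IsCentric R → NonInner p F →
      Concl 𝒩 𝒞 𝒜 p F

theorem concl_exists_bad
    {𝒩 𝒞 𝒜 : ∀ (Ω : Type u) [Group Ω], Subgroup Ω → Set (Subgroup Ω)} {p : ℕ} [Fact p.Prime]
    (hchar : ∀ (Ω : Type u) [Group Ω] (S : Subgroup Ω) [Finite S], IsPGroup p S → S ≠ ⊥ →
      ∀ V, (V ∈ 𝒩 Ω S ∨ V ∈ 𝒞 Ω S ∨ V ∈ 𝒜 Ω S) → V ≠ ⊥ ∧ V ≤ S ∧ (V.subgroupOf S).Characteristic)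
    {Ω : Type u} [Group Ω] {S : Subgroup Ω} [Finite S]
    (hS : IsPGroup p S) (hS1 : S ≠ ⊥) {F : FusionSystem S} (h : Concl 𝒩 𝒞 𝒜 p F) :
    ∃ V : Subgroup Ω, V ≠ ⊥ ∧ V ≤ S ∧ (V.subgroupOf S).Characteristic ∧ Bad p F V := by
  rcases h with ⟨V, hV, hb⟩ | ⟨V, hV, hb⟩ | ⟨V, hV, hb⟩
  · obtain ⟨h1, h2, h3⟩ := hchar Ω S hS hS1 V (Or.inl hV)
    exact ⟨V, h1, h2, h3, hb⟩
  · obtain ⟨h1, h2, h3⟩ := hchar Ω S hS hS1 V (Or.inr (Or.inl hV))
    exact ⟨V, h1, h2, h3, hb.bad⟩
  · obtain ⟨h1, h2, h3⟩ := hchar Ω S hS hS1 V (Or.inr (Or.inr hV))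
    exact ⟨V, h1, h2, h3, bad_of_not_isPGroup h2 hb⟩

variable {Inv : ∀ (Ω : Type u) [Group Ω] (S : Subgroup Ω), FusionSystem S → Prop}
  {𝒩 𝒞 𝒜 : ∀ (Ω : Type u) [Group Ω], Subgroup Ω → Set (Subgroup Ω)} {p : ℕ} [Fact p.Prime]

theorem altInv_aux (hgood : GoodInv Inv 𝒩 𝒞 𝒜 p) : ∀ (n : ℕ) (Ω : Type u) [Group Ω] (S : Subgroup Ω)
    [Finite S], Nat.card S = n → IsPGroup p S → ∀ F : FusionSystem S, F.IsSaturated p → Inv Ω S F →
      NonInner p F → Concl 𝒩 𝒞 𝒜 p F := by
  intro n
  induction n using Nat.strong_induction_on with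
  | _ n IH =>
  intro Ω _ S _ hn hS F hF hInv hNI
  -- the extremal choice
  have hfin : {U : Subgroup Ω | U ≠ ⊥ ∧ F.IsFullyNormalized U ∧ Bad p F U}.Finite :=
    (finite_setOf_le S).subset (fun U hU => hU.2.1.1)
  have hne : {U : Subgroup Ω | U ≠ ⊥ ∧ F.IsFullyNormalized U ∧ Bad p F U}.Nonempty := by
    obtain ⟨R, hR1, hRb⟩ := hNI.bad
    have hRS : R ≤ S := by
      obtain ⟨P, α, hRP, -, hα, -⟩ := hRb
      exact hRP.trans hα.le_left
    obtain ⟨R', hc, hfn⟩ := exists_fullyNormalized_conj F hRS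
    exact ⟨R', ne_bot_of_isConj hc hR1, hfn, Bad.transport hS hF hfn hc hRb⟩
  obtain ⟨U, ⟨hU1, hUfn, hUb⟩, hmax⟩ := Set.exists_max_image _
    (fun U : Subgroup Ω => Nat.card (normalizerIn S U) * (Nat.card S + 1) + Nat.card U) hfin hne
  have hUS : U ≤ S := hUfn.1
  have hcardle : ∀ V : Subgroup Ω, V ≤ S → Nat.card V ≤ Nat.card S := fun V hV =>
    Subgroup.card_le_of_le hV
  have hmax1 : ∀ U' : Subgroup Ω, U' ≠ ⊥ → F.IsFullyNormalized U' → Bad p F U' →
      Nat.card (normalizerIn S U') ≤ Nat.card (normalizerIn S U) := by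
    intro U' h1 h2 h3
    have h4 : Nat.card (normalizerIn S U') * (Nat.card S + 1) + Nat.card U' ≤
        Nat.card (normalizerIn S U) * (Nat.card S + 1) + Nat.card U := hmax U' ⟨h1, h2, h3⟩
    by_contra hlt
    push Not at hlt
    have h5 := hcardle U hUS
    have h6 : (Nat.card (normalizerIn S U) + 1) * (Nat.card S + 1) ≤
        Nat.card (normalizerIn S U') * (Nat.card S + 1) := Nat.mul_le_mul_right _ hlt
    have h7 : (Nat.card (normalizerIn S U) + 1) * (Nat.card S + 1) =
        Nat.card (normalizerIn S U) * (Nat.card S + 1) + (Nat.card S + 1) := by ring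
    generalize Nat.card (normalizerIn S U') * (Nat.card S + 1) = a at h4 h6
    generalize Nat.card (normalizerIn S U) * (Nat.card S + 1) = b at h4 h7
    generalize (Nat.card (normalizerIn S U) + 1) * (Nat.card S + 1) = c at h6 h7
    omega
  have hmax2 : ∀ U' : Subgroup Ω, U' ≠ ⊥ → F.IsFullyNormalized U' → Bad p F U' →
      Nat.card (normalizerIn S U') = Nat.card (normalizerIn S U) → Nat.card U' ≤ Nat.card U := by
    intro U' h1 h2 h3 h4
    have h5 : Nat.card (normalizerIn S U') * (Nat.card S + 1) + Nat.card U' ≤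
        Nat.card (normalizerIn S U) * (Nat.card S + 1) + Nat.card U := hmax U' ⟨h1, h2, h3⟩
    rw [h4] at h5
    exact Nat.le_of_add_le_add_left h5
  -- the normalizer system
  have hTS : normalizerIn S U ≤ S := inf_le_left
  haveI : Finite ↥(normalizerIn S U) :=
    Finite.of_injective (Subgroup.inclusion hTS) (Subgroup.inclusion_injective hTS)
  have hTp : IsPGroup p ↥(normalizerIn S U) :=
    hS.of_injective (Subgroup.inclusion hTS) (Subgroup.inclusion_injective hTS)
  obtain ⟨E, hE⟩ : ∃ E : FusionSystem (normalizerIn S U), F.IsNormalizerSystem U E :=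
    ⟨nsys F U hUS, nsys_spec F U hUS⟩
  have hEsat : E.IsSaturated p := normalizerSystem_saturated hS hF hUfn E hE
  have hEF : ∀ P : Subgroup Ω, E.Hom P ⊆ F.Hom P := normalizerSystem_hom_subset hE
  have hEb : Bad p E U := hUb.to_nsys hUS hE
  have hEn : E.IsNormal U := normalizerSystem_isNormal hUS hE
  have hEinv : Inv Ω (normalizerIn S U) E := hgood.nsys Ω S hS F hF hInv U hUfn E hE
  by_cases hT : normalizerIn S U = S
  · -- `U` is normal in `S`
    have h5a : ∀ V : Subgroup Ω, V ≤ S → normalizerIn S V = S → V ≠ ⊥ → Bad p F V →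
        Nat.card V ≤ Nat.card U := by
      intro V hVS hV hV1 hVb
      apply hmax2 V hV1 (isFullyNormalized_of_normal F hVS hV) hVb
      rw [hV, hT]
    by_cases hcen : centralizerIn S U ≤ U
    · -- constrained: use the model
      have hUc : E.IsCentric U := by
        refine ⟨le_normalizerIn hUS, fun Q hQ => ?_⟩
        have hQU : Q = U := weaklyClosed_eq_of_isConj (normal_weaklyClosed hEn) hQ
        rw [hQU]
        intro x hx
        exact hcen ⟨hTS hx.1, hx.2⟩
      exact Concl.of_nsys hT hEF (hgood.model Ω _ hTp E hEsat hEinv U hEn hUc hEb.nonInner)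
    · -- not constrained: pass to the quotient
      exfalso
      have hRS : U ⊔ centralizerIn S U ≤ S := sup_le hUS (centralizerIn_le_S S U)
      have hUR : U < U ⊔ centralizerIn S U := by
        refine lt_of_le_of_ne le_sup_left (fun h => hcen ?_)
        exact le_sup_right.trans (le_of_eq h.symm)
      have hcardlt : ∀ V : Subgroup Ω, V ≤ S → U < V → Nat.card U < Nat.card V := by
        intro V hVS hUV
        haveI : Finite ↥V := Finite.of_injective (Subgroup.inclusion hVS) (Subgroup.inclusion_injective hVS)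
        refine lt_of_le_of_ne (Subgroup.card_le_of_le hUV.le) (fun heq => hUV.ne ?_)
        exact Subgroup.eq_of_le_of_card_ge hUV.le heq.ge
      -- automorphisms of order prime to `p` are trivial on `U`
      obtain ⟨P, α, hUP, hPN, hαE, hαU, h1, h2⟩ := hEb
      have hfix : ∀ x : P, (x : Ω) ∈ U → α x = x := by
        intro x hx
        by_contra hne'
        have hbad := bad_sup_centralizer hS hF hUfn hUP (hEF P hαE) hαU h2 ⟨x, hx, hne'⟩
        have h3 := h5a _ hRS (normalizerIn_sup_centralizerIn hUS hT) (ne_bot_of_gt hUR) hbad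
        have h4 := hcardlt _ hRS hUR
        exact absurd h3 (not_le.mpr h4)
      -- the factor system
      have hUsc : E.StronglyClosed U := normal_stronglyClosed hEn
      haveI : (U.subgroupOf (normalizerIn S U)).Normal :=
        Subgroup.normal_subgroupOf_of_le_normalizer inf_le_right
      obtain ⟨E', hfac⟩ := Cfsg.Agent.S5132.result p hTp E U hUsc
      have hsm := Cfsg.Agent.S5134.result p hTp E hEsat U hUsc _ E' hfac
      have hE'sat : E'.IsSaturated p := Cfsg.Agent.S5133.result p hTp E hEsat E' _ hsm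
      have hNI' : NonInner p E' := nonInner_factor hTp hEsat hUsc hfac hUP hαE hfix h1 h2
      haveI : Finite ↥(⊤ : Subgroup (↥(normalizerIn S U) ⧸ U.subgroupOf (normalizerIn S U))) :=
        inferInstance
      have hp' : IsPGroup p ↥(⊤ : Subgroup (↥(normalizerIn S U) ⧸ U.subgroupOf (normalizerIn S U))) :=
        (hTp.to_quotient _).to_subgroup _
      have hcard' : Nat.card ↥(⊤ : Subgroup (↥(normalizerIn S U) ⧸ U.subgroupOf (normalizerIn S U))) < n := by
        rw [Subgroup.card_top, ← hn]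
        have h3 := Subgroup.card_eq_card_quotient_mul_card_subgroup (U.subgroupOf (normalizerIn S U))
        have h4 : Nat.card (U.subgroupOf (normalizerIn S U)) = Nat.card U :=
          Nat.card_congr (Subgroup.subgroupOfEquivOfLe (le_normalizerIn hUS)).toEquiv
        have h5 : 1 < Nat.card U := by
          haveI : Finite ↥U := Finite.of_injective (Subgroup.inclusion hUS) (Subgroup.inclusion_injective hUS)
          rw [Subgroup.one_lt_card_iff_ne_bot]
          exact hU1
        have h6 : Nat.card ↥(normalizerIn S U) = Nat.card S := by rw [hT]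
        rw [h4, h6] at h3
        have h7 : 0 < Nat.card (↥(normalizerIn S U) ⧸ U.subgroupOf (normalizerIn S U)) := Nat.card_pos
        nlinarith
      have hE'inv := hgood.quot Ω _ hTp E hEsat hEinv U hEn E' hfac
      have hconcl := IH _ hcard' _ ⊤ rfl hp' E' hE'sat hE'inv hNI'
      obtain ⟨V', hV'1, hV'le, hV'char, hV'b⟩ :=
        concl_exists_bad hgood.char hp' (ne_bot_of_nonInner hNI') hconcl
      have hVb : Bad p F (preimageAlong (QuotientGroup.mk' (U.subgroupOf (normalizerIn S U))) V') :=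
        (bad_preimage hTp hEsat hUsc hfac hV'b).of_le hTS hEF
      obtain ⟨hUT, hker, hrange, -⟩ := hfac
      haveI : Finite ↥V' := Finite.of_injective (Subgroup.inclusion hV'le) (Subgroup.inclusion_injective hV'le)
      have hV'n : (⊤ : Subgroup (↥(normalizerIn S U) ⧸ U.subgroupOf (normalizerIn S U))) ≤
          Subgroup.normalizer (V' : Set (↥(normalizerIn S U) ⧸ U.subgroupOf (normalizerIn S U))) := by
        have h3 := normalizerIn_eq_of_char hV'le hV'char
        intro x hx
        have h4 : x ∈ normalizerIn ⊤ V' := by rw [h3]; exact hx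
        exact h4.2
      have hVn := preimage_normalizer hrange hV'n
      have hVT : preimageAlong (QuotientGroup.mk' (U.subgroupOf (normalizerIn S U))) V' ≤
          normalizerIn S U := preimageAlong_le _ _
      have hVS : preimageAlong (QuotientGroup.mk' (U.subgroupOf (normalizerIn S U))) V' ≤ S :=
        hVT.trans hTS
      have hVn' : normalizerIn S (preimageAlong (QuotientGroup.mk' (U.subgroupOf (normalizerIn S U))) V') = S := by
        apply le_antisymm inf_le_left
        intro x hx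
        have hx' : x ∈ normalizerIn S U := by rw [hT]; exact hx
        rw [← hVn] at hx'
        exact ⟨hx, hx'.2⟩
      have hUV := lt_preimage hUT hker hrange hV'le hV'1
      have h3 := h5a _ hVS hVn' (ne_bot_of_gt hUV) hVb
      have h4 := hcardlt _ hVS hUV
      exact absurd h3 (not_le.mpr h4)
  · -- `N_S(U) < S`: induction
    exfalso
    have hTlt : normalizerIn S U < S := lt_of_le_of_ne hTS hT
    have hcardT : Nat.card ↥(normalizerIn S U) < n := by
      rw [← hn]
      refine lt_of_le_of_ne (Subgroup.card_le_of_le hTS) (fun heq => hT ?_)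
      exact Subgroup.eq_of_le_of_card_ge hTS heq.ge
    have hconcl := IH _ hcardT Ω _ rfl hTp E hEsat hEinv hEb.nonInner
    obtain ⟨V, hV1, hVT, hVchar, hVb⟩ := concl_exists_bad hgood.char hTp (ne_bot_of_nonInner hEb.nonInner) hconcl
    have hVbF : Bad p F V := hVb.of_le hTS hEF
    have hVS : V ≤ S := hVT.trans hTS
    haveI : Finite ↥V := Finite.of_injective (Subgroup.inclusion hVS) (Subgroup.inclusion_injective hVS)
    have h3 : normalizerIn S (normalizerIn S U) ≤ normalizerIn S V := normalizerIn_le_of_char hVT hVchar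
    have h4 := card_lt_card_normalizerIn hS hTlt
    obtain ⟨V', hc, hfn⟩ := exists_fullyNormalized_conj F hVS
    have h5 := hmax1 V' (ne_bot_of_isConj hc hV1) hfn (hVbF.transport hS hF hfn hc)
    have h6 := hfn.2 V (isConj_symm F hc)
    have hNVS : normalizerIn S V ≤ S := inf_le_left
    haveI : Finite ↥(normalizerIn S V) :=
      Finite.of_injective (Subgroup.inclusion hNVS) (Subgroup.inclusion_injective hNVS)
    have h7 := Subgroup.card_le_of_le h3
    exact absurd (h4.trans_le (h7.trans (h6.trans h5))) (lt_irrefl _)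

/-- **Local-to-global theorem with an invariant.** -/
theorem altInv (hgood : GoodInv Inv 𝒩 𝒞 𝒜 p) {Ω : Type u} [Group Ω] {S : Subgroup Ω} [Finite S]
    (hS : IsPGroup p S) {F : FusionSystem S} (hF : F.IsSaturated p) (hInv : Inv Ω S F)
    (hNI : NonInner p F) : Concl 𝒩 𝒞 𝒜 p F :=
  altInv_aux hgood _ Ω S rfl hS F hF hInv hNI

end Cfsg.Agent.Lib.Helper18.FusFree
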