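import Mathlib
import Cfsg.Prelude.Def_FusionComponents
import Cfsg.Prelude.Def_PLocal
import Cfsg.Agent.Lib.Helper27.FusionSat
import Cfsg.Agent.Lib.Helper27.FusionAlperin
import Cfsg.Agent.Lib.Helper27.FusionFrobenius
import Cfsg.Agent.Lib.Helper27.FusionNormal
import Cfsg.Agent.Lib.Helper27.FusionLift
import Cfsg.Agent.H26.MorphismSat
import Cfsg.Agent.H5.ZJBridge
import Cfsg.Agent.H5.ZJMap

set_option autoImplicit false

/-!
# "Bad" subgroups of a fusion system

`Bad p F U`: some automorphism (in `F`) of a subgroup `P` with `U ≤ P ≤ N_S(U)` normalizes `U` and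
is not a `p`-element.  A saturated system which is not inner has a nontrivial bad subgroup; badness
is transported to fully normalized conjugates, to normalizer systems, up from subsystems, and back
along surjective morphisms of fusion systems.
-/

namespace Cfsg.Agent.Lib.Helper18.FusRed

open Cfsg Cfsg.FusionSystem Cfsg.Agent.Lib.Helper27 Cfsg.Agent.H26

variable {Ω : Type*} [Group Ω] {S : Subgroup Ω}

/-- Some automorphism in `F` of a subgroup `P`, `U ≤ P ≤ N_S(U)`, normalizes `U` and is not a `p`-element. -/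
def Bad (p : ℕ) (F : FusionSystem S) (U : Subgroup Ω) : Prop :=
  ∃ (P : Subgroup Ω) (β : P ≃* P), U ≤ P ∧ P ≤ normalizerIn S U ∧ IsIso F β ∧
    (∀ x : P, (x : Ω) ∈ U → ((β x : P) : Ω) ∈ U) ∧ ∀ k : ℕ, (β : MulAut P) ^ p ^ k ≠ 1

theorem pow_apply_of_conj {P : Subgroup Ω} (β : P ≃* P) (g : Ω)
    (h : ∀ x : P, ((β x : P) : Ω) = g * x * g⁻¹) (k : ℕ) (x : P) :
    ((((β : MulAut P) ^ k) x : P) : Ω) = g ^ k * x * (g ^ k)⁻¹ := by
  induction k generalizing x with
  | zero => simp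
  | succ k ih =>
    rw [pow_succ', MulAut.mul_apply]
    have h1 := h (((β : MulAut P) ^ k) x)
    rw [show ((β : MulAut P) (((β : MulAut P) ^ k) x)) = β (((β : MulAut P) ^ k) x) from rfl, h1, ih x,
      pow_succ']
    group

theorem not_bad_of_inner [Finite S] {p : ℕ} [Fact p.Prime] (hS : IsPGroup p S) {F : FusionSystem S}
    (h : ∀ P : Subgroup Ω, F.Hom P = (innerFusionSystem S).Hom P) (U : Subgroup Ω) : ¬ Bad p F U := by
  rintro ⟨P, β, -, -, hβ, -, hk⟩
  have h1 : P.subtype.comp β.toMonoidHom ∈ (innerFusionSystem S).Hom P := by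
    rw [← h P]; exact hβ
  obtain ⟨-, g, hg, hgx⟩ := h1
  obtain ⟨n, hn⟩ := IsPGroup.iff_card.mp hS
  have hgn : g ^ p ^ n = 1 := by
    have h2 : (⟨g, hg⟩ : S) ^ p ^ n = 1 := by
      rw [← hn]; exact pow_card_eq_one'
    exact congrArg Subtype.val h2
  apply hk n
  ext x
  rw [pow_apply_of_conj β g (fun x => hgx x) (p ^ n) x, hgn]
  simp

theorem exists_bad_of_not_inner [Finite S] {p : ℕ} [Fact p.Prime] (hS : IsPGroup p S) {F : FusionSystem S}
    (hF : F.IsSaturated p) (hni : ¬ ∀ P : Subgroup Ω, F.Hom P = (innerFusionSystem S).Hom P) :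
    ∃ R : Subgroup Ω, R ≠ ⊥ ∧ Bad p F R := by
  by_contra hcon
  push Not at hcon
  apply hni
  apply hom_eq_inner_of_autGroup_isPGroup hS hF
  intro R hR
  by_contra hnp
  unfold IsPGroup at hnp
  push Not at hnp
  obtain ⟨g, hg⟩ := hnp
  by_cases hR1 : R = ⊥
  · subst hR1
    apply hg 0
    apply Subtype.ext
    ext x
    have hx : x = 1 := Subsingleton.elim _ _
    rw [hx]
    simp
  · refine hcon R hR1 ⟨R, g.1, le_rfl, le_normalizerIn hR, (mem_autGroup_iff F hR g.1).mp g.2,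
      fun x _ => (g.1 x).2, fun k hk => hg k ?_⟩
    apply Subtype.ext
    rw [Subgroup.coe_pow]
    exact hk

theorem bad_of_subsystem {p : ℕ} {T : Subgroup Ω} {N : FusionSystem T} {F : FusionSystem S} (hTS : T ≤ S)
    (hNF : ∀ P : Subgroup Ω, N.Hom P ⊆ F.Hom P) {U : Subgroup Ω} (h : Bad p N U) : Bad p F U := by
  obtain ⟨P, β, hUP, hPN, hβ, hβU, hk⟩ := h
  refine ⟨P, β, hUP, hPN.trans (inf_le_inf_right _ hTS), ?_, hβU, hk⟩
  unfold IsIso at hβ ⊢
  exact hNF P hβ

theorem bad_bot_of_bad {p : ℕ} {F : FusionSystem S} {U : Subgroup Ω} (h : Bad p F U) : Bad p F ⊥ := by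
  obtain ⟨P, β, -, hPN, hβ, -, hk⟩ := h
  refine ⟨P, β, bot_le, ?_, hβ, ?_, hk⟩
  · intro x hx
    refine ⟨(hPN hx).1, ?_⟩
    show x ∈ Subgroup.normalizer ((⊥ : Subgroup Ω) : Set Ω)
    rw [Subgroup.mem_normalizer_iff]
    intro y
    rw [Subgroup.mem_bot, Subgroup.mem_bot]
    constructor
    · rintro rfl; simp
    · intro hy
      have : y = x⁻¹ * (x * y * x⁻¹) * x := by group
      rw [this, hy]; simp
  · intro x hx
    rw [Subgroup.mem_bot] at hx ⊢
    have hx1 : x = 1 := Subtype.ext hx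
    rw [hx1, map_one]
    rfl

theorem bad_normalizerSystem [Finite S] {p : ℕ} {F : FusionSystem S} {U : Subgroup Ω} (hU : U ≤ S)
    {N : FusionSystem (normalizerIn S U)} (hN : F.IsNormalizerSystem U N) (h : Bad p F U) : Bad p N U := by
  obtain ⟨P, β, hUP, hPN, hβ, hβU, hk⟩ := h
  have : Finite U := Finite.of_injective (Subgroup.inclusion hU) (Subgroup.inclusion_injective hU)
  refine ⟨P, β, hUP, ?_, ?_, hβU, hk⟩
  · intro x hx
    exact ⟨hPN hx, (hPN hx).2⟩
  · unfold IsIso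
    rw [hN P]
    refine ⟨hβ, hPN, fun x => hPN (β x).2, ?_⟩
    have hle : P ⊔ U ≤ P := sup_le le_rfl hUP
    refine ⟨(P.subtype.comp β.toMonoidHom).comp (Subgroup.inclusion hle), hom_restrict F hle hβ,
      fun x => rfl, ?_⟩
    have hsub : (U.subgroupOf (P ⊔ U)).map ((P.subtype.comp β.toMonoidHom).comp (Subgroup.inclusion hle)) ≤ U := by
      rintro _ ⟨y, hy, rfl⟩
      exact hβU _ (Subgroup.mem_subgroupOf.mp hy)
    apply Subgroup.eq_of_le_of_card_ge hsub
    have hinj : Function.Injective ((P.subtype.comp β.toMonoidHom).comp (Subgroup.inclusion hle)) := by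
      intro a b hab
      have h1 : β (Subgroup.inclusion hle a) = β (Subgroup.inclusion hle b) := Subtype.ext hab
      exact Subgroup.inclusion_injective hle (β.injective h1)
    rw [Subgroup.card_map_of_injective hinj]
    exact (Nat.card_congr (Subgroup.subgroupOfEquivOfLe (le_sup_right : U ≤ P ⊔ U)).toEquiv).ge

theorem bad_fullyNormalized [Finite S] {p : ℕ} [Fact p.Prime] (hS : IsPGroup p S) {F : FusionSystem S}
    (hF : F.IsSaturated p) {U : Subgroup Ω} (hU1 : U ≠ ⊥) (h : Bad p F U) :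
    ∃ V : Subgroup Ω, V ≠ ⊥ ∧ F.IsFullyNormalized V ∧ Bad p F V ∧
      Nat.card (normalizerIn S U) ≤ Nat.card (normalizerIn S V) := by
  obtain ⟨P, β, hUP, hPN, hβ, hβU, hk⟩ := h
  have hUS : U ≤ S := hUP.trans (hPN.trans inf_le_left)
  obtain ⟨V, hUV, hfn⟩ := exists_fullyNormalized_conj F hUS
  obtain ⟨φ, hφ, χ, hχ, hφχ⟩ := exists_hom_normalizerIn_of_fullyNormalized hS hF hfn hUV
  have hVS : V ≤ S := hfn.1
  have : Finite V := Finite.of_injective (Subgroup.inclusion hVS) (Subgroup.inclusion_injective hVS)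
  have hφχ' : ∀ x : U, φ ⟨x, le_normalizerIn hUS x.2⟩ = χ x := fun x => hφχ x x.2 _
  have hφN : ∀ n : normalizerIn S U, φ n ∈ normalizerIn S V :=
    hom_normalizerIn_mem_normalizerIn hUS hφ hφχ'
  have hφinj : Function.Injective φ := F.injective_of_mem hφ
  set ψ : P →* Ω := φ.comp (Subgroup.inclusion hPN) with hψdef
  have hψ : ψ ∈ F.Hom P := hom_restrict F hPN hφ
  obtain ⟨e, he, hev⟩ := exists_isIso_of_hom F hψ rfl
  -- elements of `V` come from `U`
  have hVfrom : ∀ y ∈ V, ∃ u : U, φ ⟨u, le_normalizerIn hUS u.2⟩ = y := by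
    intro y hy
    refine ⟨χ.symm ⟨y, hy⟩, ?_⟩
    rw [hφχ']
    simp
  refine ⟨V, ?_, hfn, ⟨ψ.range, MulAut.congr e β, ?_, ?_, ?_, ?_, ?_⟩, hfn.2 U (isConj_symm F hUV)⟩
  · obtain ⟨u, hu1⟩ := (Subgroup.ne_bot_iff_exists_ne_one).mp hU1
    intro hV
    have h1 : ((χ u : V) : Ω) ∈ (⊥ : Subgroup Ω) := hV ▸ (χ u).2
    rw [Subgroup.mem_bot] at h1
    have h2 : χ u = 1 := Subtype.ext h1
    have h3 : u = 1 := by
      have := χ.injective (h2.trans (map_one χ).symm)
      exact this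
    exact hu1 h3
  · intro y hy
    obtain ⟨u, hu⟩ := hVfrom y hy
    exact ⟨⟨u, hUP u.2⟩, hu⟩
  · rintro _ ⟨x, rfl⟩
    exact hφN _
  · exact (isIso_congr he β).mpr hβ
  · intro z hz
    have hz' : (MulAut.congr e β) z = e (β (e.symm z)) := rfl
    rw [hz']
    set x : P := e.symm z with hx
    have hex : ((e x : ψ.range) : Ω) = z := by rw [hx]; simp
    obtain ⟨u, hu⟩ := hVfrom _ hz
    have h1 : φ (Subgroup.inclusion hPN x) = φ ⟨u, le_normalizerIn hUS u.2⟩ := by
      rw [hu, ← hex, hev]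
      rfl
    have h2 := hφinj h1
    have hxU : (x : Ω) ∈ U := by
      have : ((Subgroup.inclusion hPN x : normalizerIn S U) : Ω) = u := congrArg Subtype.val h2
      rw [show (x : Ω) = ((Subgroup.inclusion hPN x : normalizerIn S U) : Ω) from rfl, this]
      exact u.2
    have hβx : ((β x : P) : Ω) ∈ U := hβU x hxU
    rw [hev]
    show φ (Subgroup.inclusion hPN (β x)) ∈ V
    have h3 : (Subgroup.inclusion hPN (β x) : normalizerIn S U) = ⟨((β x : P) : Ω), le_normalizerIn hUS hβx⟩ :=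
      Subtype.ext rfl
    rw [h3, hφχ' ⟨_, hβx⟩]
    exact (χ _).2
  · intro k hk'
    apply hk k
    have h1 : MulAut.congr e ((β : MulAut P) ^ p ^ k) = MulAut.congr e 1 := by
      rw [map_pow, map_one]; exact hk'
    exact (MulAut.congr e).injective h1

/-- Badness is pulled back along a surjective morphism of fusion systems. -/
theorem bad_preimage [Finite S] {p : ℕ} {F : FusionSystem S} {Ω' : Type*} [Group Ω'] {S' : Subgroup Ω'}
    {F' : FusionSystem S'} {θ : S →* Ω'} (hθ : F.IsSurjectiveMorphism F' θ) {V' : Subgroup Ω'}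
    (h : Bad p F' V') : Bad p F (preimageAlong θ V') := by
  obtain ⟨P', β', hV'P', hP'N, hβ', hβ'V, hk⟩ := h
  have hP'S' : P' ≤ S' := hP'N.trans inf_le_left
  have hP'r : P' ≤ θ.range := hθ.2.1 ▸ hP'S'
  obtain ⟨β, hβ, hind⟩ := exists_indAut_of_mem' hθ hP'S' ((mem_autGroup_iff F' hP'S' β').mpr hβ')
  have hVS : preimageAlong θ V' ≤ S := preimageAlong_le θ V'
  have : Finite ↥(preimageAlong θ V') :=
    Finite.of_injective (Subgroup.inclusion hVS) (Subgroup.inclusion_injective hVS)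
  refine ⟨preimageAlong θ P', β, preimageAlong_mono θ hV'P', ?_,
    (mem_autGroup_iff F (preimageAlong_le θ P') β).mp hβ, ?_, ?_⟩
  · intro x hx
    obtain ⟨hxS, hxP'⟩ := mem_preimageAlong.mp hx
    refine ⟨hxS, mem_normalizer_of_conj_mem (fun v hv => ?_)⟩
    obtain ⟨hvS, hvV'⟩ := mem_preimageAlong.mp hv
    refine mem_preimageAlong.mpr ⟨S.mul_mem (S.mul_mem hxS hvS) (S.inv_mem hxS), ?_⟩
    have h1 : (⟨x * v * x⁻¹, S.mul_mem (S.mul_mem hxS hvS) (S.inv_mem hxS)⟩ : S) =
        ⟨x, hxS⟩ * ⟨v, hvS⟩ * ⟨x, hxS⟩⁻¹ := Subtype.ext rfl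
    rw [h1, map_mul, map_mul, map_inv]
    have hn : θ ⟨x, hxS⟩ ∈ Subgroup.normalizer (V' : Set Ω') := (hP'N hxP').2
    exact (Subgroup.mem_normalizer_iff.mp hn _).mp hvV'
  · intro x hx
    obtain ⟨hxS, hxV'⟩ := mem_preimageAlong.mp hx
    have h1 : ((projAlong θ P' x : P') : Ω') ∈ V' := by
      rw [projAlong_coe]; exact hxV'
    have h2 := hβ'V _ h1
    have h3 : β' (projAlong θ P' x) = projAlong θ P' (β x) := hind x
    rw [h3, projAlong_coe] at h2
    exact mem_preimageAlong.mpr ⟨_, h2⟩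
  · intro k hk'
    apply hk k
    have hpow : ∀ m : ℕ, IndAut θ P' (β ^ m) ((β' : MulAut P') ^ m) := by
      intro m
      induction m with
      | zero => rw [pow_zero, pow_zero]; exact IndAut.one
      | succ m ih => rw [pow_succ, pow_succ]; exact IndAut.mul ih hind
    have h1 := hpow (p ^ k)
    rw [hk'] at h1
    exact IndAut.unique hP'r h1 IndAut.one

section ZJ

open Cfsg.H5.ZJ

/-- An automorphism of `P` mapping the finite subgroup `D ≤ P` into itself maps `Z(J(D))` into itself. -/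
theorem aut_mem_centerThompsonAOf {P : Subgroup Ω} (β : P ≃* P) {D : Subgroup Ω} [Finite D] (hDP : D ≤ P)
    (hβD : ∀ x : P, (x : Ω) ∈ D → ((β x : P) : Ω) ∈ D) (x : P) (hx : (x : Ω) ∈ Cfsg.centerThompsonAOf D) :
    ((β x : P) : Ω) ∈ Cfsg.centerThompsonAOf D := by
  rw [centerThompsonAOf_eq] at hx ⊢
  have hinjP : (D.subgroupOf P) ⊓ P.subtype.ker = ⊥ := by
    rw [Subgroup.ker_subtype, inf_bot_eq]
  have hmapD : (D.subgroupOf P).map P.subtype = D := Subgroup.map_subgroupOf_eq_of_le hDP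
  have hZ : (Z 0 (D.subgroupOf P)).map P.subtype = Z 0 D := by
    rw [Z_map_hom hinjP, hmapD]
  have : Finite ↥(D.subgroupOf P) :=
    Finite.of_injective (Subgroup.subgroupOfEquivOfLe hDP) (Subgroup.subgroupOfEquivOfLe hDP).injective
  have hβmap : (D.subgroupOf P).map β.toMonoidHom = D.subgroupOf P := by
    have hle : (D.subgroupOf P).map β.toMonoidHom ≤ D.subgroupOf P := by
      rintro _ ⟨y, hy, rfl⟩
      exact Subgroup.mem_subgroupOf.mpr (hβD y (Subgroup.mem_subgroupOf.mp hy))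
    apply Subgroup.eq_of_le_of_card_ge hle
    rw [Subgroup.card_map_of_injective β.injective]
  have hZβ : (Z 0 (D.subgroupOf P)).map β.toMonoidHom = Z 0 (D.subgroupOf P) := by
    rw [Z_map, hβmap]
  rw [← hZ] at hx ⊢
  obtain ⟨x', hx', hxx'⟩ := hx
  have hxe : x' = x := Subtype.ext hxx'
  subst hxe
  refine ⟨β x', ?_, rfl⟩
  rw [← hZβ]
  exact ⟨x', hx', rfl⟩

theorem normalizer_le_normalizer_centerThompsonAOf (D : Subgroup Ω) :
    Subgroup.normalizer (D : Set Ω) ≤ Subgroup.normalizer (Cfsg.centerThompsonAOf D : Set Ω) := by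
  rw [centerThompsonAOf_eq]
  exact normalizer_le_normalizer_Z D

theorem centerThompsonAOf_le (D : Subgroup Ω) : Cfsg.centerThompsonAOf D ≤ D := by
  rw [centerThompsonAOf_eq]
  exact Z_le

/-- `Z(J(·))` commutes with an injective homomorphism defined on `T`. -/
theorem centerThompsonAOf_map_injective {G : Type*} [Group G] {T : Subgroup Ω} (ι : T →* G)
    (hinj : Function.Injective ι) {D : Subgroup Ω} (hDT : D ≤ T) :
    Cfsg.centerThompsonAOf ((D.subgroupOf T).map ι) = ((Cfsg.centerThompsonAOf D).subgroupOf T).map ι := by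
  rw [centerThompsonAOf_eq, centerThompsonAOf_eq]
  have hker : ι.ker = ⊥ := (MonoidHom.ker_eq_bot_iff ι).mpr hinj
  have h1 : (D.subgroupOf T) ⊓ ι.ker = ⊥ := by rw [hker, inf_bot_eq]
  have h2 : (D.subgroupOf T) ⊓ T.subtype.ker = ⊥ := by rw [Subgroup.ker_subtype, inf_bot_eq]
  rw [← Z_map_hom h1]
  congr 1
  have h3 : (Z 0 (D.subgroupOf T)).map T.subtype = Z 0 D := by
    rw [Z_map_hom h2, Subgroup.map_subgroupOf_eq_of_le hDT]
  rw [← h3]
  ext x
  rw [Subgroup.mem_subgroupOf]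
  constructor
  · intro hx
    exact ⟨x, hx, rfl⟩
  · rintro ⟨y, hy, hyx⟩
    have : y = x := Subtype.ext hyx
    rw [← this]; exact hy

end ZJ

end Cfsg.Agent.Lib.Helper18.FusRed
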