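import Mathlib
import Cfsg.Agent.Lib.Helper18.FusFreeF
import Cfsg.Agent.Lib.Helper18.Basic
import Cfsg.Agent.H5.ModelUniq2
import Cfsg.Agent.S5191

set_option autoImplicit false

/-!
# Models as sections of realizing groups

If a finite group `K` realizes, on a Sylow subgroup, a system `E` with a normal centric subgroup `R`, then
`N_K(R) / O_{p'}(N_K(R))` is a model of `E`; hence (uniqueness of models) every model of `E` is involved in `K`.
Consequently a locally `H`-free system is `H`-free.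
-/

namespace Cfsg.Agent.Lib.Helper18.FusFree

open Cfsg Cfsg.FusionSystem Cfsg.Agent.Lib.Helper27 Cfsg.Agent.H26 Cfsg.Agent.Lib.Helper27.LG
open Cfsg.Agent.Lib.Helper1 Cfsg.Agent.Lib.Helper18

section group

variable {G : Type*} [Group G] [Finite G] {p : ℕ} [Fact p.Prime]

omit [Finite G] in
/-- A `p`-subgroup meets a subgroup of order prime to `p` trivially. -/
theorem eq_one_of_mem_pgroup_of_mem_coprime {Q X : Subgroup G} (hQ : IsPGroup p Q)
    (hX : (Nat.card X).Coprime p) {x : G} (hxQ : x ∈ Q) (hxX : x ∈ X) : x = 1 := by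
  obtain ⟨k, hk⟩ := hQ ⟨x, hxQ⟩
  have hk' : x ^ p ^ k = 1 := by simpa using congrArg Subtype.val hk
  have h2 : x ^ Nat.card X = 1 := by
    have h1 : (⟨x, hxX⟩ : X) ^ Nat.card X = 1 := pow_card_eq_one'
    have h1' := congrArg Subtype.val h1
    rw [Subgroup.coe_pow] at h1'
    exact h1'
  have h3 : x ^ (Nat.card X) ∈ (⊥ : Subgroup G) := by rw [h2]; exact Subgroup.one_mem _
  have h4 : x ^ p ^ k ∈ (⊥ : Subgroup G) := by rw [hk']; exact Subgroup.one_mem _
  exact Subgroup.mem_bot.mp (pow_mem_of_coprime ⊥ h3 h4 (Nat.Coprime.pow_right k hX))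

/-- Let `Q` be a normal `p`-subgroup of `G` containing its centralizer in a Sylow `p`-subgroup, and `X` the
largest normal subgroup of order prime to `p`. Then the image of `Q` in `G/X` contains its centralizer. -/
theorem centralizer_map_mk_le (P : Sylow p G) {Q : Subgroup G} [hQn : Q.Normal] (hQP : Q ≤ P)
    (hc : ∀ t ∈ (P : Subgroup G), t ∈ Subgroup.centralizer (Q : Set G) → t ∈ Q)
    (X : Subgroup G) [X.Normal] (hX : (Nat.card X).Coprime p)
    (hmax : ∀ N : Subgroup G, N.Normal → (Nat.card N).Coprime p → N ≤ X) :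
    Subgroup.centralizer ((Q.map (QuotientGroup.mk' X) : Subgroup (G ⧸ X)) : Set (G ⧸ X)) ≤
      Q.map (QuotientGroup.mk' X) := by
  classical
  have hQp : IsPGroup p Q := P.2.to_le hQP
  have hCn : (Subgroup.centralizer (Q : Set G)).Normal := Subgroup.normal_centralizer
  -- `p`-elements of the centralizer lie in `Q`
  have hpel : ∀ c ∈ Subgroup.centralizer (Q : Set G), (∃ k : ℕ, c ^ p ^ k = 1) → c ∈ Q := by
    rintro c hcC ⟨k, hk⟩
    have hz : IsPGroup p (Subgroup.zpowers c) := by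
      obtain ⟨m, -, hm⟩ := (Nat.dvd_prime_pow (Fact.out : p.Prime)).mp (orderOf_dvd_of_pow_eq_one hk)
      apply IsPGroup.of_card (n := m)
      rw [Nat.card_zpowers, hm]
    obtain ⟨g, -, hg⟩ := exists_conj_le_sylow_of_le P ⊤ le_top (Subgroup.zpowers c) hz le_top
    have h1 : g * c * g⁻¹ ∈ (P : Subgroup G) := hg ⟨c, Subgroup.mem_zpowers c, rfl⟩
    have h2 : g * c * g⁻¹ ∈ Subgroup.centralizer (Q : Set G) := hCn.conj_mem c hcC g
    have h3 : g * c * g⁻¹ ∈ Q := hc _ h1 h2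
    have h4 := hQn.conj_mem _ h3 g⁻¹
    have h5 : g⁻¹ * (g * c * g⁻¹) * g⁻¹⁻¹ = c := by group
    rw [h5] at h4
    exact h4
  -- a Sylow subgroup of the centralizer
  obtain ⟨PC, -⟩ := (IsPGroup.of_bot : IsPGroup p (⊥ : Subgroup ↥(Subgroup.centralizer (Q : Set G)))).exists_le_sylow
  have hPCQ : ∀ x ∈ (PC : Subgroup ↥(Subgroup.centralizer (Q : Set G))), ((x : ↥(Subgroup.centralizer (Q : Set G))) : G) ∈ Q := by
    intro x hx
    apply hpel _ x.2
    obtain ⟨k, hk⟩ := PC.2 ⟨x, hx⟩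
    refine ⟨k, ?_⟩
    have h1 := congrArg (fun w : ↥(PC : Subgroup ↥(Subgroup.centralizer (Q : Set G))) =>
      (((w : ↥(Subgroup.centralizer (Q : Set G)))) : G)) hk
    simpa using h1
  have hPC : Subgroup.normalizer ((PC : Subgroup ↥(Subgroup.centralizer (Q : Set G))) : Set ↥(Subgroup.centralizer (Q : Set G))) ≤
      Subgroup.centralizer ((PC : Subgroup ↥(Subgroup.centralizer (Q : Set G))) : Set ↥(Subgroup.centralizer (Q : Set G))) := by
    intro c _
    rw [Subgroup.mem_centralizer_iff]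
    intro x hx
    apply Subtype.ext
    exact (Subgroup.mem_centralizer_iff.mp c.2) _ (hPCQ x hx)
  -- the transfer
  obtain ⟨Y, hYdef⟩ : ∃ Y : Subgroup ↥(Subgroup.centralizer (Q : Set G)),
      Y = (MonoidHom.transferSylow PC hPC).ker := ⟨_, rfl⟩
  have hcompl : Y.IsComplement' PC := hYdef ▸ MonoidHom.ker_transferSylow_isComplement' PC hPC
  have hYcop : (Nat.card Y).Coprime p := by
    rw [hYdef]
    exact Nat.Coprime.symm ((Nat.Prime.coprime_iff_not_dvd Fact.out).mpr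
      (MonoidHom.not_dvd_card_ker_transferSylow PC hPC))
  have hp'el : ∀ c : ↥(Subgroup.centralizer (Q : Set G)), (∃ n : ℕ, n.Coprime p ∧ c ^ n = 1) → c ∈ Y := by
    rintro c ⟨n, hn, hcn⟩
    rw [hYdef, MonoidHom.mem_ker]
    apply eq_one_of_pprime PC.2 hn
    rw [← map_pow, hcn, map_one]
  have hY'n : (Y.map (Subgroup.centralizer (Q : Set G)).subtype).Normal := by
    constructor
    rintro _ ⟨y, hy, rfl⟩ g
    have hmem : g * (y : G) * g⁻¹ ∈ Subgroup.centralizer (Q : Set G) := hCn.conj_mem _ y.2 g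
    refine ⟨⟨_, hmem⟩, ?_, rfl⟩
    apply hp'el
    refine ⟨Nat.card Y, hYcop, ?_⟩
    apply Subtype.ext
    have h1 : (⟨y, hy⟩ : Y) ^ Nat.card Y = 1 := pow_card_eq_one'
    have h2 : (y : G) ^ Nat.card Y = 1 := by
      have h3 := congrArg (fun w : Y => (((w : ↥(Subgroup.centralizer (Q : Set G)))) : G)) h1
      simp only [Subgroup.coe_pow, Subgroup.coe_one] at h3
      exact h3
    show (g * (y : G) * g⁻¹) ^ Nat.card Y = 1
    rw [conj_pow, h2, mul_one, mul_inv_cancel]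
  have hY'cop : (Nat.card (Y.map (Subgroup.centralizer (Q : Set G)).subtype)).Coprime p := by
    rw [Subgroup.card_map_of_injective (Subgroup.subtype_injective _)]
    exact hYcop
  have hY'X := hmax _ hY'n hY'cop
  -- the main argument
  intro γ hγ
  obtain ⟨g, rfl⟩ := QuotientGroup.mk'_surjective X γ
  have hgC : g ∈ Subgroup.centralizer (Q : Set G) := by
    rw [Subgroup.mem_centralizer_iff]
    intro q hq
    have h1 := (Subgroup.mem_centralizer_iff.mp hγ) (QuotientGroup.mk' X q) ⟨q, hq, rfl⟩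
    rw [← map_mul, ← map_mul] at h1
    have h2 : (q * g)⁻¹ * (g * q) ∈ X := QuotientGroup.eq.mp h1
    have h3 : (q * g)⁻¹ * (g * q) ∈ Q := by
      have h4 : (q * g)⁻¹ * (g * q) = (g⁻¹ * q⁻¹ * g⁻¹⁻¹) * q := by group
      rw [h4]
      exact Q.mul_mem (hQn.conj_mem _ (Q.inv_mem hq) g⁻¹) hq
    have h4 := eq_one_of_mem_pgroup_of_mem_coprime hQp hX h3 h2
    exact inv_mul_eq_one.mp h4
  obtain ⟨⟨y, z⟩, hyz, -⟩ := (Subgroup.isComplement'_def.mp hcompl).existsUnique ⟨g, hgC⟩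
  have hg : g = ((y : ↥(Subgroup.centralizer (Q : Set G))) : G) * ((z : ↥(Subgroup.centralizer (Q : Set G))) : G) := by
    have h1 := congrArg (fun w : ↥(Subgroup.centralizer (Q : Set G)) => (w : G)) hyz
    simpa using h1.symm
  refine ⟨((z : ↥(Subgroup.centralizer (Q : Set G))) : G), hPCQ _ z.2, ?_⟩
  rw [hg, map_mul]
  have h5 : QuotientGroup.mk' X ((y : ↥(Subgroup.centralizer (Q : Set G))) : G) = 1 := by
    rw [QuotientGroup.mk'_apply, QuotientGroup.eq_one_iff]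
    exact hY'X ⟨y, y.2, rfl⟩
  rw [h5, one_mul]

end group

universe u v w

/-- A group realizing, on a Sylow subgroup, a system with a normal centric subgroup has a section which is a
model of the system. -/
theorem exists_model_quotient {Ω : Type u} [Group Ω] {T : Subgroup Ω} [Finite T] {p : ℕ} [Fact p.Prime]
    {E : FusionSystem T} {R : Subgroup Ω} (hRn : E.IsNormal R) (hRc : E.IsCentric R)
    {K : Type v} [Group K] [Finite K] {j : T →* K} (hreal : E.IsRealizedBy j) (Sy : Sylow p K)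
    (hSy : (Sy : Subgroup K) = j.range) :
    ∃ (M : Subgroup K) (X : Subgroup ↥M) (_ : X.Normal) (ι₀ : T →* ↥M ⧸ X), E.IsModel p (↥M ⧸ X) ι₀ := by
  classical
  have hinj := hreal.1
  have hRT : R ≤ T := hRn.1
  obtain ⟨Rj, hRjdef⟩ : ∃ Rj : Subgroup K, Rj = (R.subgroupOf T).map j := ⟨_, rfl⟩
  have hRjmem : ∀ y : K, y ∈ Rj ↔ ∃ r : T, (r : Ω) ∈ R ∧ j r = y := by
    intro y
    rw [hRjdef]
    constructor
    · rintro ⟨r, hr, rfl⟩
      exact ⟨r, Subgroup.mem_subgroupOf.mp hr, rfl⟩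
    · rintro ⟨r, hr, rfl⟩
      exact ⟨r, Subgroup.mem_subgroupOf.mpr hr, rfl⟩
  obtain ⟨M, hMdef⟩ : ∃ M : Subgroup K, M = Subgroup.normalizer (Rj : Set K) := ⟨_, rfl⟩
  have hjM : ∀ t : T, j t ∈ M := by
    intro t
    rw [hMdef]
    apply mem_normalizer_of_conj_mem
    intro y hy
    obtain ⟨r, hr, rfl⟩ := (hRjmem y).mp hy
    refine (hRjmem _).mpr ⟨t * r * t⁻¹, normal_conj_mem hRn t.2 hr, ?_⟩
    rw [map_mul, map_mul, map_inv]
  obtain ⟨j', hj'def⟩ : ∃ j' : T →* ↥M, j' = j.codRestrict M hjM := ⟨_, rfl⟩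
  have hj'coe : ∀ t : T, ((j' t : ↥M) : K) = j t := by
    intro t
    rw [hj'def]
    rfl
  have hj'inj : Function.Injective j' := fun a b hab => hinj (by rw [← hj'coe, ← hj'coe, hab])
  -- `M` realizes the system
  have hreal' : E.IsRealizedBy j' := by
    refine ⟨hj'inj, fun P hP φ hφ => ?_⟩
    constructor
    · intro hφE
      obtain ⟨ψ, hψ, hψφ, hψR⟩ := hRn.2 P φ hφE
      have hPRT : P ⊔ R ≤ T := sup_le hP hRT
      have hψT : ∀ x : ↥(P ⊔ R), ψ x ∈ T := fun x => (E.le_of_mem hψ).2 x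
      obtain ⟨g, hg⟩ := (hreal.2 (P ⊔ R) hPRT ψ hψT).mp hψ
      have hgM : g ∈ M := by
        rw [hMdef]
        apply mem_normalizer_of_conj_mem
        intro y hy
        obtain ⟨r, hr, rfl⟩ := (hRjmem y).mp hy
        have h1 := hg ⟨r, Subgroup.mem_sup_right hr⟩
        refine (hRjmem _).mpr ⟨⟨ψ ⟨r, Subgroup.mem_sup_right hr⟩, hψT _⟩, ?_, h1⟩
        exact (le_of_eq hψR) ⟨⟨(r : Ω), Subgroup.mem_sup_right hr⟩, Subgroup.mem_subgroupOf.mpr hr, rfl⟩
      refine ⟨⟨g, hgM⟩, fun x => ?_⟩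
      apply Subtype.ext
      rw [hj'coe]
      show j ⟨φ x, hφ x⟩ = g * ((j' ⟨x, hP x.2⟩ : ↥M) : K) * g⁻¹
      rw [hj'coe]
      have h1 := hg (Subgroup.inclusion le_sup_left x)
      have h2 : j ⟨φ x, hφ x⟩ = j ⟨ψ (Subgroup.inclusion le_sup_left x), hψT _⟩ := by
        congr 1
        exact Subtype.ext (hψφ x).symm
      exact h2.trans h1
    · rintro ⟨g, hg⟩
      apply (hreal.2 P hP φ hφ).mpr
      refine ⟨(g : K), fun x => ?_⟩
      have h1 := congrArg (fun w : ↥M => (w : K)) (hg x)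
      rw [← hj'coe, ← hj'coe]
      exact h1
  -- the Sylow subgroup of `M`
  have hSyM : (Sy : Subgroup K) ≤ M := by
    rw [hSy]
    rintro _ ⟨t, rfl⟩
    exact hjM t
  have hSyM' : ((Sy.subtype hSyM : Sylow p ↥M) : Subgroup ↥M) = j'.range := by
    ext x
    rw [Sylow.coe_subtype, Subgroup.mem_subgroupOf, hSy]
    constructor
    · rintro ⟨t, ht⟩
      exact ⟨t, Subtype.ext (by rw [hj'coe]; exact ht)⟩
    · rintro ⟨t, rfl⟩
      exact ⟨t, (hj'coe t).symm⟩
  -- the image of `R`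
  obtain ⟨Q, hQdef⟩ : ∃ Q : Subgroup ↥M, Q = (R.subgroupOf T).map j' := ⟨_, rfl⟩
  have hQmem : ∀ y : ↥M, y ∈ Q ↔ (y : K) ∈ Rj := by
    intro y
    rw [hQdef, hRjmem]
    constructor
    · rintro ⟨r, hr, rfl⟩
      exact ⟨r, Subgroup.mem_subgroupOf.mp hr, (hj'coe r).symm⟩
    · rintro ⟨r, hr, hry⟩
      exact ⟨r, Subgroup.mem_subgroupOf.mpr hr, Subtype.ext (by rw [hj'coe]; exact hry)⟩
  have hQn : Q.Normal := by
    constructor
    intro y hy g
    rw [hQmem] at hy ⊢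
    have hg : (g : K) ∈ Subgroup.normalizer (Rj : Set K) := hMdef ▸ g.2
    exact (Subgroup.mem_normalizer_iff.mp hg _).mp hy
  have hQSy : Q ≤ ((Sy.subtype hSyM : Sylow p ↥M) : Subgroup ↥M) := by
    rw [hSyM', hQdef]
    rintro _ ⟨r, -, rfl⟩
    exact ⟨r, rfl⟩
  have hQc : ∀ t ∈ ((Sy.subtype hSyM : Sylow p ↥M) : Subgroup ↥M),
      t ∈ Subgroup.centralizer (Q : Set ↥M) → t ∈ Q := by
    intro t ht htc
    rw [hSyM'] at ht
    obtain ⟨s, rfl⟩ := ht
    rw [hQdef]
    refine ⟨s, ?_, rfl⟩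
    show s ∈ R.subgroupOf T
    rw [Subgroup.mem_subgroupOf]
    apply hRc.2 R (isConj_refl E hRT)
    refine ⟨s.2, ?_⟩
    show (s : Ω) ∈ Subgroup.centralizer (R : Set Ω)
    rw [Subgroup.mem_centralizer_iff]
    intro q hq
    have h1 := (Subgroup.mem_centralizer_iff.mp htc) (j' ⟨q, hRT hq⟩) (by
      rw [hQdef]
      exact ⟨⟨q, hRT hq⟩, Subgroup.mem_subgroupOf.mpr hq, rfl⟩)
    rw [← map_mul, ← map_mul] at h1
    exact congrArg Subtype.val (hj'inj h1)
  -- the quotient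
  have hXn : (pPrimeCore p ↥M).Normal := pPrimeCore_normal (G := ↥M) p
  have hXcop : (Nat.card (pPrimeCore p ↥M)).Coprime p := pPrimeCore_coprime (G := ↥M) p
  obtain ⟨ι₀, hι₀def⟩ : ∃ ι₀ : T →* ↥M ⧸ pPrimeCore p ↥M,
      ι₀ = (QuotientGroup.mk' (pPrimeCore p ↥M)).comp j' := ⟨_, rfl⟩
  have hι₀ : ∀ t : T, ι₀ t = QuotientGroup.mk' (pPrimeCore p ↥M) (j' t) := by
    intro t
    rw [hι₀def]
    rfl
  have hSyp : IsPGroup p ((Sy.subtype hSyM : Sylow p ↥M) : Subgroup ↥M) := (Sy.subtype hSyM).2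
  have hmkinj : ∀ a b : ↥M, a ∈ ((Sy.subtype hSyM : Sylow p ↥M) : Subgroup ↥M) →
      b ∈ ((Sy.subtype hSyM : Sylow p ↥M) : Subgroup ↥M) →
      QuotientGroup.mk' (pPrimeCore p ↥M) a = QuotientGroup.mk' (pPrimeCore p ↥M) b → a = b := by
    intro a b ha hb hab
    have h1 : a⁻¹ * b ∈ pPrimeCore p ↥M := QuotientGroup.eq.mp hab
    have h2 : a⁻¹ * b ∈ ((Sy.subtype hSyM : Sylow p ↥M) : Subgroup ↥M) :=
      Subgroup.mul_mem _ (Subgroup.inv_mem _ ha) hb
    exact inv_mul_eq_one.mp (eq_one_of_mem_pgroup_of_mem_coprime hSyp hXcop h2 h1)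
  have hj'Sy : ∀ t : T, j' t ∈ ((Sy.subtype hSyM : Sylow p ↥M) : Subgroup ↥M) := by
    intro t
    rw [hSyM']
    exact ⟨t, rfl⟩
  refine ⟨M, pPrimeCore p ↥M, hXn, ι₀, inferInstance, ⟨?_, ?_⟩, ?_, ?_⟩
  · -- injective
    intro a b hab
    rw [hι₀, hι₀] at hab
    exact hj'inj (hmkinj _ _ (hj'Sy a) (hj'Sy b) hab)
  · -- realizes
    intro P hP φ hφ
    constructor
    · intro hφE
      obtain ⟨g, hg⟩ := (hreal'.2 P hP φ hφ).mp hφE
      refine ⟨QuotientGroup.mk' (pPrimeCore p ↥M) g, fun x => ?_⟩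
      rw [hι₀, hι₀, hg x, map_mul, map_mul, map_inv]
    · rintro ⟨γ, hγ⟩
      have hP' : (P.subgroupOf T).map j' ≤ ((Sy.subtype hSyM : Sylow p ↥M) : Subgroup ↥M) := by
        rintro _ ⟨t, -, rfl⟩
        exact hj'Sy t
      obtain ⟨g, hg⟩ := Cfsg.Agent.S5191.result (Sy.subtype hSyM) ((P.subgroupOf T).map j') hP' γ (by
        rintro _ ⟨t, ht, rfl⟩
        have htP : (t : Ω) ∈ P := Subgroup.mem_subgroupOf.mp ht
        have h1 := hγ ⟨t, htP⟩
        rw [hι₀, hι₀] at h1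
        refine ⟨j' ⟨φ ⟨t, htP⟩, hφ _⟩, hj'Sy _, ?_⟩
        rw [h1]
        rfl)
      apply (hreal'.2 P hP φ hφ).mpr
      refine ⟨g, fun x => ?_⟩
      have hx' : j' ⟨x, hP x.2⟩ ∈ (P.subgroupOf T).map j' :=
        ⟨⟨x, hP x.2⟩, Subgroup.mem_subgroupOf.mpr x.2, rfl⟩
      obtain ⟨h1, h2⟩ := hg _ hx'
      apply hmkinj _ _ (hj'Sy _) h1
      have h3 := hγ x
      rw [hι₀, hι₀] at h3
      rw [h3]
      exact h2.symm
  · -- Sylow
    refine ⟨(Sy.subtype hSyM).mapSurjective (QuotientGroup.mk'_surjective _), ?_⟩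
    rw [Sylow.coe_mapSurjective, hSyM', hι₀def, MonoidHom.range_comp]
  · -- the centralizer condition
    have hQp : IsPGroup p Q := hSyp.to_le hQSy
    have hQbar : Q.map (QuotientGroup.mk' (pPrimeCore p ↥M)) ≤ pCore p (↥M ⧸ pPrimeCore p ↥M) :=
      le_pCore (hQn.map _ (QuotientGroup.mk'_surjective _)) (hQp.map _)
    have hG1 := centralizer_map_mk_le (Sy.subtype hSyM) hQSy hQc (pPrimeCore p ↥M) hXcop
      (fun N hN hNc => le_pPrimeCore hN hNc)
    exact (Subgroup.centralizer_le (SetLike.coe_subset_coe.mpr hQbar)).trans (hG1.trans hQbar)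

/-- Every model of a system with a normal centric subgroup is involved in every finite group realizing the
system on a Sylow subgroup. -/
theorem involves_of_model_of_realized {Ω : Type u} [Group Ω] {T : Subgroup Ω} [Finite T] {p : ℕ}
    [Fact p.Prime] (hT : IsPGroup p T) {E : FusionSystem T} {R : Subgroup Ω} (hRn : E.IsNormal R)
    (hRc : E.IsCentric R) {K : Type v} [Group K] [Finite K] {j : T →* K} (hreal : E.IsRealizedBy j)
    (Sy : Sylow p K) (hSy : (Sy : Subgroup K) = j.range) {L : Type w} [Group L] {ι : T →* L}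
    (hL : E.IsModel p L ι) : Involves L K := by
  obtain ⟨M, X, hXn, ι₀, hmodel₀⟩ := exists_model_quotient hRn hRc hreal Sy hSy
  obtain ⟨φ, -⟩ := Cfsg.H5.MU.model_unique hT hRn hRc ι₀ ι hmodel₀ hL
  have h1 : Involves L ↥M :=
    involves_of_surjective (φ.toMonoidHom.comp (QuotientGroup.mk' X))
      (φ.surjective.comp (QuotientGroup.mk'_surjective X))
  exact involves_of_injective M.subtype M.subtype_injective h1

/-- A locally `H`-free system is `H`-free. -/
theorem isSectionFree_of_locFreeU.{w₁, v₁, u₁} {H : Type w₁} [Group H] {Ω : Type u₁} [Group Ω]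
    {T : Subgroup Ω} [Finite T] {p : ℕ} [Fact p.Prime] (hT : IsPGroup p T) {E : FusionSystem T}
    (hfree : LocFreeU.{w₁, v₁, u₁} H p E) : E.IsSectionFree p H := by
  intro Q hQfn hQc N hN L _ ι hmodel hinv
  obtain ⟨K, _, _, j, hinj, ⟨Sy, hSy⟩, hKfree, hInd⟩ := hfree Q hQfn hQc
  have hQT : Q ≤ T := hQfn.1
  have hNT : normalizerIn T Q ≤ T := inf_le_left
  have : Finite ↥(normalizerIn T Q) :=
    Finite.of_injective (Subgroup.inclusion hNT) (Subgroup.inclusion_injective hNT)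
  have hNp : IsPGroup p ↥(normalizerIn T Q) :=
    hT.of_injective (Subgroup.inclusion hNT) (Subgroup.inclusion_injective hNT)
  have : Finite ↥Q := Finite.of_injective (Subgroup.inclusion hQT) (Subgroup.inclusion_injective hQT)
  have hQn : N.IsNormal Q := normalizerSystem_isNormal hQT hN
  have hQcN : N.IsCentric Q := by
    refine ⟨le_normalizerIn hQT, fun Q' hQ' => ?_⟩
    have hQQ : Q' = Q := weaklyClosed_eq_of_isConj (normal_weaklyClosed hQn) hQ'
    rw [hQQ]
    intro x hx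
    exact hQc.2 Q (isConj_refl E hQT) ⟨hNT hx.1, hx.2⟩
  have hreal : N.IsRealizedBy j := by
    refine ⟨hinj, fun P hP φ hφ => ?_⟩
    rw [hN P, hInd P φ hP hφ]
    constructor
    · rintro ⟨g, -, hg⟩
      refine ⟨g, fun x => ?_⟩
      have h2 := hg x
      rw [ext1_of_mem j (hφ x), ext1_of_mem j (hP x.2)] at h2
      exact h2
    · rintro ⟨g, hg⟩
      refine ⟨g, Subgroup.mem_top _, fun x => ?_⟩
      rw [ext1_of_mem j (hφ x), ext1_of_mem j (hP x.2)]
      exact hg x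
  exact hKfree (involves_trans hinv (involves_of_model_of_realized hNp hQn hQcN hreal Sy hSy hmodel))

/-- A locally `H`-free system is `H`-free. -/
theorem isSectionFree_of_locFree {H : Type*} [Group H] {Ω : Type u} [Group Ω] {T : Subgroup Ω} [Finite T]
    {p : ℕ} [Fact p.Prime] (hT : IsPGroup p T) {E : FusionSystem T} (hfree : LocFree H p E) :
    E.IsSectionFree p H :=
  isSectionFree_of_locFreeU hT hfree

end Cfsg.Agent.Lib.Helper18.FusFree
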