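import Cfsg.Agent.Lib.Helper1.ThompsonNPC3

set_option autoImplicit false
set_option linter.unusedSectionVars false
open scoped commutatorElement

/-!
# The two-functor reduction of Thompson's normal `p`-complement theorem, relative to a
section-closed property

This is `Cfsg.Agent.Lib.Helper1.ThompsonNPC.main2` (helper1) with an extra property `Prp` of groups,
inherited by subgroups and quotients, carried through the induction; it is needed for hypotheses
such as "`S₄` is not involved in `G`".
-/

namespace Cfsg.Agent.Lib.Helper18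

open Subgroup Cfsg Cfsg.Agent.Lib.Helper13 Cfsg.Agent.Lib.Helper1 Cfsg.Agent.Lib.Helper1.ThompsonNPC

universe u

variable {p : ℕ} [Fact p.Prime] {W₁ W₂ : ∀ (Q : Type u) [Group Q], Subgroup Q}

/-- the main induction: a two-functor form of Thompson's reduction, relative to a property `Prp`
inherited by subgroups and quotients -/
theorem main2P (Prp : ∀ (X : Type u) [Group X], Prop)
    (hPrpsub : ∀ (X : Type u) [Group X] (M : Subgroup X), Prp X → Prp ↥M)
    (hPrpquot : ∀ (X : Type u) [Group X] (N : Subgroup X) [N.Normal], Prp X → Prp (X ⧸ N))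
    (hW₁ : IsCharPFunctor.{u} p W₁) (hW₂ : IsCharPFunctor.{u} p W₂)
    (hcen : ∀ (X : Type u) [Group X] (T : Subgroup X),
      T ≤ centralizer ((inducedFunctor (G := X) W₂ T : Subgroup X) : Set X))
    (hfinal : ∀ (X : Type u) [Group X] [Finite X] (S : Sylow p X), Prp X → IsCoatom (S : Subgroup X) →
      centralizer ((pCore p X : Subgroup X) : Set X) ≤ pCore p X →
      HasNormalPComplement p (X ⧸ pCore p X) →
      normalizer ((inducedFunctor (G := X) W₁ (S : Subgroup X) : Subgroup X) : Set X) = S →
      centralizer ((inducedFunctor (G := X) W₂ (S : Subgroup X) : Subgroup X) : Set X) = S → False) :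
    ∀ n : ℕ, ∀ (G : Type u) [Group G] [Finite G], Nat.card G = n → Prp G → Hyp p W₁ W₂ G →
      HasNormalPComplement p G := by
  intro n
  induction n using Nat.strong_induction_on with
  | _ n ih =>
  intro G _ _ hn hPrp hN
  have hp : p.Prime := Fact.out
  by_contra hGnot
  -- Step 0: the `p'`-core is trivial
  have hOn : (pPrimeCore p G).Normal := Cfsg.Agent.Lib.Helper1.pPrimeCore_normal p
  have hOcop : (Nat.card (pPrimeCore p G)).Coprime p := Cfsg.Agent.Lib.Helper1.pPrimeCore_coprime p
  have hcard_quot : ∀ V : Subgroup G, V ≠ ⊥ → Nat.card (G ⧸ V) < n := by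
    intro V hVne
    rw [← hn, ← Subgroup.index_eq_card, ← Subgroup.card_mul_index V]
    have h1 : 1 < Nat.card V := by
      rw [Finite.one_lt_card_iff_nontrivial]
      exact (Subgroup.nontrivial_iff_ne_bot V).mpr hVne
    have h2 : 0 < V.index := Nat.pos_of_ne_zero Subgroup.index_ne_zero_of_finite
    nlinarith
  have hcard_sub : ∀ M : Subgroup G, M ≠ ⊤ → Nat.card ↥M < n := by
    intro M hM
    rw [← hn, ← Subgroup.card_top (G := G)]
    exact card_lt_card_of_lt (lt_top_iff_ne_top.mpr hM)
  have hO : pPrimeCore p G = ⊥ := by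
    by_contra hne
    have := ih _ (hcard_quot _ hne) (G ⧸ pPrimeCore p G) rfl (hPrpquot G (pPrimeCore p G) hPrp)
      (hyp_quotient_pPrime hW₁ hW₂ _ hOcop hN)
    exact hGnot (hasNormalPComplement_of_quotient _ hOcop this)
  -- the bad `p`-subgroups
  obtain ⟨Q₀, hQ₀p, hQ₀ne, hQ₀⟩ : ∃ Q : Subgroup G, IsPGroup p ↥Q ∧ Q ≠ ⊥ ∧
      ¬ HasNormalPComplement p ↥(Subgroup.normalizer (Q : Set G)) := by
    by_contra hcon
    push Not at hcon
    exact hGnot (hasNormalPComplement_iff_local.mpr hcon)
  set μ : Subgroup G → ℕ := fun H =>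
    (Nat.card ↥(Subgroup.normalizer (H : Set G))).factorization p * (Nat.card G + 1) + Nat.card ↥H with hμ
  set 𝓗 : Set (Subgroup G) := {H | IsPGroup p ↥H ∧ H ≠ ⊥ ∧
      ¬ HasNormalPComplement p ↥(Subgroup.normalizer (H : Set G))} with h𝓗
  obtain ⟨H, ⟨hHp, hHne, hHbad⟩, hHmax⟩ :=
    Set.exists_max_image 𝓗 μ (Set.toFinite 𝓗) ⟨Q₀, hQ₀p, hQ₀ne, hQ₀⟩
  have key : ∀ X : Subgroup G, IsPGroup p ↥X → X ≠ ⊥ → μ H < μ X →
      HasNormalPComplement p ↥(Subgroup.normalizer (X : Set G)) := by
    intro X hXp hXne hlt
    by_contra hbad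
    exact absurd (hHmax X ⟨hXp, hXne, hbad⟩) (not_le.mpr hlt)
  have hHG : Nat.card ↥H ≤ Nat.card G := Subgroup.card_le_card_group H
  have key1 : ∀ X : Subgroup G, IsPGroup p ↥X → X ≠ ⊥ →
      (Nat.card ↥(Subgroup.normalizer (H : Set G))).factorization p <
        (Nat.card ↥(Subgroup.normalizer (X : Set G))).factorization p →
      HasNormalPComplement p ↥(Subgroup.normalizer (X : Set G)) := by
    intro X hXp hXne hlt
    apply key X hXp hXne
    show (Nat.card ↥(Subgroup.normalizer (H : Set G))).factorization p * (Nat.card G + 1) + Nat.card ↥H <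
      (Nat.card ↥(Subgroup.normalizer (X : Set G))).factorization p * (Nat.card G + 1) + Nat.card ↥X
    have h1 : ((Nat.card ↥(Subgroup.normalizer (H : Set G))).factorization p + 1) * (Nat.card G + 1) ≤
        (Nat.card ↥(Subgroup.normalizer (X : Set G))).factorization p * (Nat.card G + 1) :=
      Nat.mul_le_mul_right _ hlt
    nlinarith
  have key2 : ∀ X : Subgroup G, IsPGroup p ↥X → X ≠ ⊥ →
      (Nat.card ↥(Subgroup.normalizer (H : Set G))).factorization p ≤
        (Nat.card ↥(Subgroup.normalizer (X : Set G))).factorization p →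
      Nat.card ↥H < Nat.card ↥X →
      HasNormalPComplement p ↥(Subgroup.normalizer (X : Set G)) := by
    intro X hXp hXne hle hlt
    apply key X hXp hXne
    show (Nat.card ↥(Subgroup.normalizer (H : Set G))).factorization p * (Nat.card G + 1) + Nat.card ↥H <
      (Nat.card ↥(Subgroup.normalizer (X : Set G))).factorization p * (Nat.card G + 1) + Nat.card ↥X
    have h1 : (Nat.card ↥(Subgroup.normalizer (H : Set G))).factorization p * (Nat.card G + 1) ≤
        (Nat.card ↥(Subgroup.normalizer (X : Set G))).factorization p * (Nat.card G + 1) :=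
      Nat.mul_le_mul_right _ hle
    omega
  set N : Subgroup G := Subgroup.normalizer (H : Set G) with hNdef
  by_cases hNtop : N = ⊤
  · -- `H` is normal in `G`
    have hHn : H.Normal := Subgroup.normalizer_eq_top_iff.mp hNtop
    set P : Subgroup G := pCore p G with hP
    have hPn : P.Normal := inferInstance
    have hPp : IsPGroup p ↥P := Cfsg.Agent.Lib.Helper13.pCore_isPGroup p
    have hHP : H ≤ P := Cfsg.Agent.Lib.Helper13.le_pCore H hHn hHp
    have hPne : P ≠ ⊥ := fun h => hHne (eq_bot_iff.mpr (h ▸ hHP))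
    have hfacH : (Nat.card ↥N).factorization p = (Nat.card G).factorization p := by
      rw [hNtop, Subgroup.card_top]
    have hsurj : Function.Surjective (QuotientGroup.mk' P) := QuotientGroup.mk'_surjective P
    have claimA : ∀ X : Subgroup G, IsPGroup p ↥X → Nat.card ↥H < Nat.card ↥X →
        (∃ S' : Sylow p G, (S' : Subgroup G) ≤ Subgroup.normalizer (X : Set G)) →
        HasNormalPComplement p ↥(Subgroup.normalizer (X : Set G)) := by
      rintro X hXp hlt ⟨S', hS'⟩
      have hXne : X ≠ ⊥ := by
        rintro rfl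
        rw [Subgroup.card_bot] at hlt
        have := Nat.card_pos (α := ↥H)
        omega
      apply key2 X hXp hXne _ hlt
      rw [hfacH]
      have h3 : p ^ (Nat.card G).factorization p ∣ Nat.card ↥(Subgroup.normalizer (X : Set G)) := by
        rw [← S'.card_eq_multiplicity]; exact Subgroup.card_dvd_of_le hS'
      exact (hp.pow_dvd_iff_le_factorization Nat.card_pos.ne').mp h3
    have hPH : P = H := by
      by_contra hne
      have hlt : Nat.card ↥H < Nat.card ↥P := card_lt_card_of_lt (lt_of_le_of_ne hHP (Ne.symm hne))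
      obtain ⟨S'⟩ : Nonempty (Sylow p G) := inferInstance
      have hNP : Subgroup.normalizer (P : Set G) = ⊤ := Subgroup.normalizer_eq_top_iff.mpr hPn
      have := claimA P hPp hlt ⟨S', by rw [hNP]; exact le_top⟩
      exact hGnot (Cfsg.Agent.S2005.hasNPC_of_eq_top _ hNP this)
    have hSP : ∀ S' : Sylow p G, (S' : Subgroup G) ≠ P := by
      intro S' h
      have hSn : (S' : Subgroup G).Normal := h ▸ hPn
      have hWn := inducedFunctor_normal hW₁ (S' : Subgroup G) S'.isPGroup' hSn
      exact hGnot (Cfsg.Agent.S2005.hasNPC_of_eq_top _ (Subgroup.normalizer_eq_top_iff.mpr hWn) (hN S').1)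
    -- normalizers of `W(T)` in the quotient by `P`
    have hquotW : ∀ (W : ∀ (Q : Type u) [Group Q], Subgroup Q), IsCharPFunctor.{u} p W →
        ∀ T : Sylow p (G ⧸ P), HasNormalPComplement p
          ↥(normalizer ((inducedFunctor (G := G ⧸ P) W (T : Subgroup (G ⧸ P)) : Subgroup (G ⧸ P)) :
            Set (G ⧸ P))) := by
      intro W hW T
      obtain ⟨S₁, rfl⟩ := Sylow.mapSurjective_surjective hsurj p T
      set T : Sylow p (G ⧸ P) := S₁.mapSurjective hsurj with hT
      have hTcoe : (T : Subgroup (G ⧸ P)) = (S₁ : Subgroup G).map (QuotientGroup.mk' P) :=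
        Sylow.coe_mapSurjective _ S₁
      apply Cfsg.Agent.S2005.quotient_normalizer P
      set Y : Subgroup (G ⧸ P) := inducedFunctor (G := G ⧸ P) W (T : Subgroup (G ⧸ P)) with hY
      set X : Subgroup G := Y.comap (QuotientGroup.mk' P) with hX
      have hTne : (T : Subgroup (G ⧸ P)) ≠ ⊥ := by
        rw [hTcoe]
        intro h
        have h1 : (S₁ : Subgroup G) ≤ P := by
          rw [Subgroup.map_eq_bot_iff, QuotientGroup.ker_mk'] at h
          exact h
        exact hSP S₁ (le_antisymm h1 (Cfsg.Agent.Lib.Helper13.pCore_le_sylow S₁))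
      have hYne : Y ≠ ⊥ := inducedFunctor_ne_bot hW _ T.isPGroup' hTne
      have hYp : IsPGroup p ↥Y := T.isPGroup'.to_le (inducedFunctor_le _)
      have hXp : IsPGroup p ↥X :=
        hYp.comap_of_ker_isPGroup _ (by rw [QuotientGroup.ker_mk']; exact hPp)
      have hPX : P ≤ X := by
        intro x hx
        rw [hX, Subgroup.mem_comap]
        have : QuotientGroup.mk' P x = 1 := (QuotientGroup.eq_one_iff x).mpr hx
        rw [this]; exact Y.one_mem
      have hPXne : P ≠ X := by
        intro h
        apply hYne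
        rw [eq_bot_iff]
        intro y hy
        obtain ⟨x, rfl⟩ := hsurj y
        have hx : x ∈ X := hy
        rw [← h] at hx
        exact Subgroup.mem_bot.mpr ((QuotientGroup.eq_one_iff x).mpr hx)
      have hlt : Nat.card ↥H < Nat.card ↥X := by
        rw [← hPH]; exact card_lt_card_of_lt (lt_of_le_of_ne hPX hPXne)
      apply claimA X hXp hlt
      refine ⟨S₁, ?_⟩
      intro s hs
      have h1 : QuotientGroup.mk' P s ∈ Subgroup.normalizer (Y : Set (G ⧸ P)) := by
        apply (Subgroup.le_normalizer.trans (normalizer_le_normalizer_inducedFunctor hW _ T.isPGroup'))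
        rw [hTcoe]
        exact Subgroup.mem_map_of_mem _ hs
      rw [hX, ← Subgroup.comap_normalizer_eq_of_surjective Y hsurj]
      exact h1
    -- the quotient by `P`
    have hGP : HasNormalPComplement p (G ⧸ P) := by
      apply ih _ (hcard_quot P hPne) (G ⧸ P) rfl (hPrpquot G P hPrp)
      intro T
      exact ⟨hquotW W₁ hW₁ T, npc_mono (Subgroup.centralizer_le_normalizer _) (hquotW W₂ hW₂ T)⟩
    -- `P` contains its centralizer
    have hC : Subgroup.centralizer (P : Set G) ≤ P := by
      obtain ⟨Kb, hKbn, hKbcop, k, hk⟩ := hasNormalPComplement_iff_exists.mp hGP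
      set L : Subgroup G := Kb.comap (QuotientGroup.mk' P) with hL
      have hLn : L.Normal := hKbn.comap _
      have hPL : P ≤ L := by
        intro x hx
        rw [hL, Subgroup.mem_comap]
        have : QuotientGroup.mk' P x = 1 := (QuotientGroup.eq_one_iff x).mpr hx
        rw [this]; exact Kb.one_mem
      have hrel : (P.relIndex L).Coprime p := by
        rw [← Cfsg.H5.card_map_mk' P L, hL, Subgroup.map_comap_eq_self_of_surjective hsurj]
        exact hKbcop
      have hidx : L.index = p ^ k := by
        rw [hL, Subgroup.index_comap_of_surjective Kb hsurj]; exact hk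
      have hsol : IsPSolvable p G := isPSolvable_of_series P L hPn hLn hPL hPp hrel ⟨k, hidx⟩
      exact Cfsg.H5.centralizer_pCore_le_of_isPSolvable hsol hO
    -- a Sylow subgroup is maximal
    obtain ⟨S⟩ : Nonempty (Sylow p G) := inferInstance
    have hPS : P ≤ (S : Subgroup G) := Cfsg.Agent.Lib.Helper13.pCore_le_sylow S
    have hSco : IsCoatom (S : Subgroup G) := by
      constructor
      · intro htop
        exact hGnot (Cfsg.Agent.S2005.hasNPC_of_eq_top _ htop (hasNormalPComplement_of_isPGroup S.isPGroup'))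
      · intro M hSM
        by_contra hMtop
        have hM : HasNormalPComplement p ↥M := by
          apply ih _ (hcard_sub M hMtop) ↥M rfl (hPrpsub G M hPrp)
          apply hyp_subgroup hW₁ hW₂ M
          intro Q
          have hQ'p : IsPGroup p ↥((Q : Subgroup ↥M).map M.subtype) := Q.isPGroup'.map _
          have hidx : ¬ p ∣ ((Q : Subgroup ↥M).map M.subtype).index := by
            rw [Subgroup.index_map_subtype]
            exact hp.not_dvd_mul Q.not_dvd_index
              (fun h => S.not_dvd_index (dvd_trans h (Subgroup.index_dvd_of_le hSM.le)))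
          exact hN (hQ'p.toSylow hidx)
        have := Cfsg.Agent.S2005.eq_sylow_of_hasNPC S M hSM.le P hPn hPS hC hM
        exact hSM.ne this.symm
    have hS1 : (S : Subgroup G) ≤ normalizer ((inducedFunctor (G := G) W₁ (S : Subgroup G) : Subgroup G) : Set G) :=
      Subgroup.le_normalizer.trans (normalizer_le_normalizer_inducedFunctor hW₁ _ S.isPGroup')
    have hS2 : (S : Subgroup G) ≤ centralizer ((inducedFunctor (G := G) W₂ (S : Subgroup G) : Subgroup G) : Set G) :=
      hcen G _
    have hNJ := Cfsg.Agent.S2005.eq_sylow_of_hasNPC S _ hS1 P hPn hPS hC (hN S).1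
    have hCZ := Cfsg.Agent.S2005.eq_sylow_of_hasNPC S _ hS2 P hPn hPS hC (hN S).2
    exact hfinal G S hPrp hSco hC hGP hNJ hCZ
  · -- `N` is a proper subgroup
    apply hHbad
    apply ih _ (hcard_sub N hNtop) ↥N rfl (hPrpsub G N hPrp)
    apply hyp_subgroup hW₁ hW₂ N
    intro Q
    set Q' : Subgroup G := (Q : Subgroup ↥N).map N.subtype with hQ'
    have hQ'p : IsPGroup p ↥Q' := Q.isPGroup'.map _
    have hHQ' : H ≤ Q' := by
      have h1 : H.subgroupOf N ≤ (Q : Subgroup ↥N) := by
        have hn : (H.subgroupOf N).Normal := Subgroup.normal_in_normalizer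
        have hpH : IsPGroup p ↥(H.subgroupOf N) := hHp.comap_subtype
        exact (Cfsg.Agent.Lib.Helper13.le_pCore _ hn hpH).trans (Cfsg.Agent.Lib.Helper13.pCore_le_sylow Q)
      intro x hx
      exact ⟨⟨x, Subgroup.le_normalizer hx⟩, h1 (Subgroup.mem_subgroupOf.mpr hx), rfl⟩
    have hQ'ne : Q' ≠ ⊥ := fun h => hHne (eq_bot_iff.mpr (h ▸ hHQ'))
    by_cases hidx : p ∣ Q'.index
    · have hgen : ∀ (W : ∀ (Q : Type u) [Group Q], Subgroup Q), IsCharPFunctor.{u} p W →
          HasNormalPComplement p ↥(normalizer ((inducedFunctor (G := G) W Q' : Subgroup G) : Set G)) := by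
        intro W hW
        have hWne : inducedFunctor (G := G) W Q' ≠ ⊥ := inducedFunctor_ne_bot hW Q' hQ'p hQ'ne
        have hWp : IsPGroup p ↥(inducedFunctor (G := G) W Q') := hQ'p.to_le (inducedFunctor_le _)
        obtain ⟨S, hQ'S⟩ := hQ'p.exists_le_sylow
        have hlt : Q' < (S : Subgroup G) :=
          lt_of_le_of_ne hQ'S (fun h => S.not_dvd_index (h ▸ hidx))
        have hlt2 := lt_inf_normalizer_of_lt (S : Subgroup G) Q' S.isPGroup' hlt
        set R : Subgroup G := (S : Subgroup G) ⊓ Subgroup.normalizer (Q' : Set G) with hR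
        have hRp : IsPGroup p ↥R := S.isPGroup'.to_le inf_le_left
        have hRN : R ≤ Subgroup.normalizer ((inducedFunctor (G := G) W Q' : Subgroup G) : Set G) :=
          inf_le_right.trans (normalizer_le_normalizer_inducedFunctor hW Q' hQ'p)
        apply key1 _ hWp hWne
        obtain ⟨r, hr⟩ := hRp.exists_card_eq
        have hQ'card : Nat.card ↥Q' = p ^ (Nat.card ↥N).factorization p := by
          rw [hQ', Subgroup.card_map_of_injective N.subtype_injective]; exact Q.card_eq_multiplicity
        have h1 : Nat.card ↥Q' < Nat.card ↥R := card_lt_card_of_lt hlt2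
        have h2 : (Nat.card ↥N).factorization p < r := by
          rw [hQ'card, hr] at h1
          exact (Nat.pow_lt_pow_iff_right hp.one_lt).mp h1
        have h3 : p ^ r ∣ Nat.card ↥(Subgroup.normalizer ((inducedFunctor (G := G) W Q' : Subgroup G) : Set G)) := by
          rw [← hr]; exact Subgroup.card_dvd_of_le hRN
        have h4 := (hp.pow_dvd_iff_le_factorization Nat.card_pos.ne').mp h3
        exact lt_of_lt_of_le h2 h4
      exact ⟨hgen W₁ hW₁, npc_mono (Subgroup.centralizer_le_normalizer _) (hgen W₂ hW₂)⟩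
    · exact hN (hQ'p.toSylow hidx)

end Cfsg.Agent.Lib.Helper18
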