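import Mathlib
import Cfsg.Agent.Lib.Helper18.FusAltInv
import Cfsg.Agent.Lib.Helper27.LGFinal
import Cfsg.Agent.S2800
import Cfsg.Agent.S5097

set_option autoImplicit false

/-!
# Thompson's normal `p`-complement theorem for fusion systems, general form

For a saturated system `F` over `S` with `p` odd or `F` locally `S₄`-free, which has a nontrivial automorphism
of order prime to `p`: `J(S)` is bad or `Z(S)` is centrally bad.
-/

namespace Cfsg.Agent.Lib.Helper18.FusFree

open Cfsg Cfsg.FusionSystem Cfsg.Agent.Lib.Helper27 Cfsg.Agent.H26 Cfsg.Agent.Lib.Helper27.LG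
open Cfsg.Agent.Lib.Helper13 Cfsg.Agent.Lib.Helper18

universe u

section sub

variable {Ω : Type*} [Group Ω]

theorem subgroupOf_thompsonSubgroupAOf (S : Subgroup Ω) :
    (Cfsg.thompsonSubgroupAOf S).subgroupOf S = Cfsg.thompsonSubgroupA S := by
  unfold Cfsg.thompsonSubgroupAOf Subgroup.subgroupOf
  exact Subgroup.comap_map_eq_self_of_injective S.subtype_injective _

theorem thompsonSubgroupAOf_le (S : Subgroup Ω) : Cfsg.thompsonSubgroupAOf S ≤ S := by
  rintro _ ⟨j, -, rfl⟩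
  exact j.2

theorem map_thompsonSubgroupAOf {S : Subgroup Ω} {G : Type*} [Group G] {ι : S →* G}
    (hinj : Function.Injective ι) :
    ((Cfsg.thompsonSubgroupAOf S).subgroupOf S).map ι = Cfsg.thompsonSubgroupAOf ι.range := by
  rw [subgroupOf_thompsonSubgroupAOf]
  unfold Cfsg.thompsonSubgroupAOf
  rw [← thompsonSubgroupA_map_equiv (MonoidHom.ofInjective hinj), Subgroup.map_map]
  rfl

theorem char_thompsonSubgroupAOf (S : Subgroup Ω) [Finite S] (hS1 : S ≠ ⊥) :
    Cfsg.thompsonSubgroupAOf S ≠ ⊥ ∧ Cfsg.thompsonSubgroupAOf S ≤ S ∧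
      ((Cfsg.thompsonSubgroupAOf S).subgroupOf S).Characteristic := by
  refine ⟨?_, thompsonSubgroupAOf_le S, ?_⟩
  · intro h
    haveI : Nontrivial ↥S := (Subgroup.nontrivial_iff_ne_bot S).mpr hS1
    apply thompsonSubgroupA_ne_bot (Q := ↥S)
    rw [← subgroupOf_thompsonSubgroupAOf, h]
    exact Subgroup.bot_subgroupOf S
  · rw [subgroupOf_thompsonSubgroupAOf]
    exact thompsonA_characteristic _

theorem subgroupOf_centerOf (S : Subgroup Ω) :
    (S ⊓ Subgroup.centralizer (S : Set Ω)).subgroupOf S = Subgroup.center ↥S := by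
  ext s
  rw [Subgroup.mem_subgroupOf, Subgroup.mem_inf, Subgroup.mem_center_iff, Subgroup.mem_centralizer_iff]
  constructor
  · rintro ⟨-, h⟩ g
    exact Subtype.ext (h g g.2)
  · intro h
    exact ⟨s.2, fun g hg => congrArg Subtype.val (h ⟨g, hg⟩)⟩

theorem map_centerOf {S : Subgroup Ω} {G : Type*} [Group G] {ι : S →* G} (hinj : Function.Injective ι) :
    ((S ⊓ Subgroup.centralizer (S : Set Ω)).subgroupOf S).map ι =
      ι.range ⊓ Subgroup.centralizer ((ι.range : Subgroup G) : Set G) := by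
  rw [subgroupOf_centerOf]
  ext y
  constructor
  · rintro ⟨z, hz, rfl⟩
    refine Subgroup.mem_inf.mpr ⟨⟨z, rfl⟩, ?_⟩
    rw [Subgroup.mem_centralizer_iff]
    rintro _ ⟨s, rfl⟩
    rw [← map_mul, ← map_mul, Subgroup.mem_center_iff.mp hz s]
  · intro hy
    obtain ⟨⟨z, rfl⟩, hc⟩ := Subgroup.mem_inf.mp hy
    refine ⟨z, ?_, rfl⟩
    show z ∈ Subgroup.center ↥S
    rw [Subgroup.mem_center_iff]
    intro s
    apply hinj
    rw [map_mul, map_mul]
    exact (Subgroup.mem_centralizer_iff.mp hc) (ι s) ⟨s, rfl⟩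

theorem char_centerOf {p : ℕ} [Fact p.Prime] (S : Subgroup Ω) [Finite S] (hS : IsPGroup p S)
    (hS1 : S ≠ ⊥) :
    (S ⊓ Subgroup.centralizer (S : Set Ω)) ≠ ⊥ ∧ (S ⊓ Subgroup.centralizer (S : Set Ω)) ≤ S ∧
      ((S ⊓ Subgroup.centralizer (S : Set Ω)).subgroupOf S).Characteristic := by
  refine ⟨?_, inf_le_left, ?_⟩
  · intro h
    haveI : Nontrivial ↥S := (Subgroup.nontrivial_iff_ne_bot S).mpr hS1
    haveI := hS.center_nontrivial
    obtain ⟨z, hz⟩ := exists_ne (1 : Subgroup.center ↥S)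
    apply hz
    have hmem : ((z : ↥S) : Ω) ∈ S ⊓ Subgroup.centralizer (S : Set Ω) := by
      have h1 : (z : ↥S) ∈ (S ⊓ Subgroup.centralizer (S : Set Ω)).subgroupOf S := by
        rw [subgroupOf_centerOf]
        exact z.2
      exact Subgroup.mem_subgroupOf.mp h1
    rw [h, Subgroup.mem_bot] at hmem
    apply Subtype.ext
    apply Subtype.ext
    exact hmem
  · rw [subgroupOf_centerOf]
    infer_instance

theorem centralizerIn_centerOf (S : Subgroup Ω) :
    centralizerIn S (S ⊓ Subgroup.centralizer (S : Set Ω)) = S := by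
  apply le_antisymm inf_le_left
  intro s hs
  refine Subgroup.mem_inf.mpr ⟨hs, ?_⟩
  rw [Subgroup.mem_centralizer_iff]
  intro z hz
  exact ((Subgroup.mem_centralizer_iff.mp hz.2) s hs).symm

end sub

section group

variable {Ω : Type*} [Group Ω] {S : Subgroup Ω} {G : Type*} [Group G] {p : ℕ} [Fact p.Prime]

/-- A `p'`-element normalizing the image of `W` and normalizing but not centralizing a subgroup of the image
of `S` induces a nontrivial automorphism of order prime to `p` of a subgroup containing `W`. -/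
theorem exists_aut_of_conj [Finite S] {F : FusionSystem S} {ι : S →* G} (hreal : F.IsRealizedBy ι)
    {W : Subgroup Ω} (hWS : W ≤ S) {g : G} {Q : Subgroup G} (hQ : Q ≤ ι.range)
    (hgW : g ∈ Subgroup.normalizer (((W.subgroupOf S).map ι : Subgroup G) : Set G))
    (hgQ : g ∈ Subgroup.normalizer (Q : Set G)) (hgord : (orderOf g).Coprime p)
    (hgc : g ∉ Subgroup.centralizer (Q : Set G)) :
    ∃ (P : Subgroup Ω) (α : MulAut P), W ≤ P ∧ P ≤ S ∧ IsIso F (α : P ≃* P) ∧
      (∀ x : P, ext1 ι ((α x : P) : Ω) = g * ext1 ι x * g⁻¹) ∧ α ≠ 1 ∧ PPrime p α := by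
  have hinj := hreal.1
  have hWG : (W.subgroupOf S).map ι ≤ ι.range := by
    rintro _ ⟨s, -, rfl⟩
    exact ⟨s, rfl⟩
  have hRG : Q ⊔ (W.subgroupOf S).map ι ≤ ι.range := sup_le hQ hWG
  have hgR : g ∈ Subgroup.normalizer ((Q ⊔ (W.subgroupOf S).map ι : Subgroup G) : Set G) :=
    mem_normalizer_sup hgQ hgW
  have hRS : pullback ι (Q ⊔ (W.subgroupOf S).map ι) ≤ S := fun x hx => (mem_pullback_iff.mp hx).1
  haveI : Finite ↥(pullback ι (Q ⊔ (W.subgroupOf S).map ι)) :=
    Finite.of_injective (Subgroup.inclusion hRS) (Subgroup.inclusion_injective hRS)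
  have hconj : ∀ x ∈ pullback ι (Q ⊔ (W.subgroupOf S).map ι),
      g * ext1 ι x * g⁻¹ ∈ Q ⊔ (W.subgroupOf S).map ι := by
    intro x hx
    exact (Subgroup.mem_normalizer_iff.mp hgR _).mp (mem_pullback_iff.mp hx).2
  have h : ∀ x ∈ pullback ι (Q ⊔ (W.subgroupOf S).map ι), g * ext1 ι x * g⁻¹ ∈ ι.range :=
    fun x hx => hRG (hconj x hx)
  have hα₀ := rconj_mem_hom hreal g hRS h
  have hα₀e := ext1_rconj hinj g hRS h
  have hα₀R : ∀ x : ↥(pullback ι (Q ⊔ (W.subgroupOf S).map ι)),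
      rconj hinj g hRS h x ∈ pullback ι (Q ⊔ (W.subgroupOf S).map ι) := by
    intro x
    rw [mem_pullback_iff]
    refine ⟨rconj_mem hinj g hRS h x, ?_⟩
    rw [hα₀e]
    exact hconj x x.2
  have hbij : Function.Bijective ((rconj hinj g hRS h).codRestrict _ hα₀R) := by
    have hi : Function.Injective ((rconj hinj g hRS h).codRestrict _ hα₀R) := by
      intro a b hab
      have hab' : rconj hinj g hRS h a = rconj hinj g hRS h b :=
        congrArg (fun w : ↥(pullback ι (Q ⊔ (W.subgroupOf S).map ι)) => (w : Ω)) hab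
      exact F.injective_of_mem hα₀ hab'
    exact ⟨hi, Finite.injective_iff_surjective.mp hi⟩
  obtain ⟨α, hαdef⟩ : ∃ α : MulAut ↥(pullback ι (Q ⊔ (W.subgroupOf S).map ι)),
      α = MulEquiv.ofBijective ((rconj hinj g hRS h).codRestrict _ hα₀R) hbij := ⟨_, rfl⟩
  have hαe : ∀ x : ↥(pullback ι (Q ⊔ (W.subgroupOf S).map ι)),
      ext1 ι ((α x : ↥(pullback ι (Q ⊔ (W.subgroupOf S).map ι))) : Ω) = g * ext1 ι x * g⁻¹ := by
    intro x
    rw [← hα₀e x, hαdef]
    rfl
  have hαiso : IsIso F (α : _ ≃* _) := by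
    have h3 : (pullback ι (Q ⊔ (W.subgroupOf S).map ι)).subtype.comp (α : _ ≃* _).toMonoidHom =
        rconj hinj g hRS h := by
      ext x
      rw [hαdef]
      rfl
    unfold IsIso
    rw [h3]
    exact hα₀
  have hWR : W ≤ pullback ι (Q ⊔ (W.subgroupOf S).map ι) := by
    intro x hx
    rw [mem_pullback_iff]
    refine ⟨hWS hx, Subgroup.mem_sup_right ?_⟩
    rw [ext1_of_mem ι (hWS hx)]
    exact ⟨⟨x, hWS hx⟩, Subgroup.mem_subgroupOf.mpr hx, rfl⟩
  refine ⟨_, α, hWR, hRS, hαiso, hαe, ?_, orderOf g, hgord, ?_⟩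
  · intro h3
    apply hgc
    rw [Subgroup.mem_centralizer_iff]
    intro q hq
    obtain ⟨s, rfl⟩ := hQ hq
    have hsR : (s : Ω) ∈ pullback ι (Q ⊔ (W.subgroupOf S).map ι) := by
      rw [mem_pullback_iff]
      refine ⟨s.2, Subgroup.mem_sup_left ?_⟩
      rw [ext1_coe]
      exact hq
    have h4 := hαe ⟨s, hsR⟩
    rw [h3, MulAut.one_apply, ext1_coe] at h4
    calc ι s * g = g * ι s * g⁻¹ * g := by rw [← h4]
      _ = g * ι s := by group
  · ext x
    apply ext1_inj hinj (hRS (_ : ↥(pullback ι (Q ⊔ (W.subgroupOf S).map ι))).2) (hRS x.2)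
    rw [ext1_pow_apply hRS α g hαe (orderOf g) x, pow_orderOf_eq_one]
    simp

/-- A `p'`-element centralizing the image of `W` and normalizing but not centralizing a subgroup of the image
of `S` makes `W` centrally bad. -/
theorem badC_of_conj [Finite S] {F : FusionSystem S} {ι : S →* G} (hreal : F.IsRealizedBy ι)
    {W : Subgroup Ω} (hWS : W ≤ S) (hWc : centralizerIn S W = S) {g : G} {Q : Subgroup G} (hQ : Q ≤ ι.range)
    (hgW : g ∈ Subgroup.centralizer (((W.subgroupOf S).map ι : Subgroup G) : Set G))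
    (hgQ : g ∈ Subgroup.normalizer (Q : Set G)) (hgord : (orderOf g).Coprime p)
    (hgc : g ∉ Subgroup.centralizer (Q : Set G)) : BadC p F W := by
  have hgW' : g ∈ Subgroup.normalizer (((W.subgroupOf S).map ι : Subgroup G) : Set G) :=
    Subgroup.centralizer_le_normalizer _ hgW
  obtain ⟨P, α, hWP, hPS, hα, hαe, h1, h2⟩ := exists_aut_of_conj hreal hWS hQ hgW' hgQ hgord hgc
  refine ⟨P, α, hWP, ?_, hα, ?_, h1, h2⟩
  · rw [hWc]
    exact hPS
  · intro x hx
    apply Subtype.ext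
    apply ext1_inj hreal.1 (hPS (α x).2) (hPS x.2)
    rw [hαe x]
    have h3 : ext1 ι (x : Ω) ∈ (W.subgroupOf S).map ι := by
      rw [ext1_of_mem ι (hWS hx)]
      exact ⟨⟨x, hWS hx⟩, Subgroup.mem_subgroupOf.mpr hx, rfl⟩
    have h4 := (Subgroup.mem_centralizer_iff.mp hgW) _ h3
    rw [← h4, mul_inv_cancel_right]

/-- A subgroup containing a Sylow `p`-subgroup and without normal `p`-complement contains a `p'`-element
normalizing but not centralizing a subgroup of the Sylow subgroup. -/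
theorem exists_pprime_of_not_npc [Finite G] (Sy : Sylow p G) {M : Subgroup G} (hle : (Sy : Subgroup G) ≤ M)
    (hnpc : ¬ HasNormalPComplement p ↥M) :
    ∃ (Q : Subgroup G) (g : G), Q ≤ (Sy : Subgroup G) ∧ g ∈ M ∧ g ∈ Subgroup.normalizer (Q : Set G) ∧
      (orderOf g).Coprime p ∧ g ∉ Subgroup.centralizer (Q : Set G) := by
  have hnlc : ¬ LocalCentral p ↥M := by
    intro hlc
    apply hnpc
    obtain ⟨K, hKn, hK⟩ := exists_normal_complement_of_localCentral hlc (Sy.subtype hle)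
    exact ⟨Sy.subtype hle, K, hKn, hK⟩
  have hex : ∃ (Q : Subgroup ↥M) (g : ↥M),
      Q ≤ ((Sy.subtype hle : Sylow p _) : Subgroup _) ∧ g ∈ Subgroup.normalizer (Q : Set _) ∧
        (orderOf g).Coprime p ∧ g ∉ Subgroup.centralizer (Q : Set _) := by
    by_contra hcon
    push Not at hcon
    apply hnlc
    apply localCentral_of_sylow (Sy.subtype hle)
    intro Q hQ g hg hcop
    exact hcon Q g hQ hg hcop
  obtain ⟨Q, g, hQ, hgN, hgo, hgc⟩ := hex
  refine ⟨Q.map M.subtype, (g : G), ?_, g.2, ?_, ?_, ?_⟩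
  · rintro _ ⟨y, hy, rfl⟩
    have h1 := hQ hy
    rw [Sylow.coe_subtype, Subgroup.mem_subgroupOf] at h1
    exact h1
  · rw [Subgroup.mem_normalizer_iff]
    intro x
    constructor
    · rintro ⟨y, hy, rfl⟩
      exact ⟨g * y * g⁻¹, (Subgroup.mem_normalizer_iff.mp hgN y).mp hy, rfl⟩
    · rintro ⟨y, hy, hyx⟩
      have h1 : x = ((g⁻¹ * y * g : ↥M) : G) := by
        have : (y : G) = g * x * (g : G)⁻¹ := hyx
        simp only [Subgroup.coe_mul, Subgroup.coe_inv, this]
        group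
      rw [h1]
      refine ⟨g⁻¹ * y * g, ?_, rfl⟩
      have h2 := (Subgroup.mem_normalizer_iff.mp (Subgroup.inv_mem _ hgN) y).mp hy
      rw [inv_inv] at h2
      exact h2
  · rw [Subgroup.orderOf_coe]
    exact hgo
  · intro h1
    apply hgc
    rw [Subgroup.mem_centralizer_iff] at h1 ⊢
    intro y hy
    have h2 := h1 (y : G) ⟨y, hy, rfl⟩
    exact Subtype.ext h2

/-- If the centralizer of the image of `W ≤ Z(S)` has no normal `p`-complement then `W` is centrally bad. -/
theorem badC_of_not_npc_centralizer [Finite S] [Finite G] {F : FusionSystem S} {ι : S →* G}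
    (hreal : F.IsRealizedBy ι) (Sy : Sylow p G) (hSy : (Sy : Subgroup G) = ι.range) {W : Subgroup Ω}
    (hWS : W ≤ S) (hWc : centralizerIn S W = S)
    (hnpc : ¬ HasNormalPComplement p
      ↥(Subgroup.centralizer (((W.subgroupOf S).map ι : Subgroup G) : Set G))) : BadC p F W := by
  have hle : (Sy : Subgroup G) ≤ Subgroup.centralizer (((W.subgroupOf S).map ι : Subgroup G) : Set G) := by
    rw [hSy]
    rintro _ ⟨s, rfl⟩
    rw [Subgroup.mem_centralizer_iff]
    rintro _ ⟨w, hw, rfl⟩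
    have hsC : (s : Ω) ∈ centralizerIn S W := by rw [hWc]; exact s.2
    have h1 := (mem_centralizerIn_iff.mp hsC).2 w (Subgroup.mem_subgroupOf.mp hw)
    rw [← map_mul, ← map_mul]
    congr 1
    exact Subtype.ext h1
  obtain ⟨Q, g, hQ, hgM, hgN, hgo, hgc⟩ := exists_pprime_of_not_npc Sy hle hnpc
  exact badC_of_conj hreal hWS hWc (hSy ▸ hQ) hgM hgN hgo hgc

end group

/-- A centrally bad subgroup has a non-inner centralizer system. -/
theorem BadC.nonInner_csys {Ω : Type*} [Group Ω] {S : Subgroup Ω} {p : ℕ} {F : FusionSystem S}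
    {W : Subgroup Ω} {C : FusionSystem (centralizerIn S W)} (hC : F.IsCentralizerSystem W C)
    (h : BadC p F W) : NonInner p C := by
  obtain ⟨P, α, hWP, hPC, hα, hfix, h1, h2⟩ := h
  refine ⟨P, α, ?_, h1, h2⟩
  show P.subtype.comp (α : P ≃* P).toMonoidHom ∈ C.Hom P
  rw [hC P]
  have hle : P ⊔ W ≤ P := sup_le le_rfl hWP
  refine ⟨hα, hPC, fun x => hPC (α x).2,
    (P.subtype.comp (α : P ≃* P).toMonoidHom).comp (Subgroup.inclusion hle), hom_restrict F hle hα,
    fun x => rfl, ?_⟩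
  intro x
  show ((α (Subgroup.inclusion hle (Subgroup.inclusion le_sup_right x)) : P) : Ω) = x
  have h3 := hfix (Subgroup.inclusion hle (Subgroup.inclusion le_sup_right x)) x.2
  rw [h3]
  rfl

/-- The family `{J(S)}`. -/
def famJ : ∀ (Ω : Type u) [Group Ω], Subgroup Ω → Set (Subgroup Ω) :=
  fun _ _ S => {Cfsg.thompsonSubgroupAOf S}

/-- The family `{Z(S)}`. -/
def famZ : ∀ (Ω : Type u) [Group Ω], Subgroup Ω → Set (Subgroup Ω) :=
  fun _ _ S => {S ⊓ Subgroup.centralizer (S : Set _)}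

/-- The invariant: `p` is odd or the system is locally `S₄`-free. -/
def InvS4 (p : ℕ) : ∀ (Ω : Type u) [Group Ω] (S : Subgroup Ω), FusionSystem S → Prop :=
  fun _ _ _ F => p ≠ 2 ∨ LocFree (Equiv.Perm (Fin 4)) p F

theorem thompson_model {p : ℕ} [Fact p.Prime] {Ω : Type u} [Group Ω] {S : Subgroup Ω} [Finite S]
    (hS : IsPGroup p S) {F : FusionSystem S} (hF : F.IsSaturated p)
    (hInv : p ≠ 2 ∨ LocFree (Equiv.Perm (Fin 4)) p F) {R : Subgroup Ω} (hRn : F.IsNormal R)
    (hRc : F.IsCentric R) (hNI : NonInner p F) : Concl famJ.{u} famZ.{u} famEmpty.{u} p F := by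
  obtain ⟨K, _, _, ι, hreal, ⟨Sy, hSy⟩, hK⟩ : ∃ (K : Type u) (_ : Group K) (_ : Finite K) (ι : S →* K),
      F.IsRealizedBy ι ∧ (∃ Sy : Sylow p K, (Sy : Subgroup K) = ι.range) ∧
        (p ≠ 2 ∨ ¬ Involves (Equiv.Perm (Fin 4)) K) := by
    rcases hInv with hp | hfree
    · obtain ⟨G, _, ι, hfin, hreal, hT, -⟩ := Mod.exists_model_of_normal_centric hS hF hRn hRc
      exact ⟨G, inferInstance, hfin, ι, hreal, hT, Or.inl hp⟩
    · obtain ⟨L, _, _, ι, hreal, hT, hfr⟩ := exists_realizing_of_normal_centric hfree hRn hRc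
      exact ⟨L, inferInstance, inferInstance, ι, hreal, hT, Or.inr hfr⟩
  have hS1 := ne_bot_of_nonInner hNI
  have hnpc := not_npc_of_nonInner hreal hS hNI
  by_cases hN : HasNormalPComplement p
      ↥(Subgroup.normalizer ((Cfsg.thompsonSubgroupAOf (Sy : Subgroup K)) : Set K))
  · by_cases hC : HasNormalPComplement p ↥(Subgroup.centralizer
        ((((Sy : Subgroup K) ⊓ Subgroup.centralizer ((Sy : Subgroup K) : Set K) : Subgroup K)) : Set K))
    · exact absurd (Cfsg.Agent.S2800.result Sy hK hC hN) hnpc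
    · right; left
      refine ⟨_, rfl, ?_⟩
      obtain ⟨-, hWS, -⟩ := char_centerOf S hS hS1
      apply badC_of_not_npc_centralizer hreal Sy hSy hWS (centralizerIn_centerOf S)
      rw [map_centerOf hreal.1, ← hSy]
      exact hC
  · left
    refine ⟨_, rfl, ?_⟩
    obtain ⟨-, hWS, hchar⟩ := char_thompsonSubgroupAOf S hS1
    haveI : Finite ↥(Cfsg.thompsonSubgroupAOf S) :=
      Finite.of_injective (Subgroup.inclusion hWS) (Subgroup.inclusion_injective hWS)
    apply bad_of_not_npc_normalizer hreal Sy hSy hWS (normalizerIn_eq_of_char hWS hchar)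
    rw [map_thompsonSubgroupAOf hreal.1, ← hSy]
    exact hN

theorem goodInv_thompson {p : ℕ} [Fact p.Prime] :
    GoodInv (InvS4.{u} p) famJ.{u} famZ.{u} famEmpty.{u} p := by
  constructor
  · intro Ω _ S _ hS hS1 V hV
    rcases hV with hV | hV | hV
    · rw [Set.mem_singleton_iff.mp hV]
      exact char_thompsonSubgroupAOf S hS1
    · rw [Set.mem_singleton_iff.mp hV]
      exact char_centerOf S hS hS1
    · exact absurd hV (Set.notMem_empty _)
  · intro Ω _ S _ hS F hF hInv U hU E hE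
    exact hInv.imp id (fun h => locFree_normalizerSystem hS hF h hU hE)
  · intro Ω _ T _ hT E hE hInv U hU _ E' hfac
    exact hInv.imp id (fun h => locFree_factor hT hE h hU hfac)
  · intro Ω _ S _ hS F hF hInv R hRn hRc hNI
    exact thompson_model hS hF hInv hRn hRc hNI

/-- **Thompson's theorem, general form.** -/
theorem thompson_bad {p : ℕ} [Fact p.Prime] {Ω : Type u} [Group Ω] {S : Subgroup Ω} [Finite S]
    (hS : IsPGroup p S) {F : FusionSystem S} (hF : F.IsSaturated p)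
    (hInv : p ≠ 2 ∨ LocFree (Equiv.Perm (Fin 4)) p F) (hNI : NonInner p F) :
    Bad p F (Cfsg.thompsonSubgroupAOf S) ∨ BadC p F (S ⊓ Subgroup.centralizer (S : Set Ω)) := by
  have h := altInv (Inv := InvS4.{u} p) goodInv_thompson hS hF hInv hNI
  rcases h with ⟨V, hV, hb⟩ | ⟨V, hV, hb⟩ | ⟨V, hV, -⟩
  · left
    rw [Set.mem_singleton_iff.mp hV] at hb
    exact hb
  · right
    rw [Set.mem_singleton_iff.mp hV] at hb
    exact hb
  · exact absurd hV (Set.notMem_empty _)

/-- Some nontrivial characteristic subgroup is bad. -/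
theorem thompson_exists_char_bad {p : ℕ} [Fact p.Prime] {Ω : Type u} [Group Ω] {S : Subgroup Ω} [Finite S]
    (hS : IsPGroup p S) {F : FusionSystem S} (hF : F.IsSaturated p)
    (hInv : p ≠ 2 ∨ LocFree (Equiv.Perm (Fin 4)) p F) (hNI : NonInner p F) :
    ∃ V : Subgroup Ω, V ≠ ⊥ ∧ V ≤ S ∧ (V.subgroupOf S).Characteristic ∧ Bad p F V := by
  have hS1 := ne_bot_of_nonInner hNI
  rcases thompson_bad hS hF hInv hNI with hb | hb
  · obtain ⟨h1, h2, h3⟩ := char_thompsonSubgroupAOf S hS1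
    exact ⟨_, h1, h2, h3, hb⟩
  · obtain ⟨h1, h2, h3⟩ := char_centerOf S hS hS1
    exact ⟨_, h1, h2, h3, hb.bad⟩

end Cfsg.Agent.Lib.Helper18.FusFree
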