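import Mathlib
import Cfsg.Agent.Lib.Helper18.FusThompson
import Cfsg.Agent.S5086
import Cfsg.Agent.Lib.Helper27.FusionConstrained

set_option autoImplicit false

/-!
# Characteristic subgroups and quotients; centralizers of normal subgroups

* `char_preimage`: the full preimage of a characteristic subgroup of `T/U`, `U` characteristic in `T`, is
  characteristic in `T`.
* `centralizerIn_isNormal_of_pprime_trivial`: if `Q` is normal in the saturated system `F` and the automorphisms
  of order prime to `p` of the overgroups of `Q` which are trivial on `Q` are trivial, then `C_S(Q)` is normal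
  in `F`.
-/

namespace Cfsg.Agent.Lib.Helper18.FusFree

open Cfsg Cfsg.FusionSystem Cfsg.Agent.Lib.Helper27 Cfsg.Agent.H26 Cfsg.Agent.Lib.Helper27.LG

universe u

theorem char_of_char_top {G : Type*} [Group G] {V : Subgroup G}
    (h : (V.subgroupOf ⊤).Characteristic) : V.Characteristic := by
  rw [Subgroup.characteristic_iff_le_comap]
  intro φ x hx
  have h1 := Subgroup.characteristic_iff_le_comap.mp h
    ((Subgroup.topEquiv.trans φ).trans Subgroup.topEquiv.symm)
  have h2 : (⟨x, Subgroup.mem_top x⟩ : (⊤ : Subgroup G)) ∈ V.subgroupOf ⊤ :=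
    Subgroup.mem_subgroupOf.mpr hx
  have h3 := h1 h2
  rw [Subgroup.mem_comap, Subgroup.mem_subgroupOf] at h3
  exact h3

theorem char_subgroupOf_congr {Ω : Type*} [Group Ω] {T S : Subgroup Ω} (h : T = S) {V : Subgroup Ω}
    (hV : (V.subgroupOf S).Characteristic) : (V.subgroupOf T).Characteristic := by
  subst h
  exact hV

/-- Transport of a fusion system along an equality of subgroups. -/
theorem exists_transport {Ω : Type*} [Group Ω] {T S : Subgroup Ω} (h : T = S) (E : FusionSystem T) :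
    ∃ E₂ : FusionSystem S, (∀ P : Subgroup Ω, E₂.Hom P = E.Hom P) ∧
      ∀ p : ℕ, E.IsSaturated p → E₂.IsSaturated p := by
  subst h
  exact ⟨E, fun _ => rfl, fun _ h => h⟩

/-- The full preimage of a characteristic subgroup of `T/U`, `U` characteristic in `T`, is characteristic. -/
theorem char_preimage {Ω : Type*} [Group Ω] {T U : Subgroup Ω} [(U.subgroupOf T).Normal]
    (hU : (U.subgroupOf T).Characteristic) {V' : Subgroup (↥T ⧸ U.subgroupOf T)} (hV' : V'.Characteristic) :
    ((preimageAlong (QuotientGroup.mk' (U.subgroupOf T)) V').subgroupOf T).Characteristic := by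
  rw [Subgroup.characteristic_iff_le_comap]
  intro ψ x hx
  rw [Subgroup.mem_comap]
  rw [Subgroup.mem_subgroupOf] at hx ⊢
  obtain ⟨hxT, hxV⟩ := mem_preimageAlong.mp hx
  refine mem_preimageAlong.mpr ⟨(ψ x).2, ?_⟩
  have hmap : (U.subgroupOf T).map ψ.toMonoidHom = U.subgroupOf T :=
    Subgroup.characteristic_iff_map_eq.mp hU ψ
  have h1 := Subgroup.characteristic_iff_le_comap.mp hV'
    (QuotientGroup.congr (U.subgroupOf T) (U.subgroupOf T) ψ hmap) hxV
  rw [Subgroup.mem_comap] at h1
  have h2 : (QuotientGroup.congr (U.subgroupOf T) (U.subgroupOf T) ψ hmap).toMonoidHom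
      (QuotientGroup.mk' (U.subgroupOf T) ⟨(x : Ω), hxT⟩) =
      QuotientGroup.mk' (U.subgroupOf T) (ψ x) :=
    QuotientGroup.congr_mk (U.subgroupOf T) (U.subgroupOf T) ψ hmap x
  rw [h2] at h1
  exact h1

section fix

variable {Ω : Type*} [Group Ω] {S : Subgroup Ω}

/-- The automorphisms in `Aut_F(R)` fixing `Q` elementwise. -/
def fixSub (F : FusionSystem S) (R Q : Subgroup Ω) : Subgroup (F.autGroup R) where
  carrier := {γ | ∀ x : R, (x : Ω) ∈ Q → (γ : MulAut R) x = x}
  one_mem' := fun _ _ => rfl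
  mul_mem' := by
    intro γ δ hγ hδ x hx
    show (γ : MulAut R) ((δ : MulAut R) x) = x
    rw [hδ x hx, hγ x hx]
  inv_mem' := by
    intro γ hγ x hx
    have h1 := hγ x hx
    show ((γ : MulAut R))⁻¹ x = x
    rw [MulAut.inv_apply, MulEquiv.symm_apply_eq]
    exact h1.symm

theorem fixSub_normal (F : FusionSystem S) (R Q : Subgroup Ω)
    (hinv : ∀ α : F.autGroup R, ∀ x : R, (x : Ω) ∈ Q → ((((α : MulAut R) x : R)) : Ω) ∈ Q) :
    (fixSub F R Q).Normal := by
  constructor
  intro γ hγ α x hx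
  have h1 : ((((α⁻¹ : F.autGroup R) : MulAut R) x : R) : Ω) ∈ Q := hinv α⁻¹ x hx
  have h2 := hγ _ h1
  show (α : MulAut R) ((γ : MulAut R) (((α⁻¹ : F.autGroup R) : MulAut R) x)) = x
  rw [h2]
  show (α : MulAut R) (((α : MulAut R))⁻¹ x) = x
  rw [MulAut.inv_apply, MulEquiv.apply_symm_apply]

/-- If `Q` is normal in the saturated system `F` and the automorphisms of order prime to `p` of the overgroups
of `Q` which are trivial on `Q` are trivial, then `C_S(Q)` is normal in `F`. -/
theorem centralizerIn_isNormal_of_pprime_trivial [Finite S] {p : ℕ} [Fact p.Prime] (hS : IsPGroup p S)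
    {F : FusionSystem S} (hF : F.IsSaturated p) {Q : Subgroup Ω} (hQ : F.IsNormal Q)
    (hH : ∀ (P : Subgroup Ω) (α : MulAut P), Q ≤ P → IsIso F (α : P ≃* P) →
      (∀ x : P, (x : Ω) ∈ Q → α x = x) → PPrime p α → α = 1) :
    F.IsNormal (centralizerIn S Q) := by
  have hD : F.StronglyClosed (centralizerIn S Q) := centralizerIn_stronglyClosed_of_normal hQ
  have hQwc : F.WeaklyClosed Q := normal_weaklyClosed hQ
  refine (Cfsg.Agent.S5086.result p hS F hF (centralizerIn S Q)).mpr ⟨hD, fun R hRc hRr => ?_⟩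
  have hQR : Q ≤ R := ((Cfsg.Agent.S5086.result p hS F hF Q).mp hQ).2 R hRc hRr
  have hRS : R ≤ S := hRc.1
  have : Finite ↥R := Finite.of_injective (Subgroup.inclusion hRS) (Subgroup.inclusion_injective hRS)
  have : Finite (MulAut ↥R) := Finite.of_injective (fun e : MulAut ↥R => (e : ↥R → ↥R))
    (fun e e' h => MulEquiv.ext (congrFun h))
  have hinv : ∀ α : F.autGroup R, ∀ x : R, (x : Ω) ∈ Q → ((((α : MulAut R) x : R)) : Ω) ∈ Q :=
    fun α x hx => weaklyClosed_aut_mem hQwc hQR ((mem_autGroup_iff F hRS α).mp α.2) x hx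
  have hpg : IsPGroup p (fixSub F R Q) := by
    apply isPGroup_of_coprime_trivial
    intro β m hm hβ
    have h1 : ((β : F.autGroup R) : MulAut R) = 1 := by
      apply hH R _ hQR ((mem_autGroup_iff F hRS _).mp (β : F.autGroup R).2) β.2 ⟨m, hm, ?_⟩
      have h2 := congrArg (fun w : fixSub F R Q => ((w : F.autGroup R) : MulAut R)) hβ
      simpa using h2
    apply Subtype.ext
    apply Subtype.ext
    exact h1
  have hX := Cfsg.Agent.Lib.Helper1.le_pCore (fixSub_normal F R Q hinv) hpg
  apply le_of_inf_normalizer_le hS hRS hD.1 (fun s hs d hd => stronglyClosed_conj_mem hD hs hd)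
  intro d hd hdnorm
  have hdN : d ∈ normalizerIn S R := ⟨hD.1 hd, hdnorm⟩
  have h1 : conjAutHom S R ⟨d, hdN⟩ ∈ autInducedBy S R := by
    rw [← conjAutHom_range]; exact ⟨_, rfl⟩
  have h1A : conjAutHom S R ⟨d, hdN⟩ ∈ F.autGroup R := autInducedBy_le_autGroup F hRS h1
  have h2 : (⟨conjAutHom S R ⟨d, hdN⟩, h1A⟩ : F.autGroup R) ∈ fixSub F R Q := by
    intro x hx
    apply Subtype.ext
    show ((conjAutHom S R ⟨d, hdN⟩ x : R) : Ω) = x
    rw [conjAutHom_apply]
    have h3 := (mem_centralizerIn_iff.mp hd).2 (x : Ω) hx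
    show d * (x : Ω) * d⁻¹ = x
    rw [← h3, mul_inv_cancel_right]
  apply mem_of_conjAutHom_mem_inn hRc hdN
  rw [← hRr.2]
  exact ⟨_, hX h2, rfl⟩

/-- An automorphism of order prime to `p` preserving `V` is trivial on `V` when `Aut_F(V)` is a `p`-group. -/
theorem fix_of_isPGroup_autGroup [Finite S] {p : ℕ} [Fact p.Prime] {F : FusionSystem S} {V P : Subgroup Ω}
    (hVS : V ≤ S) (hpg : IsPGroup p (F.autGroup V)) {α : MulAut P} (hVP : V ≤ P)
    (hα : IsIso F (α : P ≃* P)) (hαV : ∀ x : P, (x : Ω) ∈ V → ((α x : P) : Ω) ∈ V) (h2 : PPrime p α) :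
    ∀ x : P, (x : Ω) ∈ V → α x = x := by
  have : Finite ↥V := Finite.of_injective (Subgroup.inclusion hVS) (Subgroup.inclusion_injective hVS)
  obtain ⟨n, hn, hαn⟩ := h2
  obtain ⟨e, hedef⟩ : ∃ e : V ≃* V, e = resAut α hVP hαV := ⟨_, rfl⟩
  have he : IsIso F e := by
    have h3 : V.subtype.comp e.toMonoidHom =
        (P.subtype.comp (α : P ≃* P).toMonoidHom).comp (Subgroup.inclusion hVP) := by
      ext u
      rw [hedef]
      rfl
    unfold IsIso
    rw [h3]
    exact hom_restrict F hVP hα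
  have hmem : (e : MulAut V) ∈ F.autGroup V := (mem_autGroup_iff F hVS _).mpr he
  have hen : (e : MulAut V) ^ n = 1 := by
    ext u
    have h3 := pow_apply_of_semiconj (fun u : V => (⟨u, hVP u.2⟩ : P)) α (e : MulAut V) (fun u => by
      rw [hedef]
      rfl) n u
    rw [hαn] at h3
    have h4 : ((⟨u, hVP u.2⟩ : P) : Ω) = ((((e : MulAut V) ^ n) u : V) : Ω) :=
      congrArg (fun w : P => (w : Ω)) h3
    exact h4.symm
  have h3 : (⟨e, hmem⟩ : F.autGroup V) = 1 := by
    apply eq_one_of_pprime hpg hn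
    apply Subtype.ext
    simpa using hen
  have h4 : (e : MulAut V) = 1 := congrArg Subtype.val h3
  intro x hx
  have h5 : e ⟨x, hx⟩ = ⟨x, hx⟩ := by
    rw [h4]
    rfl
  apply Subtype.ext
  have h6 := congrArg (fun w : V => (w : Ω)) h5
  rw [hedef] at h6
  exact h6

end fix

end Cfsg.Agent.Lib.Helper18.FusFree
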