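import Mathlib
import Cfsg.Agent.Lib.Helper27.LG2Central
import Cfsg.Agent.Lib.Helper27.LG2Extremal

set_option autoImplicit false

/-!
# The decomposition `N_F(V) = ⟨C_F(V), N_F(V C_S(V))⟩`

For `V` fully normalized in the saturated system `F` and normal in `S`, every map of the normalizer system of
`V` is the composite of (the restriction of) a map of the normalizer system of `V C_S(V)` and a map of `F`
which is the identity on `V`.
-/

namespace Cfsg.Agent.Lib.Helper18.FusFree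

open Cfsg Cfsg.FusionSystem Cfsg.Agent.Lib.Helper27 Cfsg.Agent.H26 Cfsg.Agent.Lib.Helper27.LG
  Cfsg.Agent.Lib.Helper27.LG2

variable {Ω : Type*} [Group Ω] {S : Subgroup Ω}

/-- The normalizer maps of a subsystem are normalizer maps of the system. -/
theorem normalizerHom_mono {D F : FusionSystem S} (hDF : ∀ P : Subgroup Ω, D.Hom P ⊆ F.Hom P)
    {R A : Subgroup Ω} {φ : A →* Ω} (h : φ ∈ D.normalizerHom R A) : φ ∈ F.normalizerHom R A := by
  obtain ⟨h1, h2, h3, ψ, hψ, h4, h5⟩ := h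
  exact ⟨hDF A h1, h2, h3, ψ, hDF _ hψ, h4, h5⟩

/-- A map `φ` of `F` on `P ≥ V` with `φ(V) = V`, `V` fully normalized and `P ≤ N_S(V)`: the restriction of
`φ` to `V` extends to a map `ψ` of `F` on `P C_S(V)` which maps `V C_S(V)` into itself. -/
theorem exists_ext_hom_sup_centralizer [Finite S] {p : ℕ} [Fact p.Prime] (hS : IsPGroup p S)
    {F : FusionSystem S} (hF : F.IsSaturated p) {V : Subgroup Ω} (hV : F.IsFullyNormalized V)
    {P : Subgroup Ω} {φ : P →* Ω} (hVP : V ≤ P) (hPN : P ≤ normalizerIn S V)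
    (hφ : φ ∈ F.Hom P) (hφV : ∀ x : P, (x : Ω) ∈ V → φ x ∈ V) :
    ∃ ψ ∈ F.Hom (P ⊔ centralizerIn S V),
      (∀ v : V, ψ ⟨v, (le_sup_left : P ≤ P ⊔ centralizerIn S V) (hVP v.2)⟩ = φ ⟨v, hVP v.2⟩) ∧
      (∀ z : ↥(P ⊔ centralizerIn S V), (z : Ω) ∈ V ⊔ centralizerIn S V →
        ψ z ∈ V ⊔ centralizerIn S V) := by
  have hVS : V ≤ S := hV.1
  have hPS : P ≤ S := hom_le F hφ
  haveI : Finite ↥V := Finite.of_injective (Subgroup.inclusion hVS) (Subgroup.inclusion_injective hVS)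
  have hrec : F.IsReceptive V := (fa_receptive_of_fullyNormalized hS hF hV).2.1
  have hφV' : ∀ v : V, (φ.comp (Subgroup.inclusion hVP)) v ∈ V := fun v => hφV _ v.2
  have hinj : Function.Injective ((φ.comp (Subgroup.inclusion hVP)).codRestrict V hφV') := by
    intro a b hab
    have h1 : φ (Subgroup.inclusion hVP a) = φ (Subgroup.inclusion hVP b) := congrArg Subtype.val hab
    exact Subgroup.inclusion_injective hVP (F.injective_of_mem hφ h1)
  obtain ⟨e, hev⟩ : ∃ e : V ≃* V, ∀ v : V, ((e v : V) : Ω) = φ ⟨v, hVP v.2⟩ :=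
    ⟨MulEquiv.ofBijective _ ⟨hinj, Finite.injective_iff_surjective.mp hinj⟩, fun v => rfl⟩
  have he : IsIso F e := by
    have h3 : V.subtype.comp e.toMonoidHom = φ.comp (Subgroup.inclusion hVP) := by
      ext u
      exact hev u
    unfold IsIso
    rw [h3]
    exact hom_restrict F hVP hφ
  obtain ⟨ψ, hψ, hψe⟩ := receptive_exists_extension hrec he
  have hPext : P ≤ extender S V (V.subtype.comp e.toMonoidHom) := by
    intro g hg
    rw [mem_extender_iff]
    refine ⟨hPS hg, (hPN hg).2, φ ⟨g, hg⟩, (F.le_of_mem hφ).2 _, ?_⟩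
    intro x hx
    show ((e ⟨g * x * g⁻¹, hx⟩ : V) : Ω) = φ ⟨g, hg⟩ * ((e x : V) : Ω) * (φ ⟨g, hg⟩)⁻¹
    rw [hev, hev]
    have h1 : (⟨((⟨g * x * g⁻¹, hx⟩ : V) : Ω), hVP hx⟩ : P) =
        ⟨g, hg⟩ * ⟨x, hVP x.2⟩ * (⟨g, hg⟩ : P)⁻¹ := Subtype.ext rfl
    rw [h1, map_mul, map_mul, map_inv]
  have hle : P ⊔ centralizerIn S V ≤ extender S V (V.subtype.comp e.toMonoidHom) :=
    sup_le hPext (centralizerIn_le_extender _)
  have hRle : V ⊔ centralizerIn S V ≤ P ⊔ centralizerIn S V := sup_le_sup_right hVP _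
  have hψ₁ : ψ.comp (Subgroup.inclusion hle) ∈ F.Hom (P ⊔ centralizerIn S V) := hom_restrict F hle hψ
  have hψv : ∀ v : V, (ψ.comp (Subgroup.inclusion hle))
      ⟨v, (le_sup_left : P ≤ P ⊔ centralizerIn S V) (hVP v.2)⟩ = φ ⟨v, hVP v.2⟩ := by
    intro v
    rw [← hev]
    exact hψe v v.2 _
  refine ⟨ψ.comp (Subgroup.inclusion hle), hψ₁, hψv, ?_⟩
  obtain ⟨β₀, hβ₀def⟩ : ∃ β₀ : ↥(V ⊔ centralizerIn S V) →* Ω,
      β₀ = (ψ.comp (Subgroup.inclusion hle)).comp (Subgroup.inclusion hRle) := ⟨_, rfl⟩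
  have hβ₀ : β₀ ∈ F.Hom (V ⊔ centralizerIn S V) := by
    rw [hβ₀def]
    exact hom_restrict F hRle hψ₁
  have hβU : ∀ u : V, β₀ (Subgroup.inclusion le_sup_left u) = (e u : Ω) := by
    intro u
    rw [hβ₀def]
    exact hψe u u.2 _
  have hβC : ∀ c : centralizerIn S V, β₀ (Subgroup.inclusion le_sup_right c) ∈ centralizerIn S V := by
    intro c
    rw [mem_centralizerIn_iff]
    refine ⟨(F.le_of_mem hβ₀).2 _, fun y hy => ?_⟩
    obtain ⟨u, hu⟩ : ∃ u : V, ((e u : V) : Ω) = y := ⟨e.symm ⟨y, hy⟩, by simp⟩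
    rw [← hu, ← hβU u, ← map_mul, ← map_mul]
    congr 1
    apply Subtype.ext
    have hc := (mem_centralizerIn_iff.mp c.2).2 u u.2
    exact hc
  have hβR : ∀ z : ↥(V ⊔ centralizerIn S V), β₀ z ∈ V ⊔ centralizerIn S V := by
    apply map_sup_mem
    · intro u
      rw [hβU]
      exact Subgroup.mem_sup_left (e u).2
    · intro c
      exact Subgroup.mem_sup_right (hβC c)
  intro z hz
  have h1 := hβR ⟨z, hz⟩
  rw [hβ₀def] at h1
  exact h1

/-- **Decomposition.** If the subsystem `Eg` contains the normalizer system of `V C_S(V)` and the maps of `F`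
which are the identity on `V`, then it contains the normalizer system of `V` (for `V` fully normalized and
normal in `S`). -/
theorem normalizerHom_mem_of_parts [Finite S] {p : ℕ} [Fact p.Prime] (hS : IsPGroup p S)
    {F : FusionSystem S} (hF : F.IsSaturated p) {V : Subgroup Ω} (hVfn : F.IsFullyNormalized V)
    (hVn : normalizerIn S V = S) (Eg : FusionSystem S)
    (hR₀ : ∀ (Q : Subgroup Ω) (φ : Q →* Ω), φ ∈ F.normalizerHom (V ⊔ centralizerIn S V) Q → φ ∈ Eg.Hom Q)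
    (hC : ∀ (A : Subgroup Ω) (χ : A →* Ω), χ ∈ F.Hom A → V ≤ A → (∀ x : A, (x : Ω) ∈ V → χ x = x) →
      χ ∈ Eg.Hom A) :
    ∀ (P : Subgroup Ω) (φ : P →* Ω), φ ∈ F.normalizerHom V P → φ ∈ Eg.Hom P := by
  intro P φ hφ
  have hVS : V ≤ S := hVfn.1
  haveI : Finite ↥V := Finite.of_injective (Subgroup.inclusion hVS) (Subgroup.inclusion_injective hVS)
  obtain ⟨φ₁, hφ₁, hφφ₁, hφ₁V, hP₁N, -⟩ := normalizerHom_ext hφ
  obtain ⟨ψ, hψ, hψV, hψR⟩ := exists_ext_hom_sup_centralizer hS hF hVfn le_sup_right hP₁N hφ₁ hφ₁V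
  have hRS : V ⊔ centralizerIn S V ≤ S := sup_le hVS (centralizerIn_le_S S V)
  haveI : Finite ↥(V ⊔ centralizerIn S V) :=
    Finite.of_injective (Subgroup.inclusion hRS) (Subgroup.inclusion_injective hRS)
  have hRn : normalizerIn S (V ⊔ centralizerIn S V) = S := normalizerIn_sup_centralizerIn hVS hVn
  have hRle : V ⊔ centralizerIn S V ≤ (P ⊔ V) ⊔ centralizerIn S V := sup_le_sup_right le_sup_right _
  have hψn : ψ ∈ F.normalizerHom (V ⊔ centralizerIn S V) ((P ⊔ V) ⊔ centralizerIn S V) :=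
    mem_normalizerHom_of_preserves F hRle (by rw [hRn]; exact hom_le F hψ) hψ hψR
  have hψEg : ψ ∈ Eg.Hom ((P ⊔ V) ⊔ centralizerIn S V) := hR₀ _ ψ hψn
  -- the restriction of `ψ` to `P ⊔ V`
  have hψ₁F : ψ.comp (Subgroup.inclusion le_sup_left) ∈ F.Hom (P ⊔ V) := hom_restrict F le_sup_left hψ
  have hψ₁Eg : ψ.comp (Subgroup.inclusion le_sup_left) ∈ Eg.Hom (P ⊔ V) :=
    hom_restrict Eg le_sup_left hψEg
  obtain ⟨e₁, he₁F, hex₁⟩ := exists_isIso_of_hom F hψ₁F rfl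
  have he₁Eg : IsIso Eg e₁ := by
    have h3 : (ψ.comp (Subgroup.inclusion (le_sup_left : P ⊔ V ≤ (P ⊔ V) ⊔ centralizerIn S V))).range.subtype.comp
        e₁.toMonoidHom = ψ.comp (Subgroup.inclusion le_sup_left) := by
      ext x
      exact hex₁ x
    unfold IsIso
    rw [h3]
    exact hψ₁Eg
  obtain ⟨f, hfF, hfx⟩ := exists_isIso_of_hom F hφ₁ rfl
  -- `φ₁` maps `V` onto `V`
  have hsurjV : ∀ y ∈ V, ∃ v : V, φ₁ ⟨v, (le_sup_right : V ≤ P ⊔ V) v.2⟩ = y := by
    have hφV' : ∀ v : V, (φ₁.comp (Subgroup.inclusion (le_sup_right : V ≤ P ⊔ V))) v ∈ V :=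
      fun v => hφ₁V _ v.2
    have hinj : Function.Injective
        ((φ₁.comp (Subgroup.inclusion (le_sup_right : V ≤ P ⊔ V))).codRestrict V hφV') := by
      intro a b hab
      have h1 : φ₁ (Subgroup.inclusion le_sup_right a) = φ₁ (Subgroup.inclusion le_sup_right b) :=
        congrArg Subtype.val hab
      exact Subgroup.inclusion_injective _ (F.injective_of_mem hφ₁ h1)
    have hsurj := Finite.injective_iff_surjective.mp hinj
    intro y hy
    obtain ⟨v, hv⟩ := hsurj ⟨y, hy⟩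
    exact ⟨v, congrArg Subtype.val hv⟩
  -- the map `χ`
  have hχF : IsIso F (e₁.symm.trans f) := IsIso.trans (IsIso.symm he₁F) hfF
  have hVχ : V ≤ (ψ.comp (Subgroup.inclusion (le_sup_left : P ⊔ V ≤ (P ⊔ V) ⊔ centralizerIn S V))).range := by
    intro y hy
    obtain ⟨v, hv⟩ := hsurjV y hy
    refine ⟨⟨v, (le_sup_right : V ≤ P ⊔ V) v.2⟩, ?_⟩
    rw [← hv]
    exact hψV v
  have hχfix : ∀ x : ↥(ψ.comp (Subgroup.inclusion (le_sup_left : P ⊔ V ≤ (P ⊔ V) ⊔ centralizerIn S V))).range,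
      (x : Ω) ∈ V → (φ₁.range.subtype.comp (e₁.symm.trans f).toMonoidHom) x = x := by
    intro x hx
    obtain ⟨v, hv⟩ := hsurjV x hx
    have h1 : e₁ ⟨v, (le_sup_right : V ≤ P ⊔ V) v.2⟩ = x := by
      apply Subtype.ext
      rw [hex₁]
      rw [← hv]
      exact hψV v
    show ((f (e₁.symm x) : φ₁.range) : Ω) = x
    rw [← h1, MulEquiv.symm_apply_apply, hfx, h1]
    exact hv
  have hχEg : IsIso Eg (e₁.symm.trans f) := hC _ _ hχF hVχ hχfix
  have hfEg : IsIso Eg f := by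
    have h1 : IsIso Eg (e₁.trans (e₁.symm.trans f)) := IsIso.trans he₁Eg hχEg
    have h2 : e₁.trans (e₁.symm.trans f) = f := by
      ext x
      simp
    rw [h2] at h1
    exact h1
  have hφ₁Eg : φ₁ ∈ Eg.Hom (P ⊔ V) := by
    have h3 : φ₁.range.subtype.comp f.toMonoidHom = φ₁ := by
      ext x
      exact hfx x
    unfold IsIso at hfEg
    rw [h3] at hfEg
    exact hfEg
  rw [hφφ₁]
  exact hom_restrict Eg le_sup_left hφ₁Eg

end Cfsg.Agent.Lib.Helper18.FusFree
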