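import Mathlib
import Cfsg.Agent.Lib.Helper18.FusBad
import Cfsg.Agent.Lib.Helper27.FusionNormalCrit
import Cfsg.Agent.Lib.Helper27.FusionRadical
import Cfsg.Agent.Lib.Helper27.FusionConstrained
import Cfsg.Agent.Lib.Helper1.Cores
import Cfsg.Agent.S5086
import Cfsg.Agent.S5134

set_option autoImplicit false

/-!
# Lifting innerness from a factor system

If `U` is normal in the saturated system `E` over the finite `p`-group `T` and the factor system `E/U` is
inner, then `U C_T(U)` is normal and centric in `E` (so `E` is constrained).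
-/

namespace Cfsg.Agent.Lib.Helper18.FusRed

open Cfsg Cfsg.FusionSystem Cfsg.Agent.Lib.Helper27 Cfsg.Agent.H26

variable {Ω : Type*} [Group Ω] {T : Subgroup Ω}

theorem mem_sup_centralizerIn {U : Subgroup Ω} {x : Ω} (hx : x ∈ U ⊔ centralizerIn T U) :
    ∃ u ∈ U, ∃ c ∈ centralizerIn T U, x = u * c := by
  rw [Subgroup.sup_eq_closure] at hx
  induction hx using Subgroup.closure_induction with
  | mem x hx =>
    rcases hx with hx | hx
    · exact ⟨x, hx, 1, Subgroup.one_mem _, (mul_one x).symm⟩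
    · exact ⟨1, Subgroup.one_mem _, x, hx, (one_mul x).symm⟩
  | one => exact ⟨1, Subgroup.one_mem _, 1, Subgroup.one_mem _, (mul_one 1).symm⟩
  | mul x y _ _ hx hy =>
    obtain ⟨u, hu, c, hc, rfl⟩ := hx
    obtain ⟨u', hu', c', hc', rfl⟩ := hy
    refine ⟨u * u', U.mul_mem hu hu', c * c', Subgroup.mul_mem _ hc hc', ?_⟩
    have hcomm : u' * c = c * u' := (mem_centralizerIn_iff.mp hc).2 u' hu'
    calc u * c * (u' * c') = u * (c * u') * c' := by group
      _ = u * (u' * c) * c' := by rw [hcomm]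
      _ = u * u' * (c * c') := by group
  | inv x _ hx =>
    obtain ⟨u, hu, c, hc, rfl⟩ := hx
    refine ⟨u⁻¹, U.inv_mem hu, c⁻¹, Subgroup.inv_mem _ hc, ?_⟩
    have hcomm : u * c = c * u := (mem_centralizerIn_iff.mp hc).2 u hu
    rw [hcomm, mul_inv_rev]

theorem sup_centralizerIn_stronglyClosed [Finite T] {E : FusionSystem T} {U : Subgroup Ω}
    (hU : E.IsNormal U) : E.StronglyClosed (U ⊔ centralizerIn T U) := by
  have hC : E.StronglyClosed (centralizerIn T U) := centralizerIn_stronglyClosed_of_normal hU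
  refine ⟨sup_le hU.1 (centralizerIn_le_S T U), fun X hX φ hφ x => ?_⟩
  obtain ⟨ψ, hψ, h1, h2⟩ := hU.2 X φ hφ
  obtain ⟨u, hu, c, hc, hxuc⟩ := mem_sup_centralizerIn (hX x.2)
  set xu : ↥(X ⊔ U) := ⟨u, (le_sup_right : U ≤ X ⊔ U) hu⟩ with hxu
  set xx : ↥(X ⊔ U) := Subgroup.inclusion le_sup_left x with hxx
  have hxc : ((xu⁻¹ * xx : ↥(X ⊔ U)) : Ω) = c := by
    show u⁻¹ * (x : Ω) = c
    rw [hxuc]; group
  have hdecomp : xx = xu * (xu⁻¹ * xx) := by group
  rw [← h1 x]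
  show ψ xx ∈ _
  rw [hdecomp, map_mul]
  apply Subgroup.mul_mem
  · apply Subgroup.mem_sup_left
    have h3 : ψ xu ∈ (U.subgroupOf (X ⊔ U)).map ψ := ⟨xu, Subgroup.mem_subgroupOf.mpr hu, rfl⟩
    rw [h2] at h3
    exact h3
  · apply Subgroup.mem_sup_right
    apply stronglyClosed_hom_mem hC hψ
    rw [hxc]; exact hc

/-- An automorphism in `E` of a subgroup `P ⊇ U` is, modulo `U`, conjugation by an element of `T`,
when the factor system modulo `U` is inner. -/
theorem exists_conj_mod [Finite T] {p : ℕ} [Fact p.Prime] (hT : IsPGroup p T) {E : FusionSystem T}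
    (hE : E.IsSaturated p) {U : Subgroup Ω} (hU : E.StronglyClosed U) {Ω' : Type*} [Group Ω']
    {S' : Subgroup Ω'} (θ : T →* Ω') (Ebar : FusionSystem S') (hEbar : E.IsFactorSystem U θ Ebar)
    (hinn : ∀ P' : Subgroup Ω', Ebar.Hom P' = (innerFusionSystem S').Hom P')
    {P : Subgroup Ω} {γ : P ≃* P} (hγ : IsIso E γ) :
    ∃ s ∈ T, ∀ x : P, (s * (x : Ω) * s⁻¹)⁻¹ * ((γ x : P) : Ω) ∈ U := by
  have hmor := Cfsg.Agent.S5134.result p hT E hE U hU θ Ebar hEbar
  obtain ⟨-, hker, hrange, -⟩ := hEbar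
  obtain ⟨φ', hφ', hPT, hφT, hP', H⟩ := hmor.1.2 P _ hγ
  rw [hinn] at hφ'
  obtain ⟨-, g, hg, hgx⟩ := hφ'
  rw [← hrange] at hg
  obtain ⟨s, rfl⟩ := hg
  refine ⟨s, s.2, fun x => ?_⟩
  have h1 := H x
  rw [hgx] at h1
  have hmem : s * (x : Ω) * s⁻¹ ∈ T := T.mul_mem (T.mul_mem s.2 (hPT x.2)) (T.inv_mem s.2)
  have hγx : ((γ x : P) : Ω) ∈ T := hPT (γ x).2
  have h2 : θ (⟨s * (x : Ω) * s⁻¹, hmem⟩⁻¹ * ⟨((γ x : P) : Ω), hγx⟩) = 1 := by
    have h3 : (⟨s * (x : Ω) * s⁻¹, hmem⟩ : T) = s * ⟨x, hPT x.2⟩ * s⁻¹ := Subtype.ext rfl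
    rw [map_mul, map_inv, h3, map_mul, map_mul, map_inv]
    have h4 : θ ⟨((γ x : P) : Ω), hγx⟩ = θ s * θ ⟨x, hPT x.2⟩ * (θ s)⁻¹ := h1.symm
    rw [h4]; group
  exact (hker _).mp h2

/-- The automorphisms in `E` of `P` fixing `U` pointwise. -/
def fixAut (E : FusionSystem T) (P U : Subgroup Ω) : Subgroup (E.autGroup P) where
  carrier := {γ | ∀ x : P, (x : Ω) ∈ U → (γ : MulAut P) x = x}
  one_mem' := fun x _ => rfl
  mul_mem' := by
    intro a b ha hb x hx
    show (a : MulAut P) ((b : MulAut P) x) = x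
    rw [hb x hx, ha x hx]
  inv_mem' := by
    intro a ha x hx
    have h1 := ha x hx
    show ((a : MulAut P))⁻¹ x = x
    rw [MulAut.inv_apply, MulEquiv.symm_apply_eq]
    exact h1.symm

theorem fixAut_normal [Finite T] {E : FusionSystem T} {P U : Subgroup Ω} (hPT : P ≤ T)
    (hU : E.StronglyClosed U) : (fixAut E P U).Normal := by
  constructor
  intro γ hγ α x hx
  have hα : IsIso E (((α⁻¹ : E.autGroup P) : MulAut P) : P ≃* P) :=
    (mem_autGroup_iff E hPT _).mp (α⁻¹).2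
  have h1 : ((((α⁻¹ : E.autGroup P) : MulAut P) x : P) : Ω) ∈ U := stronglyClosed_aut_mem hU hα hx
  have h2 := hγ _ h1
  show (α : MulAut P) ((γ : MulAut P) (((α⁻¹ : E.autGroup P) : MulAut P) x)) = x
  rw [h2]
  show (α : MulAut P) (((α : MulAut P))⁻¹ x) = x
  simp

theorem pow_fix {P : Subgroup Ω} {U : Subgroup Ω} (δ : MulAut P)
    (hfix : ∀ x : P, (x : Ω) ∈ U → δ x = x) (x : P) (hx : (x : Ω)⁻¹ * ((δ x : P) : Ω) ∈ U) (j : ℕ) :
    (δ ^ j) x = x * (x⁻¹ * δ x) ^ j := by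
  induction j with
  | zero => simp
  | succ j ih =>
    rw [pow_succ', MulAut.mul_apply, ih, map_mul, map_pow]
    have hz : δ (x⁻¹ * δ x) = x⁻¹ * δ x := hfix _ hx
    rw [hz, pow_succ' (x⁻¹ * δ x) j, ← mul_assoc, mul_inv_cancel_left]

theorem fixAut_isPGroup [Finite T] {p : ℕ} [Fact p.Prime] (hT : IsPGroup p T) {E : FusionSystem T}
    (hE : E.IsSaturated p) {U : Subgroup Ω} (hU : E.StronglyClosed U) {Ω' : Type*} [Group Ω']
    {S' : Subgroup Ω'} (θ : T →* Ω') (Ebar : FusionSystem S') (hEbar : E.IsFactorSystem U θ Ebar)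
    (hinn : ∀ P' : Subgroup Ω', Ebar.Hom P' = (innerFusionSystem S').Hom P')
    {P : Subgroup Ω} (hPT : P ≤ T) (hUP : U ≤ P) : IsPGroup p (fixAut E P U) := by
  obtain ⟨n, hn⟩ := IsPGroup.iff_card.mp hT
  set m := Nat.card T with hm
  have hpowT : ∀ t ∈ T, t ^ m = 1 := by
    intro t ht
    have h2 : (⟨t, ht⟩ : T) ^ m = 1 := pow_card_eq_one'
    exact congrArg Subtype.val h2
  rintro ⟨γ, hγfix⟩
  refine ⟨n + n, ?_⟩
  apply Subtype.ext
  apply Subtype.ext
  have hγiso : IsIso E ((γ : MulAut P) : P ≃* P) := (mem_autGroup_iff E hPT _).mp γ.2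
  obtain ⟨s, hsT, hs⟩ := exists_conj_mod hT hE hU θ Ebar hEbar hinn hγiso
  -- `s` normalizes `P`
  have hsP1 : ∀ x ∈ P, s * x * s⁻¹ ∈ P := by
    intro x hx
    have h1 := hs ⟨x, hx⟩
    have h2 : s * x * s⁻¹ = (((γ : MulAut P) ⟨x, hx⟩ : P) : Ω) *
        ((s * x * s⁻¹)⁻¹ * (((γ : MulAut P) ⟨x, hx⟩ : P) : Ω))⁻¹ := by group
    rw [h2]
    exact P.mul_mem (SetLike.coe_mem _) (P.inv_mem (hUP h1))
  have hsP : ∀ k : ℕ, ∀ x ∈ P, s ^ k * x * (s ^ k)⁻¹ ∈ P := by
    intro k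
    induction k with
    | zero => intro x hx; simpa using hx
    | succ k ih =>
      intro x hx
      have := hsP1 _ (ih x hx)
      have h2 : s ^ (k + 1) * x * (s ^ (k + 1))⁻¹ = s * (s ^ k * x * (s ^ k)⁻¹) * s⁻¹ := by
        rw [pow_succ']; group
      rw [h2]; exact this
  -- powers of `γ` are conjugation by powers of `s` modulo `U`
  have hb : ∀ k : ℕ, ∀ x : P, (s ^ k * (x : Ω) * (s ^ k)⁻¹)⁻¹ * (((((γ : MulAut P)) ^ k) x : P) : Ω) ∈ U := by
    intro k
    induction k with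
    | zero => intro x; simp
    | succ k ih =>
      intro x
      rw [pow_succ' (γ : MulAut P) k, MulAut.mul_apply]
      set y : P := (((γ : MulAut P)) ^ k) x with hy
      set w : P := ⟨s ^ k * (x : Ω) * (s ^ k)⁻¹, hsP k x x.2⟩ with hw
      have huk : ((w⁻¹ * y : P) : Ω) ∈ U := ih x
      have hyw : y = w * (w⁻¹ * y) := by group
      have hγy : (γ : MulAut P) y = (γ : MulAut P) w * (w⁻¹ * y) := by
        conv_lhs => rw [hyw]
        rw [map_mul, hγfix _ huk]
      rw [hγy]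
      have h1 := hs w
      have h2 : s ^ (k + 1) * (x : Ω) * (s ^ (k + 1))⁻¹ = s * (w : Ω) * s⁻¹ := by
        rw [hw, pow_succ']; group
      rw [h2]
      have h3 : (s * (w : Ω) * s⁻¹)⁻¹ * (((γ : MulAut P) w * (w⁻¹ * y) : P) : Ω) =
          ((s * (w : Ω) * s⁻¹)⁻¹ * (((γ : MulAut P) w : P) : Ω)) * ((w⁻¹ * y : P) : Ω) := by
        rw [Subgroup.coe_mul, ← mul_assoc]
      rw [h3]
      exact U.mul_mem h1 huk
  -- `δ = γ ^ m` stabilizes the chain `1 ≤ U ≤ P`
  have hsm : s ^ m = 1 := hpowT s hsT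
  have hδU : ∀ x : P, (x : Ω)⁻¹ * (((((γ : MulAut P)) ^ m) x : P) : Ω) ∈ U := by
    intro x
    have := hb m x
    rw [hsm] at this
    simpa using this
  have hδfix : ∀ x : P, (x : Ω) ∈ U → (((γ : MulAut P)) ^ m) x = x := by
    intro x hx
    have hmem : (⟨γ, hγfix⟩ : fixAut E P U) ^ m ∈ (⊤ : Subgroup (fixAut E P U)) := Subgroup.mem_top _
    have h1 := ((⟨γ, hγfix⟩ : fixAut E P U) ^ m).2 x hx
    rw [Subgroup.coe_pow, Subgroup.coe_pow] at h1
    exact h1
  have hfin : ∀ x : P, ((((γ : MulAut P)) ^ m) ^ m) x = x := by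
    intro x
    rw [pow_fix _ hδfix x (hδU x) m]
    have hz : (x⁻¹ * (((γ : MulAut P)) ^ m) x) ^ m = 1 := by
      apply Subtype.ext
      rw [Subgroup.coe_pow]
      exact hpowT _ (hPT (SetLike.coe_mem _))
    rw [hz, mul_one]
  show (((⟨γ, hγfix⟩ : fixAut E P U) ^ p ^ (n + n) : fixAut E P U) : E.autGroup P).1 = 1
  rw [Subgroup.coe_pow, Subgroup.coe_pow]
  show (γ : MulAut P) ^ p ^ (n + n) = 1
  rw [pow_add, ← hn, pow_mul]
  ext x
  rw [hfin x]
  rfl

/-- If `U` is normal in the saturated system `E` and the factor system modulo `U` is inner, then `U C_T(U)`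
is normal and centric in `E`. -/
theorem normal_centric_of_factor_inner [Finite T] {p : ℕ} [Fact p.Prime] (hT : IsPGroup p T)
    {E : FusionSystem T} (hE : E.IsSaturated p) {U : Subgroup Ω} (hU : E.IsNormal U) {Ω' : Type*}
    [Group Ω'] {S' : Subgroup Ω'} (θ : T →* Ω') (Ebar : FusionSystem S')
    (hEbar : E.IsFactorSystem U θ Ebar)
    (hinn : ∀ P' : Subgroup Ω', Ebar.Hom P' = (innerFusionSystem S').Hom P') :
    E.IsNormal (U ⊔ centralizerIn T U) ∧ E.IsCentric (U ⊔ centralizerIn T U) := by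
  have hUsc : E.StronglyClosed U := normal_stronglyClosed hU
  have hC : E.StronglyClosed (centralizerIn T U) := centralizerIn_stronglyClosed_of_normal hU
  have hRsc := sup_centralizerIn_stronglyClosed hU
  have hRn : E.IsNormal (U ⊔ centralizerIn T U) := by
    apply isNormal_of_le_frc hT hE hRsc
    intro P _ _ hc hr
    have hPT : P ≤ T := hc.1
    have hUP : U ≤ P := ((Cfsg.Agent.S5086.result p hT E hE U).mp hU).2 P hc hr
    refine sup_le hUP ?_
    apply le_of_inf_normalizer_le' hT hPT (centralizerIn_le_S T U)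
    · intro r hr' d hd
      exact stronglyClosed_conj_mem hC (hPT hr') hd
    · intro d hd hdN
      have hdNT : d ∈ normalizerIn T P := ⟨(centralizerIn_le_S T U) hd, hdN⟩
      apply mem_of_conjAutHom_mem_inn hc hdNT
      rw [← hr.2]
      have hmemA : conjAutHom T P ⟨d, hdNT⟩ ∈ E.autGroup P := by
        apply autInducedBy_le_autGroup E hPT
        rw [← conjAutHom_range]
        exact ⟨_, rfl⟩
      have hfixd : (⟨conjAutHom T P ⟨d, hdNT⟩, hmemA⟩ : E.autGroup P) ∈ fixAut E P U := by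
        intro x hx
        apply Subtype.ext
        show ((conjAutHom T P ⟨d, hdNT⟩ x : P) : Ω) = x
        rw [conjAutHom_apply]
        have hcomm : (x : Ω) * d = d * x := (mem_centralizerIn_iff.mp hd).2 x hx
        show d * (x : Ω) * d⁻¹ = x
        rw [← hcomm]; group
      have hle := Cfsg.Agent.Lib.Helper1.le_pCore (fixAut_normal hPT hUsc)
        (fixAut_isPGroup hT hE hUsc θ Ebar hEbar hinn hPT hUP)
      exact ⟨_, hle hfixd, rfl⟩
  refine ⟨hRn, sup_le hU.1 (centralizerIn_le_S T U), fun Q' hconj => ?_⟩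
  have hQ' : Q' = U ⊔ centralizerIn T U := weaklyClosed_eq_of_isConj (normal_weaklyClosed hRn) hconj
  rw [hQ']
  exact le_trans (centralizerIn_anti le_sup_left) le_sup_right

end Cfsg.Agent.Lib.Helper18.FusRed
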