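import Mathlib
import Cfsg.Agent.Lib.Helper18.FusBad
import Cfsg.Agent.Lib.Helper27.ModelMain
import Cfsg.Agent.Lib.Helper27.FusionRealizedSub
import Cfsg.Agent.S3082
import Cfsg.Agent.S0071

set_option autoImplicit false

/-!
# The constrained case of the Glauberman–Thompson criterion for fusion systems

A saturated system `E` over `T` with a normal centric subgroup has a model `G`.  If `D` is strongly closed in
`E`, `p` is odd, and every automorphism in `E` normalizing `Z(J(D))` of a subgroup containing `Z(J(D))` is a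
`p`-element, then `N_G(Z(J(D)))` has a normal `p`-complement (Frobenius), so `G` has one
(Glauberman–Thompson for strongly closed subgroups), hence `E` is inner.
-/

namespace Cfsg.Agent.Lib.Helper18.FusRed

open Cfsg Cfsg.FusionSystem Cfsg.Agent.Lib.Helper27 Cfsg.Agent.H26

universe u

section

variable {Ω : Type*} [Group Ω] {T : Subgroup Ω} {G : Type*} [Group G]

/-- A system realized in a group in which the image of `T` has a normal complement is inner. -/
theorem inner_of_realized_complement {E : FusionSystem T} {ι : T →* G} (hreal : E.IsRealizedBy ι)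
    (K : Subgroup G) (hKn : K.Normal) (hK : K.IsComplement' ι.range) :
    ∀ P : Subgroup Ω, E.Hom P = (innerFusionSystem T).Hom P := by
  intro P
  apply Set.Subset.antisymm _ (inner_le E P)
  intro φ hφ
  obtain ⟨hPT, hφT⟩ := E.le_of_mem hφ
  obtain ⟨g, hg⟩ := (hreal.2 P hPT φ hφT).mp hφ
  obtain ⟨⟨k, s⟩, hks⟩ := hK.2 g
  obtain ⟨t, ht⟩ := s.2
  have hks' : (k : G) * ι t = g := by rw [ht]; exact hks
  have hdisj : K ⊓ ι.range = ⊥ := disjoint_iff.mp hK.disjoint
  refine ⟨hPT, t, t.2, fun x => ?_⟩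
  set y : G := ι t * ι ⟨x, hPT x.2⟩ * (ι t)⁻¹ with hy
  have hyr : y ∈ ι.range := ⟨t * ⟨x, hPT x.2⟩ * t⁻¹, by rw [map_mul, map_mul, map_inv]⟩
  have hgx : g * ι ⟨x, hPT x.2⟩ * g⁻¹ = (k : G) * y * (k : G)⁻¹ := by
    rw [← hks', hy]; group
  have h1 : y⁻¹ * ((k : G) * y * (k : G)⁻¹) ∈ K ⊓ ι.range := by
    constructor
    · have : y⁻¹ * ((k : G) * y * (k : G)⁻¹) = (y⁻¹ * (k : G) * y⁻¹⁻¹) * (k : G)⁻¹ := by group
      rw [this]
      exact K.mul_mem (hKn.conj_mem _ k.2 _) (K.inv_mem k.2)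
    · apply Subgroup.mul_mem _ (Subgroup.inv_mem _ hyr)
      rw [← hgx, ← hg x]
      exact ⟨_, rfl⟩
  rw [hdisj, Subgroup.mem_bot] at h1
  have h2 : (k : G) * y * (k : G)⁻¹ = y := by
    have := congrArg (fun z => y * z) h1
    simpa using this
  have h3 : ι ⟨φ x, hφT x⟩ = ι (t * ⟨x, hPT x.2⟩ * t⁻¹) := by
    rw [hg x, hgx, h2, hy, map_mul, map_mul, map_inv]
  exact congrArg Subtype.val (hreal.1 h3)

/-- A strongly closed subgroup of a realized system is strongly closed in the realizing group. -/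
theorem isStronglyClosed_map {E : FusionSystem T} {ι : T →* G} (hreal : E.IsRealizedBy ι)
    {D : Subgroup Ω} (hD : E.StronglyClosed D) :
    Cfsg.IsStronglyClosed ((D.subgroupOf T).map ι) ι.range := by
  refine ⟨?_, ?_⟩
  · rintro _ ⟨d, -, rfl⟩
    exact ⟨d, rfl⟩
  · rintro _ ⟨d, hd, rfl⟩ g ⟨t, ht⟩
    have hd' : (d : Ω) ∈ D := Subgroup.mem_subgroupOf.mp hd
    have hzT : Subgroup.zpowers (d : Ω) ≤ T := (Subgroup.zpowers_le).mpr d.2
    have hcond : ∀ x ∈ Subgroup.zpowers (d : Ω), g * ext1 ι x * g⁻¹ ∈ ι.range := by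
      intro x hx
      obtain ⟨n, rfl⟩ := Subgroup.mem_zpowers_iff.mp hx
      have h1 : ext1 ι ((d : Ω) ^ n) = (ι d) ^ n := by
        rw [← map_zpow, ← ext1_coe ι (d ^ n), Subgroup.coe_zpow]
      rw [h1]
      have h2 : g * (ι d) ^ n * g⁻¹ = (g * ι d * g⁻¹) ^ n := (conj_zpow).symm
      rw [h2, ← ht, ← map_zpow]
      exact ⟨_, rfl⟩
    have hφ := rconj_mem_hom hreal g hzT hcond
    have h3 := hD.2 _ ((Subgroup.zpowers_le).mpr hd') _ hφ ⟨(d : Ω), Subgroup.mem_zpowers _⟩
    have h4 := ext1_rconj hreal.1 g hzT hcond ⟨(d : Ω), Subgroup.mem_zpowers _⟩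
    have hmemT := rconj_mem hreal.1 g hzT hcond ⟨(d : Ω), Subgroup.mem_zpowers _⟩
    rw [ext1_of_mem ι hmemT] at h4
    have h5 : ext1 ι ((⟨(d : Ω), Subgroup.mem_zpowers _⟩ : Subgroup.zpowers (d : Ω)) : Ω) = ι d :=
      ext1_coe ι d
    rw [h5] at h4
    rw [← h4]
    exact ⟨⟨_, hmemT⟩, Subgroup.mem_subgroupOf.mpr h3, rfl⟩

/-- An element of `G` normalizing `N ≤ ι(T)` induces an automorphism in `E` of the pull-back of `N`. -/
theorem exists_aut_of_normalizes [Finite T] {E : FusionSystem T} {ι : T →* G} (hreal : E.IsRealizedBy ι)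
    {N : Subgroup G} (hN : N ≤ ι.range) {g : G} (hg : ∀ y ∈ N, g * y * g⁻¹ ∈ N) :
    ∃ α : pullback ι N ≃* pullback ι N, IsIso E α ∧
      ∀ x : pullback ι N, ext1 ι ((α x : pullback ι N) : Ω) = g * ext1 ι (x : Ω) * g⁻¹ := by
  have hPT : pullback ι N ≤ T := pullback_le ι N
  have : Finite ↥(pullback ι N) :=
    Finite.of_injective (Subgroup.inclusion hPT) (Subgroup.inclusion_injective hPT)
  have hcond : ∀ x ∈ pullback ι N, g * ext1 ι x * g⁻¹ ∈ ι.range := fun x hx =>
    hN (hg _ (mem_pullback_iff.mp hx).2)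
  have hψ := rconj_mem_hom hreal g hPT hcond
  have hψmem : ∀ x : pullback ι N, (x : Ω) ∈ pullback ι N → rconj hreal.1 g hPT hcond x ∈ pullback ι N := by
    intro x _
    refine mem_pullback_iff.mpr ⟨rconj_mem hreal.1 g hPT hcond x, ?_⟩
    rw [ext1_rconj]
    exact hg _ (mem_pullback_iff.mp x.2).2
  obtain ⟨α, hα, hαx⟩ := exists_aut_restrict E (le_refl (pullback ι N)) hψ hψmem
  refine ⟨α, hα, fun x => ?_⟩
  rw [hαx, ← ext1_rconj hreal.1 g hPT hcond x]

theorem ext1_pow_apply {ι : T →* G} {P : Subgroup Ω} (α : P ≃* P) (hPT : P ≤ T) (g : G)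
    (h : ∀ x : P, ext1 ι ((α x : P) : Ω) = g * ext1 ι (x : Ω) * g⁻¹) (j : ℕ) (x : P) :
    ext1 ι ((((α : MulAut P) ^ j) x : P) : Ω) = g ^ j * ext1 ι (x : Ω) * (g ^ j)⁻¹ := by
  induction j generalizing x with
  | zero => simp
  | succ j ih =>
    rw [pow_succ', MulAut.mul_apply]
    have h1 := h (((α : MulAut P) ^ j) x)
    rw [show ((α : MulAut P) (((α : MulAut P) ^ j) x)) = α (((α : MulAut P) ^ j) x) from rfl, h1, ih x,
      pow_succ']
    group

end

section Main

variable {Ω : Type u} [Group Ω] {T : Subgroup Ω}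

open Cfsg.Agent.Lib.Helper27.Mod in
/-- The constrained case: a saturated system with a normal centric subgroup, a strongly closed subgroup `D`,
`p` odd, in which `Z(J(D))` is not bad, is inner. -/
theorem inner_of_normal_centric [Finite T] {p : ℕ} [Fact p.Prime] (hp : p ≠ 2) (hT : IsPGroup p T)
    {E : FusionSystem T} (hE : E.IsSaturated p) {R : Subgroup Ω} (hRn : E.IsNormal R)
    (hRc : E.IsCentric R) {D : Subgroup Ω} (hD : E.StronglyClosed D)
    (hbad : ¬ Bad p E (Cfsg.centerThompsonAOf D)) :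
    ∀ P : Subgroup Ω, E.Hom P = (innerFusionSystem T).Hom P := by
  obtain ⟨G, hG, ι, hfin, hreal, ⟨Sy, hSy⟩, -⟩ := exists_model_of_normal_centric hT hE hRn hRc
  have hDT : D ≤ T := hD.1
  have hinj : Function.Injective ι := hreal.1
  set DG : Subgroup G := (D.subgroupOf T).map ι with hDG
  have hDGsc : Cfsg.IsStronglyClosed DG (Sy : Subgroup G) := by
    rw [hSy]; exact isStronglyClosed_map hreal hD
  have hZD : Cfsg.centerThompsonAOf D ≤ D := centerThompsonAOf_le D
  have hW : Cfsg.centerThompsonAOf DG = ((Cfsg.centerThompsonAOf D).subgroupOf T).map ι :=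
    centerThompsonAOf_map_injective ι hinj hDT
  have hTD : T ≤ Subgroup.normalizer (D : Set Ω) := le_normalizer_of_stronglyClosed hD
  have hTZ : T ≤ Subgroup.normalizer (Cfsg.centerThompsonAOf D : Set Ω) :=
    hTD.trans (normalizer_le_normalizer_centerThompsonAOf D)
  have hWle : Cfsg.centerThompsonAOf DG ≤ ι.range := by
    rw [hW]; rintro _ ⟨z, -, rfl⟩; exact ⟨z, rfl⟩
  -- `Sy` normalizes `W`
  have hSyH : (Sy : Subgroup G) ≤ Subgroup.normalizer (Cfsg.centerThompsonAOf DG : Set G) := by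
    rw [hSy]
    rintro _ ⟨t, rfl⟩
    apply mem_normalizer_of_conj_mem
    intro y hy
    rw [hW] at hy ⊢
    obtain ⟨z, hz, rfl⟩ := hy
    have hz' : (z : Ω) ∈ Cfsg.centerThompsonAOf D := Subgroup.mem_subgroupOf.mp hz
    refine ⟨t * z * t⁻¹, Subgroup.mem_subgroupOf.mpr ?_, by rw [map_mul, map_mul, map_inv]⟩
    exact (Subgroup.mem_normalizer_iff.mp (hTZ t.2) _).mp hz'
  -- Frobenius' criterion in `N_G(W)`
  have hN : Cfsg.HasNormalPComplement p ↥(Subgroup.normalizer (Cfsg.centerThompsonAOf DG : Set G)) := by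
    refine ⟨Sy.subtype hSyH, ?_⟩
    apply (Cfsg.Agent.S0071.result (Sy.subtype hSyH)).mpr
    intro Q hQ g hgN hcop
    have hQSy : ∀ q ∈ Q, (q : G) ∈ ι.range := by
      intro q hq
      have := hQ hq
      rw [Sylow.coe_subtype, Subgroup.mem_subgroupOf, hSy] at this
      exact this
    set NG : Subgroup G := Q.map (Subgroup.subtype _) ⊔ Cfsg.centerThompsonAOf DG with hNG
    have hNGle : NG ≤ ι.range := by
      refine sup_le ?_ hWle
      rintro _ ⟨q, hq, rfl⟩
      exact hQSy q hq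
    have hgW : ∀ y ∈ Cfsg.centerThompsonAOf DG, (g : G) * y * (g : G)⁻¹ ∈ Cfsg.centerThompsonAOf DG :=
      fun y hy => (Subgroup.mem_normalizer_iff.mp g.2 y).mp hy
    have hgQ : ∀ y ∈ Q.map (Subgroup.subtype _), (g : G) * y * (g : G)⁻¹ ∈ Q.map (Subgroup.subtype _) := by
      rintro _ ⟨q, hq, rfl⟩
      exact ⟨g * q * g⁻¹, (Subgroup.mem_normalizer_iff.mp hgN q).mp hq, rfl⟩
    have hgNG : ∀ y ∈ NG, (g : G) * y * (g : G)⁻¹ ∈ NG := by
      have hle : NG ≤ NG.comap (MulAut.conj (g : G)).toMonoidHom := by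
        refine sup_le ?_ ?_
        · intro y hy
          exact Subgroup.mem_sup_left (hgQ y hy)
        · intro y hy
          exact Subgroup.mem_sup_right (hgW y hy)
      intro y hy
      exact hle hy
    obtain ⟨α, hα, hαx⟩ := exists_aut_of_normalizes hreal hNGle hgNG
    have hPT : pullback ι NG ≤ T := pullback_le ι NG
    -- `α` is a `p`-element, since `Z(J(D))` is not bad
    have hex : ∃ k : ℕ, (α : MulAut ↥(pullback ι NG)) ^ p ^ k = 1 := by
      by_contra hcon
      push Not at hcon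
      apply hbad
      refine ⟨pullback ι NG, α, ?_, ?_, hα, ?_, hcon⟩
      · intro z hz
        have hzT : z ∈ T := hDT (hZD hz)
        refine mem_pullback_iff.mpr ⟨hzT, Subgroup.mem_sup_right ?_⟩
        rw [hW, ext1_of_mem ι hzT]
        exact ⟨⟨z, hzT⟩, Subgroup.mem_subgroupOf.mpr hz, rfl⟩
      · intro x hx
        exact ⟨hPT hx, hTZ (hPT hx)⟩
      · intro x hx
        have hxT : (x : Ω) ∈ T := hPT x.2
        have h1 : ext1 ι (x : Ω) ∈ Cfsg.centerThompsonAOf DG := by
          rw [hW, ext1_of_mem ι hxT]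
          exact ⟨⟨x, hxT⟩, Subgroup.mem_subgroupOf.mpr hx, rfl⟩
        have h2 := hgW _ h1
        rw [← hαx x, hW] at h2
        obtain ⟨z, hz, hzx⟩ := h2
        have hαT : ((α x : ↥(pullback ι NG)) : Ω) ∈ T := hPT (α x).2
        rw [ext1_of_mem ι hαT] at hzx
        have := hinj hzx
        rw [← show ((z : T) : Ω) = ((α x : ↥(pullback ι NG)) : Ω) from congrArg Subtype.val this]
        exact Subgroup.mem_subgroupOf.mp hz
    obtain ⟨k, hk⟩ := hex
    -- `g ^ p ^ k` centralizes `NG`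
    have hcent : ∀ y ∈ NG, (g : G) ^ p ^ k * y * ((g : G) ^ p ^ k)⁻¹ = y := by
      intro y hy
      obtain ⟨t, rfl⟩ := hNGle hy
      have htP : (t : Ω) ∈ pullback ι NG := mem_pullback_iff.mpr ⟨t.2, by rw [ext1_coe]; exact hy⟩
      have h1 := ext1_pow_apply α hPT (g : G) hαx (p ^ k) ⟨t, htP⟩
      rw [hk] at h1
      have h2 : ext1 ι (((1 : MulAut ↥(pullback ι NG)) ⟨(t : Ω), htP⟩ : ↥(pullback ι NG)) : Ω) = ι t :=
        ext1_coe ι t
      rw [h2] at h1
      have h3 : ext1 ι ((⟨(t : Ω), htP⟩ : ↥(pullback ι NG)) : Ω) = ι t := ext1_coe ι t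
      rw [h3] at h1
      exact h1.symm
    -- hence so does `g`
    have hord : orderOf (g : G) = orderOf g := Subgroup.orderOf_coe g
    have hcop' : (p ^ k).Coprime (orderOf (g : G)) := by
      rw [hord]; exact (Nat.Coprime.pow_left k hcop.symm)
    obtain ⟨m, hm⟩ := exists_pow_eq_self_of_coprime hcop'
    have hcentg : ∀ y ∈ NG, (g : G) * y * (g : G)⁻¹ = y := by
      intro y hy
      have hpow : ∀ j : ℕ, ((g : G) ^ p ^ k) ^ j * y * (((g : G) ^ p ^ k) ^ j)⁻¹ = y := by
        intro j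
        induction j with
        | zero => simp
        | succ j ih =>
          have h1 : ((g : G) ^ p ^ k) ^ (j + 1) * y * (((g : G) ^ p ^ k) ^ (j + 1))⁻¹ =
              (g : G) ^ p ^ k * (((g : G) ^ p ^ k) ^ j * y * (((g : G) ^ p ^ k) ^ j)⁻¹) *
                ((g : G) ^ p ^ k)⁻¹ := by
            rw [pow_succ']; group
          rw [h1, ih, hcent y hy]
      have := hpow m
      rw [hm] at this
      exact this
    rw [Subgroup.mem_centralizer_iff]
    intro q hq
    apply Subtype.ext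
    have hqNG : (q : G) ∈ NG := Subgroup.mem_sup_left ⟨q, hq, rfl⟩
    have h1 := hcentg _ hqNG
    show (q : G) * (g : G) = (g : G) * (q : G)
    calc (q : G) * (g : G) = ((g : G) * (q : G) * (g : G)⁻¹) * (g : G) := by rw [h1]
      _ = (g : G) * (q : G) := by group
  have hG' := Cfsg.Agent.S3082.result hp Sy DG hDGsc (Or.inl hN)
  obtain ⟨Sy', K, hKn, hKc⟩ := hG'
  -- transfer the complement to `Sy = ι(T)`
  have hcardSy : Nat.card (Sy : Subgroup G) = Nat.card (Sy' : Subgroup G) := by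
    rw [Sylow.card_eq_multiplicity, Sylow.card_eq_multiplicity]
  have hmul : Nat.card K * Nat.card (Sy : Subgroup G) = Nat.card G := by
    rw [hcardSy]; exact hKc.card_mul_card
  have hcopK : (Nat.card K).Coprime (Nat.card (Sy : Subgroup G)) := by
    obtain ⟨a, ha⟩ := IsPGroup.iff_card.mp Sy.isPGroup'
    rw [ha]
    apply Nat.Coprime.pow_right
    have h1 : (Sy' : Subgroup G).index = Nat.card K := hKc.index_eq_card
    rw [← h1]
    exact ((Nat.Prime.coprime_iff_not_dvd Fact.out).mpr Sy'.not_dvd_index).symm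
  have hKc' : K.IsComplement' ι.range := by
    rw [← hSy]
    exact Subgroup.isComplement'_of_coprime hmul hcopK
  exact inner_of_realized_complement hreal K hKn hKc'

end Main

end Cfsg.Agent.Lib.Helper18.FusRed
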