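import Mathlib
import Cfsg.Agent.Lib.Helper18.FusBad
import Cfsg.Agent.Lib.Helper18.FusLiftInner
import Cfsg.Agent.Lib.Helper18.FusModelGT
import Cfsg.Agent.Lib.Helper18.MaxAbelian
import Cfsg.Agent.Lib.Helper1.Nilpotent
import Cfsg.Agent.H26.NormalizerConstrained
import Cfsg.Agent.S5096
import Cfsg.Agent.S5098
import Cfsg.Agent.S5132
import Cfsg.Agent.S5133
import Cfsg.Agent.S5134

set_option autoImplicit false

/-!
# The Glauberman–Thompson criterion for fusion systems, relative to a strongly closed subgroup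

`gt_main`: for `p` odd, a saturated fusion system `F` over `S` and `D` strongly closed in `F`: if `Z(J(D))` is
not bad in `F` (every automorphism in `F` normalizing `Z(J(D))` of a subgroup containing it is a `p`-element),
then `F` is inner.  Induction on `|S|`: a nontrivial bad `U` with `|N_S(U)|` maximal is normal in `S`; for
a normal bad `U` of largest order, `N_F(U)/U` is inner by induction, so `N_F(U)` is constrained, and the model
theorem together with the group-theoretic theorem finishes.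
-/

namespace Cfsg.Agent.Lib.Helper18.FusRed

open Cfsg Cfsg.FusionSystem Cfsg.Agent.Lib.Helper27 Cfsg.Agent.H26

universe u

section Aux

variable {Ω : Type*} [Group Ω] {S : Subgroup Ω}

theorem bad_le {p : ℕ} {F : FusionSystem S} {U : Subgroup Ω} (h : Bad p F U) : U ≤ S := by
  obtain ⟨P, β, hUP, hPN, -, -, -⟩ := h
  exact hUP.trans (hPN.trans inf_le_left)

/-- `Z(J(T))` of a nontrivial finite `p`-subgroup is nontrivial. -/
theorem centerThompsonAOf_ne_bot' {p : ℕ} [Fact p.Prime] (T : Subgroup Ω) [Finite T] (hT : IsPGroup p T)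
    (hT1 : T ≠ ⊥) : Cfsg.centerThompsonAOf T ≠ ⊥ := by
  have hnt : Nontrivial ↥T := (Subgroup.nontrivial_iff_ne_bot T).mpr hT1
  have hJ : Cfsg.thompsonSubgroupA ↥T ≠ ⊥ :=
    Cfsg.Agent.Lib.Helper18.thompsonSubgroupA_ne_bot
  have hJnt : Nontrivial ↥(Cfsg.thompsonSubgroupA ↥T) := (Subgroup.nontrivial_iff_ne_bot _).mpr hJ
  have hJp : IsPGroup p ↥(Cfsg.thompsonSubgroupA ↥T) := hT.to_subgroup _
  have hc : Nontrivial ↥(Subgroup.center ↥(Cfsg.thompsonSubgroupA ↥T)) := hJp.center_nontrivial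
  obtain ⟨z, hz, hz1⟩ := (Subgroup.nontrivial_iff_exists_ne_one _).mp hc
  intro hbot
  have hmem : ((z : ↥T) : Ω) ∈ Cfsg.centerThompsonAOf T := by
    refine Subgroup.mem_inf.mpr ⟨⟨(z : ↥T), z.2, rfl⟩, ?_⟩
    rw [Subgroup.mem_centralizer_iff]
    rintro _ ⟨j, hj, rfl⟩
    have h1 := Subgroup.mem_center_iff.mp hz ⟨j, hj⟩
    have h2 : ((⟨j, hj⟩ * z : ↥(Cfsg.thompsonSubgroupA ↥T)) : ↥T) = ((z * ⟨j, hj⟩ : ↥(Cfsg.thompsonSubgroupA ↥T)) : ↥T) :=
      congrArg Subtype.val h1
    have h3 : (((⟨j, hj⟩ * z : ↥(Cfsg.thompsonSubgroupA ↥T)) : ↥T) : Ω) = (((z * ⟨j, hj⟩ : ↥(Cfsg.thompsonSubgroupA ↥T)) : ↥T) : Ω) :=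
      congrArg Subtype.val h2
    simpa using h3
  rw [hbot, Subgroup.mem_bot] at hmem
  apply hz1
  apply Subtype.ext
  apply Subtype.ext
  simpa using hmem

/-- A nontrivial subgroup of the finite `p`-group `S` normalized by `S` contains a nontrivial element central
in `S`. -/
theorem exists_central_mem [Finite S] {p : ℕ} [Fact p.Prime] (hS : IsPGroup p S) {D : Subgroup Ω}
    (hDS : D ≤ S) (hDn : S ≤ Subgroup.normalizer (D : Set Ω)) (hD1 : D ≠ ⊥) :
    ∃ z ∈ D, z ≠ 1 ∧ ∀ s ∈ S, s * z = z * s := by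
  have : Group.IsNilpotent S := hS.isNilpotent
  have hN : (D.subgroupOf S).Normal := (Subgroup.normal_subgroupOf_iff_le_normalizer hDS).mpr hDn
  have hN1 : D.subgroupOf S ≠ ⊥ := by
    obtain ⟨d, hd1⟩ := (Subgroup.ne_bot_iff_exists_ne_one).mp hD1
    intro h
    have hmem : (⟨d, hDS d.2⟩ : S) ∈ D.subgroupOf S := Subgroup.mem_subgroupOf.mpr d.2
    rw [h, Subgroup.mem_bot] at hmem
    apply hd1
    apply Subtype.ext
    exact congrArg (fun s : S => (s : Ω)) hmem
  obtain ⟨⟨z, hz⟩, hz1⟩ := (Subgroup.ne_bot_iff_exists_ne_one).mp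
    (Cfsg.Agent.Lib.Helper1.inf_center_ne_bot_of_normal (D.subgroupOf S) hN1)
  obtain ⟨hzD, hzc⟩ := Subgroup.mem_inf.mp hz
  refine ⟨z, Subgroup.mem_subgroupOf.mp hzD, ?_, fun s hs => ?_⟩
  · intro h
    apply hz1
    apply Subtype.ext
    apply Subtype.ext
    exact h
  · have := Subgroup.mem_center_iff.mp hzc ⟨s, hs⟩
    exact congrArg Subtype.val this

theorem card_lt_of_lt' {H K : Subgroup Ω} [Finite K] (h : H < K) : Nat.card H < Nat.card K := by
  by_contra hcon
  push Not at hcon
  exact h.ne (Subgroup.eq_of_le_of_card_ge h.le hcon)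

end Aux

/-- The Glauberman–Thompson criterion for fusion systems relative to a strongly closed subgroup. -/
theorem gt_main {p : ℕ} [Fact p.Prime] (hp : p ≠ 2) :
    ∀ n : ℕ, ∀ (Ω : Type u) [Group Ω] (S : Subgroup Ω) [Finite S], Nat.card S = n → IsPGroup p S →
      ∀ F : FusionSystem S, F.IsSaturated p → ∀ D : Subgroup Ω, F.StronglyClosed D →
        ¬ Bad p F (Cfsg.centerThompsonAOf D) →
        ∀ P : Subgroup Ω, F.Hom P = (innerFusionSystem S).Hom P := by
  intro n
  induction n using Nat.strong_induction_on with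
  | _ n IH =>
  intro Ω _ S _ hcard hS F hF D hD hbad
  by_contra hni
  have hSD : S ≤ Subgroup.normalizer (D : Set Ω) := le_normalizer_of_stronglyClosed hD
  have hD1 : D ≠ ⊥ := by
    intro h
    obtain ⟨R, -, hR⟩ := exists_bad_of_not_inner hS hF hni
    apply hbad
    have hz : Cfsg.centerThompsonAOf D = ⊥ := by
      rw [eq_bot_iff]
      exact (centerThompsonAOf_le D).trans h.le
    rw [hz]
    exact bad_bot_of_bad hR
  have hfinS : {Q : Subgroup Ω | Q ≤ S}.Finite := finite_setOf_le S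
  -- Step 1: a nontrivial bad subgroup normal in `S`
  have hstep1 : ∃ U : Subgroup Ω, U ≠ ⊥ ∧ Bad p F U ∧ S ≤ Subgroup.normalizer (U : Set Ω) := by
    have h𝒰fin : {U : Subgroup Ω | U ≠ ⊥ ∧ Bad p F U}.Finite :=
      hfinS.subset (fun U hU => bad_le hU.2)
    have h𝒰ne : {U : Subgroup Ω | U ≠ ⊥ ∧ Bad p F U}.Nonempty := exists_bad_of_not_inner hS hF hni
    obtain ⟨U₀, hU₀, hmax₀⟩ := Set.exists_max_image _ (fun U => Nat.card (normalizerIn S U)) h𝒰fin h𝒰ne
    obtain ⟨V, hV1, hVfn, hVbad, hcardV⟩ := bad_fullyNormalized hS hF hU₀.1 hU₀.2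
    have hmax : ∀ U : Subgroup Ω, U ≠ ⊥ → Bad p F U →
        Nat.card (normalizerIn S U) ≤ Nat.card (normalizerIn S V) :=
      fun U hU1 hU => (hmax₀ U ⟨hU1, hU⟩).trans hcardV
    refine ⟨V, hV1, hVbad, ?_⟩
    by_contra hnot
    have hVS : V ≤ S := hVfn.1
    have hTS : normalizerIn S V ≤ S := inf_le_left
    have hTlt : normalizerIn S V < S := by
      refine lt_of_le_of_ne hTS (fun h => hnot ?_)
      intro x hx
      have : x ∈ normalizerIn S V := by rw [h]; exact hx
      exact this.2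
    obtain ⟨N, hN⟩ := Cfsg.Agent.S5096.result F V hVS
    have hNsat := Cfsg.Agent.S5098.result p hS F hF V hVfn N hN
    have hTfin : Finite ↥(normalizerIn S V) :=
      Finite.of_injective (Subgroup.inclusion hTS) (Subgroup.inclusion_injective hTS)
    have hTp : IsPGroup p ↥(normalizerIn S V) :=
      hS.of_injective (Subgroup.inclusion hTS) (Subgroup.inclusion_injective hTS)
    have hcardT : Nat.card ↥(normalizerIn S V) < n := by
      rw [← hcard]; exact card_lt_of_lt' hTlt
    have hNF : ∀ P : Subgroup Ω, N.Hom P ⊆ F.Hom P := normalizerSystem_hom_subset hN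
    have hDT : N.StronglyClosed (D ⊓ normalizerIn S V) :=
      ⟨inf_le_right, fun R hR φ hφ x =>
        ⟨hD.2 R (hR.trans inf_le_left) φ (hNF R hφ) x, (N.le_of_mem hφ).2 x⟩⟩
    have hNbad : Bad p N V := bad_normalizerSystem hVS hN hVbad
    have hNni : ¬ ∀ P : Subgroup Ω, N.Hom P = (innerFusionSystem (normalizerIn S V)).Hom P :=
      fun h => not_bad_of_inner hTp h V hNbad
    have hbadZ : Bad p N (Cfsg.centerThompsonAOf (D ⊓ normalizerIn S V)) := by
      by_contra hnb
      exact hNni (IH _ hcardT Ω (normalizerIn S V) rfl hTp N hNsat _ hDT hnb)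
    have hbadZF : Bad p F (Cfsg.centerThompsonAOf (D ⊓ normalizerIn S V)) :=
      bad_of_subsystem hTS hNF hbadZ
    -- `D ⊓ T ≠ ⊥`
    have hDT1 : D ⊓ normalizerIn S V ≠ ⊥ := by
      obtain ⟨z, hzD, hz1, hzc⟩ := exists_central_mem hS hD.1 hSD hD1
      intro h
      have hzS : z ∈ S := hD.1 hzD
      have hmem : z ∈ D ⊓ normalizerIn S V := by
        refine ⟨hzD, hzS, ?_⟩
        show z ∈ Subgroup.normalizer (V : Set Ω)
        rw [Subgroup.mem_normalizer_iff]
        intro v
        constructor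
        · intro hv
          have : z * v * z⁻¹ = v := by rw [← hzc v (hVS hv)]; group
          rw [this]; exact hv
        · intro hv
          have h1 := hzc _ (hVS hv)
          have : v = z * v * z⁻¹ := by
            calc v = z⁻¹ * (z * v * z⁻¹ * z) := by group
              _ = z⁻¹ * (z * (z * v * z⁻¹)) := by rw [h1]
              _ = z * v * z⁻¹ := by group
          rw [this]; exact hv
      rw [h, Subgroup.mem_bot] at hmem
      exact hz1 hmem
    have hDTfin : Finite ↥(D ⊓ normalizerIn S V) :=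
      Finite.of_injective (Subgroup.inclusion (inf_le_right.trans hTS))
        (Subgroup.inclusion_injective (inf_le_right.trans hTS))
    have hDTp : IsPGroup p ↥(D ⊓ normalizerIn S V) :=
      hS.of_injective (Subgroup.inclusion (inf_le_right.trans hTS))
        (Subgroup.inclusion_injective (inf_le_right.trans hTS))
    have hZ1 : Cfsg.centerThompsonAOf (D ⊓ normalizerIn S V) ≠ ⊥ :=
      centerThompsonAOf_ne_bot' _ hDTp hDT1
    have h1 := hmax _ hZ1 hbadZF
    have h2 : normalizerIn S (normalizerIn S V) ≤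
        normalizerIn S (Cfsg.centerThompsonAOf (D ⊓ normalizerIn S V)) := by
      intro g hg
      refine ⟨hg.1, normalizer_le_normalizer_centerThompsonAOf _ ?_⟩
      exact Cfsg.H5.ZJ.normalizer_inf_le _ _ ⟨hSD hg.1, hg.2⟩
    have h3 := card_lt_card_normalizerIn hS hTlt
    have hfin4 : Finite ↥(normalizerIn S (Cfsg.centerThompsonAOf (D ⊓ normalizerIn S V))) :=
      Finite.of_injective (Subgroup.inclusion (inf_le_left : _ ≤ S)) (Subgroup.inclusion_injective _)
    have h4 := Subgroup.card_le_of_le h2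
    omega
  -- Step 2: a normal bad subgroup of largest order
  obtain ⟨U₁, hU₁1, hU₁bad, hU₁n⟩ := hstep1
  have h𝒱fin : {U : Subgroup Ω | U ≠ ⊥ ∧ Bad p F U ∧ S ≤ Subgroup.normalizer (U : Set Ω)}.Finite :=
    hfinS.subset (fun U hU => bad_le hU.2.1)
  obtain ⟨U, hU, hUmax⟩ := Set.exists_max_image _ (fun U : Subgroup Ω => Nat.card U) h𝒱fin
    ⟨U₁, hU₁1, hU₁bad, hU₁n⟩
  obtain ⟨hU1, hUbad, hUn⟩ := hU
  have hUS : U ≤ S := bad_le hUbad
  have hST : S ≤ normalizerIn S U := fun x hx => ⟨hx, hUn hx⟩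
  have hTS : normalizerIn S U ≤ S := inf_le_left
  have hTeq : normalizerIn S U = S := le_antisymm hTS hST
  have hTfin : Finite ↥(normalizerIn S U) :=
    Finite.of_injective (Subgroup.inclusion hTS) (Subgroup.inclusion_injective hTS)
  have hTp : IsPGroup p ↥(normalizerIn S U) :=
    hS.of_injective (Subgroup.inclusion hTS) (Subgroup.inclusion_injective hTS)
  have hUfn : F.IsFullyNormalized U := by
    refine ⟨hUS, fun Q _ => ?_⟩
    exact Subgroup.card_le_of_le ((inf_le_left : normalizerIn S Q ≤ S).trans hST)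
  obtain ⟨N, hN⟩ := Cfsg.Agent.S5096.result F U hUS
  have hNsat := Cfsg.Agent.S5098.result p hS F hF U hUfn N hN
  have hcardT : Nat.card ↥(normalizerIn S U) = n := by rw [hTeq]; exact hcard
  have hNF : ∀ P : Subgroup Ω, N.Hom P ⊆ F.Hom P := normalizerSystem_hom_subset hN
  have hUN : N.IsNormal U := normalizerSystem_isNormal hUS hN
  have hNbad : Bad p N U := bad_normalizerSystem hUS hN hUbad
  have hNni : ¬ ∀ P : Subgroup Ω, N.Hom P = (innerFusionSystem (normalizerIn S U)).Hom P :=
    fun h => not_bad_of_inner hTp h U hNbad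
  have hDN : N.StronglyClosed D :=
    ⟨hD.1.trans hST, fun R hR φ hφ x => hD.2 R hR φ (hNF R hφ) x⟩
  have hbadN : ¬ Bad p N (Cfsg.centerThompsonAOf D) := fun h => hbad (bad_of_subsystem hTS hNF h)
  have hDfin : Finite ↥D := Finite.of_injective (Subgroup.inclusion hD.1) (Subgroup.inclusion_injective hD.1)
  by_cases hDU : D ≤ U
  · apply hbad
    obtain ⟨P, β, hUP, hPN, hβ, hβU, hk⟩ := hUbad
    have hβD : ∀ x : P, (x : Ω) ∈ D → ((β x : P) : Ω) ∈ D := fun x hx => stronglyClosed_aut_mem hD hβ hx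
    refine ⟨P, β, (centerThompsonAOf_le D).trans (hDU.trans hUP), ?_, hβ,
      aut_mem_centerThompsonAOf β (hDU.trans hUP) hβD, hk⟩
    intro x hx
    exact ⟨(hPN hx).1, (hSD.trans (normalizer_le_normalizer_centerThompsonAOf D)) (hPN hx).1⟩
  · -- the factor system of `N` modulo `U`
    have hnorm : (U.subgroupOf (normalizerIn S U)).Normal :=
      (Subgroup.normal_subgroupOf_iff_le_normalizer (hUS.trans hST)).mpr inf_le_right
    have hUsc : N.StronglyClosed U := normal_stronglyClosed hUN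
    obtain ⟨Ebar, hEbar⟩ := Cfsg.Agent.S5132.result p hTp N U hUsc
    have hmor := Cfsg.Agent.S5134.result p hTp N hNsat U hUsc _ Ebar hEbar
    have hEsat := Cfsg.Agent.S5133.result p hTp N hNsat Ebar _ hmor
    have hTopP : IsPGroup p ↥(⊤ : Subgroup (↥(normalizerIn S U) ⧸ U.subgroupOf (normalizerIn S U))) :=
      (hTp.to_quotient _).to_subgroup ⊤
    have hUTfin : Finite ↥U := Finite.of_injective (Subgroup.inclusion hUS) (Subgroup.inclusion_injective hUS)
    have hcardTop : Nat.card ↥(⊤ : Subgroup (↥(normalizerIn S U) ⧸ U.subgroupOf (normalizerIn S U))) < n := by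
      rw [Subgroup.card_top]
      have h1 := Subgroup.card_eq_card_quotient_mul_card_subgroup (U.subgroupOf (normalizerIn S U))
      have h2 : Nat.card ↥(U.subgroupOf (normalizerIn S U)) = Nat.card ↥U :=
        Nat.card_congr (Subgroup.subgroupOfEquivOfLe (hUS.trans hST)).toEquiv
      have h3 : 1 < Nat.card ↥U := (Subgroup.one_lt_card_iff_ne_bot U).mpr hU1
      have h4 : 0 < Nat.card (↥(normalizerIn S U) ⧸ U.subgroupOf (normalizerIn S U)) := Nat.card_pos
      rw [hcardT, h2] at h1
      nlinarith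
    -- the image of `D`
    have hD'sc : Ebar.StronglyClosed
        (imageAlong (QuotientGroup.mk' (U.subgroupOf (normalizerIn S U))) D) := by
      refine ⟨le_top, fun R' hR' φ' hφ' x' => ?_⟩
      obtain ⟨-, φ, hφ, hP, hφT, hP', H⟩ := (hEbar.2.2.2 R' φ').mp hφ'
      obtain ⟨d, hd, hdx⟩ := hR' x'.2
      have hdD : (d : Ω) ∈ D := Subgroup.mem_subgroupOf.mp hd
      have hdpre : (d : Ω) ∈ preimageAlong (QuotientGroup.mk' (U.subgroupOf (normalizerIn S U))) R' := by
        refine mem_preimageAlong.mpr ⟨d.2, ?_⟩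
        show (QuotientGroup.mk' (U.subgroupOf (normalizerIn S U))) d ∈ R'
        rw [hdx]; exact x'.2
      have h1 := H ⟨d, hdpre⟩
      have h2 : (⟨(QuotientGroup.mk' (U.subgroupOf (normalizerIn S U))) ⟨(d : Ω), hP hdpre⟩, hP' ⟨d, hdpre⟩⟩ : R') = x' :=
        Subtype.ext hdx
      rw [h2] at h1
      rw [h1]
      have h3 : φ ⟨d, hdpre⟩ ∈ D := stronglyClosed_hom_mem hDN hφ hdD
      exact ⟨⟨φ ⟨d, hdpre⟩, hφT _⟩, Subgroup.mem_subgroupOf.mpr h3, rfl⟩
    have hbadE : ¬ Bad p Ebar (Cfsg.centerThompsonAOf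
        (imageAlong (QuotientGroup.mk' (U.subgroupOf (normalizerIn S U))) D)) := by
      intro hb
      have hb2 := bad_preimage hmor hb
      have hb3 := bad_of_subsystem hTS hNF hb2
      have hVS : preimageAlong (QuotientGroup.mk' (U.subgroupOf (normalizerIn S U)))
          (Cfsg.centerThompsonAOf (imageAlong (QuotientGroup.mk' (U.subgroupOf (normalizerIn S U))) D)) ≤ S :=
        bad_le hb3
      have hVfin : Finite ↥(preimageAlong (QuotientGroup.mk' (U.subgroupOf (normalizerIn S U)))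
          (Cfsg.centerThompsonAOf (imageAlong (QuotientGroup.mk' (U.subgroupOf (normalizerIn S U))) D))) :=
        Finite.of_injective (Subgroup.inclusion hVS) (Subgroup.inclusion_injective hVS)
      -- `U ≤ V`
      have hUV : U ≤ preimageAlong (QuotientGroup.mk' (U.subgroupOf (normalizerIn S U)))
          (Cfsg.centerThompsonAOf (imageAlong (QuotientGroup.mk' (U.subgroupOf (normalizerIn S U))) D)) := by
        intro u hu
        refine mem_preimageAlong.mpr ⟨hST (hUS hu), ?_⟩
        have : (QuotientGroup.mk' (U.subgroupOf (normalizerIn S U))) ⟨u, hST (hUS hu)⟩ = 1 := by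
          rw [QuotientGroup.mk'_apply, QuotientGroup.eq_one_iff]
          exact Subgroup.mem_subgroupOf.mpr hu
        rw [this]; exact Subgroup.one_mem _
      -- `D' ≠ ⊥`
      have hD'1 : imageAlong (QuotientGroup.mk' (U.subgroupOf (normalizerIn S U))) D ≠ ⊥ := by
        obtain ⟨d, hdD, hdU⟩ := SetLike.not_le_iff_exists.mp hDU
        intro h
        have hdT : d ∈ normalizerIn S U := hST (hD.1 hdD)
        have hmem : (QuotientGroup.mk' (U.subgroupOf (normalizerIn S U))) ⟨d, hdT⟩ ∈
            imageAlong (QuotientGroup.mk' (U.subgroupOf (normalizerIn S U))) D :=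
          ⟨⟨d, hdT⟩, Subgroup.mem_subgroupOf.mpr hdD, rfl⟩
        rw [h, Subgroup.mem_bot, QuotientGroup.mk'_apply, QuotientGroup.eq_one_iff] at hmem
        exact hdU (Subgroup.mem_subgroupOf.mp hmem)
      have hD'p : IsPGroup p ↥(imageAlong (QuotientGroup.mk' (U.subgroupOf (normalizerIn S U))) D) :=
        (hTp.to_quotient _).to_subgroup _
      have hZ'1 := centerThompsonAOf_ne_bot' _ hD'p hD'1
      obtain ⟨⟨y, hy⟩, hy1⟩ := (Subgroup.ne_bot_iff_exists_ne_one).mp hZ'1
      obtain ⟨t, rfl⟩ := QuotientGroup.mk'_surjective (U.subgroupOf (normalizerIn S U)) y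
      have htV : (t : Ω) ∈ preimageAlong (QuotientGroup.mk' (U.subgroupOf (normalizerIn S U)))
          (Cfsg.centerThompsonAOf (imageAlong (QuotientGroup.mk' (U.subgroupOf (normalizerIn S U))) D)) :=
        mem_preimageAlong.mpr ⟨t.2, hy⟩
      have htU : (t : Ω) ∉ U := by
        intro htU
        apply hy1
        apply Subtype.ext
        show (QuotientGroup.mk' (U.subgroupOf (normalizerIn S U))) t = 1
        rw [QuotientGroup.mk'_apply, QuotientGroup.eq_one_iff]
        exact Subgroup.mem_subgroupOf.mpr htU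
      have hlt : U < preimageAlong (QuotientGroup.mk' (U.subgroupOf (normalizerIn S U)))
          (Cfsg.centerThompsonAOf (imageAlong (QuotientGroup.mk' (U.subgroupOf (normalizerIn S U))) D)) :=
        lt_of_le_of_ne hUV (fun h => htU ((le_of_eq h.symm) htV))
      have hV1 : preimageAlong (QuotientGroup.mk' (U.subgroupOf (normalizerIn S U)))
          (Cfsg.centerThompsonAOf (imageAlong (QuotientGroup.mk' (U.subgroupOf (normalizerIn S U))) D)) ≠ ⊥ := by
        intro h
        rw [h] at hUV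
        exact hU1 (le_bot_iff.mp hUV)
      -- `S` normalizes `V`
      have hTopN : (⊤ : Subgroup (↥(normalizerIn S U) ⧸ U.subgroupOf (normalizerIn S U))) ≤
          Subgroup.normalizer ((Cfsg.centerThompsonAOf
            (imageAlong (QuotientGroup.mk' (U.subgroupOf (normalizerIn S U))) D) : Subgroup _) : Set _) :=
        (le_normalizer_of_stronglyClosed hD'sc).trans (normalizer_le_normalizer_centerThompsonAOf _)
      have hVn : S ≤ Subgroup.normalizer ((preimageAlong (QuotientGroup.mk' (U.subgroupOf (normalizerIn S U)))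
          (Cfsg.centerThompsonAOf (imageAlong (QuotientGroup.mk' (U.subgroupOf (normalizerIn S U))) D)) :
            Subgroup Ω) : Set Ω) := by
        intro s hs
        apply mem_normalizer_of_conj_mem
        intro v hv
        obtain ⟨hvT, hvZ⟩ := mem_preimageAlong.mp hv
        have hsT : s ∈ normalizerIn S U := hST hs
        have hmemT : s * v * s⁻¹ ∈ normalizerIn S U :=
          Subgroup.mul_mem _ (Subgroup.mul_mem _ hsT hvT) (Subgroup.inv_mem _ hsT)
        refine mem_preimageAlong.mpr ⟨hmemT, ?_⟩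
        have h1 : (⟨s * v * s⁻¹, hmemT⟩ : ↥(normalizerIn S U)) = ⟨s, hsT⟩ * ⟨v, hvT⟩ * ⟨s, hsT⟩⁻¹ :=
          Subtype.ext rfl
        rw [h1, map_mul, map_mul, map_inv]
        exact (Subgroup.mem_normalizer_iff.mp (hTopN (Subgroup.mem_top _)) _).mp hvZ
      have h5 := hUmax _ ⟨hV1, hb3, hVn⟩
      have h6 := card_lt_of_lt' hlt
      exact absurd h5 (not_le.mpr h6)
    have hEinn := IH _ hcardTop _ ⊤ rfl hTopP Ebar hEsat _ hD'sc hbadE
    obtain ⟨hRn, hRc⟩ := normal_centric_of_factor_inner hTp hNsat hUN _ Ebar hEbar hEinn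
    exact hNni (inner_of_normal_centric hp hTp hNsat hRn hRc hDN hbadN)

end Cfsg.Agent.Lib.Helper18.FusRed

namespace Cfsg.Agent.Lib.Helper18.FusRed

open Cfsg Cfsg.FusionSystem Cfsg.Agent.Lib.Helper27 Cfsg.Agent.H26

/-- For `p` odd, `F` saturated over `S` and `D` strongly closed in `F`: `F` is inner iff `N_F(Z(J(D)))` is. -/
theorem iff_normalizer_inner {Ω : Type*} [Group Ω] {S : Subgroup Ω} [Finite S] (p : ℕ) [Fact p.Prime]
    (hS : IsPGroup p ↥S) (F : Cfsg.FusionSystem S) (hF : F.IsSaturated p) (hp : p ≠ 2) (D : Subgroup Ω)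
    (hD : F.StronglyClosed D) :
    (∀ P : Subgroup Ω, F.Hom P = (Cfsg.innerFusionSystem S).Hom P) ↔
      ∀ N : Cfsg.FusionSystem (Cfsg.FusionSystem.normalizerIn S (Cfsg.centerThompsonAOf D)),
        F.IsNormalizerSystem (Cfsg.centerThompsonAOf D) N → ∀ P : Subgroup Ω, N.Hom P =
          (Cfsg.innerFusionSystem (Cfsg.FusionSystem.normalizerIn S (Cfsg.centerThompsonAOf D))).Hom P := by
  have hSD : S ≤ Subgroup.normalizer (D : Set Ω) := le_normalizer_of_stronglyClosed hD
  have hSZ : S ≤ Subgroup.normalizer (Cfsg.centerThompsonAOf D : Set Ω) :=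
    hSD.trans (normalizer_le_normalizer_centerThompsonAOf D)
  have hZS : Cfsg.centerThompsonAOf D ≤ S := (centerThompsonAOf_le D).trans hD.1
  constructor
  · intro h N hN P
    apply Set.Subset.antisymm _ (inner_le N P)
    intro φ hφ
    have hφ' := hφ
    rw [hN P] at hφ'
    obtain ⟨hφF, hPN, -, -⟩ := hφ'
    rw [h P] at hφF
    obtain ⟨-, g, hg, hgx⟩ := hφF
    exact ⟨hPN, g, ⟨hg, hSZ hg⟩, hgx⟩
  · intro h
    apply gt_main hp _ Ω S rfl hS F hF D hD
    intro hb
    obtain ⟨N, hN⟩ := Cfsg.Agent.S5096.result F _ hZS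
    have hTS : normalizerIn S (Cfsg.centerThompsonAOf D) ≤ S := inf_le_left
    have hTfin : Finite ↥(normalizerIn S (Cfsg.centerThompsonAOf D)) :=
      Finite.of_injective (Subgroup.inclusion hTS) (Subgroup.inclusion_injective hTS)
    have hTp : IsPGroup p ↥(normalizerIn S (Cfsg.centerThompsonAOf D)) :=
      hS.of_injective (Subgroup.inclusion hTS) (Subgroup.inclusion_injective hTS)
    exact not_bad_of_inner hTp (h N hN) _ (bad_normalizerSystem hZS hN hb)

end Cfsg.Agent.Lib.Helper18.FusRed
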