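import Mathlib
import Cfsg.Agent.H26.KNormalizer3
import Cfsg.Agent.S5096
import Cfsg.Agent.Lib.Helper18.FusChar

set_option autoImplicit false

/-!
# The `K`-normalizer system as a fusion system

* `normKSystem F Q K hQ`: the fusion system over `N_S^K(Q)` whose maps are `H26.normKHom F Q K`.
* `exists_normK_sub`: for `V` normal in `S`, the subsystem `S C_F(V)` of the saturated system `F` (over `S`):
  saturated, contained in `F`, with `V` normal in it, `Aut(V)` a `p`-group, and containing every map of `F`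
  which is the identity on `V`.
-/

namespace Cfsg.Agent.Lib.Helper18.FusFree

open Cfsg Cfsg.FusionSystem Cfsg.Agent.Lib.Helper27 Cfsg.Agent.H26

variable {Ω : Type*} [Group Ω] {S : Subgroup Ω}

/-- The `K`-normalizer system `N_F^K(Q)` as a fusion system over `N_S^K(Q)`. -/
def normKSystem (F : FusionSystem S) (Q : Subgroup Ω) (K : Subgroup (MulAut Q)) (hQ : Q ≤ S) :
    FusionSystem (normK S Q K) where
  Hom P := normKHom F Q K P
  le_of_mem h := ⟨h.2.1, h.2.2.1⟩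
  injective_of_mem h := F.injective_of_mem h.1
  conj_mem := by
    intro P g hP hg
    have hPS : P ≤ S := le_trans hP (normK_le_S K)
    have hgS : g ∈ S := normK_le_S K hg
    obtain ⟨hgN, hκ⟩ := mem_normK.mp hg
    refine ⟨F.conj_mem hPS hgS, hP, ?_, Cfsg.conjHom (P ⊔ Q) g, F.conj_mem (sup_le hPS hQ) hgS,
      fun x => rfl, conjAutHom S Q ⟨g, hgN⟩, hκ, fun x => rfl⟩
    intro x
    exact Subgroup.mul_mem _ (Subgroup.mul_mem _ hg (hP x.2)) (Subgroup.inv_mem _ hg)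
  comp_mem := by
    rintro P R φ ψ ⟨hφ, hPN, hφN, φ', hφ', hφe, κ₁, hκ₁, hφQ⟩ ⟨hψ, hRN, hψN, ψ', hψ', hψe, κ₂, hκ₂, hψQ⟩ h
    refine ⟨F.comp_mem hφ hψ h, hPN, fun x => hψN _, ?_⟩
    have hφ'Q : ∀ x : Q, φ' (Subgroup.inclusion le_sup_right x) ∈ Q := by
      intro x
      rw [hφQ x]
      exact (κ₁ x).2
    have h' : ∀ x : ↥(P ⊔ Q), φ' x ∈ R ⊔ Q :=
      Cfsg.Agent.S5096.map_sup_le φ' (fun x => by rw [hφe x]; exact h x) hφ'Q
    refine ⟨ψ'.comp (φ'.codRestrict (R ⊔ Q) h'), F.comp_mem hφ' hψ' h', ?_, κ₂ * κ₁,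
      K.mul_mem hκ₂ hκ₁, ?_⟩
    · intro x
      show ψ' ⟨φ' (Subgroup.inclusion le_sup_left x), _⟩ = ψ ⟨φ x, h x⟩
      rw [← hψe ⟨φ x, h x⟩]
      congr 1
      apply Subtype.ext
      exact hφe x
    · intro x
      show ψ' ⟨φ' (Subgroup.inclusion le_sup_right x), _⟩ = ((κ₂ (κ₁ x) : Q) : Ω)
      rw [← hψQ (κ₁ x)]
      congr 1
      apply Subtype.ext
      exact hφQ x
  inv_mem := by
    rintro P φ ⟨hφ, hPN, hφN, φ', hφ', hφe, κ, hκ, hφQ⟩
    obtain ⟨ψ₀, hψ₀, hinv⟩ := F.inv_mem hφ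
    obtain ⟨θ, hθ, hθinv⟩ := F.inv_mem hφ'
    have hκinv : ∀ q : Q, φ' (Subgroup.inclusion le_sup_right (κ⁻¹ q)) = (q : Ω) := by
      intro q
      rw [hφQ, MulAut.apply_inv_self]
    have hle : φ.range ⊔ Q ≤ φ'.range := by
      rw [sup_le_iff]
      constructor
      · rintro _ ⟨x, rfl⟩
        exact ⟨_, hφe x⟩
      · intro q hq
        exact ⟨_, hκinv ⟨q, hq⟩⟩
    refine ⟨ψ₀, ⟨hψ₀, ?_, ?_, θ.comp (Subgroup.inclusion hle), hom_restrict F hle hθ, ?_, κ⁻¹,
      K.inv_mem hκ, ?_⟩, hinv⟩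
    · rintro _ ⟨x, rfl⟩
      exact hφN x
    · rintro ⟨_, x, rfl⟩
      rw [hinv x]
      exact hPN x.2
    · rintro ⟨_, x, rfl⟩
      rw [hinv x]
      have : (Subgroup.inclusion hle (Subgroup.inclusion le_sup_left ⟨φ x, ⟨x, rfl⟩⟩) : φ'.range) =
          ⟨φ' (Subgroup.inclusion le_sup_left x), ⟨_, rfl⟩⟩ := by
        apply Subtype.ext
        exact (hφe x).symm
      show θ _ = _
      rw [this, hθinv]
      rfl
    · intro q
      have : (Subgroup.inclusion hle (Subgroup.inclusion le_sup_right q) : φ'.range) =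
          ⟨φ' (Subgroup.inclusion le_sup_right (κ⁻¹ q)), ⟨_, rfl⟩⟩ := by
        apply Subtype.ext
        exact (hκinv q).symm
      show θ _ = _
      rw [this, hθinv]
      rfl

theorem normKSystem_hom (F : FusionSystem S) (Q : Subgroup Ω) (K : Subgroup (MulAut Q)) (hQ : Q ≤ S)
    (P : Subgroup Ω) : (normKSystem F Q K hQ).Hom P = normKHom F Q K P := rfl

/-- For `V` normal in `S`: the subsystem `S C_F(V)` of the saturated fusion system `F`. -/
theorem exists_normK_sub [Finite S] {p : ℕ} [Fact p.Prime] (hS : IsPGroup p S) {F : FusionSystem S}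
    (hF : F.IsSaturated p) {V : Subgroup Ω} (hVS : V ≤ S) (hVn : normalizerIn S V = S) :
    ∃ D : FusionSystem S, D.IsSaturated p ∧ (∀ P : Subgroup Ω, D.Hom P ⊆ F.Hom P) ∧ D.IsNormal V ∧
      IsPGroup p (D.autGroup V) ∧
      ∀ (A : Subgroup Ω) (χ : A →* Ω), χ ∈ F.Hom A → V ≤ A → (∀ x : A, (x : Ω) ∈ V → χ x = x) →
        χ ∈ D.Hom A := by
  obtain ⟨K, hKdef⟩ : ∃ K : Subgroup (MulAut V), K = (conjAutHom S V).range := ⟨_, rfl⟩
  have hNK : normK S V K = S := by
    apply le_antisymm (normK_le_S K)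
    intro g hg
    have hgN : g ∈ normalizerIn S V := by rw [hVn]; exact hg
    refine mem_normK.mpr ⟨hgN, ?_⟩
    rw [hKdef]
    exact ⟨⟨g, hgN⟩, rfl⟩
  obtain ⟨D, hD, -⟩ := exists_transport hNK (normKSystem F V K hVS)
  have hD' : ∀ P : Subgroup Ω, D.Hom P = normKHom F V K P := fun P => by
    rw [hD P]
    rfl
  have hfK : IsFullyKNormalized F V K := by
    refine ⟨hVS, fun V' e _ => ?_⟩
    rw [hNK]
    exact Subgroup.card_le_of_le (normK_le_S _)
  have hDsat : D.IsSaturated p := normK_saturated hS hF hNK.symm D hD' hfK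
  have hKp : IsPGroup p K := by
    have hN : IsPGroup p ↥(normalizerIn S V) :=
      hS.of_injective (Subgroup.inclusion (inf_le_left : normalizerIn S V ≤ S))
        (Subgroup.inclusion_injective _)
    rw [hKdef]
    exact hN.of_surjective (conjAutHom S V).rangeRestrict (MonoidHom.rangeRestrict_surjective _)
  refine ⟨D, hDsat, fun P φ hφ => ?_, ⟨hVS, fun P φ hφ => ?_⟩, ?_, fun A χ hχ hVA hfix => ?_⟩
  · rw [hD' P] at hφ
    exact hφ.1
  · rw [hD' P] at hφ
    obtain ⟨hφF, hPN, hφN, ψ, hψ, hψe, κ, hκ, hψQ⟩ := hφ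
    refine ⟨ψ, ?_, hψe, ?_⟩
    · rw [hD' (P ⊔ V)]
      have hle : (P ⊔ V) ⊔ V ≤ P ⊔ V := sup_le le_rfl le_sup_right
      refine ⟨hψ, ?_, ?_, ψ.comp (Subgroup.inclusion hle), hom_restrict F hle hψ, fun x => rfl, κ, hκ,
        fun x => ?_⟩
      · rw [hNK]
        exact hom_le F hψ
      · intro x
        rw [hNK]
        exact (F.le_of_mem hψ).2 x
      · exact hψQ x
    · ext y
      constructor
      · rintro ⟨x, hx, rfl⟩
        have hx' : (x : Ω) ∈ V := Subgroup.mem_subgroupOf.mp hx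
        have h1 : x = Subgroup.inclusion le_sup_right (⟨(x : Ω), hx'⟩ : V) := Subtype.ext rfl
        rw [h1, hψQ]
        exact (κ _).2
      · intro hy
        refine ⟨Subgroup.inclusion le_sup_right (κ⁻¹ ⟨y, hy⟩), Subgroup.mem_subgroupOf.mpr (κ⁻¹ ⟨y, hy⟩).2, ?_⟩
        rw [hψQ, MulAut.apply_inv_self]
  · apply IsPGroup.to_le hKp
    intro α hα
    have hiso : IsIso D (α : V ≃* V) := (mem_autGroup_iff D hVS α).mp hα
    unfold IsIso at hiso
    rw [hD' V] at hiso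
    obtain ⟨-, -, -, ψ, -, hψe, κ, hκ, hψQ⟩ := hiso
    have h1 : α = κ := by
      ext v
      have h2 := hψe v
      have h3 := hψQ v
      have h4 : (Subgroup.inclusion (le_sup_left : V ≤ V ⊔ V) v) =
          Subgroup.inclusion (le_sup_right : V ≤ V ⊔ V) v := Subtype.ext rfl
      rw [h4, h3] at h2
      exact h2.symm
    rw [h1]
    exact hκ
  · rw [hD' A]
    have hle : A ⊔ V ≤ A := sup_le le_rfl hVA
    refine ⟨hχ, ?_, ?_, χ.comp (Subgroup.inclusion hle), hom_restrict F hle hχ, fun x => ?_, 1, K.one_mem,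
      fun x => ?_⟩
    · rw [hNK]
      exact hom_le F hχ
    · intro x
      rw [hNK]
      exact (F.le_of_mem hχ).2 x
    · show χ _ = χ x
      congr 1
    · show χ _ = (x : Ω)
      exact hfix ⟨x, hVA x.2⟩ x.2

end Cfsg.Agent.Lib.Helper18.FusFree
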