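import Mathlib
import Cfsg.Agent.Lib.Helper18.FusChar
import Cfsg.Agent.Lib.Helper27.LG2CenterTools
import Cfsg.Agent.Lib.Helper27.LGQuot
import Cfsg.Agent.S5134
import Cfsg.Agent.Lib.Helper1.Cores

set_option autoImplicit false

/-!
# Lifting normal subgroups from a factor system (Kessar–Linckelmann)

Let `D` be a saturated fusion system over `S`, `V` normal in `D` with `Aut_D(V)` a `p`-group, and `D'` the
factor system `D/V`.  If every map of `D'` is a map of the normalizer system of `R'`, then every map of `D` is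
a map of the normalizer system of the full preimage of `R'`.
-/

namespace Cfsg.Agent.Lib.Helper18.FusFree

open Cfsg Cfsg.FusionSystem Cfsg.Agent.Lib.Helper27 Cfsg.Agent.H26 Cfsg.Agent.Lib.Helper27.LG
  Cfsg.Agent.Lib.Helper27.LG2

section stab

variable {Ω : Type*} [Group Ω] {S : Subgroup Ω}

/-- An automorphism of `U` of order prime to `p` which is trivial on the `p`-group `V` and on `U/V` is
trivial. -/
theorem eq_one_of_stab {p : ℕ} [Fact p.Prime] {U V : Subgroup Ω} (hVp : IsPGroup p V) (hVU : V ≤ U)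
    (b : MulAut U) (hfix : ∀ u : U, (u : Ω) ∈ V → b u = u)
    (hq : ∀ u : U, (u : Ω)⁻¹ * ((b u : U) : Ω) ∈ V) {m : ℕ} (hm : m.Coprime p) (hbm : b ^ m = 1) :
    b = 1 := by
  apply MulEquiv.ext
  intro u
  obtain ⟨z, hz⟩ : ∃ z : U, z = u⁻¹ * b u := ⟨_, rfl⟩
  have hzV : (z : Ω) ∈ V := by
    rw [hz]
    exact hq u
  have hbz : b z = z := hfix z hzV
  have hbu : b u = u * z := by rw [hz, mul_inv_cancel_left]
  have key : ∀ k : ℕ, (b ^ k) u = u * z ^ k := by
    intro k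
    induction k with
    | zero => simp
    | succ k ih =>
      rw [pow_succ', MulAut.mul_apply, ih, map_mul, map_pow, hbz, hbu, pow_succ', mul_assoc]
  have h1 := key m
  rw [hbm, MulAut.one_apply] at h1
  have h2 : z ^ m = 1 := by
    have h3 : u * 1 = u * z ^ m := by rw [mul_one]; exact h1
    exact (mul_left_cancel h3).symm
  have h3 : (⟨(z : Ω), hzV⟩ : V) = 1 := by
    apply eq_one_of_pprime hVp hm
    apply Subtype.ext
    have h4 := congrArg (fun w : U => (w : Ω)) h2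
    simp only [Subgroup.coe_pow, Subgroup.coe_one] at h4 ⊢
    exact h4
  have h4 : z = 1 := by
    apply Subtype.ext
    exact congrArg (fun w : V => (w : Ω)) h3
  show b u = u
  rw [hbu, h4, mul_one]

/-- The automorphisms in `Aut_F(U)` inducing the identity on `U/V`. -/
def stabSub (F : FusionSystem S) (U V : Subgroup Ω) : Subgroup (F.autGroup U) where
  carrier := {γ | ∀ u : U, (u : Ω)⁻¹ * (((γ : MulAut U) u : U) : Ω) ∈ V}
  one_mem' := by
    intro u
    show (u : Ω)⁻¹ * (u : Ω) ∈ V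
    rw [inv_mul_cancel]
    exact V.one_mem
  mul_mem' := by
    intro γ δ hγ hδ u
    have h1 := hδ u
    have h2 := hγ ((δ : MulAut U) u)
    have h3 : (u : Ω)⁻¹ * (((γ : MulAut U) ((δ : MulAut U) u) : U) : Ω) =
        ((u : Ω)⁻¹ * (((δ : MulAut U) u : U) : Ω)) *
          ((((δ : MulAut U) u : U) : Ω)⁻¹ * (((γ : MulAut U) ((δ : MulAut U) u) : U) : Ω)) := by
      group
    show (u : Ω)⁻¹ * (((γ : MulAut U) ((δ : MulAut U) u) : U) : Ω) ∈ V
    rw [h3]
    exact V.mul_mem h1 h2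
  inv_mem' := by
    intro γ hγ u
    have h1 := hγ ((γ : MulAut U)⁻¹ u)
    rw [MulAut.apply_inv_self] at h1
    have h3 : (u : Ω)⁻¹ * ((((γ : MulAut U))⁻¹ u : U) : Ω) =
        (((((γ : MulAut U))⁻¹ u : U) : Ω)⁻¹ * (u : Ω))⁻¹ := by
      group
    show (u : Ω)⁻¹ * ((((γ : MulAut U))⁻¹ u : U) : Ω) ∈ V
    rw [h3]
    exact V.inv_mem h1

theorem stabSub_normal (F : FusionSystem S) (U V : Subgroup Ω)
    (hinv : ∀ α : F.autGroup U, ∀ x : U, (x : Ω) ∈ V → ((((α : MulAut U) x : U)) : Ω) ∈ V) :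
    (stabSub F U V).Normal := by
  constructor
  intro γ hγ α u
  obtain ⟨w, hw⟩ : ∃ w : U, w = ((α⁻¹ : F.autGroup U) : MulAut U) u := ⟨_, rfl⟩
  have h1 := hγ w
  have h2 := hinv α (w⁻¹ * (γ : MulAut U) w) h1
  have h3 : (α : MulAut U) w = u := by
    rw [hw]
    show (α : MulAut U) (((α : MulAut U))⁻¹ u) = u
    rw [MulAut.apply_inv_self]
  have h4 : (α : MulAut U) (w⁻¹ * (γ : MulAut U) w) = u⁻¹ * (α : MulAut U) ((γ : MulAut U) w) := by
    rw [map_mul, map_inv, h3]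
  rw [h4] at h2
  show (u : Ω)⁻¹ * (((α : MulAut U) ((γ : MulAut U) (((α⁻¹ : F.autGroup U) : MulAut U) u)) : U) : Ω) ∈ V
  rw [← hw]
  exact h2

theorem stabSub_isPGroup [Finite S] {p : ℕ} [Fact p.Prime] (hS : IsPGroup p S) {F : FusionSystem S}
    {U V : Subgroup Ω} (hUS : U ≤ S) (hVU : V ≤ U) (hpg : IsPGroup p (F.autGroup V))
    (hinv : ∀ α : F.autGroup U, ∀ x : U, (x : Ω) ∈ V → ((((α : MulAut U) x : U)) : Ω) ∈ V) :
    IsPGroup p (stabSub F U V) := by
  have hVS : V ≤ S := hVU.trans hUS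
  haveI : Finite ↥U := Finite.of_injective (Subgroup.inclusion hUS) (Subgroup.inclusion_injective hUS)
  haveI : Finite (MulAut ↥U) := Finite.of_injective (fun e : MulAut ↥U => (e : ↥U → ↥U))
    (fun e e' h => MulEquiv.ext (congrFun h))
  have hVp : IsPGroup p V := hS.of_injective (Subgroup.inclusion hVS) (Subgroup.inclusion_injective hVS)
  apply isPGroup_of_coprime_trivial
  intro β m hm hβ
  have hbm : ((β : F.autGroup U) : MulAut U) ^ m = 1 := by
    have h2 := congrArg (fun w : stabSub F U V => ((w : F.autGroup U) : MulAut U)) hβ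
    simpa using h2
  have hbiso : IsIso F (((β : F.autGroup U) : MulAut U) : U ≃* U) :=
    (mem_autGroup_iff F hUS _).mp (β : F.autGroup U).2
  have hfix := fix_of_isPGroup_autGroup hVS hpg hVU hbiso (hinv (β : F.autGroup U)) ⟨m, hm, hbm⟩
  have h1 : ((β : F.autGroup U) : MulAut U) = 1 := eq_one_of_stab hVp hVU _ hfix β.2 hm hbm
  apply Subtype.ext
  apply Subtype.ext
  exact h1

end stab

/-- **Lifting from the factor system.** -/
theorem hom_subset_normalizerHom_preimage {Ω : Type*} [Group Ω] {S : Subgroup Ω} {Ω' : Type*} [Group Ω']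
    {S' : Subgroup Ω'} [Finite S] {p : ℕ} [Fact p.Prime] (hS : IsPGroup p S)
    {D : FusionSystem S} (hD : D.IsSaturated p) {V : Subgroup Ω} (hV : D.IsNormal V)
    (hpg : IsPGroup p (D.autGroup V)) {θ : S →* Ω'} {D' : FusionSystem S'}
    (hfac : D.IsFactorSystem V θ D') {R' : Subgroup Ω'}
    (hR' : ∀ (P' : Subgroup Ω') (φ' : P' →* Ω'), φ' ∈ D'.Hom P' → φ' ∈ D'.normalizerHom R' P') :
    ∀ P : Subgroup Ω, D.Hom P ⊆ D.normalizerHom (preimageAlong θ R') P := by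
  obtain ⟨hVS, hker, hrange, hhom⟩ := id hfac
  obtain ⟨R, hRdef⟩ : ∃ R : Subgroup Ω, R = preimageAlong θ R' := ⟨_, rfl⟩
  rw [← hRdef]
  have hRS : R ≤ S := by rw [hRdef]; exact preimageAlong_le θ R'
  haveI : Finite ↥R := Finite.of_injective (Subgroup.inclusion hRS) (Subgroup.inclusion_injective hRS)
  haveI : Finite ↥V := Finite.of_injective (Subgroup.inclusion hVS) (Subgroup.inclusion_injective hVS)
  have hS'n : S' ≤ Subgroup.normalizer (R' : Set Ω') := by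
    intro s' hs'
    have h1 : conjHom S' s' ∈ D'.Hom S' := D'.conj_mem le_rfl hs'
    have h2 := hR' S' _ h1
    exact (h2.2.1 hs').2
  have hRn : normalizerIn S R = S := by rw [hRdef]; exact preimage_normalizer hrange hS'n
  obtain ⟨E₂, hE₂⟩ := exists_cast_system hRn (nsys D R hRS)
  have hE₂' : ∀ P : Subgroup Ω, E₂.Hom P = D.normalizerHom R P := fun P => by
    rw [hE₂ P]
    exact nsys_spec D R hRS P
  suffices h : ∀ P : Subgroup Ω, D.Hom P ⊆ E₂.Hom P by
    intro P φ hφ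
    rw [← hE₂' P]
    exact h P hφ
  have hsc : D.StronglyClosed V := normal_stronglyClosed hV
  have hwc : D.WeaklyClosed V := normal_weaklyClosed hV
  have hsm := Cfsg.Agent.S5134.result p hS D hD V hsc θ D' hfac
  have hpres : ∀ (A : Subgroup Ω) (φ : A →* Ω), φ ∈ D.Hom A → ∀ x : A, (x : Ω) ∈ R → φ x ∈ R := by
    intro A φ hφ x hx
    obtain ⟨φ', hφ', hA, hφS, hA', hind⟩ := hsm.1.2 A φ hφ
    obtain ⟨ψ', hψ', hφψ', hψ'V, -, -⟩ := normalizerHom_ext (hR' _ φ' hφ')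
    rw [hRdef] at hx ⊢
    obtain ⟨hxS, hx'⟩ := mem_preimageAlong.mp hx
    refine mem_preimageAlong.mpr ⟨hφS x, ?_⟩
    rw [← hind x, hφψ']
    exact hψ'V _ hx'
  -- every map of `D` defined on a subgroup containing `R` is a map of `E₂`
  have hbig : ∀ (A : Subgroup Ω) (φ : A →* Ω), φ ∈ D.Hom A → R ≤ A → φ ∈ E₂.Hom A := by
    intro A φ hφ hRA
    rw [hE₂' A]
    exact mem_normalizerHom_of_preserves D hRA (by rw [hRn]; exact hom_le D hφ) hφ (hpres A φ hφ)
  apply alperin hS hD E₂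
  · intro α hα
    exact hbig S _ hα hRS
  · intro U hUlt hUfn hUc hUr α hα
    have hUS : U ≤ S := hUlt.le
    haveI : Finite ↥U := Finite.of_injective (Subgroup.inclusion hUS) (Subgroup.inclusion_injective hUS)
    have hVU : V ≤ U := ((Cfsg.Agent.S5086.result p hS D hD V).mp hV).2 U hUc hUr
    obtain ⟨φ', hφ', hA, hφS, hA', hind⟩ := hsm.1.2 U _ hα
    obtain ⟨ψ, hψ, hlift⟩ := lift_normalizerHom' hfac (hR' _ φ' hφ')
    have hUU₂ : U ≤ preimageAlong θ (imageAlong θ U ⊔ R') := by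
      intro x hx
      refine mem_preimageAlong.mpr ⟨hUS hx, Subgroup.mem_sup_left ?_⟩
      exact ⟨⟨x, hUS hx⟩, Subgroup.mem_subgroupOf.mpr hx, rfl⟩
    have hRU₂ : R ≤ preimageAlong θ (imageAlong θ U ⊔ R') := by
      rw [hRdef]
      exact preimageAlong_mono θ le_sup_right
    have hU₂S : preimageAlong θ (imageAlong θ U ⊔ R') ≤ S := preimageAlong_le θ _
    have hψD : ψ ∈ D.Hom (preimageAlong θ (imageAlong θ U ⊔ R')) := hψ.1
    -- `ψ` agrees with `α` modulo `V` on `U`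
    have hψα : ∀ x : U, ((α x : U) : Ω)⁻¹ * ψ ⟨x, hUU₂ x.2⟩ ∈ V := by
      intro x
      have hx' : θ ⟨x, hUS x.2⟩ ∈ imageAlong θ U :=
        ⟨⟨x, hUS x.2⟩, Subgroup.mem_subgroupOf.mpr x.2, rfl⟩
      obtain ⟨hψS, h2⟩ := hlift ⟨x, hUU₂ x.2⟩ (hUS x.2) hx'
      have h3 : θ ⟨ψ ⟨x, hUU₂ x.2⟩, hψS⟩ = θ ⟨((α x : U) : Ω), hφS x⟩ := h2.trans (hind x)
      have hmem : ((α x : U) : Ω)⁻¹ * ψ ⟨x, hUU₂ x.2⟩ ∈ S := S.mul_mem (S.inv_mem (hφS x)) hψS
      apply (hker ⟨_, hmem⟩).mp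
      have h4 : (⟨((α x : U) : Ω)⁻¹ * ψ ⟨x, hUU₂ x.2⟩, hmem⟩ : S) =
          (⟨((α x : U) : Ω), hφS x⟩ : S)⁻¹ * ⟨ψ ⟨x, hUU₂ x.2⟩, hψS⟩ := Subtype.ext rfl
      rw [h4, map_mul, map_inv, h3, inv_mul_cancel]
    have hψU : ∀ x : U, (ψ.comp (Subgroup.inclusion hUU₂)) x ∈ U := by
      intro x
      have h1 := hψα x
      have h2 : ψ ⟨x, hUU₂ x.2⟩ = ((α x : U) : Ω) * (((α x : U) : Ω)⁻¹ * ψ ⟨x, hUU₂ x.2⟩) := by
        rw [mul_inv_cancel_left]
      show ψ ⟨x, hUU₂ x.2⟩ ∈ U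
      rw [h2]
      exact U.mul_mem (α x).2 (hVU h1)
    have hψ₁ : ψ.comp (Subgroup.inclusion hUU₂) ∈ D.Hom U := hom_restrict D hUU₂ hψD
    have hinj : Function.Injective ((ψ.comp (Subgroup.inclusion hUU₂)).codRestrict U hψU) :=
      fun a b hab => D.injective_of_mem hψ₁ (congrArg Subtype.val hab)
    obtain ⟨γ, hγ⟩ : ∃ γ : U ≃* U, ∀ x : U, ((γ x : U) : Ω) = ψ ⟨x, hUU₂ x.2⟩ :=
      ⟨MulEquiv.ofBijective _ ⟨hinj, Finite.injective_iff_surjective.mp hinj⟩, fun x => rfl⟩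
    have hγiso : IsIso D γ := by
      have h3 : U.subtype.comp γ.toMonoidHom = ψ.comp (Subgroup.inclusion hUU₂) := by
        ext x
        exact hγ x
      unfold IsIso
      rw [h3]
      exact hψ₁
    obtain ⟨β, hβdef⟩ : ∃ β : MulAut U, β = (α : MulAut U)⁻¹ * (γ : MulAut U) := ⟨_, rfl⟩
    have hαmem : (α : MulAut U) ∈ D.autGroup U := (mem_autGroup_iff D hUS α).mpr hα
    have hγmem : (γ : MulAut U) ∈ D.autGroup U := (mem_autGroup_iff D hUS γ).mpr hγiso
    have hβmem : β ∈ D.autGroup U := by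
      rw [hβdef]
      exact Subgroup.mul_mem _ (Subgroup.inv_mem _ hαmem) hγmem
    have hinv : ∀ a : D.autGroup U, ∀ x : U, (x : Ω) ∈ V → ((((a : MulAut U) x : U)) : Ω) ∈ V :=
      fun a x hx => weaklyClosed_aut_mem hwc hVU ((mem_autGroup_iff D hUS a).mp a.2) x hx
    have hβstab : (⟨β, hβmem⟩ : D.autGroup U) ∈ stabSub D U V := by
      intro u
      show (u : Ω)⁻¹ * ((β u : U) : Ω) ∈ V
      obtain ⟨v, hv⟩ : ∃ v : U, v = (α u)⁻¹ * γ u := ⟨_, rfl⟩
      have hvV : (v : Ω) ∈ V := by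
        rw [hv]
        show ((α u : U) : Ω)⁻¹ * ((γ u : U) : Ω) ∈ V
        rw [hγ u]
        exact hψα u
      have h1 : γ u = α u * v := by rw [hv, mul_inv_cancel_left]
      have h2 : β u = u * (α : MulAut U)⁻¹ v := by
        rw [hβdef, MulAut.mul_apply]
        show (α : MulAut U)⁻¹ (γ u) = _
        rw [h1, map_mul]
        congr 1
        exact MulAut.inv_apply_self _ α u
      rw [h2]
      show (u : Ω)⁻¹ * ((u : Ω) * (((α : MulAut U)⁻¹ v : U) : Ω)) ∈ V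
      rw [inv_mul_cancel_left]
      exact hinv ⟨(α : MulAut U)⁻¹, Subgroup.inv_mem _ hαmem⟩ v hvV
    have hnorm := stabSub_normal D U V hinv
    have hpgK := stabSub_isPGroup hS hUS hVU hpg hinv
    have hle := Cfsg.Agent.Lib.Helper1.le_pCore hnorm hpgK
    have hβinn : β ∈ Inn U := by
      rw [← hUr.2]
      exact ⟨⟨β, hβmem⟩, hle hβstab, rfl⟩
    obtain ⟨g, hg⟩ := (mem_inn_iff β).mp hβinn
    have hgS : ((g : U) : Ω)⁻¹ ∈ S := S.inv_mem (hUS g.2)
    have hc : conjHom (preimageAlong θ (imageAlong θ U ⊔ R')) ((g : Ω)⁻¹) ∈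
        D.Hom (preimageAlong θ (imageAlong θ U ⊔ R')) := D.conj_mem hU₂S hgS
    have hcmem : ∀ x : ↥(preimageAlong θ (imageAlong θ U ⊔ R')),
        conjHom (preimageAlong θ (imageAlong θ U ⊔ R')) ((g : Ω)⁻¹) x ∈
          preimageAlong θ (imageAlong θ U ⊔ R') := by
      intro x
      have hgU₂ : (g : Ω) ∈ preimageAlong θ (imageAlong θ U ⊔ R') := hUU₂ g.2
      exact Subgroup.mul_mem _ (Subgroup.mul_mem _ (Subgroup.inv_mem _ hgU₂) x.2)
        (Subgroup.inv_mem _ (Subgroup.inv_mem _ hgU₂))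
    have hξ : ψ.comp ((conjHom (preimageAlong θ (imageAlong θ U ⊔ R')) ((g : Ω)⁻¹)).codRestrict _ hcmem) ∈
        D.Hom (preimageAlong θ (imageAlong θ U ⊔ R')) := D.comp_mem hc hψD hcmem
    have hξE := hbig _ _ hξ hRU₂
    have hres := hom_restrict E₂ hUU₂ hξE
    have heq : U.subtype.comp α.toMonoidHom =
        (ψ.comp ((conjHom (preimageAlong θ (imageAlong θ U ⊔ R')) ((g : Ω)⁻¹)).codRestrict _ hcmem)).comp
          (Subgroup.inclusion hUU₂) := by
      ext x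
      have h1 : (γ : MulAut U) = (α : MulAut U) * β := by rw [hβdef, mul_inv_cancel_left]
      have h2 : β (g⁻¹ * x * g) = x := by
        rw [hg]
        group
      have h3 : α x = γ (g⁻¹ * x * g) := by
        have h4 : γ (g⁻¹ * x * g) = (α : MulAut U) (β (g⁻¹ * x * g)) := by
          show (γ : MulAut U) _ = _
          rw [h1]
          rfl
        rw [h4, h2]
      show ((α x : U) : Ω) = ψ ⟨(g : Ω)⁻¹ * x * ((g : Ω)⁻¹)⁻¹, _⟩
      rw [h3, hγ]
      congr 1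
      apply Subtype.ext
      show ((g⁻¹ * x * g : U) : Ω) = (g : Ω)⁻¹ * x * ((g : Ω)⁻¹)⁻¹
      rw [inv_inv]
      rfl
    unfold IsIso
    rw [heq]
    exact hres

end Cfsg.Agent.Lib.Helper18.FusFree
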