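import Mathlib
import Cfsg.Agent.H5.QdClimb
import Cfsg.Agent.H5.QdRecogTwo
import Cfsg.Agent.Lib.Helper27.ModelMain
import Cfsg.Agent.Lib.Helper27.LGNormalizer
import Cfsg.Agent.H26.NormalizerConstrained
import Cfsg.Prelude.Def_FusionReduction

set_option autoImplicit false

/-!
# `Qd(p)`-freeness passes to subsystems

Using helper5's `Qd(p)`-data: a saturated system is `Qd(p)`-free iff it carries no datum, and data pass to
larger systems.
-/

namespace Cfsg.Agent.Lib.Helper18.FusFree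

open Cfsg Cfsg.FusionSystem Cfsg.Agent.Lib.Helper27 Cfsg.Agent.H26

universe u

/-- The system carries no `Qd(p)`-datum. -/
def NoDat (p : ℕ) {Ω : Type*} [Group Ω] {S : Subgroup Ω} (F : FusionSystem S) : Prop :=
  ¬ ∃ (U : Subgroup Ω) (f : Ω → (Fin 2 → ZMod p)), Cfsg.H5.QdF.IsDat p F U f

theorem noDat_of_isSectionFree {Ω : Type u} [Group Ω] {S : Subgroup Ω} [Finite S] {p : ℕ} [Fact p.Prime]
    (hS : IsPGroup p S) {F : FusionSystem S} (hF : F.IsSaturated p)
    (h : F.IsSectionFree p ↥(Cfsg.qd p)) : NoDat p F := by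
  rintro ⟨U, f, hD⟩
  obtain ⟨Q', U', f', hfn', hcen', hIn⟩ := Cfsg.H5.QdF.exists_centric_datIn hS hF hD
  have hQS : Q' ≤ S := hfn'.1
  have : Finite ↥Q' := Finite.of_injective (Subgroup.inclusion hQS) (Subgroup.inclusion_injective hQS)
  have hN' := Cfsg.Agent.Lib.Helper27.LG.nsys_spec F Q' hQS
  have hDN := hIn.toNsys hN'
  have hTS : normalizerIn S Q' ≤ S := inf_le_left
  have : Finite ↥(normalizerIn S Q') :=
    Finite.of_injective (Subgroup.inclusion hTS) (Subgroup.inclusion_injective hTS)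
  have hTp : IsPGroup p ↥(normalizerIn S Q') :=
    hS.of_injective (Subgroup.inclusion hTS) (Subgroup.inclusion_injective hTS)
  have hcons := Cfsg.Agent.H26.normalizerSystem_constrained hS hF hfn' hcen' hN'
  obtain ⟨L', hL', ι', hM'⟩ := Cfsg.Agent.Lib.Helper27.Mod.exists_model hTp hcons
  have : Finite L' := hM'.1
  obtain ⟨f'', hG'⟩ := hDN.toGDat hTp hM'.2.1
  exact h Q' hfn' hcen' _ hN' L' ι' hM' (Cfsg.H5.QdR.involves_of_isGDat_all hG')

theorem isSectionFree_of_noDat {Ω : Type u} [Group Ω] {S : Subgroup Ω} {p : ℕ} [Fact p.Prime]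
    {F : FusionSystem S} (h : NoDat p F) : F.IsSectionFree p ↥(Cfsg.qd p) := by
  intro Q hfn hcen N hN L _ ι hM hinvL
  obtain ⟨hfin, hreal', ⟨T, hT⟩, hcc⟩ := hM
  have : Finite L := hfin
  obtain ⟨U, f, hUT, hG⟩ := Cfsg.H5.QdR.exists_isGDat_of_involves T hinvL
  have hUr : U ≤ ι.range := by
    rw [← hT]
    exact hUT
  have hD := Cfsg.H5.QdF.IsDat.ofGDat hreal' hUr hG
  have hD' := hD.mono (inf_le_left : normalizerIn S Q ≤ S)
    (Cfsg.Agent.Lib.Helper27.normalizerSystem_hom_subset hN)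
  exact h ⟨_, _, hD'⟩

/-- `Qd(p)`-freeness of a saturated system passes to every subsystem (over any subgroup). -/
theorem isSectionFree_sub {Ω : Type u} [Group Ω] {S : Subgroup Ω} [Finite S] {p : ℕ} [Fact p.Prime]
    (hS : IsPGroup p S) {F : FusionSystem S} (hF : F.IsSaturated p)
    (hfree : F.IsSectionFree p ↥(Cfsg.qd p)) {T : Subgroup Ω} (hTS : T ≤ S) {E : FusionSystem T}
    (hle : ∀ P : Subgroup Ω, E.Hom P ⊆ F.Hom P) : E.IsSectionFree p ↥(Cfsg.qd p) := by
  apply isSectionFree_of_noDat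
  rintro ⟨U, f, hD⟩
  exact noDat_of_isSectionFree hS hF hfree ⟨U, f, hD.mono hTS hle⟩

end Cfsg.Agent.Lib.Helper18.FusFree
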