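import Mathlib
import Cfsg.Agent.Lib.Helper18.FusKNorm
import Cfsg.Agent.Lib.Helper18.FusLiftNormal
import Cfsg.Agent.Lib.Helper18.FusDecomp
import Cfsg.Agent.Lib.Helper18.FusQdFree
import Cfsg.Agent.Lib.Helper27.LG2Model
import Cfsg.Agent.Lib.Helper27.LG2Extremal
import Cfsg.Agent.H5.QdClimb
import Cfsg.Agent.S5132
import Cfsg.Agent.S5133
import Cfsg.Agent.S5134
import Cfsg.Agent.S5240
import Cfsg.Agent.S5241

set_option autoImplicit false

/-!
# Glauberman functors control `Qd(p)`-free saturated fusion systems (Kessar–Linckelmann)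

Let `W` be a positive characteristic `p`-functor such that `W(P)` is normal in `L` whenever `P` is a Sylow
`p`-subgroup of a `Qd(p)`-free finite group `L` with `C_L(O_p(L)) ≤ O_p(L)`.  Then every saturated
`Qd(p)`-free fusion system `F` over `S` equals the normalizer system of `W(S)`.
-/

namespace Cfsg.Agent.Lib.Helper18.FusFree

open Cfsg Cfsg.FusionSystem Cfsg.Agent.Lib.Helper27 Cfsg.Agent.H26 Cfsg.Agent.Lib.Helper27.LG
  Cfsg.Agent.Lib.Helper27.LG2

universe u

theorem hom_subset_normalizerHom_of_isNormal {Ω : Type*} [Group Ω] {T : Subgroup Ω} {E : FusionSystem T}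
    {X : Subgroup Ω} (hX : E.IsNormal X) (hXn : normalizerIn T X = T) :
    ∀ P : Subgroup Ω, E.Hom P ⊆ E.normalizerHom X P := by
  intro P φ hφ
  obtain ⟨ψ, hψ, h1, h2⟩ := hX.2 P φ hφ
  exact ⟨hφ, by rw [hXn]; exact hom_le E hφ, fun x => by rw [hXn]; exact (E.le_of_mem hφ).2 x,
    ψ, hψ, h1, h2⟩

variable {W : ∀ (Q : Type u) [Group Q], Subgroup Q} {p : ℕ} [Fact p.Prime]

/-- In a `Qd(p)`-free model, `W(T)` is normal in the fusion system. -/
theorem isNormal_wsub_of_model (hW : Cfsg.IsCharPFunctor.{u} p W)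
    (hW3 : ∀ (L : Type u) [Group L] [Finite L] (P : Sylow p L),
      Subgroup.centralizer ((Cfsg.pCore p L : Subgroup L) : Set L) =
        Cfsg.pCore p L ⊓ Subgroup.centralizer ((Cfsg.pCore p L : Subgroup L) : Set L) →
      ¬ Cfsg.Involves ↥(Cfsg.qd p) L →
      (((W ↥(P : Subgroup L)).map (P : Subgroup L).subtype : Subgroup L)).Normal)
    {Ω : Type u} [Group Ω] {T : Subgroup Ω} [Finite T] (hT : IsPGroup p T) {E : FusionSystem T}
    {G : Type u} [Group G] {ι : T →* G} (hG : E.IsModel p G ι)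
    (hfree : ¬ Cfsg.Involves ↥(Cfsg.qd p) G) : E.IsNormal (wsub W T) := by
  haveI := hG.1
  have hreal := hG.2.1
  obtain ⟨Sy, hSy⟩ := hG.2.2.1
  have hcen := hG.2.2.2
  have hn : (wsub W (Sy : Subgroup G)).Normal := hW3 G Sy (inf_eq_right.mpr hcen).symm hfree
  have hle : wsub W (Sy : Subgroup G) ≤ ι.range := by
    rw [← hSy]
    exact wsub_le W _
  have h1 := Cfsg.Agent.H26.realized_isNormal hreal (wsub W (Sy : Subgroup G)) hle
  have h2 : pullback ι (wsub W (Sy : Subgroup G)) = wsub W T := by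
    ext x
    rw [mem_pullback_iff]
    constructor
    · rintro ⟨hxT, hx⟩
      exact mem_wsub_of_ext1 hW hT hreal.1 hSy hxT hx
    · intro hx
      exact ⟨wsub_le W T hx, ext1_mem_wsub hW hT hreal.1 hSy hx⟩
  rw [h2] at h1
  exact h1

/-- **Kessar–Linckelmann**: a Glauberman functor controls fusion in `Qd(p)`-free saturated fusion systems. -/
theorem glauberman_functor_aux (hW : Cfsg.IsCharPFunctor.{u} p W)
    (hW3 : ∀ (L : Type u) [Group L] [Finite L] (P : Sylow p L),
      Subgroup.centralizer ((Cfsg.pCore p L : Subgroup L) : Set L) =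
        Cfsg.pCore p L ⊓ Subgroup.centralizer ((Cfsg.pCore p L : Subgroup L) : Set L) →
      ¬ Cfsg.Involves ↥(Cfsg.qd p) L →
      (((W ↥(P : Subgroup L)).map (P : Subgroup L).subtype : Subgroup L)).Normal) :
    ∀ (n : ℕ) (Ω : Type u) [Group Ω] (S : Subgroup Ω) [Finite S],
      Nat.card S = n → IsPGroup p S → ∀ F : FusionSystem S, F.IsSaturated p →
        F.IsSectionFree p ↥(Cfsg.qd p) →
          ∀ P : Subgroup Ω, F.Hom P ⊆ F.normalizerHom (wsub W S) P := by
  intro n
  induction n using Nat.strong_induction_on with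
  | _ n IH =>
  intro Ω _ S _ hn hS F hF hfree
  have hWn : normalizerIn S (wsub W S) = S := normalizerIn_wsub hW S hS
  obtain ⟨Eg, hEg⟩ : ∃ Eg : FusionSystem S, ∀ P : Subgroup Ω, Eg.Hom P = F.normalizerHom (wsub W S) P := by
    obtain ⟨E, hE⟩ := exists_cast_system hWn (nsys F (wsub W S) (wsub_le W S))
    exact ⟨E, fun P => by rw [hE P]; exact nsys_spec F _ (wsub_le W S) P⟩
  suffices hsub : ∀ P : Subgroup Ω, F.Hom P ⊆ Eg.Hom P by
    intro P φ hφ
    rw [← hEg P]
    exact hsub P hφ
  have hEF : ∀ P : Subgroup Ω, Eg.Hom P ⊆ F.Hom P := fun P φ hφ => by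
    rw [hEg P] at hφ
    exact hφ.1
  have htop : ∀ α : S ≃* S, IsIso F α → IsIso Eg α := by
    intro α hα
    unfold IsIso
    rw [hEg S]
    exact aut_top_mem_normalizerHom hW hS F hα
  by_contra hne
  obtain ⟨V, hV1, hVfn, hVb, hmax⟩ := exists_extremal hS hF Eg hEF htop hne
  -- subgroups beyond `V` are good
  have hgoodR : ∀ R : Subgroup Ω, R ≠ ⊥ →
      (Nat.card (normalizerIn S V) < Nat.card (normalizerIn S R) ∨
        (Nat.card (normalizerIn S R) = Nat.card (normalizerIn S V) ∧ Nat.card V < Nat.card R)) →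
      ∀ (Q : Subgroup Ω) (φ : Q →* Ω), φ ∈ F.normalizerHom R Q → φ ∈ Eg.Hom Q := by
    intro R hR1 hlt Q φ hφ
    by_contra h
    have hb : BadN F Eg R := ⟨Q, φ, hφ, h⟩
    obtain ⟨h1, h2⟩ := hmax R hR1 hb
    rcases hlt with h3 | ⟨h3, h4⟩
    · exact absurd h1 (not_le.mpr h3)
    · exact absurd (h2 h3) (not_le.mpr h4)
  have hVS : V ≤ S := hVfn.1
  have hTS : normalizerIn S V ≤ S := inf_le_left
  haveI : Finite ↥(normalizerIn S V) :=
    Finite.of_injective (Subgroup.inclusion hTS) (Subgroup.inclusion_injective hTS)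
  haveI : Finite ↥V := Finite.of_injective (Subgroup.inclusion hVS) (Subgroup.inclusion_injective hVS)
  have hTp : IsPGroup p ↥(normalizerIn S V) :=
    hS.of_injective (Subgroup.inclusion hTS) (Subgroup.inclusion_injective hTS)
  obtain ⟨E, hE⟩ : ∃ E : FusionSystem (normalizerIn S V), F.IsNormalizerSystem V E :=
    ⟨nsys F V hVS, nsys_spec F V hVS⟩
  have hEsat : E.IsSaturated p := normalizerSystem_saturated hS hF hVfn E hE
  have hEfree : E.IsSectionFree p ↥(Cfsg.qd p) := Cfsg.Agent.S5240.result p hS F hF hfree V hVfn E hE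
  -- it suffices to show that the maps of `E` are maps of `Eg`
  suffices hEE : ∀ P : Subgroup Ω, E.Hom P ⊆ Eg.Hom P by
    obtain ⟨P, φ, hφ, hφE⟩ := hVb
    apply hφE
    apply hEE P
    rw [hE P]
    exact hφ
  obtain ⟨N₁, hN₁⟩ : ∃ N₁ : FusionSystem (normalizerIn (normalizerIn S V) (wsub W (normalizerIn S V))),
      E.IsNormalizerSystem (wsub W (normalizerIn S V)) N₁ :=
    ⟨nsys E _ (wsub_le W _), nsys_spec E _ (wsub_le W _)⟩
  haveI := finite_wsub (W := W) (normalizerIn S V)
  have hS₁1 : normalizerIn S V ≠ ⊥ := by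
    intro h
    apply hV1
    exact le_bot_iff.mp (h ▸ le_normalizerIn hVS)
  by_cases hT' : normalizerIn S V = S
  · -- `V` is normal in `S`
    have hcardlt : ∀ R : Subgroup Ω, R ≤ S → V < R → Nat.card V < Nat.card R := by
      intro R hRS hVR
      haveI : Finite ↥R := Finite.of_injective (Subgroup.inclusion hRS) (Subgroup.inclusion_injective hRS)
      refine lt_of_le_of_ne (Subgroup.card_le_of_le hVR.le) (fun heq => hVR.ne ?_)
      exact Subgroup.eq_of_le_of_card_ge hVR.le heq.ge
    have hgoodN : ∀ R : Subgroup Ω, R ≤ S → normalizerIn S R = S → V < R →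
        ∀ (Q : Subgroup Ω) (φ : Q →* Ω), φ ∈ F.normalizerHom R Q → φ ∈ Eg.Hom Q := by
      intro R hRS hRn hVR
      apply hgoodR R (ne_bot_of_gt hVR)
      right
      exact ⟨by rw [hRn, hT'], hcardlt R hRS hVR⟩
    by_cases hcen : centralizerIn S V ≤ V
    · -- constrained: use the model
      have hfc : F.IsFullyCentralized V := (fa_receptive_of_fullyNormalized hS hF hVfn).2.2
      have hVc : F.IsCentric V := by
        have h1 := Cfsg.H5.QdF.isCentric_sup_centralizerIn hfc
        have h2 : V ⊔ centralizerIn S V = V := sup_eq_left.mpr hcen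
        rw [h2] at h1
        exact h1
      have hcons := Cfsg.Agent.H26.normalizerSystem_constrained hS hF hVfn hVc hE
      obtain ⟨G, _, ι, hG⟩ := Mod.exists_model hTp hcons
      have hGfree : ¬ Cfsg.Involves ↥(Cfsg.qd p) G := hfree V hVfn hVc E hE G ι hG
      have hnorm : E.IsNormal (wsub W (normalizerIn S V)) := isNormal_wsub_of_model hW hW3 hTp hG hGfree
      have hsub := hom_subset_normalizerHom_of_isNormal hnorm (normalizerIn_wsub hW _ hTp)
      intro P φ hφ
      have h1 : φ ∈ N₁.Hom P := by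
        rw [hN₁ P]
        exact hsub P hφ
      have h2 := nsys_nsys_hom_subset hE hN₁ h1
      rw [wsub_congr W hT'] at h2
      rw [hEg P]
      exact h2
    · -- not constrained
      have hRS : V ⊔ centralizerIn S V ≤ S := sup_le hVS (centralizerIn_le_S S V)
      have hVR : V < V ⊔ centralizerIn S V := by
        refine lt_of_le_of_ne le_sup_left (fun h => hcen ?_)
        exact le_sup_right.trans (le_of_eq h.symm)
      have hRn : normalizerIn S (V ⊔ centralizerIn S V) = S := normalizerIn_sup_centralizerIn hVS hT'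
      -- the subsystem `S C_F(V)`
      obtain ⟨D, hDsat, hDF, hDn, hDpg, hDC⟩ := exists_normK_sub hS hF hVS hT'
      have hDfree : D.IsSectionFree p ↥(Cfsg.qd p) := isSectionFree_sub hS hF hfree le_rfl hDF
      have hDsc : D.StronglyClosed V := normal_stronglyClosed hDn
      haveI : (V.subgroupOf S).Normal :=
        Subgroup.normal_subgroupOf_of_le_normalizer (by
          intro x hx
          have hx' : x ∈ normalizerIn S V := by rw [hT']; exact hx
          exact hx'.2)
      obtain ⟨D', hfac⟩ := Cfsg.Agent.S5132.result p hS D V hDsc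
      have hsm := Cfsg.Agent.S5134.result p hS D hDsat V hDsc _ D' hfac
      have hD'sat : D'.IsSaturated p := Cfsg.Agent.S5133.result p hS D hDsat D' _ hsm
      have hD'free : D'.IsSectionFree p ↥(Cfsg.qd p) :=
        Cfsg.Agent.S5241.result p hS D hDsat V hDn hDfree _ D' hfac
      haveI : Finite ↥(⊤ : Subgroup (↥S ⧸ V.subgroupOf S)) := inferInstance
      have hp' : IsPGroup p ↥(⊤ : Subgroup (↥S ⧸ V.subgroupOf S)) :=
        (hS.to_quotient _).to_subgroup _
      have hcard' : Nat.card ↥(⊤ : Subgroup (↥S ⧸ V.subgroupOf S)) < n := by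
        rw [Subgroup.card_top, ← hn]
        have h3 := Subgroup.card_eq_card_quotient_mul_card_subgroup (V.subgroupOf S)
        have h4 : Nat.card (V.subgroupOf S) = Nat.card V :=
          Nat.card_congr (Subgroup.subgroupOfEquivOfLe hVS).toEquiv
        have h5 : 1 < Nat.card V := by
          rw [Subgroup.one_lt_card_iff_ne_bot]
          exact hV1
        rw [h4] at h3
        have h7 : 0 < Nat.card (↥S ⧸ V.subgroupOf S) := Nat.card_pos
        nlinarith
      have hIH := IH _ hcard' _ ⊤ rfl hp' D' hD'sat hD'free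
      have hlift := hom_subset_normalizerHom_preimage hS hDsat hDn hDpg hfac hIH
      obtain ⟨hUT, hker, hrange, -⟩ := id hfac
      have htop' : (⊤ : Subgroup (↥S ⧸ V.subgroupOf S)) ≠ ⊥ := by
        intro htop
        apply hcen
        intro s hs
        apply (hker ⟨s, hs.1⟩).mp
        have h1 : QuotientGroup.mk' (V.subgroupOf S) ⟨s, hs.1⟩ ∈
            (⊤ : Subgroup (↥S ⧸ V.subgroupOf S)) := Subgroup.mem_top _
        rw [htop] at h1
        exact Subgroup.mem_bot.mp h1
      have hRb1 := wsub_ne_bot hW (⊤ : Subgroup (↥S ⧸ V.subgroupOf S)) hp' htop'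
      have hRble := wsub_le W (⊤ : Subgroup (↥S ⧸ V.subgroupOf S))
      have hRbchar := wsub_char hW (⊤ : Subgroup (↥S ⧸ V.subgroupOf S)) hp'
      haveI := finite_wsub (W := W) (⊤ : Subgroup (↥S ⧸ V.subgroupOf S))
      have hV'n : (⊤ : Subgroup (↥S ⧸ V.subgroupOf S)) ≤
          Subgroup.normalizer ((wsub W (⊤ : Subgroup (↥S ⧸ V.subgroupOf S))) :
            Set (↥S ⧸ V.subgroupOf S)) := by
        have h3 := normalizerIn_eq_of_char hRble hRbchar
        intro y hy
        have h4 : y ∈ normalizerIn ⊤ (wsub W (⊤ : Subgroup (↥S ⧸ V.subgroupOf S))) := by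
          rw [h3]
          exact hy
        exact h4.2
      have hR'n := preimage_normalizer hrange hV'n
      have hR'S : preimageAlong (QuotientGroup.mk' (V.subgroupOf S)) (wsub W ⊤) ≤ S :=
        preimageAlong_le _ _
      have hVR' := lt_preimage hUT hker hrange hRble hRb1
      -- all maps of `D` are maps of `Eg`
      have hDEg : ∀ (A : Subgroup Ω) (χ : A →* Ω), χ ∈ D.Hom A → χ ∈ Eg.Hom A := by
        intro A χ hχ
        exact hgoodN _ hR'S hR'n hVR' A χ (normalizerHom_mono hDF (hlift A hχ))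
      intro P φ hφ
      rw [hE P] at hφ
      exact normalizerHom_mem_of_parts hS hF hVfn hT' Eg (hgoodN _ hRS hRn hVR)
        (fun A χ hχ hVA hfix => hDEg A χ (hDC A χ hχ hVA hfix)) P φ hφ
  · -- `N_S(V) < S`: induction
    have hTlt : normalizerIn S V < S := lt_of_le_of_ne hTS hT'
    have hcardT : Nat.card ↥(normalizerIn S V) < n := by
      rw [← hn]
      refine lt_of_le_of_ne (Subgroup.card_le_of_le hTS) (fun heq => hT' ?_)
      exact Subgroup.eq_of_le_of_card_ge hTS heq.ge
    have hIH := IH _ hcardT Ω _ rfl hTp E hEsat hEfree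
    have hR1 : wsub W (normalizerIn S V) ≠ ⊥ := wsub_ne_bot hW _ hTp hS₁1
    have h3 : normalizerIn S (normalizerIn S V) ≤ normalizerIn S (wsub W (normalizerIn S V)) :=
      normalizerIn_le_of_char (wsub_le W _) (wsub_char hW _ hTp)
    have h4 := card_lt_card_normalizerIn hS hTlt
    have hNRS : normalizerIn S (wsub W (normalizerIn S V)) ≤ S := inf_le_left
    haveI : Finite ↥(normalizerIn S (wsub W (normalizerIn S V))) :=
      Finite.of_injective (Subgroup.inclusion hNRS) (Subgroup.inclusion_injective hNRS)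
    have h5 := Subgroup.card_le_of_le h3
    intro P φ hφ
    have h6 : φ ∈ N₁.Hom P := by
      rw [hN₁ P]
      exact hIH P hφ
    exact hgoodR _ hR1 (Or.inl (h4.trans_le h5)) P φ (nsys_nsys_hom_subset hE hN₁ h6)

end Cfsg.Agent.Lib.Helper18.FusFree
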