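import Mathlib

set_option autoImplicit false

namespace Cfsg.Agent.Lib.Helper18.HC25B

/-- The order of `GL₄(𝔽₃)` realised on an abstract vector space of order `81`. -/
theorem card_linearEquiv_81 {V : Type*} [AddCommGroup V] [Module (ZMod 3) V] [Finite V]
    (hV : Nat.card V = 81) : Nat.card (V ≃ₗ[ZMod 3] V) = 24261120 := by
  classical
  have : Fact (Nat.Prime 3) := ⟨by norm_num⟩
  have hfin : Module.finrank (ZMod 3) V = 4 := by
    have h1 : Nat.card V = Nat.card (ZMod 3) ^ Module.finrank (ZMod 3) V := Module.natCard_eq_pow_finrank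
    rw [hV, Nat.card_zmod] at h1
    have : (3 : ℕ) ^ 4 = 3 ^ Module.finrank (ZMod 3) V := by rw [← h1]; norm_num
    exact (Nat.pow_right_injective (by norm_num : 2 ≤ 3) this).symm
  let b : Module.Basis (Fin 4) (ZMod 3) V := Module.finBasisOfFinrankEq (ZMod 3) V hfin
  let e : V ≃ₗ[ZMod 3] (Fin 4 → ZMod 3) := b.equivFun
  let conjE : (V ≃ₗ[ZMod 3] V) ≃ ((Fin 4 → ZMod 3) ≃ₗ[ZMod 3] (Fin 4 → ZMod 3)) :=
    { toFun := fun f => e.symm.trans (f.trans e)
      invFun := fun g => e.trans (g.trans e.symm)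
      left_inv := by intro f; ext v; simp
      right_inv := by intro g; ext w; simp }
  rw [Nat.card_congr conjE,
    ← Nat.card_congr (LinearMap.GeneralLinearGroup.generalLinearEquiv (ZMod 3) (Fin 4 → ZMod 3)).toEquiv,
    ← Nat.card_congr (Matrix.GeneralLinearGroup.toLin (n := Fin 4) (R := ZMod 3)).toEquiv,
    Matrix.card_GL_field, ZMod.card]
  simp [Fin.prod_univ_four]

end Cfsg.Agent.Lib.Helper18.HC25B
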