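import Mathlib
import Cfsg.Agent.S3360

set_option autoImplicit false

/-! S4025 PART B, Huppert half: a solvable group of linear maps transitive on the lines of `V`, extended by the scalars,
is transitive on the non-zero vectors, so the landed S3360 (Huppert) applies. -/

namespace Cfsg.Agent.Lib.Helper18.HC25B

theorem huppert_field_or_small (p : ℕ) [Fact p.Prime] {V : Type*} [AddCommGroup V] [Module (ZMod p) V]
    [Finite V] [Nontrivial V] {Γ : Type*} [Group Γ] [Finite Γ] (hs : Group.IsSolvable Γ)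
    (ρ : Γ →* (V ≃ₗ[ZMod p] V))
    (hlines : ∀ v w : V, v ≠ 0 → w ≠ 0 → ∃ γ : Γ, ∃ c : (ZMod p)ˣ, ρ γ v = c • w) :
    (∃ (F : Type) (_ : Field F) (_ : Fintype F) (e : V ≃+ F),
        ∀ γ : Γ, ∃ (a : F) (σ : F ≃+* F), ∀ v : V, e (ρ γ v) = a * σ (e v)) ∨
    Nat.card V ∈ ({9, 25, 49, 121, 529, 81} : Set ℕ) := by
  classical
  -- the scalar homomorphism
  let scal : (ZMod p)ˣ →* (V ≃ₗ[ZMod p] V) := DistribMulAction.toModuleAut (ZMod p) V
  have hscal : ∀ (c : (ZMod p)ˣ) (v : V), scal c v = c • v := fun c v => rfl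
  have hcomm : ∀ (γ : Γ) (c : (ZMod p)ˣ), Commute (ρ γ) (scal c) := by
    intro γ c
    show ρ γ * scal c = scal c * ρ γ
    ext v
    show ρ γ (scal c v) = scal c (ρ γ v)
    rw [hscal, hscal]
    show ρ γ ((c : ZMod p) • v) = (c : ZMod p) • ρ γ v
    exact (ρ γ).map_smul _ _
  let φ : Γ × (ZMod p)ˣ →* (V ≃ₗ[ZMod p] V) := MonoidHom.noncommCoprod ρ scal hcomm
  have hφ : ∀ (γ : Γ) (c : (ZMod p)ˣ) (v : V), φ (γ, c) v = ρ γ (c • v) := by
    intro γ c v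
    show (ρ γ * scal c) v = ρ γ (c • v)
    rfl
  let H : Subgroup (V ≃ₗ[ZMod p] V) := φ.range
  have hfinA : Finite (V ≃ₗ[ZMod p] V) :=
    Finite.of_injective (fun f : V ≃ₗ[ZMod p] V => (f : V → V)) DFunLike.coe_injective
  have hfinH : Finite ↥H := inferInstance
  have hHsol : Group.IsSolvable ↥H := by
    have : Group.IsSolvable (Γ × (ZMod p)ˣ) := inferInstance
    exact Group.isSolvable_of_surjective φ.rangeRestrict_surjective
  have htrans : ∀ v w : V, v ≠ 0 → w ≠ 0 → ∃ h : ↥H, H.subtype h v = w := by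
    intro v w hv hw
    obtain ⟨γ, c, hγ⟩ := hlines v w hv hw
    refine ⟨⟨φ (γ, c⁻¹), ⟨(γ, c⁻¹), rfl⟩⟩, ?_⟩
    show φ (γ, c⁻¹) v = w
    rw [hφ]
    have : ρ γ (c⁻¹ • v) = c⁻¹ • ρ γ v := by
      show ρ γ (((c⁻¹ : (ZMod p)ˣ) : ZMod p) • v) = ((c⁻¹ : (ZMod p)ˣ) : ZMod p) • ρ γ v
      exact (ρ γ).map_smul _ _
    rw [this, hγ, inv_smul_smul]
  rcases Cfsg.Agent.S3360.result p hHsol H.subtype H.subtype_injective htrans with h | h
  · left
    obtain ⟨F, iF, iFt, e, he⟩ := h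
    refine ⟨F, iF, iFt, e, ?_⟩
    intro γ
    obtain ⟨a, σ, haσ⟩ := he ⟨φ (γ, 1), ⟨(γ, 1), rfl⟩⟩
    refine ⟨a, σ, ?_⟩
    intro v
    have h1 := haσ v
    have h2 : H.subtype ⟨φ (γ, 1), ⟨(γ, 1), rfl⟩⟩ v = ρ γ v := by
      show φ (γ, 1) v = ρ γ v
      rw [hφ, one_smul]
    rw [h2] at h1
    exact h1
  · right; exact h

end Cfsg.Agent.Lib.Helper18.HC25B
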