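import Mathlib

set_option autoImplicit false

/-! S4025 PART B, orbit counting: a group of additive permutations of `V` that is transitive on the subgroups of
order `k` has order divisible by their number. -/

namespace Cfsg.Agent.Lib.Helper18.HC25B

variable {V : Type*} [AddCommGroup V]

/-- the additive endomorphism given by an additive permutation -/
def addHomOf (γ : Equiv.Perm V) (h : ∀ v w : V, γ (v + w) = γ v + γ w) : V →+ V where
  toFun := γ
  map_zero' := by
    have := h 0 0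
    rw [add_zero] at this
    exact (left_eq_add.mp this)
  map_add' := h

theorem card_subgroups_dvd (Γ : Subgroup (Equiv.Perm V))
    (hadd : ∀ γ ∈ Γ, ∀ v w : V, γ (v + w) = γ v + γ w)
    (htr : ∀ U₁ U₂ : AddSubgroup V, Nat.card U₁ = Nat.card U₂ → ∃ γ ∈ Γ, ∀ v, v ∈ U₁ ↔ γ v ∈ U₂)
    (k : ℕ) (hne : Nonempty {U : AddSubgroup V // Nat.card ↥U = k}) :
    Nat.card {U : AddSubgroup V // Nat.card ↥U = k} ∣ Nat.card ↥Γ := by
  classical
  let X := {U : AddSubgroup V // Nat.card ↥U = k}
  let f : ↥Γ → (V →+ V) := fun γ => addHomOf γ.1 (hadd γ.1 γ.2)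
  have hf_apply : ∀ (γ : ↥Γ) (v : V), f γ v = γ.1 v := fun γ v => rfl
  have hf_inj : ∀ γ : ↥Γ, Function.Injective (f γ) := fun γ => γ.1.injective
  have hmem : ∀ (γ : ↥Γ) (U : AddSubgroup V) (w : V), w ∈ U.map (f γ) ↔ γ.1.symm w ∈ U := by
    intro γ U w
    rw [AddSubgroup.mem_map]
    constructor
    · rintro ⟨v, hv, rfl⟩
      rw [hf_apply, Equiv.symm_apply_apply]; exact hv
    · intro hw
      exact ⟨γ.1.symm w, hw, by rw [hf_apply, Equiv.apply_symm_apply]⟩
  let _inst : MulAction ↥Γ X :=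
    { smul := fun γ U => ⟨U.1.map (f γ), by
        have h1 : Nat.card ↥(U.1.map (f γ)) = Nat.card ↥U.1 :=
          (Nat.card_congr (U.1.equivMapOfInjective (f γ) (hf_inj γ)).toEquiv).symm
        exact h1.trans U.2⟩
      one_smul := by
        intro U
        apply Subtype.ext
        show U.1.map (f 1) = U.1
        ext w
        rw [hmem]
        show (Equiv.symm (1 : Equiv.Perm V)) w ∈ U.1 ↔ w ∈ U.1
        exact Iff.rfl
      mul_smul := by
        intro γ₁ γ₂ U
        apply Subtype.ext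
        show U.1.map (f (γ₁ * γ₂)) = (U.1.map (f γ₂)).map (f γ₁)
        ext w
        rw [hmem, hmem, hmem]
        simp [Equiv.Perm.mul_def] }
  have hsmul : ∀ (γ : ↥Γ) (U : X), (γ • U).1 = U.1.map (f γ) := fun γ U => rfl
  obtain ⟨U₀⟩ := hne
  have horb : MulAction.orbit ↥Γ U₀ = Set.univ := by
    apply Set.eq_univ_of_forall
    intro U
    obtain ⟨γ, hγ, hγU⟩ := htr U₀.1 U.1 (by rw [U₀.2, U.2])
    refine ⟨⟨γ, hγ⟩, ?_⟩
    apply Subtype.ext
    show ((⟨γ, hγ⟩ : ↥Γ) • U₀).1 = U.1
    rw [hsmul]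
    ext w
    rw [hmem]
    have := hγU (γ.symm w)
    rw [Equiv.apply_symm_apply] at this
    exact this
  have h1 : (MulAction.stabilizer ↥Γ U₀).index = (MulAction.orbit ↥Γ U₀).ncard :=
    MulAction.index_stabilizer ↥Γ U₀
  rw [horb, Set.ncard_univ] at h1
  rw [← h1]
  exact Subgroup.index_dvd_card _

end Cfsg.Agent.Lib.Helper18.HC25B
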