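import Mathlib
import Cfsg.Agent.Lib.Helper18.HC25B1
import Cfsg.Agent.Lib.Helper18.HC25B2
import Cfsg.Agent.Lib.Helper2.HC25.Planes
import Cfsg.Agent.Lib.Helper11.Kill81

set_option autoImplicit false

/-! S4025 PART B: assembly. -/

namespace Cfsg.Agent.Lib.Helper18.HC25B

universe u

/-- the linear automorphism attached to an additive permutation of a `ZMod p`-module -/
def linOf {p : ℕ} {V : Type u} [AddCommGroup V] [Module (ZMod p) V] (γ : Equiv.Perm V)
    (h : ∀ v w : V, γ (v + w) = γ v + γ w) : V ≃ₗ[ZMod p] V where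
  toFun := γ
  invFun := γ.symm
  left_inv := γ.left_inv
  right_inv := γ.right_inv
  map_add' := h
  map_smul' := by
    intro c v
    exact ZMod.map_smul (addHomOf γ h) c v

theorem arith_81 {p n : ℕ} (hp : p.Prime) (hn : 3 ≤ n)
    (h : p ^ n ∈ ({9, 25, 49, 121, 529, 81} : Set ℕ)) : p = 3 ∧ n = 4 := by
  have key : ∀ q : ℕ, q.Prime → ∀ k : ℕ, k ≠ 0 → p ^ n = q ^ k → p = q ∧ n = k := by
    intro q hq k hk hpq
    have hn0 : n ≠ 0 := by omega
    have hpdvd : p ∣ q ^ k := by rw [← hpq]; exact dvd_pow_self p hn0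
    have hpq' : p = q := (Nat.prime_dvd_prime_iff_eq hp hq).mp (hp.dvd_of_dvd_pow hpdvd)
    refine ⟨hpq', ?_⟩
    rw [hpq'] at hpq
    exact Nat.pow_right_injective hq.two_le hpq
  simp only [Set.mem_insert_iff, Set.mem_singleton_iff] at h
  rcases h with h | h | h | h | h | h
  · have := (key 3 (by norm_num) 2 (by norm_num) (by rw [h]; norm_num)).2; omega
  · have := (key 5 (by norm_num) 2 (by norm_num) (by rw [h]; norm_num)).2; omega
  · have := (key 7 (by norm_num) 2 (by norm_num) (by rw [h]; norm_num)).2; omega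
  · have := (key 11 (by norm_num) 2 (by norm_num) (by rw [h]; norm_num)).2; omega
  · have := (key 23 (by norm_num) 2 (by norm_num) (by rw [h]; norm_num)).2; omega
  · exact key 3 (by norm_num) 4 (by norm_num) (by rw [h]; norm_num)

theorem partB_core {p : ℕ} [Fact p.Prime] {V : Type u} [AddCommGroup V] [Module (ZMod p) V] [Finite V] (n : ℕ) (hn : 3 ≤ n)
    (hV : Nat.card V = p ^ n) (hexp : ∀ v : V, p • v = 0)
    (Γ : Subgroup (Equiv.Perm V)) (hadd : ∀ γ ∈ Γ, ∀ v w : V, γ (v + w) = γ v + γ w) (hsol : Group.IsSolvable ↥Γ) (hp' : ¬ p ∣ Nat.card ↥Γ)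
    (htr : ∀ U₁ U₂ : AddSubgroup V, Nat.card U₁ = Nat.card U₂ → ∃ γ ∈ Γ, ∀ v, v ∈ U₁ ↔ γ v ∈ U₂) :
    ∃ (F : Type) (_ : Field F) (_ : Fintype F) (e : V ≃+ F),
      ∀ γ ∈ Γ, ∃ (a : F) (σ : F ≃+* F), ∀ v, e (γ v) = a * σ (e v) := by
  classical
  have hp : p.Prime := Fact.out
  have hnt : Nontrivial V := by
    rw [← Finite.one_lt_card_iff_nontrivial, hV]
    exact Nat.one_lt_pow (by omega) hp.one_lt
  -- the representation
  let ρ : ↥Γ →* (V ≃ₗ[ZMod p] V) :=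
    { toFun := fun γ => linOf γ.1 (hadd γ.1 γ.2)
      map_one' := by ext v; rfl
      map_mul' := by intro a b; ext v; rfl }
  have hρ_apply : ∀ (γ : ↥Γ) (v : V), ρ γ v = γ.1 v := fun γ v => rfl
  have hρ_inj : Function.Injective ρ := by
    intro a b hab
    apply Subtype.ext
    ext v
    have := congrArg (fun f : V ≃ₗ[ZMod p] V => f v) hab
    exact this
  -- transitivity on lines
  have hlines : ∀ v w : V, v ≠ 0 → w ≠ 0 → ∃ γ : ↥Γ, ∃ c : (ZMod p)ˣ, ρ γ v = c • w := by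
    intro v w hv hw
    have hcard : ∀ u : V, u ≠ 0 → Nat.card (AddSubgroup.zmultiples u) = p := by
      intro u hu
      rw [Nat.card_zmultiples]
      exact addOrderOf_eq_prime (hexp u) hu
    obtain ⟨γ, hγ, hγU⟩ := htr (AddSubgroup.zmultiples v) (AddSubgroup.zmultiples w)
      (by rw [hcard v hv, hcard w hw])
    have h1 : γ v ∈ AddSubgroup.zmultiples w := (hγU v).mp (AddSubgroup.mem_zmultiples v)
    obtain ⟨k, hk⟩ := AddSubgroup.mem_zmultiples_iff.mp h1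
    have hγ0 : γ 0 = 0 := (addHomOf γ (hadd γ hγ)).map_zero
    have hγv : γ v ≠ 0 := by
      intro h0
      apply hv
      apply γ.injective
      rw [h0, hγ0]
    have hc : ((k : ℤ) : ZMod p) ≠ 0 := by
      intro h0
      apply hγv
      rw [← hk, ← Int.cast_smul_eq_zsmul (ZMod p) k w, h0, zero_smul]
    refine ⟨⟨γ, hγ⟩, Units.mk0 _ hc, ?_⟩
    rw [hρ_apply]
    show γ v = ((k : ℤ) : ZMod p) • w
    rw [Int.cast_smul_eq_zsmul, hk]
  rcases huppert_field_or_small p hsol ρ hlines with h | h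
  · obtain ⟨F, iF, iFt, e, he⟩ := h
    refine ⟨F, iF, iFt, e, ?_⟩
    intro γ hγ
    obtain ⟨a, σ, haσ⟩ := he ⟨γ, hγ⟩
    exact ⟨a, σ, fun v => haσ v⟩
  · exfalso
    rw [hV] at h
    obtain ⟨hp3, hn4⟩ := arith_81 hp hn h
    subst hp3
    subst hn4
    -- counts
    have hpl := Cfsg.Agent.Lib.Helper2.HC25.card_planes_mul (p := 3) (n := 4) hV hexp
    have hN2 : Nat.card {U : AddSubgroup V // Nat.card ↥U = 3 ^ 2} = 130 := by
      have h48 : ((3 : ℕ) ^ 2 - 1) * (3 ^ 2 - 3) = 48 := by norm_num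
      have h6240 : ((3 : ℕ) ^ 4 - 1) * (3 ^ 4 - 3) = 130 * 48 := by norm_num
      rw [h48, h6240] at hpl
      exact Nat.eq_of_mul_eq_mul_right (by norm_num) hpl
    have hne2 : Nonempty {U : AddSubgroup V // Nat.card ↥U = 3 ^ 2} := by
      by_contra hcon
      rw [not_nonempty_iff] at hcon
      rw [Nat.card_of_isEmpty] at hN2
      omega
    have hd2 := card_subgroups_dvd Γ hadd htr (3 ^ 2) hne2
    rw [hN2] at hd2
    have h13 : 13 ∣ Nat.card ↥Γ := Dvd.dvd.trans (by norm_num) hd2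
    have h5 : 5 ∣ Nat.card ↥Γ := Dvd.dvd.trans (by norm_num) hd2
    have hV81 : Nat.card V = 81 := by rw [hV]; norm_num
    exact Cfsg.Agent.Lib.Helper11.Kill81.no_solvable_65 hV81 hsol ρ hρ_inj h5 h13

theorem partB_main {p : ℕ} [Fact p.Prime] {V : Type u} [AddCommGroup V] [Finite V] (n : ℕ) (hn : 3 ≤ n)
    (hV : Nat.card V = p ^ n) (hexp : ∀ v : V, p • v = 0)
    (Γ : Subgroup (Equiv.Perm V)) (hadd : ∀ γ ∈ Γ, ∀ v w : V, γ (v + w) = γ v + γ w) (hsol : Group.IsSolvable ↥Γ) (hp' : ¬ p ∣ Nat.card ↥Γ)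
    (htr : ∀ U₁ U₂ : AddSubgroup V, Nat.card U₁ = Nat.card U₂ → ∃ γ ∈ Γ, ∀ v, v ∈ U₁ ↔ γ v ∈ U₂) :
    ∃ (F : Type) (_ : Field F) (_ : Fintype F) (e : V ≃+ F),
      ∀ γ ∈ Γ, ∃ (a : F) (σ : F ≃+* F), ∀ v, e (γ v) = a * σ (e v) := by
  let _instM : Module (ZMod p) V := AddCommGroup.zmodModule hexp
  exact partB_core n hn hV hexp Γ hadd hsol hp' htr

end Cfsg.Agent.Lib.Helper18.HC25B
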