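import Cfsg.Agent.Lib.Helper18.HSMultCertData
import Cfsg.Agent.Lib.Helper18.HSMultCore

/-!
# S2046: kernel checks of the holonomy certificate (helper18)
-/

set_option autoImplicit false
set_option maxRecDepth 1000000

namespace Cfsg.Agent.Lib.Helper18.HSMult

open Cfsg Cfsg.H5.TCk Cfsg.H5.StemTC Cfsg.Agent.Lib.Helper18.Holo

/-- the certificate is accepted -/
theorem check_ok : check cert STEPS CHK YS AS = true := by decide +kernel

theorem letters_ok : ((List.range 731).all fun j => (relF j).all fun l => decide (l < 2 * 3)) = true := by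
  decide +kernel

theorem hlet : ∀ j < cert.nr, ∀ l ∈ cert.rel j, l < 2 * 3 := by
  intro j hj l hl
  have h := letters_ok
  rw [List.all_eq_true] at h
  have h1 := h j (List.mem_range.mpr hj)
  rw [List.all_eq_true] at h1
  exact of_decide_eq_true (h1 l hl)

theorem esum_ok : esum 2 (cert.rel 6) = 1 := by decide +kernel

theorem wrdF_zero : wrdF 0 = [] := by decide +kernel

theorem base_ok : ((List.range 2464).all fun v => !isBaseF v || baseOK cert wrdF 6 v) = true := by
  decide +kernel

theorem BASE_lt : BASE < 2 ^ 2464 := by decide +kernel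

theorem hbase : ∀ v, cert.isBase v = true → baseOK cert wrdF 6 v = true := by
  intro v hv
  have hv' : BASE.testBit v = true := hv
  have hlt : v < 2464 := by
    by_contra hcon
    push Not at hcon
    have h1 : BASE < 2 ^ v := lt_of_lt_of_le BASE_lt (Nat.pow_le_pow_right (by norm_num) hcon)
    rw [Nat.testBit_lt_two_pow h1] at hv'
    exact Bool.false_ne_true hv'
  have h := base_ok
  rw [List.all_eq_true] at h
  have h1 := h v (List.mem_range.mpr hlt)
  rw [Bool.or_eq_true, Bool.not_eq_true'] at h1
  rcases h1 with h1 | h1
  · have : isBaseF v = true := hv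
    rw [h1] at this
    exact absurd this Bool.false_ne_true
  · exact h1

end Cfsg.Agent.Lib.Helper18.HSMult
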