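import Cfsg.Agent.Lib.Helper28.HSA
import Cfsg.Agent.H5.TCkSound

/-!
# S2046 (Schur multiplier of HS): the generators `x, y, g` of helper28's `Kab` (helper18)

`x = b`, `y = (a⁻¹ a⁻¹ a⁻¹ b a⁻¹ a⁻¹)⁶` (order 10), `g = a * u₀` with `u₀ = y⁻¹xyxy⁻¹y⁻¹xy⁻¹xy⁻¹y⁻¹`
(a fixed-point-free involution).  `⟨x, y⟩ ≅ U₃(5)` has index 352.
Letters (convention of `Cfsg.H5.TCk.ev`): `0,1 = x,x⁻¹`, `2,3 = y,y⁻¹`, `4,5 = g,g⁻¹`.
-/

set_option autoImplicit false

namespace Cfsg.Agent.Lib.Helper18.HSMult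

open Cfsg.Agent.Lib.Helper28.BSGS Cfsg.Agent.Lib.Helper28.HSAData Cfsg.Agent.Lib.Helper28.HSA
open Cfsg.H5.TCk

/-- table of `y` -/
def ty : ℕ := 0x171e5aa485dc33b150b196d8e8404c02f1ca43d92b68817d3508ae3a600f0b1533c3138724418288de35a27452c4255ccd4e7893b5c942576e262450b7711bb6b4f8c204660ead0a701901eac6836b03d04f86d97f7e51a
/-- table of `y⁻¹` -/
def tyi : ℕ := 0xac760890544f45362825b484c6da913d9d57c45615c205d0fc43102176485d4061843551116dd475da4bb936043929cd309981fc7574d35f6d197ca32a99503802c38bd6573778a4b179c50298c6c51391cf4fa5841c852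
/-- table of `g` -/
def tg : ℕ := 0x6f7e219c55541e2f513a980eef5a5f05a0e2620b06203088b36a99e1466a9576a4818fac9559fc675fd18a1c482a69920a731ac5db2b9d2d86146817171b158f0b014b734e189efa4cb79410ca90b18ce65311007ac1004

theorem pair_y : pairOK 100 7 ty tyi = true := by decide +kernel
theorem pair_g : pairOK 100 7 tg tg = true := by decide +kernel

def gx : P100 := b
def gy : P100 := permOf 100 7 ty tyi
def gg : P100 := permOf 100 7 tg tg

theorem gx_acts : ActsT gx tb := b_acts
theorem gxinv_acts : ActsT gx⁻¹ tb := binv_acts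
theorem gy_acts : ActsT gy ty := actsT_permOf pair_y
theorem gyinv_acts : ActsT gy⁻¹ tyi := actsT_permOf_inv pair_y
theorem gg_acts : ActsT gg tg := actsT_permOf pair_g
theorem gginv_acts : ActsT gg⁻¹ tg := actsT_permOf_inv pair_g

/-- the generators: `0 ↦ x`, `1 ↦ y`, `2 ↦ g` -/
def gP : ℕ → P100
  | 0 => gx
  | 1 => gy
  | 2 => gg
  | _ => 1

/-- the tables of the letters -/
def ltab : ℕ → ℕ
  | 0 => tb
  | 1 => tb
  | 2 => ty
  | 3 => tyi
  | 4 => tg
  | _ => tg

theorem gl_acts : ∀ l, l < 6 → ActsT (gl gP l) (ltab l)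
  | 0, _ => gx_acts
  | 1, _ => gxinv_acts
  | 2, _ => gy_acts
  | 3, _ => gyinv_acts
  | 4, _ => gg_acts
  | 5, _ => gginv_acts
  | (n + 6), h => absurd h (by omega)

theorem ev_acts (w : List ℕ) (hw : ∀ l ∈ w, l < 6) : ActsByW 100 7 (ev gP w) (w.map ltab) := by
  induction w with
  | nil => exact actsByW_one 100 7
  | cons l w ih =>
    have h1 := gl_acts l (hw l List.mem_cons_self)
    have h2 := ih (fun l' hl' => hw l' (List.mem_cons_of_mem _ hl'))
    exact actsByW_cons h1 h2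

theorem yword_ok :
    wordEq 100 7 [ty] (List.replicate 6 [tai, tai, tai, tb, tai, tai]).flatten = true := by decide +kernel

/-- the word `u₀` in the letters -/
def u0w : List ℕ := [3, 0, 2, 0, 3, 3, 0, 3, 0, 3, 3]

theorem gword_ok : wordEq 100 7 [tg] (ta :: u0w.map ltab) = true := by decide +kernel

theorem gy_eq : gy = (a⁻¹ * a⁻¹ * a⁻¹ * b * a⁻¹ * a⁻¹) ^ 6 := by
  have h1 : ActsByW 100 7 (a⁻¹ * a⁻¹ * a⁻¹ * b * a⁻¹ * a⁻¹) [tai, tai, tai, tb, tai, tai] := by
    simp only [mul_assoc]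
    exact actsByW_cons ainv_acts (actsByW_cons ainv_acts (actsByW_cons ainv_acts
      (actsByW_cons b_acts (actsByW_cons ainv_acts ainv_acts.word))))
  have h2 : ∀ k : ℕ, ActsByW 100 7 ((a⁻¹ * a⁻¹ * a⁻¹ * b * a⁻¹ * a⁻¹) ^ k)
      ((List.replicate k [tai, tai, tai, tb, tai, tai]).flatten) := by
    intro k
    induction k with
    | zero => exact actsByW_one 100 7
    | succ k ih =>
      rw [pow_succ', List.replicate_succ, List.flatten_cons]
      exact actsW_mul h1 ih
  exact eq_of_wordEq 100 7 gy_acts.word (h2 6) yword_ok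

theorem gx_mem : gx ∈ Kab := b_mem_K

theorem gy_mem : gy ∈ Kab := by
  rw [gy_eq]
  have ha : a⁻¹ ∈ Kab := Kab.inv_mem a_mem_K
  exact Kab.pow_mem (Kab.mul_mem (Kab.mul_mem (Kab.mul_mem (Kab.mul_mem (Kab.mul_mem ha ha) ha)
    b_mem_K) ha) ha) 6

theorem gg_eq : gg = a * ev gP u0w := by
  have h1 : ActsByW 100 7 (a * ev gP u0w) (ta :: u0w.map ltab) :=
    actsByW_cons a_acts (ev_acts u0w (by decide))
  exact eq_of_wordEq 100 7 gg_acts.word h1 gword_ok

theorem ev_mem_of (S : Subgroup P100) (h : ∀ i, gP i ∈ S) (w : List ℕ) : ev gP w ∈ S := by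
  induction w with
  | nil => exact S.one_mem
  | cons l w ih =>
    refine S.mul_mem ?_ ih
    unfold gl
    split_ifs
    · exact h _
    · exact S.inv_mem (h _)

theorem gg_mem : gg ∈ Kab := by
  rw [gg_eq]
  refine Kab.mul_mem a_mem_K ?_
  -- `u₀` only involves `x` and `y`
  have : ∀ w : List ℕ, (∀ l ∈ w, l < 4) → ev gP w ∈ Kab := by
    intro w
    induction w with
    | nil => intro _; exact Kab.one_mem
    | cons l w ih =>
      intro hw
      refine Kab.mul_mem ?_ (ih fun l' hl' => hw l' (List.mem_cons_of_mem _ hl'))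
      have hl := hw l List.mem_cons_self
      interval_cases l
      · exact gx_mem
      · exact Kab.inv_mem gx_mem
      · exact gy_mem
      · exact Kab.inv_mem gy_mem
  exact this u0w (by decide)

theorem gP_mem : ∀ i, gP i ∈ Kab
  | 0 => gx_mem
  | 1 => gy_mem
  | 2 => gg_mem
  | (n + 3) => Kab.one_mem

/-- the generators as elements of `Kab` -/
def gK (i : ℕ) : ↥Kab := ⟨gP i, gP_mem i⟩

theorem coe_gl (l : ℕ) : ((gl gK l : ↥Kab) : P100) = gl gP l := by
  unfold gl
  split_ifs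
  · rfl
  · rfl

theorem coe_ev (w : List ℕ) : ((ev gK w : ↥Kab) : P100) = ev gP w := by
  induction w with
  | nil => rfl
  | cons l w ih => simp only [ev, Subgroup.coe_mul, ih, coe_gl]

theorem a_eq : a = gg * (ev gP u0w)⁻¹ := by rw [gg_eq]; group

theorem closure_gK : Subgroup.closure (Set.range fun i : Fin 3 => gK i.val) = ⊤ := by
  rw [eq_top_iff]
  set S := Subgroup.closure (Set.range fun i : Fin 3 => gK i.val) with hS
  have hmem : ∀ i, i < 3 → gK i ∈ S := fun i hi => Subgroup.subset_closure ⟨⟨i, hi⟩, rfl⟩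
  have hev : ∀ w : List ℕ, (∀ l ∈ w, l < 6) → ev gK w ∈ S := by
    intro w
    induction w with
    | nil => intro _; exact S.one_mem
    | cons l w ih =>
      intro hw
      refine S.mul_mem ?_ (ih fun l' hl' => hw l' (List.mem_cons_of_mem _ hl'))
      have hl := hw l List.mem_cons_self
      unfold gl
      split_ifs
      · exact hmem _ (by omega)
      · exact S.inv_mem (hmem _ (by omega))
  have ha : aK ∈ S := by
    have h : aK = gK 2 * (ev gK u0w)⁻¹ := by
      apply Subtype.ext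
      rw [Subgroup.coe_mul, Subgroup.coe_inv, coe_ev]
      exact a_eq
    rw [h]
    exact S.mul_mem (hmem 2 (by norm_num)) (S.inv_mem (hev u0w (by decide)))
  have hb : bK ∈ S := hmem 0 (by norm_num)
  rw [← closure_ab, Subgroup.closure_le]
  intro z hz
  rcases hz with rfl | rfl
  · exact ha
  · exact hb

/-- the subgroup `U = ⟨x, y⟩ ≅ U₃(5)` of `Kab` -/
def UK : Subgroup ↥Kab := Subgroup.closure {gK 0, gK 1}

theorem gK_mem_UK : ∀ i, i < 2 → gK i ∈ UK
  | 0, _ => Subgroup.subset_closure (Set.mem_insert _ _)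
  | 1, _ => Subgroup.subset_closure (Set.mem_insert_of_mem _ rfl)
  | (n + 2), h => absurd h (by omega)

end Cfsg.Agent.Lib.Helper18.HSMult
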