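import Cfsg.Agent.Lib.Helper18.HSMultRel
import Cfsg.Agent.Lib.Helper18.HSMultChk
import Cfsg.Agent.Lib.Helper11.HSMultQ4

/-!
# S2046: the kernel of a finite stem extension of `HS` (in helper28's model `Kab`) has order at most 2
(helper18; pieces by helper17, helper19, helper1, helper11, helper9)
-/

set_option autoImplicit false

namespace Cfsg.Agent.Lib.Helper18.HSMult

open Cfsg Cfsg.Agent.Lib.Helper28.HSA Cfsg.H5.TCk Cfsg.Agent.Lib.Helper18.Holo

/-- the upper bound, from the three concrete pieces [C1] (`U`), [C2] (odd primes), [ORB] (the cosets) -/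
theorem card_ker_le_two_of_pieces
    (hC1a : Nat.card UK = 126000) (hC1b : UK ≤ ⁅UK, UK⁆)
    (hC1c : ∀ (Λ : Type) [Group Λ] [Finite Λ] (τ : Λ →* ↥UK), IsStemExtension τ →
      IsPGroup 2 τ.ker → τ.ker = ⊥)
    (hC2 : ∀ (Γ : Type) [Group Γ] [Finite Γ] (σ : Γ →* ↥Kab), IsStemExtension σ → IsPGroup 2 σ.ker)
    (hORBa : ∀ c < 352, ∀ l < 2 * 3,
      (ev gK (wrdF (nxtF c l)))⁻¹ * gl gK l * ev gK (wrdF c) ∈ UK)
    (hORBb : ∀ c < 352, ∀ l < 2 * 3, nxtF c l < 352)
    (Γ : Type) [Group Γ] [Finite Γ] (σ : Γ →* ↥Kab) (hσ : IsStemExtension σ) :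
    Nat.card σ.ker ≤ 2 := by
  by_contra hcon
  push Not at hcon
  obtain ⟨Γ', _, _, σ', hσ', hc4⟩ := exists_stem_card_ker_four σ hσ (hC2 Γ σ hσ) hcon
  have hker4 : ∀ k ∈ σ'.ker, k ^ 4 = 1 := by
    intro k hk
    have h := pow_card_eq_one' (G := σ'.ker) (x := ⟨k, hk⟩)
    rw [hc4] at h
    exact congrArg Subtype.val h
  have hcard : Nat.card ↥Kab = cert.n * Nat.card UK := by
    rw [hC1a]
    show Nat.card ↥Kab = 352 * 126000
    rw [card_Kab]
  have := card_ker_le_two_of_check σ' hσ' hker4 UK hC1b hC1c gK gK_mem_UK closure_gK cert wrdF 6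
    wrdF_zero (by show 0 < 352; norm_num) hORBb hORBa evK_rel hlet (by show 6 < 731; norm_num)
    esum_ok hbase STEPS CHK YS AS check_ok hcard
  omega

end Cfsg.Agent.Lib.Helper18.HSMult
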