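import Cfsg.Agent.Lib.Helper18.HSMultDefs
import Cfsg.Agent.Lib.Helper18.HSMultCertData

/-!
# S2046: the 731 relators hold in `Kab` (helper18)
-/

set_option autoImplicit false
set_option maxRecDepth 1000000

namespace Cfsg.Agent.Lib.Helper18.HSMult

open Cfsg.Agent.Lib.Helper28.BSGS Cfsg.Agent.Lib.Helper28.HSAData Cfsg.Agent.Lib.Helper28.HSA
open Cfsg.H5.TCk Cfsg.Agent.Lib.Helper18.Holo

theorem rels_ok_a : ((List.range 250).all fun j => wordId 100 7 ((relF j).map ltab)) = true := by
  decide +kernel

theorem rels_ok_b : ((List.range 250).all fun j => wordId 100 7 ((relF (250 + j)).map ltab)) = true := by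
  decide +kernel

theorem rels_ok_c : ((List.range 231).all fun j => wordId 100 7 ((relF (500 + j)).map ltab)) = true := by
  decide +kernel

theorem rels_lt : ((List.range 731).all fun j => (relF j).all fun l => decide (l < 6)) = true := by
  decide +kernel

theorem wordId_rel (j : ℕ) (hj : j < 731) : wordId 100 7 ((relF j).map ltab) = true := by
  by_cases h1 : j < 250
  · have h := rels_ok_a
    rw [List.all_eq_true] at h
    exact h j (List.mem_range.mpr h1)
  · by_cases h2 : j < 500
    · have h := rels_ok_b
      rw [List.all_eq_true] at h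
      have := h (j - 250) (List.mem_range.mpr (by omega))
      rwa [show 250 + (j - 250) = j by omega] at this
    · have h := rels_ok_c
      rw [List.all_eq_true] at h
      have := h (j - 500) (List.mem_range.mpr (by omega))
      rwa [show 500 + (j - 500) = j by omega] at this

theorem evP_rel (j : ℕ) (hj : j < 731) : ev gP (relF j) = 1 := by
  have hl : ∀ l ∈ relF j, l < 6 := by
    intro l hl
    have h := rels_lt
    rw [List.all_eq_true] at h
    have h1 := h j (List.mem_range.mpr hj)
    rw [List.all_eq_true] at h1
    exact of_decide_eq_true (h1 l hl)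
  exact eq_one_of_wordId 100 7 (ev_acts (relF j) hl) (wordId_rel j hj)

theorem evK_rel (j : ℕ) (hj : j < 731) : ev gK (relF j) = 1 := by
  apply Subtype.ext
  rw [coe_ev, evP_rel j hj]
  rfl

end Cfsg.Agent.Lib.Helper18.HSMult
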