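import Mathlib
import Cfsg.Prelude.Def_KGroupFacts
import Cfsg.Agent.H5.TCkSound

/-!
# S2046 (Schur multiplier of HS): shared definitions for the holonomy argument (helper18)

Left-action convention: a word `[l₁, …, l_k]` stands for the product `gl γ l₁ * ⋯ * gl γ l_k`
(`Cfsg.H5.TCk.ev`), and in a coset table the LAST letter acts first.
-/

set_option autoImplicit false

namespace Cfsg.Agent.Lib.Helper18.Holo

/-- trace of a word through a coset table (the last letter acts first) -/
def traceL (nxt : ℕ → ℕ → ℕ) (c : ℕ) : List ℕ → ℕ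
  | [] => c
  | l :: w => nxt (traceL nxt c w) l

/-- holonomy product along a word -/
def hol {A : Type*} [Mul A] [One A] (κ : ℕ → ℕ → A) (nxt : ℕ → ℕ → ℕ) (c : ℕ) : List ℕ → A
  | [] => 1
  | l :: w => κ (traceL nxt c w) l * hol κ nxt c w

end Cfsg.Agent.Lib.Helper18.Holo
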