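import Mathlib
import Cfsg.Prelude.Def_IsolatedElements
import Cfsg.Prelude.Def_CaseTheorems
import Cfsg.Agent.Lib.Helper13.Frobenius
import Cfsg.Agent.Lib.Helper10.OmegaCentralize
import Cfsg.Agent.Lib.Helper9.CompAct1
import Cfsg.Agent.Lib.Helper18.Cores

/-!
# Isolated elements of order `p` in groups of `p`-rank at most 2

Tools for the analysis of a non-central isolated element `x` of odd prime order `p` in a finite group
of `p`-rank at most `2` with `O_{p'}(G) = 1`:

* `mem_mul_of_rank`: in `p`-rank `≤ 2`, an element of order dividing `p` commuting with two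
  independent commuting elements of order `p` lies in the product of their cyclic groups;
* `isolated_comm_of_isPGroup`: an isolated element is central in every `p`-subgroup containing it;
* `fix_of_isolated`: the key fixing property;
* `isPGroup_of_isolated`: a subnormal subgroup centralizing an element `c` of order `p` of a Sylow
  subgroup `S ∋ x`, with `x ∉ ⟨c⟩`, is a `p`-group (Frobenius' normal `p`-complement theorem).
-/

set_option autoImplicit false

namespace Cfsg.Agent.Lib.Helper18.IsoRank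

open Cfsg

variable {G : Type*} [Group G]

/-- a nonidentity element of a cyclic group of prime order generates it -/
theorem gen_of_mem_zpowers [Finite G] {p : ℕ} [hp : Fact p.Prime] {a w : G} (ha : orderOf a = p)
    (hw : w ∈ Subgroup.zpowers a) (hw1 : w ≠ 1) : a ∈ Subgroup.zpowers w := by
  have h1 : orderOf w ∣ p := by
    rw [← ha]; exact orderOf_dvd_of_mem_zpowers hw
  have h2 : orderOf w = p := by
    rcases (Nat.dvd_prime hp.out).mp h1 with h | h
    · exact absurd (orderOf_eq_one_iff.mp h) hw1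
    · exact h
  have hle : Subgroup.zpowers w ≤ Subgroup.zpowers a := Subgroup.zpowers_le.mpr hw
  have heq : Subgroup.zpowers w = Subgroup.zpowers a :=
    Subgroup.eq_of_le_of_card_ge hle (by rw [Nat.card_zpowers, Nat.card_zpowers, h2, ha])
  rw [heq]
  exact Subgroup.mem_zpowers a

/-- **rank argument**: in `p`-rank at most `2`, an element `c` with `c ^ p = 1` commuting with
two commuting independent elements `a`, `b` of order `p` lies in `⟨a⟩⟨b⟩`. -/
theorem mem_mul_of_rank [Finite G] {p : ℕ} [hp : Fact p.Prime] (hrank : PRankLE p 2 G)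
    (a b c : G) (hab : a * b = b * a) (hac : a * c = c * a) (hbc : b * c = c * b)
    (ha : orderOf a = p) (hb : orderOf b = p) (hc : c ^ p = 1)
    (hind : b ∉ Subgroup.zpowers a) :
    ∃ u ∈ Subgroup.zpowers a, ∃ v ∈ Subgroup.zpowers b, c = u * v := by
  classical
  set k : Set G := {a, b, c} with hk
  have hcomm : ∀ x ∈ k, ∀ y ∈ k, x * y = y * x := by
    intro x hx y hy
    simp only [hk, Set.mem_insert_iff, Set.mem_singleton_iff] at hx hy
    rcases hx with rfl | rfl | rfl <;> rcases hy with rfl | rfl | rfl <;>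
      first | rfl | assumption | (symm; assumption)
  have hAc : IsMulCommutative (Subgroup.closure k) := Subgroup.isMulCommutative_closure hcomm
  have hap : a ^ p = 1 := by rw [← ha]; exact pow_orderOf_eq_one a
  have hbp : b ^ p = 1 := by rw [← hb]; exact pow_orderOf_eq_one b
  have hAexp : ∀ g ∈ Subgroup.closure k, g ^ p = 1 := by
    intro g hg
    induction hg using Subgroup.closure_induction with
    | mem x hx =>
      simp only [hk, Set.mem_insert_iff, Set.mem_singleton_iff] at hx
      rcases hx with rfl | rfl | rfl <;> assumption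
    | one => exact one_pow p
    | mul x y hx hy ihx ihy =>
      have hxy : Commute x y := by
        have := hAc.is_comm.comm (⟨x, hx⟩ : Subgroup.closure k) ⟨y, hy⟩
        exact congrArg Subtype.val this
      rw [hxy.mul_pow, ihx, ihy, one_mul]
    | inv x hx ihx => rw [inv_pow, ihx, inv_one]
  have hcard : Nat.card (Subgroup.closure k) ≤ p ^ 2 := hrank _ hAc hAexp
  have haA : Subgroup.zpowers a ≤ Subgroup.closure k :=
    Subgroup.zpowers_le.mpr (Subgroup.subset_closure (by simp [hk]))
  have hbA : Subgroup.zpowers b ≤ Subgroup.closure k :=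
    Subgroup.zpowers_le.mpr (Subgroup.subset_closure (by simp [hk]))
  have hcA : c ∈ Subgroup.closure k := Subgroup.subset_closure (by simp [hk])
  let f : Subgroup.zpowers a × Subgroup.zpowers b → Subgroup.closure k :=
    fun uv => ⟨(uv.1 : G) * (uv.2 : G), (Subgroup.closure k).mul_mem (haA uv.1.2) (hbA uv.2.2)⟩
  have hinter : ∀ w : G, w ∈ Subgroup.zpowers a → w ∈ Subgroup.zpowers b → w = 1 := by
    intro w hwa hwb
    by_contra hw1
    apply hind
    have h1 := gen_of_mem_zpowers hb hwb hw1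
    exact (Subgroup.zpowers_le.mpr hwa) h1
  have hf : Function.Injective f := by
    rintro ⟨⟨u, hu⟩, ⟨v, hv⟩⟩ ⟨⟨u', hu'⟩, ⟨v', hv'⟩⟩ h
    have h1 : u * v = u' * v' := congrArg Subtype.val h
    have h2 : u'⁻¹ * u = v' * v⁻¹ := by
      calc u'⁻¹ * u = u'⁻¹ * (u * v) * v⁻¹ := by group
        _ = u'⁻¹ * (u' * v') * v⁻¹ := by rw [h1]
        _ = v' * v⁻¹ := by group
    have h3 : u'⁻¹ * u = 1 :=
      hinter _ (Subgroup.mul_mem _ (Subgroup.inv_mem _ hu') hu)
        (by rw [h2]; exact Subgroup.mul_mem _ hv' (Subgroup.inv_mem _ hv))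
    have h4 : u = u' := by
      have : u = u' * (u'⁻¹ * u) := by group
      rw [this, h3, mul_one]
    have h5 : v = v' := by
      rw [h4] at h1
      exact mul_left_cancel h1
    subst h4 h5
    rfl
  have hdom : Nat.card (Subgroup.zpowers a × Subgroup.zpowers b) = p ^ 2 := by
    rw [Nat.card_prod, Nat.card_zpowers, Nat.card_zpowers, ha, hb, pow_two]
  have hbij := hf.bijective_of_nat_card_le (by rw [hdom]; exact hcard)
  obtain ⟨⟨⟨u, hu⟩, ⟨v, hv⟩⟩, huv⟩ := hbij.2 ⟨c, hcA⟩
  exact ⟨u, hu, v, hv, (congrArg Subtype.val huv).symm⟩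

/-- an isolated element is central in every `p`-subgroup containing it -/
theorem isolated_comm_of_isPGroup [Finite G] {p : ℕ} [hp : Fact p.Prime] {x : G}
    (hiso : IsIsolated x) (S : Subgroup G) (hS : IsPGroup p S) (hxS : x ∈ S) :
    ∀ s ∈ S, s * x = x * s := by
  haveI : Group.IsNilpotent S := hS.isNilpotent
  by_contra hne
  push Not at hne
  obtain ⟨s₀, hs₀, hs₀x⟩ := hne
  have hT : Subgroup.centralizer ({(⟨x, hxS⟩ : S)} : Set S) < ⊤ := by
    rw [lt_top_iff_ne_top]
    intro h
    have h1 : (⟨s₀, hs₀⟩ : S) ∈ Subgroup.centralizer ({(⟨x, hxS⟩ : S)} : Set S) := by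
      rw [h]; trivial
    rw [Subgroup.mem_centralizer_iff] at h1
    have h2 := h1 ⟨x, hxS⟩ rfl
    exact hs₀x (congrArg Subtype.val h2).symm
  have hN := Group.normalizerCondition_of_isNilpotent (G := S) _ hT
  obtain ⟨s, hsN, hsT⟩ := SetLike.exists_of_lt hN
  have hxT : (⟨x, hxS⟩ : S) ∈ Subgroup.centralizer ({(⟨x, hxS⟩ : S)} : Set S) := by
    rw [Subgroup.mem_centralizer_iff]
    intro h hh
    rw [Set.mem_singleton_iff.mp hh]
  have h1 := (Subgroup.mem_normalizer_iff.mp hsN ⟨x, hxS⟩).mp hxT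
  rw [Subgroup.mem_centralizer_iff] at h1
  have h2 := h1 ⟨x, hxS⟩ rfl
  have h3 : Commute x ((s : G) * x * (s : G)⁻¹) := congrArg Subtype.val h2
  have h4 := hiso (s : G) h3
  apply hsT
  rw [Subgroup.mem_centralizer_iff]
  intro h hh
  rw [Set.mem_singleton_iff.mp hh]
  apply Subtype.ext
  show x * (s : G) = (s : G) * x
  exact (mul_inv_eq_iff_eq_mul.mp h4).symm

/-- **key fixing property**.  `x` isolated of order `p`, central in the `p`-subgroup `S`, `p`-rank
at most `2`; `c ∈ C(x)` of order `p` with `x ∉ ⟨c⟩`, centralized by the subgroup `M`.  Then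
any `g ∈ M` conjugating an element `y` of order `p` of `S ∩ M` into `S` centralizes `y`. -/
theorem fix_of_isolated [Finite G] {p : ℕ} [hp : Fact p.Prime] (hrank : PRankLE p 2 G)
    {x : G} (hx : orderOf x = p) (hiso : IsIsolated x) (S : Subgroup G)
    (hxS : ∀ s ∈ S, s * x = x * s) (M : Subgroup G) {c : G} (hc : orderOf c = p)
    (hcx : c * x = x * c) (hMc : ∀ m ∈ M, m * c = c * m) (hxc : x ∉ Subgroup.zpowers c)
    {g : G} (hg : g ∈ M) {y : G} (hyM : y ∈ M) (hyS : y ∈ S) (hy : orderOf y = p)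
    (hy' : g * y * g⁻¹ ∈ S) : g * y * g⁻¹ = y := by
  have dec : ∀ t ∈ M, t ∈ S → t ^ p = 1 →
      ∃ u ∈ Subgroup.zpowers c, ∃ v ∈ Subgroup.zpowers x, t = u * v := by
    intro t htM htS htp
    exact mem_mul_of_rank hrank c x t hcx (hMc t htM).symm (hxS t htS).symm hc hx htp hxc
  have hyp : y ^ p = 1 := by rw [← hy]; exact pow_orderOf_eq_one y
  obtain ⟨u, hu, v, hv, hyuv⟩ := dec y hyM hyS hyp
  have hgy : g * y * g⁻¹ ∈ M := M.mul_mem (M.mul_mem hg hyM) (M.inv_mem hg)
  have hgyp : (g * y * g⁻¹) ^ p = 1 := by rw [conj_pow, hyp]; group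
  obtain ⟨u', hu', v', hv', hy'uv⟩ := dec _ hgy hy' hgyp
  have hgu : g * u = u * g := by
    obtain ⟨k, rfl⟩ := Subgroup.mem_zpowers_iff.mp hu
    exact Commute.zpow_right (hMc g hg) k
  have hux : ∀ w ∈ Subgroup.zpowers c, w * x = x * w := by
    intro w hw
    obtain ⟨k, rfl⟩ := Subgroup.mem_zpowers_iff.mp hw
    exact Commute.zpow_left hcx k
  have hvx : ∀ w ∈ Subgroup.zpowers x, w * x = x * w := by
    intro w hw
    obtain ⟨k, rfl⟩ := Subgroup.mem_zpowers_iff.mp hw
    exact Commute.zpow_left (Commute.refl x) k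
  by_cases hv1 : v = 1
  · rw [hyuv, hv1, mul_one, hgu, mul_inv_cancel_right]
  · have hxv : x ∈ Subgroup.zpowers v := gen_of_mem_zpowers hx hv hv1
    obtain ⟨m, hm⟩ := Subgroup.mem_zpowers_iff.mp hxv
    have hgv : g * v * g⁻¹ = u⁻¹ * (u' * v') := by
      have h1 : g * y * g⁻¹ = u * (g * v * g⁻¹) := by
        rw [hyuv]
        calc g * (u * v) * g⁻¹ = (g * u) * v * g⁻¹ := by group
          _ = (u * g) * v * g⁻¹ := by rw [hgu]
          _ = u * (g * v * g⁻¹) := by group
      rw [← hy'uv, h1]; group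
    have hgvx : (g * v * g⁻¹) * x = x * (g * v * g⁻¹) := by
      rw [hgv]
      have h1 := hux u⁻¹ (Subgroup.inv_mem _ hu)
      have h2 := hux u' hu'
      have h3 := hvx v' hv'
      calc u⁻¹ * (u' * v') * x = u⁻¹ * (u' * (v' * x)) := by group
        _ = u⁻¹ * (u' * (x * v')) := by rw [h3]
        _ = u⁻¹ * ((u' * x) * v') := by group
        _ = u⁻¹ * ((x * u') * v') := by rw [h2]
        _ = (u⁻¹ * x) * (u' * v') := by group
        _ = (x * u⁻¹) * (u' * v') := by rw [h1]
        _ = x * (u⁻¹ * (u' * v')) := by group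
    have hgx : g * x * g⁻¹ = (g * v * g⁻¹) ^ m := by rw [← hm, conj_zpow]
    have hcomm : Commute x (g * x * g⁻¹) := by
      rw [hgx]
      exact Commute.zpow_right (show Commute x (g * v * g⁻¹) from hgvx.symm) m
    have hfix := hiso g hcomm
    have hgx' : g * x = x * g := mul_inv_eq_iff_eq_mul.mp hfix
    have hgv' : g * v = v * g := by
      obtain ⟨k, rfl⟩ := Subgroup.mem_zpowers_iff.mp hv
      exact Commute.zpow_right hgx' k
    rw [hyuv]
    calc g * (u * v) * g⁻¹ = (g * u) * v * g⁻¹ := by group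
      _ = (u * g) * v * g⁻¹ := by rw [hgu]
      _ = u * (g * v) * g⁻¹ := by group
      _ = u * (v * g) * g⁻¹ := by rw [hgv']
      _ = u * v := by group

/-- **Frobenius step**.  A subnormal subgroup `M` centralizing an element `c` of order `p` of a
Sylow `p`-subgroup `S ∋ x` with `x ∉ ⟨c⟩` is a `p`-group (`O_{p'}(G) = 1`, `p` odd, `p`-rank at most
`2`, `x` isolated of order `p`). -/
theorem isPGroup_of_isolated [Finite G] {p : ℕ} [hp : Fact p.Prime] (hp2 : p ≠ 2)
    (hcore : pPrimeCore p G = ⊥) (hrank : PRankLE p 2 G)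
    {x : G} (hx : orderOf x = p) (hiso : IsIsolated x) (S : Sylow p G)
    (hxS : x ∈ (S : Subgroup G)) (M : Subgroup G) (hM : M.IsSubnormal) {c : G}
    (hcS : c ∈ (S : Subgroup G)) (hc : orderOf c = p)
    (hMc : ∀ m ∈ M, m * c = c * m) (hxc : x ∉ Subgroup.zpowers c) : IsPGroup p M := by
  have hxZ := isolated_comm_of_isPGroup hiso (S : Subgroup G) S.isPGroup' hxS
  have hcx : c * x = x * c := hxZ c hcS
  let P : Sylow p M := Cfsg.Agent.Lib.Helper9.CompAct.sylowInf p S M hM
  have hPmem : ∀ y : M, y ∈ (P : Subgroup M) ↔ (y : G) ∈ (S : Subgroup G) := by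
    intro y
    show y ∈ (S : Subgroup G).subgroupOf M ↔ _
    rw [Subgroup.mem_subgroupOf]
  have hLC : Cfsg.Agent.Lib.Helper13.LocalCentral p M := by
    apply Cfsg.Agent.Lib.Helper13.localCentral_of_sylow P
    intro Q hQP g hg hcop
    have hQ : IsPGroup p Q := P.isPGroup'.to_le hQP
    have hA : (Nat.card (Subgroup.zpowers g)).Coprime p := by
      rw [Nat.card_zpowers]; exact hcop
    have hAN : Subgroup.zpowers g ≤ Subgroup.normalizer (Q : Set M) := Subgroup.zpowers_le.mpr hg
    have key := Cfsg.Agent.Lib.Helper10.le_centralizer_of_centralizes_order_p p hp2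
      (Subgroup.zpowers g) Q hA hQ hAN (by
        intro y hyQ hyo a ha
        have haN := hAN ha
        have h1 : a * y * a⁻¹ ∈ Q := (Subgroup.mem_normalizer_iff.mp haN y).mp hyQ
        have h2 : ((a * y * a⁻¹ : M) : G) ∈ (S : Subgroup G) := (hPmem _).mp (hQP h1)
        have h3 := fix_of_isolated hrank hx hiso (S : Subgroup G) hxZ M hc hcx hMc hxc a.2 y.2
          ((hPmem y).mp (hQP hyQ)) (by rw [Subgroup.orderOf_coe]; exact hyo)
          (by simpa using h2)
        apply Subtype.ext
        show (a : G) * (y : G) = (y : G) * (a : G)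
        exact mul_inv_eq_iff_eq_mul.mp h3)
    exact key (Subgroup.mem_zpowers g)
  obtain ⟨K, hKn, hK⟩ := Cfsg.Agent.Lib.Helper13.exists_normal_complement_of_localCentral hLC P
  haveI := hKn
  have hKcore : pPrimeCore p M = K :=
    Cfsg.Agent.Lib.Helper18.pPrimeCore_eq_of_isComplement' P K hK
  have hKcop : (Nat.card K).Coprime p := by
    rw [← hKcore]; exact Cfsg.Agent.Lib.Helper1.pPrimeCore_coprime p
  have hKsub : (K.map M.subtype).IsSubnormal := (hKn.isSubnormal).trans' hM
  have hKle := Cfsg.Agent.Lib.Helper10.subnormal_coprime_le_pPrimeCore p hKsub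
    (by rw [Subgroup.card_map_of_injective M.subtype_injective]; exact hKcop)
  rw [hcore, le_bot_iff, Subgroup.map_eq_bot_iff_of_injective _ M.subtype_injective] at hKle
  rw [hKle] at hK
  have hPtop : (P : Subgroup M) = ⊤ := Subgroup.isComplement'_bot_left.mp hK
  intro m
  have hm : m ∈ (P : Subgroup M) := by rw [hPtop]; trivial
  obtain ⟨k, hk⟩ := P.isPGroup' ⟨m, hm⟩
  exact ⟨k, by simpa using congrArg Subtype.val hk⟩

end Cfsg.Agent.Lib.Helper18.IsoRank
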