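import Mathlib
import Cfsg.Prelude.Def_Local
import Cfsg.Prelude.Def_LocalEven
import Cfsg.Agent.Lib.Helper1.Cores
import Cfsg.Agent.Lib.Helper1.Coprime
import Cfsg.Agent.Lib.Helper1.CoprimeSylow
import Cfsg.Agent.Lib.Helper9.Misc
import Cfsg.Agent.Lib.Helper9.Layer3
import Cfsg.Agent.Lib.Helper17.Conj
import Cfsg.Agent.Lib.Helper17.Subnormal
import Cfsg.Agent.Lib.Helper17.PResidual
import Cfsg.Agent.Lib.Helper16.SylowInf
import Cfsg.Agent.Lib.Helper18.ProductFormula

/-!
# Isolated `p`-minimal subgroups (Meierfrankenfeld–Parker–Rowley): general lemmas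
-/

set_option autoImplicit false

namespace Cfsg.Agent.Lib.Helper18.Isolated

open Cfsg
open scoped commutatorElement

variable {G : Type*} [Group G]

/-- If the `p`-group `S` normalizes `T`, every element of `T S` has a `p`-power power in `T`. -/
theorem exists_pow_mem_of_mem_sup {p : ℕ} {T S : Subgroup G} (hS : IsPGroup p S)
    (hST : S ≤ Subgroup.normalizer (T : Set G)) {x : G} (hx : x ∈ T ⊔ S) :
    ∃ k : ℕ, x ^ p ^ k ∈ T := by
  obtain ⟨t, ht, s, hs, rfl⟩ := (Cfsg.Agent.Lib.Helper9.mem_sup_of_le_normalizer hST).mp hx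
  obtain ⟨k, hk⟩ := hS ⟨s, hs⟩
  have hk' : s ^ p ^ k = 1 := by
    have := congrArg Subtype.val hk
    simpa using this
  refine ⟨k, ?_⟩
  have key : ∀ n : ℕ, ∃ t' ∈ T, (t * s) ^ n = t' * s ^ n := by
    intro n
    induction n with
    | zero => exact ⟨1, T.one_mem, by simp⟩
    | succ n ih =>
      obtain ⟨t', ht', h⟩ := ih
      refine ⟨t' * (s ^ n * t * (s ^ n)⁻¹), T.mul_mem ht' ?_, ?_⟩
      · exact (Subgroup.mem_normalizer_iff.mp (hST (S.pow_mem hs n)) t).mp ht
      · rw [pow_succ, h, pow_succ]; group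
  obtain ⟨t', ht', h⟩ := key (p ^ k)
  rw [h, hk', mul_one]; exact ht'

/-- `O^p(P) ≤ T` as soon as `P ≤ T S` with `S` a `p`-group normalizing `T`. -/
theorem map_pResidual_le_of_le_sup {p : ℕ} {P T S : Subgroup G} (hS : IsPGroup p S)
    (hST : S ≤ Subgroup.normalizer (T : Set G)) (hP : P ≤ T ⊔ S) :
    (pResidual p ↥P).map P.subtype ≤ T := by
  rw [Cfsg.Agent.Lib.Helper17.map_subtype_pResidual, Subgroup.closure_le]
  rintro x ⟨hxP, hxo⟩
  obtain ⟨k, hk⟩ := exists_pow_mem_of_mem_sup hS hST (hP hxP)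
  exact Cfsg.Agent.Lib.Helper16.mem_of_pow_mem_of_coprime T x hxo k hk

/-! ### the `p`-core of a subgroup, viewed in the ambient group -/

theorem le_map_pCore {p : ℕ} {X Q : Subgroup G} (hQX : Q ≤ X) (hQ : IsPGroup p Q)
    (hXQ : X ≤ Subgroup.normalizer (Q : Set G)) : Q ≤ (pCore p ↥X).map X.subtype := by
  have hn : (Q.subgroupOf X).Normal := (Subgroup.normal_subgroupOf_iff_le_normalizer hQX).mpr hXQ
  have hp : IsPGroup p (Q.subgroupOf X) := hQ.comap_subtype
  have := Cfsg.Agent.Lib.Helper1.le_pCore hn hp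
  intro x hx
  exact ⟨⟨x, hQX hx⟩, this (Subgroup.mem_subgroupOf.mpr hx), rfl⟩

theorem map_pCore_isPGroup (p : ℕ) (X : Subgroup G) : IsPGroup p ((pCore p ↥X).map X.subtype) :=
  (Cfsg.Agent.Lib.Helper1.pCore_isPGroup p).map _

theorem le_normalizer_map_pCore (p : ℕ) (X : Subgroup G) :
    X ≤ Subgroup.normalizer (((pCore p ↥X).map X.subtype : Subgroup G) : Set G) := by
  have hle : (pCore p ↥X).map X.subtype ≤ X := Subgroup.map_subtype_le _
  apply (Subgroup.normal_subgroupOf_iff_le_normalizer hle).mp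
  have e2 : ((pCore p ↥X).map X.subtype).subgroupOf X = pCore p ↥X := by
    rw [Subgroup.subgroupOf, Subgroup.comap_map_eq_self_of_injective X.subtype_injective]
  rw [e2]
  exact Cfsg.Agent.Lib.Helper1.pCore_normal p

theorem map_pCore_le_sylow [Finite G] {p : ℕ} [Fact p.Prime] (S : Sylow p G) {L : Subgroup G}
    (hSL : (S : Subgroup G) ≤ L) : (pCore p ↥L).map L.subtype ≤ (S : Subgroup G) := by
  have h := Cfsg.Agent.Lib.Helper1.pCore_le_sylow (S.subtype hSL)
  rintro _ ⟨x, hx, rfl⟩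
  have h1 : x ∈ ((S.subtype hSL : Sylow p ↥L) : Subgroup ↥L) := h hx
  rw [Sylow.coe_subtype, Subgroup.mem_subgroupOf] at h1
  exact h1

/-- The `p`-core of a normal subgroup is its intersection with the `p`-core. -/
theorem pCore_subtype_eq (p : ℕ) (Y : Subgroup G) [hY : Y.Normal] :
    pCore p ↥Y = (pCore p G).subgroupOf Y := by
  apply le_antisymm
  · have hchar : (pCore p ↥Y).Characteristic := Cfsg.Agent.Lib.Helper1.pCore_characteristic p
    have hn : ((pCore p ↥Y).map Y.subtype).Normal := ConjAct.normal_of_characteristic_of_normal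
    have hle := Cfsg.Agent.Lib.Helper1.le_pCore hn (map_pCore_isPGroup p Y)
    intro x hx
    rw [Subgroup.mem_subgroupOf]
    exact hle ⟨x, hx, rfl⟩
  · have hn0 : (pCore p G).Normal := Cfsg.Agent.Lib.Helper1.pCore_normal p
    have hn : ((pCore p G).subgroupOf Y).Normal := hn0.subgroupOf Y
    exact Cfsg.Agent.Lib.Helper1.le_pCore hn (Cfsg.Agent.Lib.Helper1.pCore_isPGroup p).comap_subtype

/-- A subnormal `p`-subgroup of a finite group with `O_p = 1` is trivial. -/
theorem eq_bot_of_subnormal_pgroup [Finite G] {p : ℕ} [Fact p.Prime] (hOp : pCore p G = ⊥)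
    {A : Subgroup G} (hA : A.IsSubnormal) (hAp : IsPGroup p A) : A = ⊥ := by
  obtain ⟨Q, hQn, hQp, hAQ⟩ := Cfsg.Agent.Lib.Helper17.exists_normal_pgroup_ge_of_isSubnormal hA hAp
  have := hAQ.trans (Cfsg.Agent.Lib.Helper1.le_pCore hQn hQp)
  rwa [hOp, le_bot_iff] at this

/-- If `B` is subnormal in a group with `O_p = 1` and normalizes the `p`-group `Q`, then
`B ∩ Q = 1`. -/
theorem inf_eq_bot_of_subnormal [Finite G] {p : ℕ} [Fact p.Prime] (hOp : pCore p G = ⊥)
    {B Q : Subgroup G} (hB : B.IsSubnormal) (hQ : IsPGroup p Q)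
    (hBQ : B ≤ Subgroup.normalizer (Q : Set G)) : B ⊓ Q = ⊥ := by
  apply eq_bot_of_subnormal_pgroup hOp _ (hQ.to_le inf_le_right)
  refine Subgroup.IsSubnormal.step _ B inf_le_left hB ?_
  rw [Subgroup.normal_subgroupOf_iff_le_normalizer inf_le_left]
  intro b hb
  exact Cfsg.Agent.Lib.Helper17.mem_normalizer_inf (Subgroup.le_normalizer hb) (hBQ hb)

/-- If `B` is subnormal in a group with `O_p = 1`, normalizes the `p`-group `Q` and is
normalized by it, then `[B, Q] = 1`. -/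
theorem commutator_eq_bot_of_subnormal [Finite G] {p : ℕ} [Fact p.Prime] (hOp : pCore p G = ⊥)
    {B Q : Subgroup G} (hB : B.IsSubnormal) (hQ : IsPGroup p Q)
    (hBQ : B ≤ Subgroup.normalizer (Q : Set G)) (hQB : Q ≤ Subgroup.normalizer (B : Set G)) :
    ⁅B, Q⁆ = ⊥ := by
  rw [eq_bot_iff, ← inf_eq_bot_of_subnormal hOp hB hQ hBQ]
  apply le_inf
  · exact Cfsg.Agent.Lib.Helper1.commutator_le_of_le_normalizer hQB
  · rw [Subgroup.commutator_comm]
    exact Cfsg.Agent.Lib.Helper1.commutator_le_of_le_normalizer hBQ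

/-- An element permuting a set of subgroups normalizes their join. -/
theorem mem_normalizer_sSup [Finite G] {F : Set (Subgroup G)} {g : G}
    (h : ∀ K ∈ F, K.map (MulAut.conj g).toMonoidHom ∈ F) :
    g ∈ Subgroup.normalizer ((sSup F : Subgroup G) : Set G) := by
  apply Cfsg.Agent.Lib.Helper17.mem_normalizer_of_map_conj_le
  conv_lhs => rw [sSup_eq_iSup', Subgroup.map_iSup]
  rw [iSup_le_iff]
  rintro ⟨K, hK⟩
  exact le_sSup (h K hK)

theorem map_conj_mul (K : Subgroup G) (a b : G) :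
    (K.map (MulAut.conj b).toMonoidHom).map (MulAut.conj a).toMonoidHom =
      K.map (MulAut.conj (a * b)).toMonoidHom := by
  rw [Subgroup.map_map]
  congr 1
  ext y
  simp [mul_assoc]

theorem map_conj_one (K : Subgroup G) : K.map (MulAut.conj (1 : G)).toMonoidHom = K := by
  ext y
  simp

theorem map_conj_inv_map_conj (K : Subgroup G) (a : G) :
    (K.map (MulAut.conj a).toMonoidHom).map (MulAut.conj a⁻¹).toMonoidHom = K := by
  rw [map_conj_mul, inv_mul_cancel, map_conj_one]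

/-- Coprime action: if `C_Y(Q)` contains a Sylow `r`-subgroup of `Y` for every prime `r ≠ t`,
then `[Y, Q]` is a `t`-group. -/
theorem commutator_isPGroup_of_index [Finite G] {t : ℕ} [Fact t.Prime] {Y Q : Subgroup G}
    (hact : Cfsg.Agent.Lib.Helper1.CoprimeAct Q Y)
    (hidx : ∀ r : ℕ, r.Prime → r ≠ t → (Nat.card Y).factorization r ≤
      (Nat.card ↥(Y ⊓ Subgroup.centralizer (Q : Set G))).factorization r) :
    IsPGroup t ↥(⁅Y, Q⁆ : Subgroup G) := by
  obtain ⟨T, hT⟩ := hact.exists_invariant_sylow t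
  have ht : t.Prime := Fact.out
  have hT'Y : (T : Subgroup ↥Y).map Y.subtype ≤ Y := Subgroup.map_subtype_le _
  have hT'p : IsPGroup t ((T : Subgroup ↥Y).map Y.subtype) := T.2.map _
  have hT'card : Nat.card ((T : Subgroup ↥Y).map Y.subtype) = t ^ (Nat.card Y).factorization t := by
    rw [Subgroup.card_map_of_injective Y.subtype_injective, Sylow.card_eq_multiplicity]
  generalize (T : Subgroup ↥Y).map Y.subtype = T' at hT hT'Y hT'p hT'card
  set C : Subgroup G := Y ⊓ Subgroup.centralizer (Q : Set G) with hC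
  have hCY : C ≤ Y := inf_le_left
  have ha0 : Nat.card Y ≠ 0 := Nat.card_pos.ne'
  have hc0 : Nat.card C ≠ 0 := Nat.card_pos.ne'
  have hca : Nat.card C ∣ Nat.card Y := Subgroup.card_dvd_of_le hCY
  have htp : ∀ k : ℕ, t ^ k ≠ 0 := fun k => pow_ne_zero _ ht.ne_zero
  have hE1 : Nat.card Y * t ^ (Nat.card C).factorization t =
      t ^ (Nat.card Y).factorization t * Nat.card C := by
    apply Nat.eq_of_factorization_eq (mul_ne_zero ha0 (htp _)) (mul_ne_zero (htp _) hc0)
    intro r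
    rw [Nat.factorization_mul ha0 (htp _), Nat.factorization_mul (htp _) hc0,
      ht.factorization_pow, ht.factorization_pow]
    simp only [Finsupp.coe_add, Pi.add_apply, Finsupp.single_apply]
    by_cases hrt : t = r
    · subst hrt
      simp only [if_true]
    · simp only [if_neg hrt, add_zero, zero_add]
      by_cases hr : r.Prime
      · apply le_antisymm (hidx r hr (Ne.symm hrt))
        exact (Nat.factorization_le_iff_dvd hc0 ha0).mpr hca r
      · rw [Nat.factorization_eq_zero_of_not_prime _ hr, Nat.factorization_eq_zero_of_not_prime _ hr]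
  have hDp : IsPGroup t ↥(T' ⊓ C) := hT'p.to_le inf_le_left
  obtain ⟨j, hj⟩ := IsPGroup.iff_card.mp hDp
  have hjle : j ≤ (Nat.card C).factorization t := by
    apply (Nat.Prime.pow_dvd_iff_le_factorization ht hc0).mp
    rw [← hj]
    exact Subgroup.card_dvd_of_le inf_le_right
  have hDle : Nat.card ↥(T' ⊓ C) ≤ t ^ (Nat.card C).factorization t := by
    rw [hj]; exact Nat.pow_le_pow_right ht.pos hjle
  have hsupY : T' ⊔ C ≤ Y := sup_le hT'Y hCY
  have hsuple : Nat.card ↥(T' ⊔ C) ≤ Nat.card Y := Subgroup.card_le_of_le hsupY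
  have hprod := card_mul_card_le_card_sup_mul_card_inf T' C
  have hB0 : 0 < t ^ (Nat.card C).factorization t := Nat.pos_of_ne_zero (htp _)
  have hupper : Nat.card ↥(T' ⊔ C) * Nat.card ↥(T' ⊓ C) ≤
      Nat.card Y * t ^ (Nat.card C).factorization t := Nat.mul_le_mul hsuple hDle
  have heq : Nat.card T' * Nat.card C = Nat.card ↥(T' ⊔ C) * Nat.card ↥(T' ⊓ C) := by
    apply le_antisymm hprod
    rw [hT'card, ← hE1]
    exact hupper
  have hmul := coe_sup_eq_mul_of_card_eq T' C heq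
  have hsupeq : T' ⊔ C = Y := by
    apply Subgroup.eq_of_le_of_card_ge hsupY
    by_contra hlt
    push Not at hlt
    have h1 : Nat.card ↥(T' ⊔ C) * Nat.card ↥(T' ⊓ C) <
        Nat.card Y * t ^ (Nat.card C).factorization t :=
      Nat.mul_lt_mul_of_lt_of_le hlt hDle hB0
    rw [← heq, hT'card, ← hE1] at h1
    exact lt_irrefl _ h1
  apply hT'p.to_le
  rw [Subgroup.commutator_le]
  intro y hy q hq
  have hy' : y ∈ ((T' ⊔ C : Subgroup G) : Set G) := by rw [hsupeq]; exact hy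
  rw [hmul] at hy'
  obtain ⟨τ, hτ, c₀, hc₀, rfl⟩ := Set.mem_mul.mp hy'
  have hcomm : q * c₀ = c₀ * q := Subgroup.mem_centralizer_iff.mp (Subgroup.mem_inf.mp hc₀).2 q hq
  have h1 : q * τ⁻¹ * q⁻¹ ∈ T' :=
    (Subgroup.mem_normalizer_iff.mp (hT hq) τ⁻¹).mp (T'.inv_mem hτ)
  have h2 : c₀ * q * c₀⁻¹ = q := by rw [← hcomm]; group
  have h3 : ⁅τ * c₀, q⁆ = τ * (q * τ⁻¹ * q⁻¹) := by
    rw [commutatorElement_def]
    calc τ * c₀ * q * (τ * c₀)⁻¹ * q⁻¹ = τ * (c₀ * q * c₀⁻¹) * τ⁻¹ * q⁻¹ := by group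
      _ = τ * (q * τ⁻¹ * q⁻¹) := by rw [h2]; group
  rw [h3]
  exact T'.mul_mem hτ h1

theorem commutatorElement_mul_of_commute {a b q : G} (h : q * b = b * q) :
    ⁅a * b, q⁆ = a * (q * a⁻¹ * q⁻¹) := by
  have h2 : b * q * b⁻¹ = q := by rw [← h]; group
  rw [commutatorElement_def]
  calc a * b * q * (a * b)⁻¹ * q⁻¹ = a * (b * q * b⁻¹) * a⁻¹ * q⁻¹ := by group
    _ = a * (q * a⁻¹ * q⁻¹) := by rw [h2]; group

end Cfsg.Agent.Lib.Helper18.Isolated
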