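import Cfsg.Agent.Lib.Helper18.IsolatedA

/-!
# Isolated `p`-minimal subgroups: the structure theorem in a group with `O_p = 1`

The hypotheses are packaged abstractly (`Hyp`), in a form that passes to `G / O_p(G)`.
-/

set_option autoImplicit false

namespace Cfsg.Agent.Lib.Helper18.Isolated

open Cfsg
open scoped commutatorElement

variable {G : Type*} [Group G]

/-- The abstract consequences of "`P` is an isolated `p`-minimal subgroup" used for the
structure of `Y = ⟨O^p(P)^G⟩`; here `R = O^p(P)`, `Q = O_p(L)`. -/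
structure Hyp (p : ℕ) (Y S Q L R : Subgroup G) : Prop where
  hS : IsPGroup p S
  hQS : Q ≤ S
  hSL : S ≤ L
  hLQ : L ≤ Subgroup.normalizer (Q : Set G)
  hSR : S ≤ Subgroup.normalizer (R : Set G)
  hdich : ∀ T : Subgroup G, S ≤ Subgroup.normalizer (T : Set G) → R ≤ T ∨ T ≤ L
  hRQ : R ≤ ⁅R, Q⁆
  hRL : ¬ R ≤ L
  hY : Y = Subgroup.normalClosure (R : Set G)
  hYL : Y ⊔ L = ⊤
  hgen : Y ≤ R ⊔ (Y ⊓ L)

namespace Hyp

variable {p : ℕ} {Y S Q L R : Subgroup G}

theorem normal (h : Hyp p Y S Q L R) : Y.Normal := by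
  rw [h.hY]; exact Subgroup.normalClosure_normal

theorem R_le (h : Hyp p Y S Q L R) : R ≤ Y := by
  rw [h.hY]; exact Subgroup.le_normalClosure

theorem le_of_normal (h : Hyp p Y S Q L R) {N : Subgroup G} (hN : N.Normal) (hRN : R ≤ N) :
    Y ≤ N := by
  rw [h.hY]
  haveI := hN
  exact Subgroup.normalClosure_le_normal hRN

theorem R_ne_bot (h : Hyp p Y S Q L R) : R ≠ ⊥ := fun h0 => h.hRL (h0 ▸ bot_le)

theorem Y_ne_bot (h : Hyp p Y S Q L R) : Y ≠ ⊥ := by
  intro h0
  apply h.R_ne_bot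
  rw [eq_bot_iff, ← h0]
  exact h.R_le

theorem hQ (h : Hyp p Y S Q L R) : IsPGroup p Q := h.hS.to_le h.hQS

theorem not_le_L (h : Hyp p Y S Q L R) : ¬ Y ≤ L := fun hYL => h.hRL (h.R_le.trans hYL)

theorem top_le_normalizer (h : Hyp p Y S Q L R) :
    (⊤ : Subgroup G) ≤ Subgroup.normalizer (Y : Set G) := by
  rw [Subgroup.normalizer_eq_top_iff.mpr h.normal]

theorem comm_eq (h : Hyp p Y S Q L R) : ⁅Y, Q⁆ = Y := by
  haveI := h.normal
  have hle : ⁅Y, Q⁆ ≤ Y := Subgroup.commutator_le_left Y Q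
  apply le_antisymm hle
  have hYn : Y ≤ Subgroup.normalizer ((⁅Y, Q⁆ : Subgroup G) : Set G) :=
    Cfsg.Agent.Lib.Helper1.le_normalizer_commutator_left
  have hLn : L ≤ Subgroup.normalizer ((⁅Y, Q⁆ : Subgroup G) : Set G) := fun l hl =>
    Cfsg.Agent.Lib.Helper17.mem_normalizer_commutator (h.top_le_normalizer (Subgroup.mem_top l))
      (h.hLQ hl)
  have hn : (⁅Y, Q⁆ : Subgroup G).Normal :=
    Cfsg.Agent.Lib.Helper17.normal_of_le_normalizer_of_sup_eq_top hYn hLn h.hYL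
  apply h.le_of_normal hn
  exact h.hRQ.trans (Subgroup.commutator_mono h.R_le le_rfl)

section Finite

variable [Finite G] [Fact p.Prime]

theorem normal_dich (h : Hyp p Y S Q L R) (hOp : pCore p G = ⊥) {N : Subgroup G} (hN : N.Normal) :
    Y ≤ N ∨ (N ≤ L ∧ ⁅N, Q⁆ = ⊥) := by
  have htop : (⊤ : Subgroup G) ≤ Subgroup.normalizer (N : Set G) := by
    rw [Subgroup.normalizer_eq_top_iff.mpr hN]
  rcases h.hdich N (le_top.trans htop) with h1 | h1
  · exact Or.inl (h.le_of_normal hN h1)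
  · refine Or.inr ⟨h1, ?_⟩
    exact commutator_eq_bot_of_subnormal hOp hN.isSubnormal h.hQ (h1.trans h.hLQ)
      (le_top.trans htop)

theorem central_of_not_le (h : Hyp p Y S Q L R) (hOp : pCore p G = ⊥) {N : Subgroup G}
    (hN : N.Normal) (hYN : ¬ Y ≤ N) : ⁅N, Q⁆ = ⊥ ∧ ⁅Y, N⁆ = ⊥ := by
  rcases h.normal_dich hOp hN with h1 | ⟨-, h1⟩
  · exact absurd h1 hYN
  · refine ⟨h1, ?_⟩
    have hA : ⁅⁅Y, N⁆, Q⁆ = ⊥ := by
      rw [eq_bot_iff, ← h1]
      haveI := hN
      exact Subgroup.commutator_mono (Subgroup.commutator_le_right Y N) le_rfl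
    have hB : ⁅⁅N, Q⁆, Y⁆ = ⊥ := by rw [h1, Subgroup.commutator_bot_left]
    have hC := Subgroup.commutator_commutator_eq_bot_of_rotate hA hB
    rw [Subgroup.commutator_comm Q Y, h.comm_eq] at hC
    exact hC

theorem pCore_eq_bot (h : Hyp p Y S Q L R) (hOp : pCore p G = ⊥) : pCore p ↥Y = ⊥ := by
  haveI := h.normal
  rw [pCore_subtype_eq, hOp, Subgroup.bot_subgroupOf]

theorem coprime_of_nilpotent (h : Hyp p Y S Q L R) (hOp : pCore p G = ⊥)
    (hnil : Group.IsNilpotent ↥Y) : ¬ p ∣ Nat.card ↥Y := by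
  intro hdvd
  obtain ⟨T⟩ : Nonempty (Sylow p ↥Y) := inferInstance
  have h3 : ∀ (q : ℕ) (_hq : Fact q.Prime) (P : Sylow q ↥Y), (P : Subgroup ↥Y).Normal :=
    ((Group.isNilpotent_of_finite_tfae (G := ↥Y)).out 0 3).mp hnil
  have hTn : (T : Subgroup ↥Y).Normal := h3 p inferInstance T
  have hle := Cfsg.Agent.Lib.Helper1.le_pCore hTn T.2
  rw [h.pCore_eq_bot hOp, le_bot_iff] at hle
  exact T.ne_bot_of_dvd_card hdvd hle

theorem nilpotent_or_layer (h : Hyp p Y S Q L R) (hOp : pCore p G = ⊥) :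
    Group.IsNilpotent ↥Y ∨ layer ↥Y = ⊤ := by
  haveI := h.normal
  haveI hFc : (fittingSubgroup ↥Y).Characteristic :=
    Cfsg.Agent.Lib.Helper1.fittingSubgroup_characteristic
  haveI hEc : (layer ↥Y).Characteristic := Cfsg.Agent.Lib.Helper9.layer_characteristic
  have hFn : ((fittingSubgroup ↥Y).map Y.subtype).Normal :=
    ConjAct.normal_of_characteristic_of_normal
  have hEn : ((layer ↥Y).map Y.subtype).Normal := ConjAct.normal_of_characteristic_of_normal
  have htop : ∀ K : Subgroup ↥Y, Y ≤ K.map Y.subtype → K = ⊤ := by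
    intro K hK
    rw [eq_top_iff]
    intro y _
    obtain ⟨z, hz, hzy⟩ := hK y.2
    have : z = y := Subtype.ext hzy
    rwa [← this]
  by_cases h1 : Y ≤ (fittingSubgroup ↥Y).map Y.subtype
  · left
    have e := htop _ h1
    have hnil : Group.IsNilpotent ↥(fittingSubgroup ↥Y) :=
      Cfsg.Agent.Lib.Helper1.fittingSubgroup_isNilpotent
    rw [e] at hnil
    exact Group.nilpotent_of_mulEquiv Subgroup.topEquiv
  by_cases h2 : Y ≤ (layer ↥Y).map Y.subtype
  · right; exact htop _ h2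
  left
  obtain ⟨-, hF⟩ := h.central_of_not_le hOp hFn h1
  obtain ⟨-, hE⟩ := h.central_of_not_le hOp hEn h2
  have hcent : ∀ K : Subgroup ↥Y, ⁅Y, K.map Y.subtype⁆ = ⊥ → K ≤ Subgroup.center ↥Y := by
    intro K hK x hx
    rw [Subgroup.mem_center_iff]
    intro g
    have hx' : (x : G) ∈ K.map Y.subtype := ⟨x, hx, rfl⟩
    have h3 := Subgroup.commutator_eq_bot_iff_le_centralizer.mp hK g.2
    have h4 := Subgroup.mem_centralizer_iff.mp h3 _ hx'
    exact Subtype.ext h4.symm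
  have hgc : generalizedFittingSubgroup ↥Y ≤ Subgroup.center ↥Y :=
    sup_le (hcent _ hE) (hcent _ hF)
  have hb := Cfsg.Agent.Lib.Helper9.centralizer_gfs_le (G := ↥Y)
  have hall : (⊤ : Subgroup ↥Y) ≤ generalizedFittingSubgroup ↥Y := by
    refine le_trans ?_ hb
    intro y _
    rw [Subgroup.mem_centralizer_iff]
    intro z hz
    exact (Subgroup.mem_center_iff.mp (hgc hz) y).symm
  have hcen : Subgroup.center ↥Y = ⊤ := top_le_iff.mp (hall.trans hgc)
  exact ⟨⟨1, by rw [Subgroup.upperCentralSeries_one]; exact hcen⟩⟩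

/-- If `Y` is a `p'`-group then it is a `t`-group for some prime `t`. -/
theorem isPGroup_of_coprime (h : Hyp p Y S Q L R) (hcop : ¬ p ∣ Nat.card ↥Y) :
    ∃ t : ℕ, t.Prime ∧ IsPGroup t ↥Y := by
  have hp : p.Prime := Fact.out
  haveI := h.normal
  have hSY : S ≤ Subgroup.normalizer (Y : Set G) := le_top.trans h.top_le_normalizer
  have hcopS : (Nat.card S).Coprime (Nat.card Y) := by
    obtain ⟨k, hk⟩ := IsPGroup.iff_card.mp h.hS
    rw [hk]
    exact Nat.Coprime.pow_left k ((Nat.Prime.coprime_iff_not_dvd hp).mpr hcop)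
  have hactS : Cfsg.Agent.Lib.Helper1.CoprimeAct S Y :=
    ⟨hSY, hcopS, Or.inl (by haveI := h.hS.isNilpotent; infer_instance)⟩
  have hactQ : Cfsg.Agent.Lib.Helper1.CoprimeAct Q Y :=
    ⟨h.hQS.trans hSY, Nat.Coprime.coprime_dvd_left (Subgroup.card_dvd_of_le h.hQS) hcopS,
      Or.inl (by haveI := h.hQ.isNilpotent; infer_instance)⟩
  have hYLC : Y ⊓ L ≤ Y ⊓ Subgroup.centralizer (Q : Set G) := by
    apply le_inf inf_le_left
    apply Subgroup.commutator_eq_bot_iff_le_centralizer.mp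
    rw [eq_bot_iff, ← hactQ.inf_eq_bot]
    apply le_inf
    · exact (Subgroup.commutator_mono inf_le_left le_rfl).trans (Subgroup.commutator_le_left Y Q)
    · rw [Subgroup.commutator_comm]
      exact Cfsg.Agent.Lib.Helper1.commutator_le_of_le_normalizer (inf_le_right.trans h.hLQ)
  have key : ∀ r : ℕ, r.Prime → ∃ T' : Subgroup G,
      Nat.card T' = r ^ (Nat.card Y).factorization r ∧ IsPGroup r T' ∧
        (R ≤ T' ∨ T' ≤ Y ⊓ Subgroup.centralizer (Q : Set G)) := by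
    intro r hr
    haveI : Fact r.Prime := ⟨hr⟩
    obtain ⟨T, hT⟩ := hactS.exists_invariant_sylow r
    refine ⟨(T : Subgroup ↥Y).map Y.subtype, ?_, T.2.map _, ?_⟩
    · rw [Subgroup.card_map_of_injective Y.subtype_injective, Sylow.card_eq_multiplicity]
    · rcases h.hdich _ hT with h1 | h1
      · exact Or.inl h1
      · exact Or.inr ((le_inf (Subgroup.map_subtype_le _) h1).trans hYLC)
  obtain ⟨t, ht, htR⟩ : ∃ t : ℕ, t.Prime ∧ ∀ r : ℕ, r.Prime → r ≠ t →
      ∀ T' : Subgroup G, IsPGroup r T' → ¬ R ≤ T' := by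
    by_cases hex : ∃ t : ℕ, t.Prime ∧ ∃ T' : Subgroup G, IsPGroup t T' ∧ R ≤ T'
    · obtain ⟨t, ht, T₀, hT₀p, hRT₀⟩ := hex
      refine ⟨t, ht, ?_⟩
      intro r hr hrt T' hT'p hRT'
      apply h.R_ne_bot
      haveI : Fact r.Prime := ⟨hr⟩
      haveI : Fact t.Prime := ⟨ht⟩
      have hd := IsPGroup.disjoint_of_ne r t hrt R R (hT'p.to_le hRT') (hT₀p.to_le hRT₀)
      exact disjoint_self.mp hd
    · exact ⟨2, Nat.prime_two, fun r hr _ T' hT'p hRT' => hex ⟨r, hr, T', hT'p, hRT'⟩⟩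
  haveI : Fact t.Prime := ⟨ht⟩
  refine ⟨t, ht, ?_⟩
  have hidx : ∀ r : ℕ, r.Prime → r ≠ t → (Nat.card Y).factorization r ≤
      (Nat.card ↥(Y ⊓ Subgroup.centralizer (Q : Set G))).factorization r := by
    intro r hr hrt
    obtain ⟨T', hT'c, hT'p, h1 | h1⟩ := key r hr
    · exact absurd h1 (htR r hr hrt T' hT'p)
    · apply (Nat.Prime.pow_dvd_iff_le_factorization hr Nat.card_pos.ne').mp
      rw [← hT'c]
      exact Subgroup.card_dvd_of_le h1
  have := commutator_isPGroup_of_index hactQ hidx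
  rw [h.comm_eq] at this
  exact this

/-- If `Y` is a `p'`-group with `Y' ≠ Y`, then `Y = R` has class at most two. -/
theorem eq_R_of_coprime (h : Hyp p Y S Q L R) (hOp : pCore p G = ⊥) (hcop : ¬ p ∣ Nat.card ↥Y)
    (hder : ¬ Y ≤ ⁅Y, Y⁆) : Y = R ∧ ⁅⁅Y, Y⁆, Y⁆ = ⊥ := by
  have hp : p.Prime := Fact.out
  haveI := h.normal
  have hDn : (⁅Y, Y⁆ : Subgroup G).Normal := inferInstance
  obtain ⟨hDQ, hYD⟩ := h.central_of_not_le hOp hDn hder
  have hclass : ⁅⁅Y, Y⁆, Y⁆ = ⊥ := by rw [Subgroup.commutator_comm]; exact hYD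
  refine ⟨?_, hclass⟩
  have hYQ : Y ⊓ Q = ⊥ := by
    apply disjoint_iff.mp
    apply Subgroup.disjoint_of_coprime_natCard
    obtain ⟨k, hk⟩ := IsPGroup.iff_card.mp h.hQ
    rw [hk]
    exact (Nat.Coprime.pow_left k ((Nat.Prime.coprime_iff_not_dvd hp).mpr hcop)).symm
  have hY0Q : ⁅Y ⊓ L, Q⁆ = ⊥ := by
    rw [eq_bot_iff, ← hYQ]
    apply le_inf
    · exact (Subgroup.commutator_mono inf_le_left le_rfl).trans (Subgroup.commutator_le_left Y Q)
    · rw [Subgroup.commutator_comm]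
      exact Cfsg.Agent.Lib.Helper1.commutator_le_of_le_normalizer (inf_le_right.trans h.hLQ)
  have hRY0 : ⁅R, Y ⊓ L⁆ = ⊥ := by
    have hA : ⁅⁅Q, Y ⊓ L⁆, R⁆ = ⊥ := by
      rw [Subgroup.commutator_comm Q, hY0Q, Subgroup.commutator_bot_left]
    have hB : ⁅⁅Y ⊓ L, R⁆, Q⁆ = ⊥ := by
      rw [eq_bot_iff, ← hDQ]
      exact Subgroup.commutator_mono (Subgroup.commutator_mono inf_le_left h.R_le) le_rfl
    have hC := Subgroup.commutator_commutator_eq_bot_of_rotate hA hB
    rw [eq_bot_iff, ← hC]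
    exact Subgroup.commutator_mono h.hRQ le_rfl
  apply le_antisymm _ h.R_le
  calc Y = ⁅Y, Q⁆ := h.comm_eq.symm
    _ ≤ R := by
      rw [Subgroup.commutator_le]
      intro y hy q hq
      have hcomm : ∀ a ∈ R, ∀ b ∈ Y ⊓ L, a * b = b * a := by
        intro a ha b hb
        have h1 := Subgroup.commutator_eq_bot_iff_le_centralizer.mp hRY0 ha
        exact (Subgroup.mem_centralizer_iff.mp h1 b hb).symm
      obtain ⟨a, ha, b, hb, rfl⟩ :=
        (Cfsg.Agent.Lib.Helper9.mem_sup_of_commute hcomm).mp (h.hgen hy)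
      have hbq : q * b = b * q :=
        Subgroup.mem_centralizer_iff.mp
          (Subgroup.commutator_eq_bot_iff_le_centralizer.mp hY0Q hb) q hq
      rw [commutatorElement_mul_of_commute hbq]
      exact R.mul_mem ha
        ((Subgroup.mem_normalizer_iff.mp (h.hSR (h.hQS hq)) a⁻¹).mp (R.inv_mem ha))

/-! ### the layer case -/

theorem sSup_components (h : Hyp p Y S Q L R) (hlay : layer ↥Y = ⊤) :
    Y = sSup {K : Subgroup G | IsComponent K ∧ K ≤ Y} := by
  apply le_antisymm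
  · calc Y = (⊤ : Subgroup ↥Y).map Y.subtype := by
          rw [← MonoidHom.range_eq_map, Subgroup.range_subtype]
      _ = (layer ↥Y).map Y.subtype := by rw [hlay]
      _ ≤ sSup {K : Subgroup G | IsComponent K ∧ K ≤ Y} := by
          unfold layer
          rw [sSup_eq_iSup', Subgroup.map_iSup, iSup_le_iff]
          rintro ⟨K', hK'⟩
          apply le_sSup
          exact ⟨(Cfsg.Agent.Lib.Helper9.isComponent_map_subtype_iff h.normal.isSubnormal K').mp hK',
            Subgroup.map_subtype_le _⟩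
  · apply sSup_le
    rintro K ⟨-, hKY⟩
    exact hKY

theorem le_layer (h : Hyp p Y S Q L R) (hlay : layer ↥Y = ⊤) : Y ≤ layer G :=
  (h.sSup_components hlay).le.trans
    (sSup_le fun _ hK => Cfsg.Agent.Lib.Helper9.comp_le_layer hK.1)

theorem le_normalizer_comp (h : Hyp p Y S Q L R) (hlay : layer ↥Y = ⊤) {K : Subgroup G}
    (hK : IsComponent K) : Y ≤ Subgroup.normalizer (K : Set G) :=
  (h.le_layer hlay).trans (Cfsg.Agent.Lib.Helper9.layer_le_normalizer_comp hK)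

theorem le_of_split (h : Hyp p Y S Q L R) (hOp : pCore p G = ⊥) {A B : Subgroup G}
    (hYAB : Y ≤ A ⊔ B) (hcomm : ⁅A, B⁆ = ⊥) (hSA : S ≤ Subgroup.normalizer (A : Set G))
    (hSB : S ≤ Subgroup.normalizer (B : Set G)) (hBsn : B.IsSubnormal) (hBL : B ≤ L) : Y ≤ A := by
  have hBQ : ⁅B, Q⁆ = ⊥ :=
    commutator_eq_bot_of_subnormal hOp hBsn h.hQ (hBL.trans h.hLQ) (h.hQS.trans hSB)
  calc Y = ⁅Y, Q⁆ := h.comm_eq.symm
    _ ≤ A := by
      rw [Subgroup.commutator_le]
      intro y hy q hq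
      have hab : ∀ a ∈ A, ∀ b ∈ B, a * b = b * a := by
        intro a ha b hb
        have h1 := Subgroup.commutator_eq_bot_iff_le_centralizer.mp hcomm ha
        exact (Subgroup.mem_centralizer_iff.mp h1 b hb).symm
      obtain ⟨a, ha, b, hb, rfl⟩ :=
        (Cfsg.Agent.Lib.Helper9.mem_sup_of_commute hab).mp (hYAB hy)
      have hbq : q * b = b * q :=
        Subgroup.mem_centralizer_iff.mp
          (Subgroup.commutator_eq_bot_iff_le_centralizer.mp hBQ hb) q hq
      rw [commutatorElement_mul_of_commute hbq]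
      exact A.mul_mem ha
        ((Subgroup.mem_normalizer_iff.mp (hSA (h.hQS hq)) a⁻¹).mp (A.inv_mem ha))

/-- `S` is transitive on the components of `G` inside `Y`. -/
theorem exists_conj_of_layer (h : Hyp p Y S Q L R) (hOp : pCore p G = ⊥) (hlay : layer ↥Y = ⊤)
    {K₁ K₂ : Subgroup G} (hK₁ : IsComponent K₁) (hK₁Y : K₁ ≤ Y) (hK₂ : IsComponent K₂)
    (hK₂Y : K₂ ≤ Y) : ∃ s ∈ S, K₂ = K₁.map (MulAut.conj s).toMonoidHom := by
  haveI := h.normal
  by_contra hno
  push Not at hno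
  have hOF : {K : Subgroup G | ∃ s ∈ S, K = K₁.map (MulAut.conj s).toMonoidHom} ⊆
      {K : Subgroup G | IsComponent K ∧ K ≤ Y} := by
    rintro K ⟨s, hs, rfl⟩
    refine ⟨Cfsg.Agent.Lib.Helper9.isComponent_conj hK₁ s, ?_⟩
    calc K₁.map (MulAut.conj s).toMonoidHom ≤ Y.map (MulAut.conj s).toMonoidHom :=
          Subgroup.map_mono hK₁Y
      _ = Y := Cfsg.Agent.Lib.Helper17.map_conj_eq_of_mem_normalizer
          (h.top_le_normalizer (Subgroup.mem_top s))
  generalize hF : {K : Subgroup G | IsComponent K ∧ K ≤ Y} = F at hOF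
  generalize hO : {K : Subgroup G | ∃ s ∈ S, K = K₁.map (MulAut.conj s).toMonoidHom} = O at hOF
  have hFmem : ∀ K, K ∈ F ↔ IsComponent K ∧ K ≤ Y := by intro K; rw [← hF]; rfl
  have hOmem : ∀ K, K ∈ O ↔ ∃ s ∈ S, K = K₁.map (MulAut.conj s).toMonoidHom := by
    intro K; rw [← hO]; rfl
  have hYJ : Y = sSup O ⊔ sSup (F \ O) := by
    rw [← sSup_union, Set.union_sdiff_cancel hOF, ← hF]
    exact h.sSup_components hlay
  have hFG : ∀ K ∈ F, ∀ g : G, K.map (MulAut.conj g).toMonoidHom ∈ F := by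
    intro K hK g
    rw [hFmem] at hK ⊢
    refine ⟨Cfsg.Agent.Lib.Helper9.isComponent_conj hK.1 g, ?_⟩
    calc K.map (MulAut.conj g).toMonoidHom ≤ Y.map (MulAut.conj g).toMonoidHom :=
          Subgroup.map_mono hK.2
      _ = Y := Cfsg.Agent.Lib.Helper17.map_conj_eq_of_mem_normalizer
          (h.top_le_normalizer (Subgroup.mem_top g))
  have hSJ : S ≤ Subgroup.normalizer ((sSup O : Subgroup G) : Set G) := by
    intro s hs
    apply mem_normalizer_sSup
    intro K hK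
    rw [hOmem] at hK ⊢
    obtain ⟨s', hs', rfl⟩ := hK
    exact ⟨s * s', S.mul_mem hs hs', map_conj_mul _ _ _⟩
  have hSJ' : S ≤ Subgroup.normalizer ((sSup (F \ O) : Subgroup G) : Set G) := by
    intro s hs
    apply mem_normalizer_sSup
    rintro K ⟨hKF, hKO⟩
    refine ⟨hFG K hKF s, ?_⟩
    intro hc
    apply hKO
    rw [hOmem] at hc ⊢
    obtain ⟨s', hs', heq⟩ := hc
    refine ⟨s⁻¹ * s', S.mul_mem (S.inv_mem hs) hs', ?_⟩
    rw [← map_conj_mul, ← heq, map_conj_inv_map_conj]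
  have hYfix : ∀ K ∈ F, ∀ y ∈ Y, K.map (MulAut.conj y).toMonoidHom = K := by
    intro K hK y hy
    exact Cfsg.Agent.Lib.Helper17.map_conj_eq_of_mem_normalizer
      (h.le_normalizer_comp hlay ((hFmem K).mp hK).1 hy)
  have hYJn : Y ≤ Subgroup.normalizer ((sSup O : Subgroup G) : Set G) := by
    intro y hy
    apply mem_normalizer_sSup
    intro K hK
    rw [hYfix K (hOF hK) y hy]
    exact hK
  have hYJ'n : Y ≤ Subgroup.normalizer ((sSup (F \ O) : Subgroup G) : Set G) := by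
    intro y hy
    apply mem_normalizer_sSup
    intro K hK
    rw [hYfix K hK.1 y hy]
    exact hK
  have hJY : sSup O ≤ Y := sSup_le fun K hK => ((hFmem K).mp (hOF hK)).2
  have hJ'Y : sSup (F \ O) ≤ Y := sSup_le fun K hK => ((hFmem K).mp hK.1).2
  have hJsn : (sSup O : Subgroup G).IsSubnormal :=
    Subgroup.IsSubnormal.step _ Y hJY h.normal.isSubnormal
      ((Subgroup.normal_subgroupOf_iff_le_normalizer hJY).mpr hYJn)
  have hJ'sn : (sSup (F \ O) : Subgroup G).IsSubnormal :=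
    Subgroup.IsSubnormal.step _ Y hJ'Y h.normal.isSubnormal
      ((Subgroup.normal_subgroupOf_iff_le_normalizer hJ'Y).mpr hYJ'n)
  have hcomm : ⁅sSup O, sSup (F \ O)⁆ = ⊥ := by
    rw [Subgroup.commutator_eq_bot_iff_le_centralizer]
    apply sSup_le
    intro K hK
    rw [Subgroup.le_centralizer_iff]
    apply sSup_le
    intro K' hK'
    rw [← Subgroup.commutator_eq_bot_iff_le_centralizer]
    apply Cfsg.Agent.Lib.Helper9.comp_commutator_eq_bot_of_ne ((hFmem K').mp hK'.1).1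
      ((hFmem K).mp (hOF hK)).1
    rintro rfl
    exact hK'.2 hK
  have hJcent : sSup O ≤ Subgroup.centralizer ((sSup (F \ O) : Subgroup G) : Set G) :=
    Subgroup.commutator_eq_bot_iff_le_centralizer.mp hcomm
  have hK₁J : K₁ ≤ sSup O := le_sSup ((hOmem K₁).mpr ⟨1, S.one_mem, (map_conj_one K₁).symm⟩)
  have hbad : ∀ K : Subgroup G, IsComponent K → K ≤ sSup O → K ≤ sSup (F \ O) → False := by
    intro K hK h1 h2
    apply Cfsg.Agent.Lib.Helper9.comp_not_le_centralizer hK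
    exact (h1.trans hJcent).trans (Subgroup.centralizer_le (SetLike.coe_subset_coe.mpr h2))
  have hJle : Y ≤ sSup O := by
    rcases h.hdich _ hSJ with hRJ | hJL
    · rcases h.hdich _ hSJ' with hRJ' | hJ'L
      · exfalso
        have hcen : sSup O ⊓ sSup (F \ O) ≤ Subgroup.centralizer (Y : Set G) := by
          rw [Subgroup.le_centralizer_iff]
          rw [hYJ]
          apply sup_le
          · rw [Subgroup.le_centralizer_iff]
            exact inf_le_right.trans (Subgroup.le_centralizer_iff.mp hJcent)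
          · rw [Subgroup.le_centralizer_iff]
            exact inf_le_left.trans hJcent
        have hZn : (Y ⊓ Subgroup.centralizer (Y : Set G)).Normal := inferInstance
        have hYZ : Y ≤ Y ⊓ Subgroup.centralizer (Y : Set G) :=
          h.le_of_normal hZn (le_inf h.R_le ((le_inf hRJ hRJ').trans hcen))
        apply Cfsg.Agent.Lib.Helper9.comp_not_le_centralizer hK₁
        exact (hK₁Y.trans (hYZ.trans inf_le_right)).trans
          (Subgroup.centralizer_le (SetLike.coe_subset_coe.mpr hK₁Y))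
      · exact h.le_of_split hOp hYJ.le hcomm hSJ hSJ' hJ'sn hJ'L
    · rcases h.hdich _ hSJ' with hRJ' | hJ'L
      · exfalso
        have hYJ' : Y ≤ sSup (F \ O) :=
          h.le_of_split hOp (by rw [sup_comm]; exact hYJ.le)
            (by rw [Subgroup.commutator_comm]; exact hcomm) hSJ' hSJ hJsn hJL
        exact hbad K₁ hK₁ hK₁J (hK₁Y.trans hYJ')
      · exact absurd (hYJ.le.trans (sup_le hJL hJ'L)) h.not_le_L
  have hK₂mem : K₂ ∈ F \ O := by
    refine ⟨(hFmem K₂).mpr ⟨hK₂, hK₂Y⟩, ?_⟩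
    intro hc
    obtain ⟨s, hs, heq⟩ := (hOmem K₂).mp hc
    exact hno s hs heq
  exact hbad K₂ hK₂ (hK₂Y.trans hJle) (le_sSup hK₂mem)

/-! ### the main theorem -/

/-- The structure of `Y` when `O_p(G) = 1`. -/
theorem main (h : Hyp p Y S Q L R) (hOp : pCore p G = ⊥) :
    (∃ t : ℕ, t.Prime ∧ t ≠ p ∧ IsPGroup t ↥Y ∧ Y = R ∧ ⁅⁅Y, Y⁆, Y⁆ = ⊥) ∨
    (p ∣ Nat.card ↥Y ∧ ¬ Group.IsSolvable ↥Y ∧
      Y = sSup {K : Subgroup G | IsComponent K ∧ K ≤ Y} ∧
      ∀ K₁ K₂ : Subgroup G, IsComponent K₁ → K₁ ≤ Y → IsComponent K₂ → K₂ ≤ Y →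
        ∃ s ∈ S, K₂ = K₁.map (MulAut.conj s).toMonoidHom) := by
  have hp : p.Prime := Fact.out
  have first : ¬ p ∣ Nat.card ↥Y → Group.IsSolvable ↥Y →
      ∃ t : ℕ, t.Prime ∧ t ≠ p ∧ IsPGroup t ↥Y ∧ Y = R ∧ ⁅⁅Y, Y⁆, Y⁆ = ⊥ := by
    intro hcop hs
    obtain ⟨t, ht, hYt⟩ := h.isPGroup_of_coprime hcop
    have hder : ¬ Y ≤ ⁅Y, Y⁆ :=
      not_le_of_gt (Cfsg.Agent.Lib.Helper9.commutator_lt_of_ne_bot_of_solvable hs h.Y_ne_bot)
    obtain ⟨h1, h2⟩ := h.eq_R_of_coprime hOp hcop hder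
    refine ⟨t, ht, ?_, hYt, h1, h2⟩
    rintro rfl
    haveI : Fact t.Prime := ⟨ht⟩
    obtain ⟨k, hk⟩ := IsPGroup.iff_card.mp hYt
    rcases Nat.eq_zero_or_pos k with hk0 | hk0
    · rw [hk0, pow_zero] at hk
      exact h.Y_ne_bot (Subgroup.card_eq_one.mp hk)
    · exact hcop (hk ▸ dvd_pow_self t hk0.ne')
  rcases h.nilpotent_or_layer hOp with hnil | hlay
  · left
    exact first (h.coprime_of_nilpotent hOp hnil) inferInstance
  · by_cases hdvd : p ∣ Nat.card ↥Y
    · right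
      refine ⟨hdvd, ?_, h.sSup_components hlay, fun K₁ K₂ hK₁ hK₁Y hK₂ hK₂Y =>
        h.exists_conj_of_layer hOp hlay hK₁ hK₁Y hK₂ hK₂Y⟩
      intro hs
      have hne : {K : Subgroup G | IsComponent K ∧ K ≤ Y}.Nonempty := by
        by_contra hemp
        rw [Set.not_nonempty_iff_eq_empty] at hemp
        have := h.sSup_components hlay
        rw [hemp, sSup_empty] at this
        exact h.Y_ne_bot this
      obtain ⟨K, hK, hKY⟩ := hne
      exact Cfsg.Agent.Lib.Helper9.comp_not_le_of_isSolvable hK hs hKY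
    · left
      obtain ⟨t, ht, hYt⟩ := h.isPGroup_of_coprime hdvd
      haveI : Fact t.Prime := ⟨ht⟩
      haveI := hYt.isNilpotent
      exact first hdvd inferInstance

theorem le_gfs (h : Hyp p Y S Q L R) (hOp : pCore p G = ⊥) :
    Y ≤ generalizedFittingSubgroup G := by
  rcases h.main hOp with ⟨t, ht, -, hYt, -, -⟩ | ⟨-, -, hsup, -⟩
  · haveI : Fact t.Prime := ⟨ht⟩
    exact (Cfsg.Agent.Lib.Helper1.le_fittingSubgroup h.normal hYt.isNilpotent).trans
      Cfsg.Agent.Lib.Helper9.fitting_le_gfs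
  · rw [hsup]
    exact (sSup_le fun _ hK => Cfsg.Agent.Lib.Helper9.comp_le_layer hK.1).trans
      Cfsg.Agent.Lib.Helper9.layer_le_gfs

end Finite

end Hyp

end Cfsg.Agent.Lib.Helper18.Isolated
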