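import Cfsg.Agent.Lib.Helper18.IsolatedB
import Cfsg.Agent.Lib.Helper16.PMinimal
import Cfsg.Agent.S2905

/-!
# Isolated `p`-minimal subgroups: the hypotheses `Hyp` hold in `G`, and pass to quotients
-/

set_option autoImplicit false

namespace Cfsg.Agent.Lib.Helper18.Isolated

open Cfsg
open scoped commutatorElement

section General

variable {G : Type*} [Group G]

theorem le_normalizer_map_of_normal {X : Subgroup G} (N : Subgroup ↥X) [hN : N.Normal] :
    X ≤ Subgroup.normalizer ((N.map X.subtype : Subgroup G) : Set G) := by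
  have hle : N.map X.subtype ≤ X := Subgroup.map_subtype_le _
  apply (Subgroup.normal_subgroupOf_iff_le_normalizer hle).mp
  have e2 : (N.map X.subtype).subgroupOf X = N := by
    rw [Subgroup.subgroupOf, Subgroup.comap_map_eq_self_of_injective X.subtype_injective]
  rw [e2]
  exact hN

theorem mem_normalizer_subgroupOf {X Q : Subgroup G} {g : G} (hgX : g ∈ X)
    (hg : g ∈ Subgroup.normalizer (Q : Set G)) :
    (⟨g, hgX⟩ : ↥X) ∈ Subgroup.normalizer ((Q.subgroupOf X : Subgroup ↥X) : Set ↥X) := by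
  rw [Subgroup.mem_normalizer_iff]
  intro x
  rw [Subgroup.mem_subgroupOf, Subgroup.mem_subgroupOf]
  exact Subgroup.mem_normalizer_iff.mp hg x

/-- `Hyp` passes to quotients by subgroups of `L`. -/
theorem Hyp.map {G' : Type*} [Group G'] {p : ℕ} {Y S Q L R : Subgroup G} (h : Hyp p Y S Q L R)
    (f : G →* G') (hf : Function.Surjective f) (hker : f.ker ≤ L) :
    Hyp p (Y.map f) (S.map f) (Q.map f) (L.map f) (R.map f) where
  hS := h.hS.map f
  hQS := Subgroup.map_mono h.hQS
  hSL := Subgroup.map_mono h.hSL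
  hLQ := (Subgroup.map_mono h.hLQ).trans (Subgroup.le_normalizer_map f)
  hSR := (Subgroup.map_mono h.hSR).trans (Subgroup.le_normalizer_map f)
  hdich := by
    intro T hT
    have hS' : S ≤ Subgroup.normalizer ((T.comap f : Subgroup G) : Set G) := by
      refine le_trans ?_ (Subgroup.le_normalizer_comap f)
      rw [← Subgroup.map_le_iff_le_comap]
      exact hT
    rcases h.hdich _ hS' with h1 | h1
    · left
      rw [Subgroup.map_le_iff_le_comap]
      exact h1
    · right
      rw [← Subgroup.map_comap_eq_self_of_surjective hf T]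
      exact Subgroup.map_mono h1
  hRQ := by
    rw [← Subgroup.map_commutator]
    exact Subgroup.map_mono h.hRQ
  hRL := by
    intro hle
    apply h.hRL
    have h1 : R ≤ (L.map f).comap f := by
      rw [← Subgroup.map_le_iff_le_comap]; exact hle
    rw [Subgroup.comap_map_eq, sup_of_le_left hker] at h1
    exact h1
  hY := by
    rw [h.hY, Subgroup.map_normalClosure _ f hf, Subgroup.coe_map]
  hYL := by
    rw [← Subgroup.map_sup, h.hYL, Subgroup.map_top_of_surjective f hf]
  hgen := by
    refine (Subgroup.map_mono h.hgen).trans ?_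
    rw [Subgroup.map_sup]
    exact sup_le_sup_left (Subgroup.map_inf_le _ _ f) _

end General

section McBride

variable {G : Type*} [Group G] [Finite G] {p : ℕ} [Fact p.Prime]

/-- `⟨N_X(S), p-minimal subgroups of X containing S⟩` -/
def mcb (S : Sylow p G) (X : Subgroup G) : Subgroup G :=
  (Subgroup.normalizer ((S : Subgroup G) : Set G) ⊓ X) ⊔
    ⨆ P' : {P' : Subgroup G // (S : Subgroup G) ≤ P' ∧ P' ≤ X ∧ Cfsg.IsPMinimal p ↥P'},
      (P' : Subgroup G)

theorem mcb_mono (S : Sylow p G) {X₁ X₂ : Subgroup G} (h : X₁ ≤ X₂) : mcb S X₁ ≤ mcb S X₂ := by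
  apply sup_le_sup (inf_le_inf_left _ h)
  apply iSup_le
  rintro ⟨P', h1, h2, h3⟩
  exact le_iSup (fun P' : {P' : Subgroup G // (S : Subgroup G) ≤ P' ∧ P' ≤ X₂ ∧
    Cfsg.IsPMinimal p ↥P'} => (P' : Subgroup G)) ⟨P', h1, h2.trans h, h3⟩

/-- McBride's lemma, relative form. -/
theorem le_mcb (S : Sylow p G) : ∀ (n : ℕ) (X : Subgroup G), Nat.card X = n →
    (S : Subgroup G) ≤ X → X ≤ mcb S X := by
  intro n
  induction n using Nat.strong_induction_on with
  | _ n ih =>
    intro X hn hSX
    by_cases hnorm : X ≤ Subgroup.normalizer ((S : Subgroup G) : Set G)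
    · exact (le_inf hnorm le_rfl).trans le_sup_left
    have hSXn : ¬ ((S.subtype hSX : Sylow p X) : Subgroup X).Normal := by
      rw [Sylow.coe_subtype]
      intro h
      exact hnorm ((Subgroup.normal_subgroupOf_iff_le_normalizer hSX).1 h)
    by_cases huniq : ∃! M : Subgroup X, IsCoatom M ∧ ((S.subtype hSX : Sylow p X) : Subgroup X) ≤ M
    · have hmin : IsPMinimal p ↥X :=
        Cfsg.Agent.Lib.Helper16.isPMinimal_of_sylow (S.subtype hSX) hSXn huniq
      exact (le_iSup (fun P' : {P' : Subgroup G // (S : Subgroup G) ≤ P' ∧ P' ≤ X ∧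
        Cfsg.IsPMinimal p ↥P'} => (P' : Subgroup G)) ⟨X, hSX, le_rfl, hmin⟩).trans le_sup_right
    · have hne : ((S.subtype hSX : Sylow p X) : Subgroup X) ≠ ⊤ := by
        intro h
        apply hSXn
        rw [h]; infer_instance
      obtain ⟨M₁, hM₁c, hM₁S⟩ := (eq_top_or_exists_le_coatom _).resolve_left hne
      have hex : ∃ M₂ : Subgroup X,
          (IsCoatom M₂ ∧ ((S.subtype hSX : Sylow p X) : Subgroup X) ≤ M₂) ∧ M₂ ≠ M₁ := by
        by_contra h
        push Not at h
        exact huniq ⟨M₁, ⟨hM₁c, hM₁S⟩, fun M hM => h M hM⟩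
      obtain ⟨M₂, ⟨hM₂c, hM₂S⟩, hne12⟩ := hex
      have hsup : M₁ ⊔ M₂ = ⊤ :=
        Cfsg.Agent.Lib.Helper16.sup_eq_top_of_isCoatom_ne hM₁c hM₂c (Ne.symm hne12)
      have hstep : ∀ M : Subgroup X, IsCoatom M →
          ((S.subtype hSX : Sylow p X) : Subgroup X) ≤ M → M.map X.subtype ≤ mcb S X := by
        intro M hMc hMS
        have hcard : Nat.card (M.map X.subtype) < n := by
          rw [Subgroup.card_map_of_injective X.subtype_injective, ← hn]
          by_contra hge
          push Not at hge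
          exact hMc.1 (Subgroup.eq_top_of_le_card M hge)
        refine (ih _ hcard _ rfl ?_).trans (mcb_mono S (Subgroup.map_subtype_le M))
        intro s hs
        refine ⟨⟨s, hSX hs⟩, hMS ?_, rfl⟩
        rw [Sylow.coe_subtype, Subgroup.mem_subgroupOf]
        exact hs
      have hX : X = (M₁ ⊔ M₂).map X.subtype := by
        rw [hsup, ← MonoidHom.range_eq_map, Subgroup.range_subtype]
      calc X = (M₁ ⊔ M₂).map X.subtype := hX
        _ = M₁.map X.subtype ⊔ M₂.map X.subtype := Subgroup.map_sup _ _ _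
        _ ≤ mcb S X := sup_le (hstep M₁ hM₁c hM₁S) (hstep M₂ hM₂c hM₂S)

/-- the subgroup `L` generated by `N_G(S)` and the `p`-minimal subgroups over `S` other than `P` -/
def bigL (S : Sylow p G) (P : Subgroup G) : Subgroup G :=
  Subgroup.normalizer ((S : Subgroup G) : Set G) ⊔
    ⨆ P' : {P' : Subgroup G // (S : Subgroup G) ≤ P' ∧ Cfsg.IsPMinimal p ↥P' ∧ P' ≠ P},
      (P' : Subgroup G)

theorem sylow_le_bigL (S : Sylow p G) (P : Subgroup G) : (S : Subgroup G) ≤ bigL S P :=
  Subgroup.le_normalizer.trans le_sup_left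

theorem le_bigL_of_ne (S : Sylow p G) (P : Subgroup G) {P' : Subgroup G}
    (h1 : (S : Subgroup G) ≤ P') (h2 : Cfsg.IsPMinimal p ↥P') (h3 : P' ≠ P) : P' ≤ bigL S P :=
  (le_iSup (fun P' : {P' : Subgroup G // (S : Subgroup G) ≤ P' ∧ Cfsg.IsPMinimal p ↥P' ∧ P' ≠ P} =>
    (P' : Subgroup G)) ⟨P', h1, h2, h3⟩).trans le_sup_right

/-- every overgroup of `S` lies in `⟨P, L ∩ X⟩` -/
theorem le_sup_inf_bigL (S : Sylow p G) (P : Subgroup G) {X : Subgroup G}
    (hSX : (S : Subgroup G) ≤ X) : X ≤ P ⊔ (bigL S P ⊓ X) := by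
  refine (le_mcb S _ X rfl hSX).trans ?_
  apply sup_le
  · exact (inf_le_inf_right _ le_sup_left).trans le_sup_right
  · apply iSup_le
    rintro ⟨P', h1, h2, h3⟩
    by_cases hP' : P' = P
    · exact (le_of_eq hP').trans le_sup_left
    · exact (le_inf (le_bigL_of_ne S P h1 h3 hP') h2).trans le_sup_right

/-- every overgroup of `S` contains `P` or lies in `L` -/
theorem dichotomy (S : Sylow p G) (P : Subgroup G) {X : Subgroup G}
    (hSX : (S : Subgroup G) ≤ X) : P ≤ X ∨ X ≤ bigL S P := by
  by_cases hPX : P ≤ X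
  · exact Or.inl hPX
  right
  refine (le_mcb S _ X rfl hSX).trans ?_
  apply sup_le
  · exact inf_le_left.trans le_sup_left
  · apply iSup_le
    rintro ⟨P', h1, h2, h3⟩
    apply le_bigL_of_ne S P h1 h3
    rintro rfl
    exact hPX h2

end McBride

section Main

variable {G : Type*} [Group G] [Finite G] {p : ℕ} [Fact p.Prime]

theorem residual_sup_sylow (S : Sylow p G) (P : Subgroup G) (hSP : (S : Subgroup G) ≤ P) :
    (pResidual p ↥P).map P.subtype ⊔ (S : Subgroup G) = P := by
  have h := Cfsg.Agent.Lib.Helper17.sylow_sup_pResidual (S.subtype hSP)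
  have h2 := congrArg (Subgroup.map P.subtype) h
  rw [Subgroup.map_sup, Sylow.coe_subtype, ← MonoidHom.range_eq_map, Subgroup.range_subtype,
    Subgroup.map_subgroupOf_eq_of_le hSP] at h2
  rw [sup_comm]
  exact h2

/-- `O^p(P) = [O^p(P), O_p(L)]` for an isolated `p`-minimal subgroup. -/
theorem residual_le_commutator (S : Sylow p G) (P : Subgroup G) (hSP : (S : Subgroup G) ≤ P)
    (hPmin : Cfsg.IsPMinimal p ↥P) {L : Subgroup G} (hSL : (S : Subgroup G) ≤ L)
    (hiso : ¬ (pCore p ↥L).map L.subtype ≤ (pCore p ↥P).map P.subtype) :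
    (pResidual p ↥P).map P.subtype ≤
      ⁅(pResidual p ↥P).map P.subtype, (pCore p ↥L).map L.subtype⁆ := by
  have hQS : (pCore p ↥L).map L.subtype ≤ (S : Subgroup G) := map_pCore_le_sylow S hSL
  have hLQ := le_normalizer_map_pCore p L
  generalize (pCore p ↥L).map L.subtype = Q at hQS hLQ hiso ⊢
  have hQP : Q ≤ P := hQS.trans hSP
  obtain ⟨hnn, M, ⟨hMc, hSM⟩, huniq⟩ := hPmin (S.subtype hSP)
  have hQPS : Q.subgroupOf P ≤ ((S.subtype hSP : Sylow p ↥P) : Subgroup ↥P) := by
    intro x hx
    rw [Sylow.coe_subtype, Subgroup.mem_subgroupOf]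
    exact hQS (Subgroup.mem_subgroupOf.mp hx)
  have hSnQ : ((S.subtype hSP : Sylow p ↥P) : Subgroup ↥P) ≤
      Subgroup.normalizer ((Q.subgroupOf P : Subgroup ↥P) : Set ↥P) := by
    rintro ⟨s, hsP⟩ hs
    rw [Sylow.coe_subtype, Subgroup.mem_subgroupOf] at hs
    exact mem_normalizer_subgroupOf hsP (hLQ (hSL hs))
  have hRn : (pResidual p ↥P).Normal := Cfsg.Agent.Lib.Helper17.pResidual_normal
  have hRtop : ∀ x : ↥P, x ∈ Subgroup.normalizer ((pResidual p ↥P : Subgroup ↥P) : Set ↥P) := by
    intro x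
    rw [Subgroup.normalizer_eq_top_iff.mpr hRn]
    exact Subgroup.mem_top x
  have hsup : pResidual p ↥P ⊔ ((S.subtype hSP : Sylow p ↥P) : Subgroup ↥P) = ⊤ := by
    rw [sup_comm]
    exact Cfsg.Agent.Lib.Helper17.sylow_sup_pResidual (S.subtype hSP)
  have hCn : (⁅pResidual p ↥P, Q.subgroupOf P⁆ : Subgroup ↥P).Normal :=
    Cfsg.Agent.Lib.Helper17.normal_of_le_normalizer_of_sup_eq_top
      Cfsg.Agent.Lib.Helper1.le_normalizer_commutator_left
      (fun s hs => Cfsg.Agent.Lib.Helper17.mem_normalizer_commutator (hRtop s) (hSnQ hs)) hsup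
  rcases Cfsg.Agent.S2905.normal_dichotomy hPmin (S.subtype hSP) M hMc hSM _ hCn with h1 | h1
  · calc (pResidual p ↥P).map P.subtype
        ≤ (⁅pResidual p ↥P, Q.subgroupOf P⁆ : Subgroup ↥P).map P.subtype := Subgroup.map_mono h1
      _ = ⁅(pResidual p ↥P).map P.subtype, Q⁆ := by
          rw [Subgroup.map_commutator, Subgroup.map_subgroupOf_eq_of_le hQP]
  · exfalso
    haveI hFn : M.normalCore.Normal := Subgroup.normalCore_normal M
    have hFtop : ∀ x : ↥P, x ∈ Subgroup.normalizer ((M.normalCore : Subgroup ↥P) : Set ↥P) := by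
      intro x
      rw [Subgroup.normalizer_eq_top_iff.mpr hFn]
      exact Subgroup.mem_top x
    have hNn : (Q.subgroupOf P ⊔ M.normalCore : Subgroup ↥P).Normal := by
      apply Cfsg.Agent.Lib.Helper17.normal_of_le_normalizer_of_sup_eq_top (A := pResidual p ↥P)
        (B := ((S.subtype hSP : Sylow p ↥P) : Subgroup ↥P)) _ _ hsup
      · intro r hr
        apply Cfsg.Agent.Lib.Helper17.mem_normalizer_of_map_conj_le
        rw [Subgroup.map_sup]
        apply sup_le
        · rintro _ ⟨q, hq, rfl⟩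
          have e : (MulAut.conj r).toMonoidHom q = ⁅r, q⁆ * q := by
            simp only [MulEquiv.coe_toMonoidHom, MulAut.conj_apply, commutatorElement_def]
            group
          rw [e]
          exact Subgroup.mul_mem _
            (Subgroup.mem_sup_right (h1 (Subgroup.commutator_mem_commutator hr hq)))
            (Subgroup.mem_sup_left hq)
        · rw [Cfsg.Agent.Lib.Helper17.map_conj_eq_of_mem_normalizer (hFtop r)]
          exact le_sup_right
      · intro s hs
        exact Cfsg.Agent.Lib.Helper17.mem_normalizer_sup (hSnQ hs) (hFtop s)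
    rcases Cfsg.Agent.S2905.normal_dichotomy hPmin (S.subtype hSP) M hMc hSM _ hNn with h2 | h2
    · exact Cfsg.Agent.S2905.not_pResidual_le hPmin (S.subtype hSP) M hMc hSM
        (h2.trans (sup_le (hQPS.trans hSM) (Subgroup.normalCore_le M)))
    · have h3 : Q.subgroupOf P ≤ ((S.subtype hSP : Sylow p ↥P) : Subgroup ↥P) ⊓ M.normalCore :=
        le_inf hQPS (le_sup_left.trans h2)
      have h4 := Cfsg.Agent.S2905.core_inf_sylow_normal hPmin (S.subtype hSP) M hMc hSM
      have h5 : IsPGroup p ↥(((S.subtype hSP : Sylow p ↥P) : Subgroup ↥P) ⊓ M.normalCore) :=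
        (S.subtype hSP).2.to_le inf_le_left
      have h6 : Q.subgroupOf P ≤ pCore p ↥P :=
        h3.trans (Cfsg.Agent.Lib.Helper1.le_pCore h4 h5)
      apply hiso
      intro x hx
      exact ⟨⟨x, hQP hx⟩, h6 (Subgroup.mem_subgroupOf.mpr hx), rfl⟩

/-- The abstract hypotheses hold for an isolated `p`-minimal subgroup. -/
theorem hyp_of_isolated (S : Sylow p G) (P : Subgroup G) (hSP : (S : Subgroup G) ≤ P)
    (hPmin : Cfsg.IsPMinimal p ↥P)
    (hiso : ¬ (pCore p ↥(bigL S P)).map (bigL S P).subtype ≤ (pCore p ↥P).map P.subtype) :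
    Hyp p (Subgroup.normalClosure (((pResidual p ↥P).map P.subtype : Subgroup G) : Set G))
      (S : Subgroup G) ((pCore p ↥(bigL S P)).map (bigL S P).subtype) (bigL S P)
      ((pResidual p ↥P).map P.subtype) := by
  have hSL : (S : Subgroup G) ≤ bigL S P := sylow_le_bigL S P
  have hQS := map_pCore_le_sylow S hSL
  have hQp := map_pCore_isPGroup p (bigL S P)
  have hLQ := le_normalizer_map_pCore p (bigL S P)
  have hRQ := residual_le_commutator S P hSP hPmin hSL hiso
  have hPL : ¬ P ≤ bigL S P := by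
    intro h
    apply hiso
    exact le_map_pCore (hQS.trans hSP) hQp (h.trans hLQ)
  generalize (pCore p ↥(bigL S P)).map (bigL S P).subtype = Q at hQS hQp hLQ hRQ
  have hRS := residual_sup_sylow S P hSP
  haveI hRn : (pResidual p ↥P).Normal := Cfsg.Agent.Lib.Helper17.pResidual_normal
  have hPR : P ≤ Subgroup.normalizer (((pResidual p ↥P).map P.subtype : Subgroup G) : Set G) :=
    le_normalizer_map_of_normal _
  have hRP : (pResidual p ↥P).map P.subtype ≤ P := Subgroup.map_subtype_le _
  have hres : ∀ T : Subgroup G, (S : Subgroup G) ≤ Subgroup.normalizer (T : Set G) →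
      P ≤ T ⊔ (S : Subgroup G) → (pResidual p ↥P).map P.subtype ≤ T :=
    fun T hT hP => map_pResidual_le_of_le_sup S.2 hT hP
  generalize (pResidual p ↥P).map P.subtype = R at hRQ hRS hPR hRP hres
  have hRL : ¬ R ≤ bigL S P := by
    intro h
    exact hPL (hRS.ge.trans (sup_le h hSL))
  have hYn : (Subgroup.normalClosure (R : Set G)).Normal := Subgroup.normalClosure_normal
  have hRY : R ≤ Subgroup.normalClosure (R : Set G) := Subgroup.le_normalClosure
  have hSR : (S : Subgroup G) ≤ Subgroup.normalizer (R : Set G) := hSP.trans hPR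
  have hdich : ∀ T : Subgroup G, (S : Subgroup G) ≤ Subgroup.normalizer (T : Set G) →
      R ≤ T ∨ T ≤ bigL S P := by
    intro T hT
    rcases dichotomy S P (le_sup_right : (S : Subgroup G) ≤ T ⊔ S) with h1 | h1
    · exact Or.inl (hres T hT h1)
    · exact Or.inr (le_sup_left.trans h1)
  have hPYL : P ≤ Subgroup.normalClosure (R : Set G) ⊔ bigL S P :=
    hRS.ge.trans (sup_le_sup hRY hSL)
  have hYL : Subgroup.normalClosure (R : Set G) ⊔ bigL S P = ⊤ := by
    rw [eq_top_iff]
    refine (le_sup_inf_bigL S P (le_top : (S : Subgroup G) ≤ ⊤)).trans ?_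
    exact sup_le hPYL (inf_le_left.trans le_sup_right)
  have htopY : ∀ g : G, g ∈ Subgroup.normalizer
      ((Subgroup.normalClosure (R : Set G) : Subgroup G) : Set G) := by
    intro g
    rw [Subgroup.normalizer_eq_top_iff.mpr hYn]
    exact Subgroup.mem_top g
  have hgen : Subgroup.normalClosure (R : Set G) ≤
      R ⊔ (Subgroup.normalClosure (R : Set G) ⊓ bigL S P) := by
    generalize Subgroup.normalClosure (R : Set G) = Y at hYn hRY htopY
    have hSW : (S : Subgroup G) ≤ Subgroup.normalizer ((R ⊔ (Y ⊓ bigL S P) : Subgroup G) : Set G) := by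
      intro s hs
      exact Cfsg.Agent.Lib.Helper17.mem_normalizer_sup (hSR hs)
        (Cfsg.Agent.Lib.Helper17.mem_normalizer_inf (htopY s) (Subgroup.le_normalizer (hSL hs)))
    have hWY : R ⊔ (Y ⊓ bigL S P) ≤ Y := sup_le hRY inf_le_left
    have hX : Y ⊔ (S : Subgroup G) ≤ (R ⊔ (Y ⊓ bigL S P)) ⊔ (S : Subgroup G) := by
      refine (le_sup_inf_bigL S P (le_sup_right : (S : Subgroup G) ≤ Y ⊔ S)).trans ?_
      apply sup_le
      · exact hRS.ge.trans (sup_le_sup_right le_sup_left _)
      · intro x hx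
        obtain ⟨hxL, hxX⟩ := Subgroup.mem_inf.mp hx
        obtain ⟨y, hy, s, hs, rfl⟩ := (Cfsg.Agent.Lib.Helper9.mem_sup_of_le_normalizer
          (fun s _ => htopY s : (S : Subgroup G) ≤ _)).mp hxX
        have hyL : y ∈ bigL S P := by
          have : y = y * s * s⁻¹ := by group
          rw [this]
          exact (bigL S P).mul_mem hxL ((bigL S P).inv_mem (hSL hs))
        exact Subgroup.mul_mem _
          (Subgroup.mem_sup_left (Subgroup.mem_sup_right (Subgroup.mem_inf.mpr ⟨hy, hyL⟩)))
          (Subgroup.mem_sup_right hs)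
    intro y hy
    obtain ⟨w, hw, s, hs, rfl⟩ :=
      (Cfsg.Agent.Lib.Helper9.mem_sup_of_le_normalizer hSW).mp (hX (Subgroup.mem_sup_left hy))
    have hsY : s ∈ Y := by
      have : s = w⁻¹ * (w * s) := by group
      rw [this]
      exact Y.mul_mem (Y.inv_mem (hWY hw)) hy
    exact Subgroup.mul_mem _ hw
      (Subgroup.mem_sup_right (Subgroup.mem_inf.mpr ⟨hsY, hSL hs⟩))
  exact ⟨S.2, hQS, hSL, hLQ, hSR, hdich, hRQ, hRL, rfl, hYL, hgen⟩

/-- If `Y` and `O^p(P)` have the same image modulo `O_p(G)`, then `Y = O^p(P)`. -/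
theorem normalClosure_eq_of_map_eq (S : Sylow p G) (P : Subgroup G) (hSP : (S : Subgroup G) ≤ P)
    [hn : (pCore p G).Normal]
    (h : (Subgroup.normalClosure (((pResidual p ↥P).map P.subtype : Subgroup G) : Set G)).map
        (QuotientGroup.mk' (pCore p G)) =
      ((pResidual p ↥P).map P.subtype).map (QuotientGroup.mk' (pCore p G))) :
    (pResidual p ↥P).map P.subtype =
      Subgroup.normalClosure (((pResidual p ↥P).map P.subtype : Subgroup G) : Set G) := by
  haveI hRn : (pResidual p ↥P).Normal := Cfsg.Agent.Lib.Helper17.pResidual_normal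
  have hPR : P ≤ Subgroup.normalizer (((pResidual p ↥P).map P.subtype : Subgroup G) : Set G) :=
    le_normalizer_map_of_normal _
  have hRdef := Cfsg.Agent.Lib.Helper17.map_subtype_pResidual (p := p) P
  generalize (pResidual p ↥P).map P.subtype = R at h hPR hRdef
  have hYn : (Subgroup.normalClosure (R : Set G)).Normal := Subgroup.normalClosure_normal
  have hRY : R ≤ Subgroup.normalClosure (R : Set G) := Subgroup.le_normalClosure
  have hY : Subgroup.normalClosure (R : Set G) ≤ R ⊔ pCore p G := by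
    have h1 : Subgroup.normalClosure (R : Set G) ≤
        ((Subgroup.normalClosure (R : Set G)).map (QuotientGroup.mk' (pCore p G))).comap
          (QuotientGroup.mk' (pCore p G)) := Subgroup.le_comap_map _ _
    rw [h, Subgroup.comap_map_eq, QuotientGroup.ker_mk'] at h1
    exact h1
  have hOS : pCore p G ≤ (S : Subgroup G) := Cfsg.Agent.Lib.Helper1.pCore_le_sylow S
  have hOR : pCore p G ≤ Subgroup.normalizer (R : Set G) := hOS.trans (hSP.trans hPR)
  have hOp : IsPGroup p (pCore p G) := Cfsg.Agent.Lib.Helper1.pCore_isPGroup p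
  have key : ∀ x ∈ Subgroup.normalClosure (R : Set G), (orderOf x).Coprime p → x ∈ R := by
    intro x hx hxo
    obtain ⟨k, hk⟩ := exists_pow_mem_of_mem_sup hOp hOR (hY hx)
    exact Cfsg.Agent.Lib.Helper16.mem_of_pow_mem_of_coprime R x hxo k hk
  have hconj : ∀ g : G, R.map (MulAut.conj g).toMonoidHom ≤ R := by
    intro g
    conv_lhs => rw [hRdef]
    rw [MonoidHom.map_closure, Subgroup.closure_le]
    rintro _ ⟨x, ⟨hxP, hxo⟩, rfl⟩
    apply key
    · apply hYn.conj_mem
      apply hRY
      rw [hRdef]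
      exact Subgroup.subset_closure ⟨hxP, hxo⟩
    · have : orderOf ((MulAut.conj g).toMonoidHom x) = orderOf x := (MulAut.conj g).orderOf_eq x
      rw [this]
      exact hxo
  haveI hRnorm : R.Normal := by
    rw [← Subgroup.normalizer_eq_top_iff, eq_top_iff]
    intro g _
    exact Cfsg.Agent.Lib.Helper17.mem_normalizer_of_map_conj_le (hconj g)
  exact le_antisymm hRY (Subgroup.normalClosure_le_normal le_rfl)

end Main

end Cfsg.Agent.Lib.Helper18.Isolated
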