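import Cfsg.Agent.Lib.Helper18.IsolatedC

/-!
# Isolated `p`-minimal subgroups: `Y / O_p(Y)` inside `G / O_p(G)`
-/

set_option autoImplicit false

namespace Cfsg.Agent.Lib.Helper18.Isolated

open Cfsg
open scoped commutatorElement

section Iota

variable {G : Type*} [Group G] {p : ℕ} (Y : Subgroup G) [hY : Y.Normal]
  [hn : (pCore p G).Normal] [hnY : (pCore p ↥Y).Normal]

/-- the embedding of `Y / O_p(Y)` into `G / O_p(G)` -/
def iota : (↥Y ⧸ pCore p ↥Y) →* (G ⧸ pCore p G) :=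
  QuotientGroup.lift (pCore p ↥Y) ((QuotientGroup.mk' (pCore p G)).comp Y.subtype) (by
    intro y hy
    rw [pCore_subtype_eq] at hy
    rw [MonoidHom.mem_ker, MonoidHom.comp_apply, QuotientGroup.mk'_apply, QuotientGroup.eq_one_iff]
    exact Subgroup.mem_subgroupOf.mp hy)

theorem iota_mk (y : ↥Y) :
    iota (p := p) Y (QuotientGroup.mk y : ↥Y ⧸ pCore p ↥Y) =
      (QuotientGroup.mk (y : G) : G ⧸ pCore p G) := rfl

theorem iota_injective : Function.Injective (iota (p := p) Y) := by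
  rw [injective_iff_map_eq_one]
  intro x hx
  obtain ⟨y, rfl⟩ := QuotientGroup.mk_surjective x
  rw [iota_mk, QuotientGroup.eq_one_iff] at hx
  rw [QuotientGroup.eq_one_iff, pCore_subtype_eq]
  exact Subgroup.mem_subgroupOf.mpr hx

theorem iota_range :
    (iota (p := p) Y).range = Y.map (QuotientGroup.mk' (pCore p G)) := by
  ext z
  constructor
  · rintro ⟨x, rfl⟩
    obtain ⟨y, rfl⟩ := QuotientGroup.mk_surjective x
    exact ⟨(y : G), y.2, rfl⟩
  · rintro ⟨y, hy, rfl⟩
    exact ⟨QuotientGroup.mk ⟨y, hy⟩, rfl⟩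

theorem iota_mem (x : ↥Y ⧸ pCore p ↥Y) :
    iota (p := p) Y x ∈ Y.map (QuotientGroup.mk' (pCore p G)) := by
  rw [← iota_range]
  exact ⟨x, rfl⟩

theorem card_quot_eq :
    Nat.card (↥Y ⧸ pCore p ↥Y) = Nat.card ↥(Y.map (QuotientGroup.mk' (pCore p G))) := by
  rw [← iota_range (p := p) Y]
  exact Nat.card_congr (MonoidHom.ofInjective (iota_injective (p := p) Y)).toEquiv

theorem range_normal : ((iota (p := p) Y).range).Normal := by
  rw [iota_range]
  exact hY.map _ (QuotientGroup.mk'_surjective _)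

theorem isComponent_map_iota {K : Subgroup (↥Y ⧸ pCore p ↥Y)} (hK : IsComponent K) :
    IsComponent (K.map (iota (p := p) Y)) := by
  have h1 := Cfsg.Agent.Lib.Helper9.isComponent_map_equiv
    (MonoidHom.ofInjective (iota_injective (p := p) Y)) hK
  have h2 := (Cfsg.Agent.Lib.Helper9.isComponent_map_subtype_iff
    (range_normal (p := p) Y).isSubnormal _).mp h1
  rw [Subgroup.map_map] at h2
  have e : ((iota (p := p) Y).range).subtype.comp
      (MonoidHom.ofInjective (iota_injective (p := p) Y)).toMonoidHom = iota (p := p) Y := by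
    ext x
    rfl
  rw [e] at h2
  exact h2

theorem isComponent_comap_iota {C : Subgroup (G ⧸ pCore p G)} (hC : IsComponent C)
    (hCY : C ≤ Y.map (QuotientGroup.mk' (pCore p G))) :
    IsComponent (C.comap (iota (p := p) Y)) := by
  have hle : C ≤ (iota (p := p) Y).range := by rw [iota_range]; exact hCY
  have h1 := Cfsg.Agent.Lib.Helper9.isComponent_subgroupOf hC hle
  have h2 := Cfsg.Agent.Lib.Helper9.isComponent_map_equiv
    (MonoidHom.ofInjective (iota_injective (p := p) Y)).symm h1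
  have e : (C.subgroupOf (iota (p := p) Y).range).map
      (MonoidHom.ofInjective (iota_injective (p := p) Y)).symm.toMonoidHom =
      C.comap (iota (p := p) Y) := by
    ext x
    constructor
    · rintro ⟨z, hz, rfl⟩
      rw [Subgroup.mem_comap]
      have : iota (p := p) Y ((MonoidHom.ofInjective (iota_injective (p := p) Y)).symm z) =
          (z : G ⧸ pCore p G) := by
        have h3 := (MonoidHom.ofInjective (iota_injective (p := p) Y)).apply_symm_apply z
        exact congrArg Subtype.val h3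
      rw [MulEquiv.coe_toMonoidHom, this]
      exact Subgroup.mem_subgroupOf.mp hz
    · intro hx
      refine ⟨MonoidHom.ofInjective (iota_injective (p := p) Y) x, ?_, ?_⟩
      · exact Subgroup.mem_subgroupOf.mpr (Subgroup.mem_comap.mp hx)
      · rw [MulEquiv.coe_toMonoidHom, MulEquiv.symm_apply_apply]
  rw [e] at h2
  exact h2

theorem map_comap_iota {C : Subgroup (G ⧸ pCore p G)}
    (hCY : C ≤ Y.map (QuotientGroup.mk' (pCore p G))) :
    (C.comap (iota (p := p) Y)).map (iota (p := p) Y) = C := by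
  rw [Subgroup.map_comap_eq, iota_range]
  exact inf_eq_right.mpr hCY

theorem layer_eq_top
    (hsup : Y.map (QuotientGroup.mk' (pCore p G)) =
      sSup {C : Subgroup (G ⧸ pCore p G) | IsComponent C ∧
        C ≤ Y.map (QuotientGroup.mk' (pCore p G))}) :
    layer (↥Y ⧸ pCore p ↥Y) = ⊤ := by
  rw [eq_top_iff]
  intro x _
  have h1 : iota (p := p) Y x ∈ (layer (↥Y ⧸ pCore p ↥Y)).map (iota (p := p) Y) := by
    have h2 := iota_mem (p := p) Y x
    rw [hsup] at h2
    refine (sSup_le ?_ : sSup {C : Subgroup (G ⧸ pCore p G) | IsComponent C ∧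
        C ≤ Y.map (QuotientGroup.mk' (pCore p G))} ≤ _) h2
    rintro C ⟨hC, hCY⟩
    rw [← map_comap_iota (p := p) Y hCY]
    exact Subgroup.map_mono
      (Cfsg.Agent.Lib.Helper9.comp_le_layer (isComponent_comap_iota (p := p) Y hC hCY))
  obtain ⟨x', hx', hxx'⟩ := h1
  rw [← iota_injective (p := p) Y hxx']
  exact hx'

theorem map_comap_mk_eq (K : Subgroup (↥Y ⧸ pCore p ↥Y)) :
    (K.comap (QuotientGroup.mk' (pCore p ↥Y))).map Y.subtype =
      (K.map (iota (p := p) Y)).comap (QuotientGroup.mk' (pCore p G)) ⊓ Y := by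
  ext x
  constructor
  · rintro ⟨y, hy, rfl⟩
    exact Subgroup.mem_inf.mpr ⟨⟨QuotientGroup.mk y, hy, rfl⟩, y.2⟩
  · rintro ⟨h1, h2⟩
    refine ⟨⟨x, h2⟩, ?_, rfl⟩
    obtain ⟨k, hk, hkx⟩ := h1
    have : k = QuotientGroup.mk ⟨x, h2⟩ := iota_injective (p := p) Y hkx
    show (QuotientGroup.mk' (pCore p ↥Y)) ⟨x, h2⟩ ∈ K
    rw [QuotientGroup.mk'_apply, ← this]
    exact hk

omit hY hn hnY in
theorem comap_map_conj {G' : Type*} [Group G'] (f : G →* G') (C : Subgroup G') (s : G) :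
    (C.map (MulAut.conj (f s)).toMonoidHom).comap f =
      (C.comap f).map (MulAut.conj s).toMonoidHom := by
  ext x
  rw [Subgroup.mem_comap, Cfsg.Agent.Lib.Helper17.mem_map_conj,
    Cfsg.Agent.Lib.Helper17.mem_map_conj, Subgroup.mem_comap]
  simp only [map_mul, map_inv]

omit hn hnY in
theorem map_conj_inf_normal (A : Subgroup G) (s : G) :
    A.map (MulAut.conj s).toMonoidHom ⊓ Y = (A ⊓ Y).map (MulAut.conj s).toMonoidHom := by
  ext x
  rw [Subgroup.mem_inf, Cfsg.Agent.Lib.Helper17.mem_map_conj,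
    Cfsg.Agent.Lib.Helper17.mem_map_conj, Subgroup.mem_inf]
  constructor
  · rintro ⟨h1, h2⟩
    refine ⟨h1, ?_⟩
    have := hY.conj_mem x h2 s⁻¹
    rwa [inv_inv] at this
  · rintro ⟨h1, h2⟩
    refine ⟨h1, ?_⟩
    have := hY.conj_mem _ h2 s
    have e : s * (s⁻¹ * x * s) * s⁻¹ = x := by group
    rwa [e] at this

/-- transfer of the transitivity statement -/
theorem conj_transfer (S : Subgroup G)
    (htrans : ∀ C₁ C₂ : Subgroup (G ⧸ pCore p G), IsComponent C₁ →
      C₁ ≤ Y.map (QuotientGroup.mk' (pCore p G)) → IsComponent C₂ →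
      C₂ ≤ Y.map (QuotientGroup.mk' (pCore p G)) →
      ∃ s ∈ S.map (QuotientGroup.mk' (pCore p G)), C₂ = C₁.map (MulAut.conj s).toMonoidHom)
    (K₁ K₂ : Subgroup (↥Y ⧸ pCore p ↥Y)) (hK₁ : IsComponent K₁) (hK₂ : IsComponent K₂) :
    ∃ s ∈ S, (K₂.comap (QuotientGroup.mk' (pCore p ↥Y))).map Y.subtype =
      ((K₁.comap (QuotientGroup.mk' (pCore p ↥Y))).map Y.subtype).map
        (MulAut.conj s).toMonoidHom := by
  have hle : ∀ K : Subgroup (↥Y ⧸ pCore p ↥Y),
      K.map (iota (p := p) Y) ≤ Y.map (QuotientGroup.mk' (pCore p G)) := by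
    intro K
    rw [← iota_range]
    exact Subgroup.map_le_range _ _
  obtain ⟨s', ⟨s, hs, rfl⟩, heq⟩ := htrans _ _ (isComponent_map_iota (p := p) Y hK₁) (hle K₁)
    (isComponent_map_iota (p := p) Y hK₂) (hle K₂)
  refine ⟨s, hs, ?_⟩
  rw [map_comap_mk_eq, map_comap_mk_eq, heq, comap_map_conj, map_conj_inf_normal]

theorem isPGroup_quot {t : ℕ} (ht : IsPGroup t ↥(Y.map (QuotientGroup.mk' (pCore p G)))) :
    IsPGroup t (↥Y ⧸ pCore p ↥Y) := by
  intro x
  obtain ⟨k, hk⟩ := ht ⟨iota (p := p) Y x, iota_mem (p := p) Y x⟩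
  refine ⟨k, ?_⟩
  apply iota_injective (p := p) Y
  rw [map_pow, map_one]
  have := congrArg Subtype.val hk
  simpa using this

theorem class_two_quot
    (hcl : ⁅⁅Y.map (QuotientGroup.mk' (pCore p G)), Y.map (QuotientGroup.mk' (pCore p G))⁆,
      Y.map (QuotientGroup.mk' (pCore p G))⁆ = ⊥) :
    ∃ _ : Group.IsNilpotent (↥Y ⧸ pCore p ↥Y), Group.nilpotencyClass (↥Y ⧸ pCore p ↥Y) ≤ 2 := by
  have hlcs : (⊤ : Subgroup (↥Y ⧸ pCore p ↥Y)).lowerCentralSeries 2 = ⊥ := by
    show ⁅⁅(⊤ : Subgroup (↥Y ⧸ pCore p ↥Y)), ⊤⁆, ⊤⁆ = ⊥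
    apply (Subgroup.map_eq_bot_iff_of_injective _ (iota_injective (p := p) Y)).mp
    rw [Subgroup.map_commutator, Subgroup.map_commutator, ← MonoidHom.range_eq_map, iota_range]
    exact hcl
  have hnil : Group.IsNilpotent (↥Y ⧸ pCore p ↥Y) :=
    Subgroup.nilpotent_iff_lowerCentralSeries.mpr ⟨2, hlcs⟩
  exact ⟨hnil, Subgroup.lowerCentralSeries_eq_bot_iff_nilpotencyClass_le.mp hlcs⟩

end Iota

end Cfsg.Agent.Lib.Helper18.Isolated
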