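import Mathlib
import Cfsg.Agent.H5.KInf12
import Cfsg.Agent.S3766
import Cfsg.Agent.Lib.Helper18.SubnClifford

/-!
# `K`-infinity not normal: a bad element acting quadratically and nontrivially on a chief factor

Glauberman's argument in the chief factor form: if `C_G(O_p(G)) ≤ O_p(G)` and the `K`-infinity
subgroups of a Sylow `p`-subgroup `S` differ from those of `T = O_p(G)`, then some `g ∈ S - T`
acts cubically on a critical subgroup `A` of `T`, quadratically on `Z(A)`, and quadratically but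
not trivially on some chief factor of `G` inside `A` (`exists_bad_chief`).  The lower star members
are treated with Clifford's theorem for the subnormal subgroup `R₁ T B`.
-/

set_option autoImplicit false
set_option linter.unusedSectionVars false
set_option linter.style.haveILetI false

namespace Cfsg.Agent.Lib.Helper18.KInfChief

open Cfsg Subgroup Cfsg.H5.KI Cfsg.Agent.Lib.Helper18.SubnClifford
open scoped commutatorElement

section cen

variable {G : Type*} [Group G]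

/-- the elements of `G` centralizing `U / V` for every chief factor `U / V` in the family `𝓕` -/
def chiefCen (𝓕 : Subgroup G → Subgroup G → Prop) : Subgroup G :=
  ⨅ i : {UV : Subgroup G × Subgroup G // Cfsg.IsChiefFactor UV.1 UV.2 ∧ 𝓕 UV.1 UV.2},
    @Cfsg.Agent.S3766.commSub G _ i.1.1 i.1.2 i.2.1.2.2.1

theorem mem_chiefCen {𝓕 : Subgroup G → Subgroup G → Prop} {x : G} :
    x ∈ chiefCen 𝓕 ↔
      ∀ U V : Subgroup G, Cfsg.IsChiefFactor U V → 𝓕 U V → ∀ u ∈ U, ⁅x, u⁆ ∈ V := by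
  unfold chiefCen
  rw [Subgroup.mem_iInf]
  constructor
  · intro h U V hUV hF u hu
    exact h ⟨(U, V), hUV, hF⟩ u hu
  · intro h i u hu
    exact h i.1.1 i.1.2 i.2.1 i.2.2 u hu

instance chiefCen_normal (𝓕 : Subgroup G → Subgroup G → Prop) : (chiefCen 𝓕).Normal := by
  unfold chiefCen
  exact Subgroup.normal_iInf_normal fun i =>
    @Cfsg.Agent.S3766.commSub_normal G _ i.1.1 i.1.2 i.2.1.2.1 i.2.1.2.2.1

theorem mem_chiefCen_iff {𝓕 : Subgroup G → Subgroup G → Prop} {x : G} :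
    x ∈ chiefCen 𝓕 ↔
      ∀ U V : Subgroup G, Cfsg.IsChiefFactor U V → 𝓕 U V → ⁅U, zpowers x⁆ ≤ V := by
  constructor
  · intro hx U V hUV hF
    rw [Subgroup.commutator_le]
    intro u hu k hk
    have hk' : k ∈ chiefCen 𝓕 := (Subgroup.zpowers_le.mpr hx) hk
    have h1 := mem_chiefCen.mp hk' U V hUV hF u hu
    have h2 : ⁅u, k⁆ = (⁅k, u⁆)⁻¹ := (commutatorElement_inv k u).symm
    rw [h2]; exact inv_mem h1
  · intro h
    rw [mem_chiefCen]
    intro U V hUV hF u hu
    have h1 : ⁅u, x⁆ ∈ V :=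
      h U V hUV hF (Subgroup.commutator_mem_commutator hu (Subgroup.mem_zpowers x))
    have h2 : ⁅x, u⁆ = (⁅u, x⁆)⁻¹ := (commutatorElement_inv u x).symm
    rw [h2]; exact inv_mem h1

theorem chief_of_isChiefFactor {U V : Subgroup G} (h : Cfsg.IsChiefFactor U V) :
    Cfsg.Agent.S3766.Chief U V := ⟨h.2.1, h.2.2.1, h.1, h.2.2.2⟩

end cen

section coprime

variable {G : Type*} [Group G] [Finite G] {p : ℕ} [Fact p.Prime]

/-- a nilpotent normal subgroup centralizes every chief factor -/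
theorem commutator_pCore_le {U V : Subgroup G} (hUV : Cfsg.IsChiefFactor U V) :
    ⁅U, pCore p G⁆ ≤ V := by
  have hTp : IsPGroup p ↥(pCore p G) := Cfsg.H5.pCore_isPGroup p G
  haveI hTn : (pCore p G).Normal := Cfsg.H5.pCore_normal p G
  have hnil : ∃ n, (pCore p G).lowerCentralSeries n = ⊥ :=
    (Subgroup.isNilpotent_iff_lowerCentralSeries (pCore p G)).mp hTp.isNilpotent
  exact Cfsg.Agent.S3766.centralizes_chief hnil (chief_of_isChiefFactor hUV)

/-- a `p'`-element centralizing all the chief factors of a chief series of the normal `p`-subgroup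
`Q` through `Z` centralizes `Q` -/
theorem mem_centralizer_of_chief {Z Q : Subgroup G} (hZ : Z.Normal) (hQ : Q.Normal) (hZQ : Z ≤ Q)
    (hQp : IsPGroup p Q) {x : G} (hxc : (orderOf x).Coprime p)
    (hx : ∀ U V : Subgroup G, Cfsg.IsChiefFactor U V → U ≤ Q → (U ≤ Z ∨ Z ≤ V) →
      ⁅U, zpowers x⁆ ≤ V) : x ∈ centralizer (Q : Set G) := by
  obtain ⟨C, hC0, hCn, hCle, hCch, hCZ, N₀, hN₀⟩ := Cfsg.Agent.S2003.exists_chain Z Q hZ hQ hZQ
  have hCanti : ∀ a b, a ≤ b → C b ≤ C a := by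
    intro a b hab
    induction b, hab using Nat.le_induction with
    | base => exact le_rfl
    | succ b _ ih => exact (hCle b).trans ih
  have hCQ : ∀ a, C a ≤ Q := fun a => hC0 ▸ hCanti 0 a (Nat.zero_le a)
  have key : ∀ k, k ≤ N₀ → x ∈ centralizer ((C (N₀ - k) : Subgroup G) : Set G) := by
    intro k
    induction k with
    | zero =>
      intro _
      rw [Nat.sub_zero, hN₀, mem_centralizer_iff]
      intro y hy
      rw [Subgroup.mem_bot.mp hy]; simp
    | succ k ih =>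
      intro hk
      have ih' := ih (by omega)
      have e : N₀ - k = (N₀ - (k + 1)) + 1 := by omega
      rw [e] at ih'
      have h1 : ⁅C (N₀ - (k + 1) + 1), zpowers x⁆ = ⊥ := by
        rw [Subgroup.commutator_eq_bot_iff_le_centralizer, Subgroup.le_centralizer_iff]
        exact Subgroup.zpowers_le.mpr ih'
      have h2 : ⁅C (N₀ - (k + 1)), zpowers x⁆ ≤ C (N₀ - (k + 1) + 1) := by
        rcases hCch (N₀ - (k + 1)) with h | h
        · rw [h]
          haveI := hCn (N₀ - (k + 1))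
          exact Subgroup.commutator_le_left _ _
        · exact hx _ _ h (hCQ _) (hCZ _)
      exact mem_centralizer_of_coprime (hQp.to_le (hCQ _)) (hCle _) hxc h1 h2
  have := key N₀ le_rfl
  rwa [Nat.sub_self, hC0] at this

/-- **Elements outside `O_p(G)` act nontrivially on a chief factor inside a critical subgroup**,
when `C_G(O_p(G)) ≤ O_p(G)`. -/
theorem exists_chief_nontrivial (hC : centralizer (pCore p G : Set G) ≤ pCore p G)
    {A Z : Subgroup G} (hAn : A.Normal) (hAT : A ≤ pCore p G) (hZn : Z.Normal) (hZA : Z ≤ A)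
    (hA5 : ∀ φ : MulAut ↥(pCore p G), (orderOf φ).Coprime p →
      (∀ a : ↥(pCore p G), (a : G) ∈ A → φ a = a) → φ = 1)
    {g : G} (hg : g ∉ pCore p G) :
    ∃ U V : Subgroup G, Cfsg.IsChiefFactor U V ∧ U ≤ A ∧ (U ≤ Z ∨ Z ≤ V) ∧
      ¬ ⁅U, zpowers g⁆ ≤ V := by
  by_contra hcon
  have hcon' : ∀ U V : Subgroup G, Cfsg.IsChiefFactor U V → U ≤ A → (U ≤ Z ∨ Z ≤ V) →
      ⁅U, zpowers g⁆ ≤ V := by
    intro U V hUV hUA hor
    by_contra hX
    exact hcon ⟨U, V, hUV, hUA, hor, hX⟩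
  have hTp : IsPGroup p ↥(pCore p G) := Cfsg.H5.pCore_isPGroup p G
  haveI hTn : (pCore p G).Normal := Cfsg.H5.pCore_normal p G
  have hAp : IsPGroup p A := hTp.to_le hAT
  obtain ⟨N, hN⟩ : ∃ N : Subgroup G,
      N = chiefCen (fun U V : Subgroup G => U ≤ A ∧ (U ≤ Z ∨ Z ≤ V)) := ⟨_, rfl⟩
  haveI hNn : N.Normal := by rw [hN]; infer_instance
  have hgN : g ∈ N := by
    rw [hN, mem_chiefCen_iff]
    intro U V hUV hF
    exact hcon' U V hUV hF.1 hF.2
  have hNp : IsPGroup p N := by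
    apply isPGroup_of_forall_coprime
    intro x hx hxc
    rw [hN, mem_chiefCen_iff] at hx
    have hxA : x ∈ centralizer (A : Set G) :=
      mem_centralizer_of_chief hZn hAn hZA hAp hxc (fun U V hUV hUA hor => hx U V hUV ⟨hUA, hor⟩)
    have ha : (orderOf (MulAut.conjNormal x : MulAut ↥(pCore p G))).Coprime p :=
      Nat.Coprime.coprime_dvd_left (orderOf_map_dvd _ x) hxc
    have hfix : ∀ a : ↥(pCore p G), (a : G) ∈ A →
        (MulAut.conjNormal x : MulAut ↥(pCore p G)) a = a := by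
      intro y hy
      apply Subtype.ext
      rw [MulAut.conjNormal_apply]
      have h2 := mem_centralizer_iff.mp hxA _ hy
      rw [← h2]; group
    have h1 : (MulAut.conjNormal x : MulAut ↥(pCore p G)) = 1 := hA5 _ ha hfix
    have h2 : x ∈ centralizer ((pCore p G : Subgroup G) : Set G) := by
      rw [mem_centralizer_iff]
      intro t ht
      have h3 : (MulAut.conjNormal x : MulAut ↥(pCore p G)) ⟨t, ht⟩ = ⟨t, ht⟩ := by
        rw [h1]; rfl
      have h4 := congrArg Subtype.val h3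
      rw [MulAut.conjNormal_apply] at h4
      have h5 : x * t * x⁻¹ = t := h4
      calc t * x = (x * t * x⁻¹) * x := by rw [h5]
        _ = x * t := by group
    exact Cfsg.H5.eq_one_of_coprime_of_mem_pgroup hxc hTp (hC h2)
  exact hg (Cfsg.H5.le_pCore hNn hNp hgN)

end coprime

section lower

variable {G : Type*} [Group G] [Finite G] {p : ℕ} [Fact p.Prime]

/-- **Lower star members act quadratically on every chief factor inside `A`**, provided their
centre lies in `O_p(G)` and they centralize the chief factors inside `Z(A)`. -/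
theorem lo_quadratic_on_chief {A B : Subgroup G} [hAn : A.Normal]
    (hAT : A ≤ pCore p G) (hA2 : Cl2 A) (hTA : ⁅A, pCore p G⁆ ≤ Zc A)
    (hB2 : Cl2 B) (hAB : A ≤ normalizer (B : Set G))
    (htest : ∀ A' : Subgroup G, A' ≤ A → B ≤ normalizer (A' : Set G) → ⁅B, ⁅A', A'⁆⁆ = ⊥ →
      ⁅⁅Zc B, A'⁆, A'⁆ = ⊥ → ⁅B, A'⁆ ≤ Zc B)
    (hZB : Zc B ≤ pCore p G)
    (hBK : ∀ g ∈ B, ∀ U V : Subgroup G, Cfsg.IsChiefFactor U V → U ≤ Zc A →
      ⁅U, zpowers g⁆ ≤ V)
    {U V : Subgroup G} (hUV : Cfsg.IsChiefFactor U V) (hUA : U ≤ A) : ⁅⁅U, B⁆, B⁆ ≤ V := by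
  have hTp : IsPGroup p ↥(pCore p G) := Cfsg.H5.pCore_isPGroup p G
  haveI hTn : (pCore p G).Normal := Cfsg.H5.pCore_normal p G
  have hAp : IsPGroup p A := hTp.to_le hAT
  have hnA : ∀ X : Subgroup G, X ≤ normalizer (A : Set G) := fun X => by
    rw [Subgroup.normalizer_eq_top_iff.mpr hAn]; exact le_top
  have hnZA : ∀ X : Subgroup G, X ≤ normalizer ((Zc A : Subgroup G) : Set G) := fun X =>
    le_normalizer_Zc_of_le (hnA X)
  haveI hZAn : (Zc A).Normal := Subgroup.normalizer_eq_top_iff.mp (top_le_iff.mp (hnZA ⊤))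
  have hAZB : A ≤ normalizer ((Zc B : Subgroup G) : Set G) := le_normalizer_Zc_of_le hAB
  -- the normal subgroup `K₁` of the elements centralizing the chief factors inside `Z(A)`
  obtain ⟨K₁, hK₁⟩ : ∃ K₁ : Subgroup G,
      K₁ = chiefCen (fun U _ : Subgroup G => U ≤ Zc A) := ⟨_, rfl⟩
  haveI hK₁n : K₁.Normal := by rw [hK₁]; infer_instance
  have hBK₁ : B ≤ K₁ := by
    intro g hg
    rw [hK₁, mem_chiefCen_iff]
    intro U V hUV hF
    exact hBK g hg U V hUV hF
  have hTK₁ : pCore p G ≤ K₁ := by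
    intro t ht
    rw [hK₁, mem_chiefCen_iff]
    intro U V hUV _
    exact (Subgroup.commutator_mono le_rfl (Cfsg.H5.KI.zpowers_le_of_mem ht)).trans
      (commutator_pCore_le hUV)
  have hK₁c : ∀ x ∈ K₁, (orderOf x).Coprime p → x ∈ centralizer ((Zc A : Subgroup G) : Set G) := by
    intro x hx hxc
    rw [hK₁, mem_chiefCen_iff] at hx
    exact mem_centralizer_of_chief hZAn hZAn le_rfl (hAp.to_le inf_le_left) hxc
      (fun U V hUV hUZ _ => hx U V hUV hUZ)
  -- `R₁`, generated by the `p'`-elements of `K₁`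
  obtain ⟨R₁, hR₁⟩ : ∃ R₁ : Subgroup G,
      R₁ = Subgroup.normalClosure {x : G | x ∈ K₁ ∧ (orderOf x).Coprime p} := ⟨_, rfl⟩
  haveI hR₁n : R₁.Normal := by rw [hR₁]; exact Subgroup.normalClosure_normal
  have hR₁K₁ : R₁ ≤ K₁ := by
    rw [hR₁]; exact Subgroup.normalClosure_le_normal fun x hx => hx.1
  have hR₁gen : ∀ x ∈ K₁, (orderOf x).Coprime p → x ∈ R₁ := fun x hx hxc => by
    rw [hR₁]; exact Subgroup.subset_normalClosure ⟨hx, hxc⟩
  have hR₁ZA : R₁ ≤ centralizer ((Zc A : Subgroup G) : Set G) := by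
    rw [hR₁]
    apply Subgroup.normalClosure_le_normal
    intro x hx
    exact hK₁c x hx.1 hx.2
  -- `H' = R₁ T B`
  obtain ⟨H', hH'⟩ : ∃ H' : Subgroup G, H' = R₁ ⊔ pCore p G ⊔ B := ⟨_, rfl⟩
  have hR₁H' : R₁ ≤ H' := by rw [hH']; exact le_sup_left.trans le_sup_left
  have hBH' : B ≤ H' := by rw [hH']; exact le_sup_right
  have hH'K₁ : H' ≤ K₁ := by
    rw [hH']
    exact sup_le (sup_le hR₁K₁ hTK₁) hBK₁
  have hsub : H'.IsSubnormal :=
    isSubnormal_of_residual (p := p) K₁ R₁ hR₁K₁ hR₁gen H' hR₁H' hH'K₁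
  -- `Y₀`
  obtain ⟨Y₀, hY₀⟩ : ∃ Y₀ : Subgroup G, Y₀ = ycen A (centralizer (B : Set G)) hA2 := ⟨_, rfl⟩
  have hY₀A : Y₀ ≤ A := by rw [hY₀]; exact ycen_le _ _ _
  have hDY : Zc B ⊓ A ≤ Y₀ := by
    intro d hd
    rw [hY₀]
    refine ⟨hd.2, fun a' ha' => ?_⟩
    have h1 : a' * d⁻¹ * a'⁻¹ ∈ Zc B := conj_mem_of_mem_normalizer (hAZB ha') (inv_mem hd.1)
    have h2 : ⁅d, a'⁆ = d * (a' * d⁻¹ * a'⁻¹) := by rw [commutatorElement_def]; group
    rw [h2]
    exact (mul_mem hd.1 h1).2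
  have hY₀c : ⁅Y₀, Y₀⁆ ≤ centralizer (B : Set G) := by
    rw [hY₀]
    exact (Subgroup.commutator_mono le_rfl (ycen_le _ _ _)).trans (commutator_ycen_le _ _ _)
  -- `H'` normalizes `Y₀`
  have hH'Y₀ : H' ≤ normalizer (Y₀ : Set G) := by
    rw [hH']
    refine sup_le (sup_le ?_ ?_) ?_
    · -- `R₁`
      apply le_normalizer_of_conj_mem
      intro x hx a ha
      rw [hY₀] at ha ⊢
      apply ycen_conj_mem (hnA ⊤ (Subgroup.mem_top x)) _ ha
      intro c hc hcC
      have h1 : c ∈ Zc A := Subgroup.mem_inf.mpr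
        ⟨(Subgroup.commutator_le_left A A) hc, hA2 hc⟩
      have h2 := mem_centralizer_iff.mp (hR₁ZA hx) c h1
      have h3 : x * c * x⁻¹ = c := by rw [← h2]; group
      rw [h3]; exact hcC
    · -- `T`
      apply le_normalizer_of_conj_mem
      intro t ht a ha
      rw [hY₀] at ha ⊢
      refine ⟨hAn.conj_mem a ha.1 t, fun a' ha' => ?_⟩
      have hz : ⁅t, a⁆ ∈ Zc A := by
        have h1 : ⁅a, t⁆ ∈ ⁅A, pCore p G⁆ := Subgroup.commutator_mem_commutator ha.1 ht
        have h2 : ⁅t, a⁆ = (⁅a, t⁆)⁻¹ := (commutatorElement_inv a t).symm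
        rw [h2]; exact inv_mem (hTA h1)
      have h3 : t * a * t⁻¹ = ⁅t, a⁆ * a := by rw [commutatorElement_def]; group
      rw [h3, commutatorElement_mul_left']
      have h4 : ⁅⁅t, a⁆, a'⁆ = 1 := by
        rw [commutatorElement_eq_one_iff_commute]
        exact (mem_centralizer_iff.mp hz.2 a' ha').symm
      have h5 : ⁅t, a⁆ * ⁅a, a'⁆ * (⁅t, a⁆)⁻¹ = ⁅a, a'⁆ := by
        have h6 : ⁅a, a'⁆ ∈ A := (Subgroup.commutator_le_left A A)
          (Subgroup.commutator_mem_commutator ha.1 ha')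
        rw [← mem_centralizer_iff.mp hz.2 _ h6]; group
      rw [h4, mul_one, h5]
      exact ha.2 a' ha'
    · -- `B`
      apply le_normalizer_of_conj_mem
      intro b hb a ha
      rw [hY₀] at ha ⊢
      apply ycen_conj_mem (hnA ⊤ (Subgroup.mem_top b)) _ ha
      intro c _ hcC
      have h2 := mem_centralizer_iff.mp hcC b hb
      have h3 : b * c * b⁻¹ = c := by rw [h2]; group
      rw [h3]; exact hcC
  -- `B` is quadratic on `Y₀`
  have hq1 : ⁅B, Y₀⁆ ≤ Zc B := by
    apply htest Y₀ hY₀A (hBH'.trans hH'Y₀)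
    · rw [Subgroup.commutator_comm]
      exact commutator_eq_bot_of_le_centralizer hY₀c
    · apply le_bot_iff.mp
      calc ⁅⁅Zc B, Y₀⁆, Y₀⁆ ≤ ⁅⁅pCore p G, A⁆, A⁆ :=
            Subgroup.commutator_mono (Subgroup.commutator_mono hZB hY₀A) hY₀A
        _ ≤ ⁅Zc A, A⁆ := by
            rw [Subgroup.commutator_comm (pCore p G) A]
            exact Subgroup.commutator_mono hTA le_rfl
        _ = ⊥ := commutator_self_Zc A
  -- `[A, B, B] ≤ Y₀`
  have hq2 : ⁅⁅A, B⁆, B⁆ ≤ Y₀ := by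
    have h1 : ⁅A, B⁆ ≤ A ⊓ B :=
      le_inf (Subgroup.commutator_le_left A B) (commutator_le_of_le_normalizer hAB)
    calc ⁅⁅A, B⁆, B⁆ ≤ Zc B ⊓ A := by
          refine le_inf (le_inf ?_ ?_) ?_
          · exact (Subgroup.commutator_mono (h1.trans inf_le_right) le_rfl).trans
              (commutator_le_of_le_normalizer Subgroup.le_normalizer)
          · exact (Subgroup.commutator_mono (h1.trans inf_le_right) le_rfl).trans hB2
          · exact (Subgroup.commutator_mono (h1.trans inf_le_left) le_rfl).trans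
              (Subgroup.commutator_le_left A B)
      _ ≤ Y₀ := hDY
  -- conclusion, by Clifford's theorem for the subnormal subgroup `H'`
  have hUU : ⁅U, U⁆ ≤ V :=
    (Subgroup.commutator_mono le_rfl (hUA.trans hAT)).trans (commutator_pCore_le hUV)
  refine quad_of_gen hUV.2.1 hUV.2.2.1 hUV.1.le hUU hBH' hH'Y₀ ?_ ?_ (gen_of_subnormal hsub hUV)
  · intro y hy b hb b' hb'
    have h1 : ⁅b, y⁆ ∈ Zc B := hq1 (Subgroup.commutator_mem_commutator hb hy)
    have h2 : ⁅y, b⁆ = (⁅b, y⁆)⁻¹ := (commutatorElement_inv b y).symm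
    have h3 : ⁅y, b⁆ ∈ centralizer (B : Set G) := by rw [h2]; exact inv_mem h1.2
    rw [commutatorElement_eq_one_iff_commute]
    exact (mem_centralizer_iff.mp h3 b' hb').symm
  · intro u hu b hb b' hb'
    exact hq2 (Subgroup.commutator_mem_commutator
      (Subgroup.commutator_mem_commutator (hUA hu) hb) hb')

end lower

section bad

variable {G : Type*} [Group G] [Finite G] {p : ℕ} [Fact p.Prime]

/-- **The bad element, with its chief factor.** -/
theorem exists_bad_chief (hC : centralizer (pCore p G : Set G) ≤ pCore p G)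
    {S A : Subgroup G} (hTS : pCore p G ≤ S) (hAT : A ≤ pCore p G) (hA2 : Cl2 A)
    [hAn : A.Normal] (hTA : ⁅A, pCore p G⁆ ≤ Zc A)
    (hA5 : ∀ φ : MulAut ↥(pCore p G), (orderOf φ).Coprime p →
      (∀ a : ↥(pCore p G), (a : G) ∈ A → φ a = a) → φ = 1)
    (hK : ¬ (kLow S = kLow (pCore p G) ∧ kUp S = kUp (pCore p G))) :
    ∃ g ∈ S, g ∉ pCore p G ∧ ⁅⁅⁅A, zpowers g⁆, zpowers g⁆, zpowers g⁆ = ⊥ ∧
      ⁅⁅Zc A, zpowers g⁆, zpowers g⁆ = ⊥ ∧
      ∃ U V : Subgroup G, Cfsg.IsChiefFactor U V ∧ U ≤ A ∧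
        ⁅⁅U, zpowers g⁆, zpowers g⁆ ≤ V ∧ ¬ ⁅U, zpowers g⁆ ≤ V := by
  by_contra hcon
  have hcon' : ∀ g ∈ S, g ∉ pCore p G → ⁅⁅⁅A, zpowers g⁆, zpowers g⁆, zpowers g⁆ = ⊥ →
      ⁅⁅Zc A, zpowers g⁆, zpowers g⁆ = ⊥ → ∀ U V : Subgroup G, Cfsg.IsChiefFactor U V → U ≤ A →
      ⁅⁅U, zpowers g⁆, zpowers g⁆ ≤ V → ⁅U, zpowers g⁆ ≤ V := by
    intro g hg hgT h1 h2 U V hUV hUA hq
    by_contra hX
    exact hcon ⟨g, hg, hgT, h1, h2, U, V, hUV, hUA, hq, hX⟩
  have hnA : ∀ X : Subgroup G, X ≤ normalizer (A : Set G) := fun X => by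
    rw [Subgroup.normalizer_eq_top_iff.mpr hAn]; exact le_top
  have hnZA : ∀ X : Subgroup G, X ≤ normalizer ((Zc A : Subgroup G) : Set G) := fun X =>
    le_normalizer_Zc_of_le (hnA X)
  haveI hZAn : (Zc A).Normal := Subgroup.normalizer_eq_top_iff.mp (top_le_iff.mp (hnZA ⊤))
  have hZAab : ⁅Zc A, Zc A⁆ = ⊥ :=
    le_bot_iff.mp ((Subgroup.commutator_mono le_rfl inf_le_left).trans
      (commutator_self_Zc A).le)
  have hmem : ∀ g ∈ S, ⁅⁅⁅A, zpowers g⁆, zpowers g⁆, zpowers g⁆ = ⊥ →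
      ⁅⁅Zc A, zpowers g⁆, zpowers g⁆ = ⊥ →
      (∀ U V : Subgroup G, Cfsg.IsChiefFactor U V → U ≤ A → (U ≤ Zc A ∨ Zc A ≤ V) →
        ⁅⁅U, zpowers g⁆, zpowers g⁆ ≤ V) → g ∈ pCore p G := by
    intro g hg h1 h2 hq
    by_contra hgT
    obtain ⟨U, V, hUV, hUA, hor, hnt⟩ :=
      exists_chief_nontrivial hC hAn hAT hZAn inf_le_left hA5 hgT
    exact hnt (hcon' g hg hgT h1 h2 U V hUV hUA (hq U V hUV hUA hor))
  apply hK
  apply core hTS hAT hA2 (hnA _) hTA
  · -- upper star members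
    intro Q hAQ _ B hB g hg
    obtain ⟨hBS, -, hB3⟩ := hB
    have hgp : zpowers g ≤ B := Cfsg.H5.KI.zpowers_le_of_mem hg
    have h1 : ⁅⁅A, zpowers g⁆, zpowers g⁆ = ⊥ := by
      apply le_bot_iff.mp
      calc ⁅⁅A, zpowers g⁆, zpowers g⁆ ≤ ⁅⁅A, B⁆, B⁆ :=
            Subgroup.commutator_mono (Subgroup.commutator_mono le_rfl hgp) hgp
        _ ≤ ⁅Zc B, B⁆ := by
            rw [Subgroup.commutator_comm A B]
            exact Subgroup.commutator_mono
              ((Subgroup.commutator_mono le_rfl hAQ).trans hB3) le_rfl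
        _ = ⊥ := commutator_self_Zc B
    apply hmem g (hBS hg)
    · rw [h1, Subgroup.commutator_bot_left]
    · apply le_bot_iff.mp
      rw [← h1]
      exact Subgroup.commutator_mono (Subgroup.commutator_mono inf_le_left le_rfl) le_rfl
    · intro U V _ hUA _
      have h2 : ⁅⁅U, zpowers g⁆, zpowers g⁆ ≤ ⁅⁅A, zpowers g⁆, zpowers g⁆ :=
        Subgroup.commutator_mono (Subgroup.commutator_mono hUA le_rfl) le_rfl
      rw [h1] at h2
      exact h2.trans bot_le
  · -- lower star members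
    intro Q hAQ _ B hB
    obtain ⟨hBS, hB2, hQB, htest⟩ := hB
    have hAB : A ≤ normalizer (B : Set G) := hAQ.trans hQB
    have htest' : ∀ A' : Subgroup G, A' ≤ A → B ≤ normalizer (A' : Set G) →
        ⁅B, ⁅A', A'⁆⁆ = ⊥ → ⁅⁅Zc B, A'⁆, A'⁆ = ⊥ → ⁅B, A'⁆ ≤ Zc B :=
      fun A' hA'A hBA' e1 e2 => htest A' (cl2_of_le hA2 hA'A) (hA'A.trans hAQ) hBA' e1 e2
    have hq0 : ⁅B, Zc A⁆ ≤ Zc B := by
      apply htest' (Zc A) inf_le_left (hnZA B)
      · rw [hZAab, Subgroup.commutator_bot_right]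
      · apply le_bot_iff.mp
        calc ⁅⁅Zc B, Zc A⁆, Zc A⁆ ≤ ⁅Zc A, Zc A⁆ :=
              Subgroup.commutator_mono (commutator_le_of_le_normalizer (hnZA _)) le_rfl
          _ = ⊥ := hZAab
    have h1 : ⁅A, B⁆ ≤ A ⊓ B :=
      le_inf (Subgroup.commutator_le_left A B) (commutator_le_of_le_normalizer hAB)
    have hcub : ∀ g ∈ B, ⁅⁅⁅A, zpowers g⁆, zpowers g⁆, zpowers g⁆ = ⊥ := by
      intro g hg
      have hgp : zpowers g ≤ B := Cfsg.H5.KI.zpowers_le_of_mem hg
      apply le_bot_iff.mp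
      calc ⁅⁅⁅A, zpowers g⁆, zpowers g⁆, zpowers g⁆ ≤ ⁅⁅⁅A, B⁆, B⁆, B⁆ :=
            Subgroup.commutator_mono
              (Subgroup.commutator_mono (Subgroup.commutator_mono le_rfl hgp) hgp) hgp
        _ ≤ ⁅Zc B, B⁆ := by
            apply Subgroup.commutator_mono _ le_rfl
            refine le_inf ?_ ?_
            · exact (Subgroup.commutator_mono (h1.trans inf_le_right) le_rfl).trans
                (commutator_le_of_le_normalizer Subgroup.le_normalizer)
            · exact (Subgroup.commutator_mono (h1.trans inf_le_right) le_rfl).trans hB2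
        _ = ⊥ := commutator_self_Zc B
    have hqz : ∀ g ∈ B, ⁅⁅Zc A, zpowers g⁆, zpowers g⁆ = ⊥ := by
      intro g hg
      have hgp : zpowers g ≤ B := Cfsg.H5.KI.zpowers_le_of_mem hg
      apply le_bot_iff.mp
      calc ⁅⁅Zc A, zpowers g⁆, zpowers g⁆ ≤ ⁅⁅Zc A, B⁆, B⁆ :=
            Subgroup.commutator_mono (Subgroup.commutator_mono le_rfl hgp) hgp
        _ ≤ ⁅Zc B, B⁆ := by
            rw [Subgroup.commutator_comm (Zc A) B]
            exact Subgroup.commutator_mono hq0 le_rfl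
        _ = ⊥ := commutator_self_Zc B
    -- step 0 : `Z(B) ≤ T`
    have hAZB : A ≤ normalizer ((Zc B : Subgroup G) : Set G) := le_normalizer_Zc_of_le hAB
    have hZBab : ⁅Zc B, Zc B⁆ = ⊥ :=
      le_bot_iff.mp ((Subgroup.commutator_mono le_rfl inf_le_left).trans
        (commutator_self_Zc B).le)
    have hZB : Zc B ≤ pCore p G := by
      intro z hz
      have hzp : zpowers z ≤ Zc B := Cfsg.H5.KI.zpowers_le_of_mem hz
      have hzq : ⁅⁅A, zpowers z⁆, zpowers z⁆ = ⊥ := by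
        apply le_bot_iff.mp
        calc ⁅⁅A, zpowers z⁆, zpowers z⁆ ≤ ⁅⁅A, Zc B⁆, Zc B⁆ :=
              Subgroup.commutator_mono (Subgroup.commutator_mono le_rfl hzp) hzp
          _ ≤ ⁅Zc B, Zc B⁆ :=
              Subgroup.commutator_mono (commutator_le_of_le_normalizer hAZB) le_rfl
          _ = ⊥ := hZBab
      apply hmem z (hBS hz.1)
      · rw [hzq, Subgroup.commutator_bot_left]
      · apply le_bot_iff.mp
        rw [← hzq]
        exact Subgroup.commutator_mono (Subgroup.commutator_mono inf_le_left le_rfl) le_rfl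
      · intro U V _ hUA _
        have h2 : ⁅⁅U, zpowers z⁆, zpowers z⁆ ≤ ⁅⁅A, zpowers z⁆, zpowers z⁆ :=
          Subgroup.commutator_mono (Subgroup.commutator_mono hUA le_rfl) le_rfl
        rw [hzq] at h2
        exact h2.trans bot_le
    -- step 1 : `B` centralizes the chief factors inside `Z(A)`
    have hBK : ∀ g ∈ B, ∀ U V : Subgroup G, Cfsg.IsChiefFactor U V → U ≤ Zc A →
        ⁅U, zpowers g⁆ ≤ V := by
      intro g hg U V hUV hUZ
      by_cases hgT : g ∈ pCore p G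
      · exact (Subgroup.commutator_mono le_rfl (Cfsg.H5.KI.zpowers_le_of_mem hgT)).trans
          (commutator_pCore_le hUV)
      · apply hcon' g (hBS hg) hgT (hcub g hg) (hqz g hg) U V hUV (hUZ.trans inf_le_left)
        have h2 : ⁅⁅U, zpowers g⁆, zpowers g⁆ ≤ ⁅⁅Zc A, zpowers g⁆, zpowers g⁆ :=
          Subgroup.commutator_mono (Subgroup.commutator_mono hUZ le_rfl) le_rfl
        rw [hqz g hg] at h2
        exact h2.trans bot_le
    -- step 2 : Clifford
    intro g hg
    have hgp : zpowers g ≤ B := Cfsg.H5.KI.zpowers_le_of_mem hg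
    apply hmem g (hBS hg) (hcub g hg) (hqz g hg)
    intro U V hUV hUA _
    exact (Subgroup.commutator_mono (Subgroup.commutator_mono le_rfl hgp) hgp).trans
      (lo_quadratic_on_chief hAT hA2 hTA hB2 hAB htest' hZB hBK hUV hUA)
  · -- the test subgroups for `A`
    intro A' hA'S hA'2 hAA' e1 e2 g hg
    have hgp : zpowers g ≤ A' := Cfsg.H5.KI.zpowers_le_of_mem hg
    have h1 : ⁅A, A'⁆ ≤ A ⊓ A' :=
      le_inf (Subgroup.commutator_le_left A A') (commutator_le_of_le_normalizer hAA')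
    have hq2 : ⁅⁅Zc A, zpowers g⁆, zpowers g⁆ = ⊥ := by
      apply le_bot_iff.mp
      rw [← e2]
      exact Subgroup.commutator_mono (Subgroup.commutator_mono le_rfl hgp) hgp
    have h2 : ⁅A', A'⁆ ≤ centralizer (A : Set G) := by
      rw [Subgroup.le_centralizer_iff, ← Subgroup.commutator_eq_bot_iff_le_centralizer]
      exact e1
    have hq3 : ⁅⁅A, zpowers g⁆, zpowers g⁆ ≤ Zc A := by
      calc ⁅⁅A, zpowers g⁆, zpowers g⁆ ≤ ⁅⁅A, A'⁆, A'⁆ :=
            Subgroup.commutator_mono (Subgroup.commutator_mono le_rfl hgp) hgp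
        _ ≤ Zc A := by
            refine le_inf ?_ ?_
            · exact (Subgroup.commutator_mono (h1.trans inf_le_left) le_rfl).trans
                (Subgroup.commutator_le_left A A')
            · exact (Subgroup.commutator_mono (h1.trans inf_le_right) le_rfl).trans h2
    apply hmem g (hA'S hg)
    · apply le_bot_iff.mp
      calc ⁅⁅⁅A, zpowers g⁆, zpowers g⁆, zpowers g⁆ ≤ ⁅⁅⁅A, A'⁆, A'⁆, A'⁆ :=
            Subgroup.commutator_mono
              (Subgroup.commutator_mono (Subgroup.commutator_mono le_rfl hgp) hgp) hgp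
        _ ≤ ⁅⁅A', A'⁆, A'⁆ :=
            Subgroup.commutator_mono
              (Subgroup.commutator_mono (h1.trans inf_le_right) le_rfl) le_rfl
        _ = ⊥ := commutator_eq_bot_of_le_centralizer hA'2
    · exact hq2
    · intro U V _ hUA hor
      rcases hor with hUZ | hZV
      · have h3 : ⁅⁅U, zpowers g⁆, zpowers g⁆ ≤ ⁅⁅Zc A, zpowers g⁆, zpowers g⁆ :=
          Subgroup.commutator_mono (Subgroup.commutator_mono hUZ le_rfl) le_rfl
        rw [hq2] at h3
        exact h3.trans bot_le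
      · exact (Subgroup.commutator_mono (Subgroup.commutator_mono hUA le_rfl) le_rfl).trans
          (hq3.trans hZV)

end bad

end Cfsg.Agent.Lib.Helper18.KInfChief
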