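import Mathlib
import Cfsg.Agent.Lib.Helper18.FusionCR
import Cfsg.Agent.Lib.Helper1.ThompsonPQ

/-!
# The largest subgroup of a Sylow subgroup whose normalizer controls strong fusion

`Cand S T`: `T ⊴ S` and `N_G(T)` controls strong fusion in `S`. The candidates are closed under joins, so there is a
largest one `Q`; it lies in every centric radical subgroup of `S`. Criteria for `Q` to be centric and radical.
-/

set_option autoImplicit false
set_option linter.unusedSectionVars false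

namespace Cfsg.Agent.Lib.Helper18.LeastCR

open Cfsg.Agent.Lib.Helper13 Cfsg.Agent.Lib.Helper18.FusionCR

variable {G : Type*} [Group G]

/-- `N_G(T)` controls strong fusion in `S` -/
def CtlBy (S T : Subgroup G) : Prop :=
  ∀ (A : Subgroup G) (g : G), A ≤ S → (∀ a ∈ A, g * a * g⁻¹ ∈ S) →
    ∃ m ∈ Subgroup.normalizer (T : Set G), ∀ a ∈ A, m * a * m⁻¹ = g * a * g⁻¹

/-- the candidates: normal subgroups of `S` whose normalizer controls strong fusion in `S` -/
def Cand (S T : Subgroup G) : Prop :=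
  T ≤ S ∧ S ≤ Subgroup.normalizer (T : Set G) ∧ CtlBy S T

theorem normalizer_inf_le_sup (A B : Subgroup G) :
    Subgroup.normalizer (A : Set G) ⊓ Subgroup.normalizer (B : Set G) ≤
      Subgroup.normalizer ((A ⊔ B : Subgroup G) : Set G) := by
  intro x hx
  obtain ⟨hxA, hxB⟩ := Subgroup.mem_inf.mp hx
  rw [← map_conj_eq_self_iff_mem_normalizer, Subgroup.map_sup,
    (map_conj_eq_self_iff_mem_normalizer A x).mpr hxA, (map_conj_eq_self_iff_mem_normalizer B x).mpr hxB]

theorem normalizer_inf_le_inf (A B : Subgroup G) :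
    Subgroup.normalizer (A : Set G) ⊓ Subgroup.normalizer (B : Set G) ≤
      Subgroup.normalizer ((A ⊓ B : Subgroup G) : Set G) := by
  intro x hx
  obtain ⟨hxA, hxB⟩ := Subgroup.mem_inf.mp hx
  rw [Subgroup.mem_normalizer_iff]
  intro y
  rw [Subgroup.mem_inf, Subgroup.mem_inf, ← Subgroup.mem_normalizer_iff.mp hxA y,
    ← Subgroup.mem_normalizer_iff.mp hxB y]

theorem cand_bot (S : Subgroup G) : Cand S ⊥ := by
  refine ⟨bot_le, ?_, ?_⟩
  · rw [Subgroup.normalizer_eq_top]; exact le_top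
  · intro A g _ _
    refine ⟨g, ?_, fun _ _ => rfl⟩
    rw [Subgroup.normalizer_eq_top]; trivial

/-- powers of a product `c d` with `d` normalizing a subgroup containing `c` -/
theorem exists_mul_pow (C : Subgroup G) {c d : G} (hc : c ∈ C)
    (hd : d ∈ Subgroup.normalizer (C : Set G)) (n : ℕ) : ∃ c' ∈ C, (c * d) ^ n = c' * d ^ n := by
  induction n with
  | zero => exact ⟨1, C.one_mem, by simp⟩
  | succ n ih =>
    obtain ⟨c', hc', h⟩ := ih
    have hdn : d ^ n ∈ Subgroup.normalizer (C : Set G) := Subgroup.pow_mem _ hd n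
    have h1 : d ^ n * c * (d ^ n)⁻¹ ∈ C := (Subgroup.mem_normalizer_iff.mp hdn c).mp hc
    refine ⟨c' * (d ^ n * c * (d ^ n)⁻¹), C.mul_mem hc' h1, ?_⟩
    rw [pow_succ, h, pow_succ]
    group

section finite

variable [Finite G]

theorem cand_sup {S T₁ T₂ : Subgroup G} (h₁ : Cand S T₁) (h₂ : Cand S T₂) : Cand S (T₁ ⊔ T₂) := by
  obtain ⟨h₁S, h₁N, h₁C⟩ := h₁
  obtain ⟨h₂S, h₂N, h₂C⟩ := h₂
  refine ⟨sup_le h₁S h₂S, (le_inf h₁N h₂N).trans (normalizer_inf_le_sup T₁ T₂), ?_⟩
  intro A g hAS hAg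
  obtain ⟨m₁, hm₁N, hm₁⟩ := h₁C A g hAS hAg
  have hBS : A ⊔ T₁ ≤ S := sup_le hAS h₁S
  have hBm : ∀ b ∈ A ⊔ T₁, m₁ * b * m₁⁻¹ ∈ S := by
    rw [← map_conj_le_iff, Subgroup.map_sup]
    refine sup_le ?_ ?_
    · rw [map_conj_le_iff]
      intro a ha
      rw [hm₁ a ha]; exact hAg a ha
    · rw [(map_conj_eq_self_iff_mem_normalizer T₁ m₁).mpr hm₁N]; exact h₁S
  obtain ⟨m₂, hm₂N, hm₂⟩ := h₂C (A ⊔ T₁) m₁ hBS hBm
  have hm₂N₁ : m₂ ∈ Subgroup.normalizer (T₁ : Set G) := by
    apply mem_normalizer_of_conj_mem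
    intro t ht
    rw [hm₂ t (Subgroup.mem_sup_right ht)]
    exact (Subgroup.mem_normalizer_iff.mp hm₁N t).mp ht
  refine ⟨m₂, normalizer_inf_le_sup T₁ T₂ (Subgroup.mem_inf.mpr ⟨hm₂N₁, hm₂N⟩), ?_⟩
  intro a ha
  rw [hm₂ a (Subgroup.mem_sup_left ha), hm₁ a ha]

/-- the largest candidate -/
theorem exists_max_cand (S : Subgroup G) : ∃ Q, Cand S Q ∧ ∀ T, Cand S T → T ≤ Q := by
  obtain ⟨Q, hQ, hmax⟩ := Set.exists_max_image {T : Subgroup G | Cand S T} (fun T => Nat.card T)
    (Set.toFinite _) ⟨⊥, cand_bot S⟩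
  refine ⟨Q, hQ, ?_⟩
  intro T hT
  have h1 : Cand S (Q ⊔ T) := cand_sup hQ hT
  have h2 : Nat.card ↥(Q ⊔ T) ≤ Nat.card ↥Q := hmax _ h1
  have h3 : Q = Q ⊔ T := Subgroup.eq_of_le_of_card_ge le_sup_left h2
  rw [h3]; exact le_sup_right

/-- conjugate elements of `S` are conjugate under `N(Q)` -/
theorem conj_eq_of_ctlBy {S Q : Subgroup G} (h : CtlBy S Q) {t g : G} (ht : t ∈ S)
    (hg : g * t * g⁻¹ ∈ S) : ∃ m ∈ Subgroup.normalizer (Q : Set G), m * t * m⁻¹ = g * t * g⁻¹ := by
  obtain ⟨m, hm, hmA⟩ := h (Subgroup.zpowers t) g (Subgroup.zpowers_le.mpr ht) (by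
    intro a ha
    obtain ⟨k, rfl⟩ := Subgroup.mem_zpowers_iff.mp ha
    have e : g * t ^ k * g⁻¹ = (g * t * g⁻¹) ^ k := (conj_zpow (a := g) (b := t) (i := k)).symm
    rw [e]; exact Subgroup.zpow_mem _ hg k)
  exact ⟨m, hm, hmA t (Subgroup.mem_zpowers t)⟩

/-- normalizers of overgroups of a candidate lie in its normalizer -/
theorem normalizer_le_of_cand {S Q U : Subgroup G} (hQ : Cand S Q) (hQU : Q ≤ U) (hUS : U ≤ S) :
    Subgroup.normalizer (U : Set G) ≤ Subgroup.normalizer (Q : Set G) := by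
  intro g hg
  obtain ⟨m, hm, hmU⟩ := hQ.2.2 U g hUS (fun u hu => hUS ((Subgroup.mem_normalizer_iff.mp hg u).mp hu))
  apply mem_normalizer_of_conj_mem
  intro q hq
  rw [← hmU q (hQU hq)]
  exact (Subgroup.mem_normalizer_iff.mp hm q).mp hq

variable {p : ℕ} [Fact p.Prime]

/-- a normal subgroup `T` of a `p`-group lies in `U` as soon as `N_T(U)` does -/
theorem le_of_inf_normalizer_le {S T U : Subgroup G} (hS : IsPGroup p S) (hTS : T ≤ S) (hUS : U ≤ S)
    (hUT : U ≤ Subgroup.normalizer (T : Set G)) (h : T ⊓ Subgroup.normalizer (U : Set G) ≤ U) : T ≤ U := by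
  by_contra hcon
  have hV : IsPGroup p ↥(T ⊔ U) := hS.to_le (sup_le hTS hUS)
  have hlt : U < T ⊔ U := by
    refine lt_of_le_of_ne le_sup_right ?_
    intro heq
    apply hcon
    rw [heq]; exact le_sup_left
  have hlt2 := lt_inf_normalizer_of_lt (T ⊔ U) U hV hlt
  obtain ⟨x, hx, hxU⟩ := SetLike.exists_of_lt hlt2
  obtain ⟨hxV, hxN⟩ := Subgroup.mem_inf.mp hx
  have hxV' : x ∈ ((T ⊔ U : Subgroup G) : Set G) := hxV
  rw [Subgroup.coe_mul_of_right_le_normalizer_left T U hUT] at hxV'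
  obtain ⟨t, ht, u, hu, rfl⟩ := hxV'
  apply hxU
  have htN : t ∈ Subgroup.normalizer (U : Set G) := by
    have : t = (t * u) * u⁻¹ := by group
    rw [this]
    exact Subgroup.mul_mem _ hxN (Subgroup.inv_mem _ (Subgroup.le_normalizer hu))
  exact U.mul_mem (h (Subgroup.mem_inf.mpr ⟨ht, htN⟩)) hu

/-- a candidate lies in every centric radical subgroup -/
theorem le_of_isCR (S : Sylow p G) {Q U : Subgroup G} (hQ : Cand (S : Subgroup G) Q) (hUS : U ≤ (S : Subgroup G))
    (hU : IsCR p (S : Subgroup G) U) : Q ≤ U := by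
  obtain ⟨hQS, hSQ, hctl⟩ := hQ
  apply le_of_inf_normalizer_le S.isPGroup' hQS hUS (hUS.trans hSQ)
  obtain ⟨C, hC⟩ : ∃ C : Subgroup G, C = Subgroup.centralizer (U : Set G) := ⟨_, rfl⟩
  obtain ⟨D, hD⟩ : ∃ D : Subgroup G, D = Q ⊓ Subgroup.normalizer (U : Set G) := ⟨_, rfl⟩
  rw [← hD]
  have hDQ : D ≤ Q := by rw [hD]; exact inf_le_left
  have hDN : D ≤ Subgroup.normalizer (U : Set G) := by rw [hD]; exact inf_le_right
  have hNC : Subgroup.normalizer (U : Set G) ≤ Subgroup.normalizer ((C : Subgroup G) : Set G) := by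
    rw [hC]; exact normalizer_le_normalizer_centralizer U
  have hDC : D ≤ Subgroup.normalizer ((C : Subgroup G) : Set G) := hDN.trans hNC
  have hCN : C ≤ Subgroup.normalizer (U : Set G) := by rw [hC]; exact Subgroup.centralizer_le_normalizer _
  have hK : IsPOver p U (C ⊔ D) := by
    refine ⟨?_, sup_le hCN hDN, ?_, ?_⟩
    · rw [← hC]; exact le_sup_left
    · intro x hx
      apply mem_normalizer_of_conj_mem
      rw [← map_conj_le_iff, Subgroup.map_sup]
      refine sup_le ?_ ?_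
      · rw [(map_conj_eq_self_iff_mem_normalizer C x).mpr (hNC hx)]; exact le_sup_left
      · rw [map_conj_le_iff]
        intro d hd
        obtain ⟨m, hmQ, hmU⟩ := hctl U x hUS
          (fun u hu => hUS ((Subgroup.mem_normalizer_iff.mp hx u).mp hu))
        -- `c = m⁻¹ x` centralizes `U`
        have hcC : m⁻¹ * x ∈ C := by
          rw [hC, Subgroup.mem_centralizer_iff]
          intro u hu
          have h1 := hmU u hu
          have h2 : x * u = m * u * m⁻¹ * x := by rw [h1]; group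
          calc u * (m⁻¹ * x) = m⁻¹ * (m * u * m⁻¹ * x) := by group
            _ = m⁻¹ * (x * u) := by rw [h2]
            _ = m⁻¹ * x * u := by group
        have hmU' : m ∈ Subgroup.normalizer (U : Set G) := by
          have : m = x * (m⁻¹ * x)⁻¹ := by group
          rw [this]
          exact Subgroup.mul_mem _ hx (Subgroup.inv_mem _ (hCN hcC))
        have hdN : d ∈ Subgroup.normalizer ((C : Subgroup G) : Set G) := hDC hd
        have h3 : d * (m⁻¹ * x)⁻¹ * d⁻¹ ∈ C :=
          (Subgroup.mem_normalizer_iff.mp hdN _).mp (C.inv_mem hcC)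
        have h4 : m * ((m⁻¹ * x) * (d * (m⁻¹ * x)⁻¹ * d⁻¹)) * m⁻¹ ∈ C :=
          (Subgroup.mem_normalizer_iff.mp (hNC hmU') _).mp (C.mul_mem hcC h3)
        have h5 : m * d * m⁻¹ ∈ D := by
          rw [hD]
          refine Subgroup.mem_inf.mpr ⟨(Subgroup.mem_normalizer_iff.mp hmQ d).mp (hDQ hd), ?_⟩
          exact Subgroup.mul_mem _ (Subgroup.mul_mem _ hmU' (hDN hd)) (Subgroup.inv_mem _ hmU')
        have e : x * d * x⁻¹ = (m * ((m⁻¹ * x) * (d * (m⁻¹ * x)⁻¹ * d⁻¹)) * m⁻¹) * (m * d * m⁻¹) := by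
          group
        rw [e]
        exact Subgroup.mul_mem _ (Subgroup.mem_sup_left h4) (Subgroup.mem_sup_right h5)
    · intro k hk
      have hk' : k ∈ ((C ⊔ D : Subgroup G) : Set G) := hk
      rw [Subgroup.coe_mul_of_right_le_normalizer_left C D hDC] at hk'
      obtain ⟨c, hc, d, hd, rfl⟩ := hk'
      obtain ⟨j, hj⟩ := (S.isPGroup'.to_le (hDQ.trans hQS)) ⟨d, hd⟩
      have hdj : d ^ p ^ j = 1 := by
        have := congrArg Subtype.val hj
        simpa using this
      obtain ⟨c', hc', hpow⟩ := exists_mul_pow C hc (hDC hd) (p ^ j)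
      refine ⟨j, ?_⟩
      rw [hpow, hdj, mul_one, ← hC]
      exact hc'
  have h1 := hU _ hK
  exact fun d hd => h1 (Subgroup.mem_inf.mpr ⟨hQS (hDQ hd), Subgroup.mem_sup_right hd⟩)

/-- a strongly closed subgroup contained in every fully normalized centric radical subgroup is a candidate -/
theorem cand_of_le_cr (S : Sylow p G) {T : Subgroup G} (hTS : T ≤ (S : Subgroup G))
    (hsc : ∀ t ∈ T, ∀ g : G, g * t * g⁻¹ ∈ (S : Subgroup G) → g * t * g⁻¹ ∈ T)
    (hle : ∀ U : Subgroup G, U ≤ (S : Subgroup G) → IsFN p (S : Subgroup G) U → IsCR p (S : Subgroup G) U → T ≤ U) :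
    Cand (S : Subgroup G) T := by
  refine ⟨hTS, ?_, ?_⟩
  · intro x hx
    apply mem_normalizer_of_conj_mem
    intro t ht
    exact hsc t ht x ((S : Subgroup G).mul_mem ((S : Subgroup G).mul_mem hx (hTS ht)) ((S : Subgroup G).inv_mem hx))
  · intro A g hAS hAg
    apply agp S (Subgroup.normalizer (T : Set G)) _ A g hAS hAg
    intro U hUS hFN hCR x hx
    refine ⟨x, ?_, fun _ _ => rfl⟩
    apply mem_normalizer_of_conj_mem
    intro t ht
    have htU : t ∈ U := hle U hUS hFN hCR ht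
    exact hsc t ht x (hUS ((Subgroup.mem_normalizer_iff.mp hx t).mp htU))

/-- an element of order prime to `p` lies in every normal subgroup of `p`-power index -/
theorem mem_of_pprime {H K : Subgroup G} (hKN : K ≤ Subgroup.normalizer (H : Set G)) {k : ℕ}
    (hidx : H.relIndex K = p ^ k) {y : G} (hy : y ∈ K) {m : ℕ} (hym : y ^ m = 1) (hm : m.Coprime p) :
    y ∈ H := by
  haveI hn : (H.subgroupOf K).Normal := Subgroup.normal_subgroupOf_of_le_normalizer hKN
  have h1 : (⟨y, hy⟩ : ↥K) ^ (H.subgroupOf K).index ∈ H.subgroupOf K := Subgroup.pow_index_mem _ _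
  have h2 : y ^ p ^ k ∈ H := by
    rw [Subgroup.mem_subgroupOf] at h1
    have e : (H.subgroupOf K).index = p ^ k := hidx
    rw [e] at h1
    simpa using h1
  have hcop : Nat.Coprime (p ^ k) m := (Nat.Coprime.pow_right k hm).symm
  have hb := Nat.gcd_eq_gcd_ab (p ^ k) m
  rw [hcop.gcd_eq_one] at hb
  have h3 : y = (y ^ p ^ k) ^ (Nat.gcdA (p ^ k) m) := by
    have e1 : y = y ^ ((1 : ℕ) : ℤ) := by simp
    rw [hb, zpow_add, zpow_mul, zpow_mul, zpow_natCast, zpow_natCast, hym, one_zpow, mul_one] at e1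
    exact e1
  rw [h3]
  exact H.zpow_mem h2 _

/-- Sylow subgroups meet normal subgroups of overgroups in Sylow subgroups -/
theorem not_dvd_relIndex_inf (S : Sylow p G) {N X : Subgroup G} (hSN : (S : Subgroup G) ≤ N) (hXN : X ≤ N)
    (hNX : N ≤ Subgroup.normalizer (X : Set G)) : ¬ p ∣ ((S : Subgroup G) ⊓ X).relIndex X := by
  haveI hXn : (X.subgroupOf N).Normal := Subgroup.normal_subgroupOf_of_le_normalizer hNX
  have h1 := Cfsg.Agent.Lib.Helper17.relIndex_dvd_index_of_normal_right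
    ((S : Subgroup G).subgroupOf N) (X.subgroupOf N)
  rw [Subgroup.relIndex_subgroupOf hXN] at h1
  have h2 : ((S : Subgroup G).subgroupOf N).index = (S : Subgroup G).relIndex N := rfl
  rw [h2] at h1
  rw [Subgroup.inf_relIndex_right]
  intro h
  exact S.not_dvd_index (dvd_trans (dvd_trans h h1) (Subgroup.relIndex_dvd_index_of_le hSN))

/-- **the largest candidate is radical** once it is centric -/
theorem radical_of_max (S : Sylow p G) {Q : Subgroup G} (hQ : Cand (S : Subgroup G) Q)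
    (hmax : ∀ T, Cand (S : Subgroup G) T → T ≤ Q)
    (hcen : (S : Subgroup G) ⊓ Subgroup.centralizer (Q : Set G) ≤ Q) (X : Subgroup G)
    (hXN : X ≤ Subgroup.normalizer (Q : Set G))
    (hNX : Subgroup.normalizer (Q : Set G) ≤ Subgroup.normalizer (X : Set G))
    (hQX : Q ⊔ Subgroup.centralizer (Q : Set G) ≤ X)
    (hidx : ∃ k : ℕ, (Q ⊔ Subgroup.centralizer (Q : Set G)).relIndex X = p ^ k) :
    X = Q ⊔ Subgroup.centralizer (Q : Set G) := by
  have hp : p.Prime := Fact.out
  obtain ⟨hQS, hSQ, hctl⟩ := hQ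
  have hQ' : Cand (S : Subgroup G) Q := ⟨hQS, hSQ, hctl⟩
  obtain ⟨k, hk⟩ := hidx
  have hSp : IsPGroup p (S : Subgroup G) := S.isPGroup'
  obtain ⟨QC, hQC⟩ : ∃ QC : Subgroup G, QC = Q ⊔ Subgroup.centralizer (Q : Set G) := ⟨_, rfl⟩
  rw [← hQC] at hQX hk ⊢
  have hQCN : Subgroup.normalizer (Q : Set G) ≤ Subgroup.normalizer ((QC : Subgroup G) : Set G) := by
    rw [hQC]
    exact (le_inf le_rfl (normalizer_le_normalizer_centralizer Q)).trans (normalizer_inf_le_sup _ _)
  -- the candidate `T = S ∩ X`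
  have hT : Cand (S : Subgroup G) ((S : Subgroup G) ⊓ X) := by
    apply cand_of_le_cr S inf_le_left
    · intro t ht g hg
      obtain ⟨htS, htX⟩ := Subgroup.mem_inf.mp ht
      obtain ⟨m, hm, hmt⟩ := conj_eq_of_ctlBy hctl htS hg
      refine Subgroup.mem_inf.mpr ⟨hg, ?_⟩
      rw [← hmt]
      exact (Subgroup.mem_normalizer_iff.mp (hNX hm) t).mp htX
    · intro U hUS hFN hCR
      have hQU : Q ≤ U := le_of_isCR S hQ' hUS hCR
      have hNUQ := normalizer_le_of_cand hQ' hQU hUS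
      have hUp : IsPGroup p U := hSp.to_le hUS
      apply le_of_inf_normalizer_le hSp inf_le_left hUS
      · exact hUS.trans ((le_inf Subgroup.le_normalizer (hSQ.trans hNX)).trans (normalizer_inf_le_inf _ _))
      have hCUX : Subgroup.centralizer (U : Set G) ≤ X :=
        (Subgroup.centralizer_le hQU).trans (le_sup_right.trans (hQC ▸ hQX))
      have hK : IsPOver p U (X ⊓ Subgroup.normalizer (U : Set G)) := by
        refine ⟨le_inf hCUX (Subgroup.centralizer_le_normalizer _), inf_le_right, ?_, ?_⟩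
        · exact (le_inf (hNUQ.trans hNX) Subgroup.le_normalizer).trans (normalizer_inf_le_inf _ _)
        · intro x hx
          obtain ⟨hxX, hxU⟩ := Subgroup.mem_inf.mp hx
          have hn0 : orderOf x ≠ 0 := (orderOf_pos x).ne'
          obtain ⟨a, m, hpm, hnm⟩ := Nat.exists_eq_pow_mul_and_not_dvd hn0 p hp.ne_one
          refine ⟨a, ?_⟩
          obtain ⟨y, hy⟩ : ∃ y : G, y = x ^ p ^ a := ⟨_, rfl⟩
          rw [← hy]
          have hym : y ^ m = 1 := by
            rw [hy, ← pow_mul, ← hnm]; exact pow_orderOf_eq_one x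
          have hmp : m.Coprime p := ((Nat.Prime.coprime_iff_not_dvd hp).mpr hpm).symm
          have hyX : y ∈ X := by rw [hy]; exact X.pow_mem hxX _
          have hyU : y ∈ Subgroup.normalizer (U : Set G) := by rw [hy]; exact Subgroup.pow_mem _ hxU _
          -- `y ∈ Q C(Q)`
          have hyQC : y ∈ QC := mem_of_pprime (hXN.trans hQCN) hk hyX hym hmp
          -- `y ∈ C(Q)`
          have hyC : y ∈ Subgroup.centralizer (Q : Set G) := by
            have hyQC' : y ∈ ((Q ⊔ Subgroup.centralizer (Q : Set G) : Subgroup G) : Set G) := by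
              rw [← hQC]; exact hyQC
            rw [Subgroup.coe_mul_of_right_le_normalizer_left Q _ (Subgroup.centralizer_le_normalizer _)] at hyQC'
            obtain ⟨q, hq, c, hc, hqc⟩ := hyQC'
            obtain ⟨b, hb⟩ := (hSp.to_le hQS) ⟨q, hq⟩
            have hqb : q ^ p ^ b = 1 := by
              have := congrArg Subtype.val hb
              simpa using this
            have hcomm : Commute q c := (Subgroup.mem_centralizer_iff.mp hc q hq)
            have h1 : y ^ p ^ b = c ^ p ^ b := by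
              rw [← hqc]
              show (q * c) ^ p ^ b = c ^ p ^ b
              rw [hcomm.mul_pow, hqb, one_mul]
            have h2 : y ^ p ^ b ∈ Subgroup.centralizer (Q : Set G) := by
              rw [h1]; exact Subgroup.pow_mem _ hc _
            have hcop : Nat.Coprime (p ^ b) m := (Nat.Coprime.pow_right b hmp).symm
            have hbz := Nat.gcd_eq_gcd_ab (p ^ b) m
            rw [hcop.gcd_eq_one] at hbz
            have h3 : y = (y ^ p ^ b) ^ (Nat.gcdA (p ^ b) m) := by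
              have e1 : y = y ^ ((1 : ℕ) : ℤ) := by simp
              rw [hbz, zpow_add, zpow_mul, zpow_mul, zpow_natCast, zpow_natCast, hym, one_zpow, mul_one] at e1
              exact e1
            rw [h3]
            exact Subgroup.zpow_mem _ h2 _
          -- Thompson's lemma
          have hcard : (Nat.card (Subgroup.zpowers y)).Coprime p := by
            rw [Nat.card_zpowers]
            exact hmp.coprime_dvd_left (orderOf_dvd_of_pow_eq_one hym)
          have hQy : Q ≤ Subgroup.centralizer ((Subgroup.zpowers y : Subgroup G) : Set G) := by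
            rw [Subgroup.le_centralizer_iff, Subgroup.zpowers_le]
            exact hyC
          have hres := Cfsg.Agent.Lib.Helper1.thompson_PxQ p Q (Subgroup.zpowers y) (hSp.to_le hQS) hcard hQy
            _ U rfl hUp (hQU.trans Subgroup.le_normalizer) (Subgroup.zpowers_le.mpr hyU) (by
              intro u hu
              obtain ⟨huU, huC⟩ := Subgroup.mem_inf.mp hu
              exact hQy (hcen (Subgroup.mem_inf.mpr ⟨hUS huU, huC⟩)))
          exact hres (Subgroup.mem_zpowers y)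
      have h1 := hCR _ hK
      intro t ht
      obtain ⟨⟨htS, htX⟩, htN⟩ := Subgroup.mem_inf.mp ht |>.imp Subgroup.mem_inf.mp id
      exact h1 (Subgroup.mem_inf.mpr ⟨htS, Subgroup.mem_inf.mpr ⟨htX, htN⟩⟩)
  have hTQ : (S : Subgroup G) ⊓ X ≤ Q := hmax _ hT
  -- conclusion
  have hsyl := not_dvd_relIndex_inf S hSQ hXN hNX
  have hQQC : Q ≤ QC := by rw [hQC]; exact le_sup_left
  have hdvd : QC.relIndex X ∣ ((S : Subgroup G) ⊓ X).relIndex X :=
    Subgroup.relIndex_dvd_of_le_left X (hTQ.trans hQQC)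
  have hk0 : k = 0 := by
    by_contra hne
    apply hsyl
    refine dvd_trans ?_ hdvd
    rw [hk]; exact dvd_pow_self p hne
  rw [hk0, pow_zero] at hk
  exact le_antisymm (Subgroup.relIndex_eq_one.mp hk) hQX

/-- **a witness against centricity gives a larger candidate** -/
theorem cand_of_witness (S : Sylow p G) {Q T : Subgroup G} (hQ : Cand (S : Subgroup G) Q)
    (hQT : Q ≤ T) (hTS : T ≤ (S : Subgroup G))
    (hab : ∀ s ∈ T, ∀ t ∈ T, s * t * s⁻¹ * t⁻¹ ∈ Q)
    (hdec : ∀ t ∈ T, ∃ q ∈ Q, ∃ c ∈ Subgroup.centralizer (Q : Set G), t = q * c)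
    (hsc : ∀ t ∈ T, ∀ g ∈ Subgroup.normalizer (Q : Set G), g * t * g⁻¹ ∈ (S : Subgroup G) → g * t * g⁻¹ ∈ T) :
    Cand (S : Subgroup G) T := by
  obtain ⟨hQS, hSQ, hctl⟩ := hQ
  have hQ' : Cand (S : Subgroup G) Q := ⟨hQS, hSQ, hctl⟩
  have hSp : IsPGroup p (S : Subgroup G) := S.isPGroup'
  have hsc' : ∀ t ∈ T, ∀ g : G, g * t * g⁻¹ ∈ (S : Subgroup G) → g * t * g⁻¹ ∈ T := by
    intro t ht g hg
    obtain ⟨m, hm, hmt⟩ := conj_eq_of_ctlBy hctl (hTS ht) hg
    rw [← hmt]
    apply hsc t ht m hm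
    rw [hmt]; exact hg
  have hST : (S : Subgroup G) ≤ Subgroup.normalizer (T : Set G) := by
    intro x hx
    apply mem_normalizer_of_conj_mem
    intro t ht
    exact hsc' t ht x ((S : Subgroup G).mul_mem ((S : Subgroup G).mul_mem hx (hTS ht)) ((S : Subgroup G).inv_mem hx))
  apply cand_of_le_cr S hTS hsc'
  intro U hUS hFN hCR
  have hQU : Q ≤ U := le_of_isCR S hQ' hUS hCR
  have hNUQ := normalizer_le_of_cand hQ' hQU hUS
  have hUp : IsPGroup p U := hSp.to_le hUS
  apply le_of_inf_normalizer_le hSp hTS hUS (hUS.trans hST)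
  -- the chain `U ≥ U ∩ T ≥ Q ≥ 1`
  obtain ⟨D, hD⟩ : ∃ D : ℕ → Subgroup G, D = fun j =>
      if j = 0 then U else if j = 1 then U ⊓ T else if j = 2 then Q else ⊥ := ⟨_, rfl⟩
  have hD0 : D 0 = U := by rw [hD]; simp
  have hD1 : D 1 = U ⊓ T := by rw [hD]; simp
  have hD2 : D 2 = Q := by rw [hD]; simp
  have hD3 : ∀ j, 3 ≤ j → D j = ⊥ := by
    intro j hj
    rw [hD]
    have h0 : j ≠ 0 := by omega
    have h1 : j ≠ 1 := by omega
    have h2 : j ≠ 2 := by omega
    simp [h0, h1, h2]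
  have hcases : ∀ j : ℕ, j = 0 ∨ j = 1 ∨ j = 2 ∨ 3 ≤ j := by intro j; omega
  have hDU : ∀ j, D j ≤ U := by
    intro j
    rcases hcases j with rfl | rfl | rfl | h
    · rw [hD0]
    · rw [hD1]; exact inf_le_left
    · rw [hD2]; exact hQU
    · rw [hD3 j h]; exact bot_le
  have hinv : ∀ x ∈ Subgroup.normalizer (U : Set G), ∀ j, ∀ u ∈ D j, x * u * x⁻¹ ∈ D j := by
    intro x hx j
    rcases hcases j with rfl | rfl | rfl | h
    · rw [hD0]; intro u hu; exact (Subgroup.mem_normalizer_iff.mp hx u).mp hu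
    · rw [hD1]
      intro u hu
      obtain ⟨huU, huT⟩ := Subgroup.mem_inf.mp hu
      have h1 : x * u * x⁻¹ ∈ U := (Subgroup.mem_normalizer_iff.mp hx u).mp huU
      exact Subgroup.mem_inf.mpr ⟨h1, hsc' u huT x (hUS h1)⟩
    · rw [hD2]; intro u hu; exact (Subgroup.mem_normalizer_iff.mp (hNUQ hx) u).mp hu
    · rw [hD3 j h]
      intro u hu
      rw [Subgroup.mem_bot] at hu ⊢
      rw [hu]; group
  have hK := isPOver_chainStab hUp D hD0 hDU (hD3 3 le_rfl) hinv
  have h1 := hCR _ hK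
  intro d hd
  obtain ⟨hdT, hdN⟩ := Subgroup.mem_inf.mp hd
  obtain ⟨q, hq, c, hc, hdqc⟩ := hdec d hdT
  have hcT : c ∈ T := by
    have : c = q⁻¹ * d := by rw [hdqc]; group
    rw [this]; exact T.mul_mem (T.inv_mem (hQT hq)) hdT
  have hcN : c ∈ Subgroup.normalizer (U : Set G) := by
    have : c = q⁻¹ * d := by rw [hdqc]; group
    rw [this]
    exact Subgroup.mul_mem _ (Subgroup.inv_mem _ (Subgroup.le_normalizer (hQU hq))) hdN
  have hcS : c ∈ (S : Subgroup G) := hTS hcT
  -- `c` stabilizes the chain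
  have hconj : ∀ (z : G), z ∈ T → z ∈ Subgroup.normalizer (U : Set G) →
      z ∈ Subgroup.centralizer (Q : Set G) → ∀ j, ∀ u ∈ D j,
      z * u * z⁻¹ ∈ D j ∧ z * u * z⁻¹ * u⁻¹ ∈ D (j + 1) := by
    intro z hzT hzN hzC j
    rcases hcases j with rfl | rfl | rfl | h
    · rw [hD0]
      intro u hu
      have h2 : z * u * z⁻¹ ∈ U := (Subgroup.mem_normalizer_iff.mp hzN u).mp hu
      refine ⟨h2, ?_⟩
      show z * u * z⁻¹ * u⁻¹ ∈ D 1
      rw [hD1]
      refine Subgroup.mem_inf.mpr ⟨U.mul_mem h2 (U.inv_mem hu), ?_⟩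
      have h3 : u * z⁻¹ * u⁻¹ ∈ T := by
        have := (Subgroup.mem_normalizer_iff.mp (hST (hUS hu)) z⁻¹).mp (T.inv_mem hzT)
        exact this
      have e : z * u * z⁻¹ * u⁻¹ = z * (u * z⁻¹ * u⁻¹) := by group
      rw [e]; exact T.mul_mem hzT h3
    · rw [hD1]
      intro u hu
      obtain ⟨huU, huT⟩ := Subgroup.mem_inf.mp hu
      have h2 : z * u * z⁻¹ ∈ U := (Subgroup.mem_normalizer_iff.mp hzN u).mp huU
      refine ⟨Subgroup.mem_inf.mpr ⟨h2, T.mul_mem (T.mul_mem hzT huT) (T.inv_mem hzT)⟩, ?_⟩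
      show z * u * z⁻¹ * u⁻¹ ∈ D 2
      rw [hD2]
      exact hab z hzT u huT
    · rw [hD2]
      intro u hu
      have h2 : u * z = z * u := Subgroup.mem_centralizer_iff.mp hzC u hu
      have e1 : z * u * z⁻¹ = u := by rw [← h2]; group
      rw [e1]
      refine ⟨hu, ?_⟩
      rw [mul_inv_cancel]; exact Subgroup.one_mem _
    · rw [hD3 j h]
      intro u hu
      rw [Subgroup.mem_bot] at hu
      rw [hu]
      refine ⟨?_, ?_⟩
      · rw [Subgroup.mem_bot]; group
      · have : z * 1 * z⁻¹ * (1 : G)⁻¹ = 1 := by group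
        rw [this]; exact Subgroup.one_mem _
  have hcK : c ∈ chainStab U D := by
    rw [mem_chainStab]
    refine ⟨hcN, ?_⟩
    intro j u hu
    have h2 := hconj c hcT hcN hc j u hu
    have h3 := hconj c⁻¹ (T.inv_mem hcT) (Subgroup.inv_mem _ hcN) (Subgroup.inv_mem _ hc) j u hu
    rw [inv_inv] at h3
    exact ⟨⟨h2.1, h3.1⟩, ⟨h2.2, h3.2⟩⟩
  have hcU : c ∈ U := h1 (Subgroup.mem_inf.mpr ⟨hcS, hcK⟩)
  rw [hdqc]
  exact U.mul_mem (hQU hq) hcU

end finite

end Cfsg.Agent.Lib.Helper18.LeastCR
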