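import Mathlib
import Cfsg.Agent.Lib.Helper18.LeastCR
import Cfsg.Agent.Lib.Helper18.AutFreeZJ
import Cfsg.Agent.S1961

/-!
# The least centric radical subgroup when no `p`-automizer involves `SL(2, p)`

`exists_least`: for `p` odd and `G` with all `N_G(T)/C_G(T)` (`T` a `p`-subgroup) free of sections `SL(2, p)`,
the largest `Q ⊴ S` whose normalizer controls strong fusion in the Sylow subgroup `S` is centric and radical
and lies in every centric radical subgroup of `S`.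
-/

set_option autoImplicit false
set_option linter.unusedSectionVars false
set_option linter.style.haveILetI false

namespace Cfsg.Agent.Lib.Helper18.LeastCR

open Cfsg Cfsg.Agent.Lib.Helper13 Cfsg.Agent.Lib.Helper18.FusionCR Cfsg.Agent.Lib.Helper18.AutFree
open Cfsg.Agent.Lib.Helper18.FunctorMain

universe u

variable {G : Type u} [Group G] [Finite G] {p : ℕ} [Fact p.Prime]

/-- if `C_S(Q) ≰ Q` there is a strongly closed `T > Q` with `T / Q` abelian inside `Q C_S(Q)` -/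
theorem exists_witness (hp : p ≠ 2) (S : Sylow p G) (hfree : AutFreeSL p G) {Q : Subgroup G}
    (hQS : Q ≤ (S : Subgroup G)) (hSQ : (S : Subgroup G) ≤ Subgroup.normalizer (Q : Set G))
    (hnc : ¬ (S : Subgroup G) ⊓ Subgroup.centralizer (Q : Set G) ≤ Q) :
    ∃ T : Subgroup G, Q ≤ T ∧ T ≤ (S : Subgroup G) ∧ T ≠ Q ∧
      (∀ s ∈ T, ∀ t ∈ T, s * t * s⁻¹ * t⁻¹ ∈ Q) ∧
      (∀ t ∈ T, ∃ q ∈ Q, ∃ c ∈ Subgroup.centralizer (Q : Set G), t = q * c) ∧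
      (∀ t ∈ T, ∀ g ∈ Subgroup.normalizer (Q : Set G), g * t * g⁻¹ ∈ (S : Subgroup G) → g * t * g⁻¹ ∈ T) := by
  obtain ⟨N, hN⟩ : ∃ N : Subgroup G, N = Subgroup.normalizer (Q : Set G) := ⟨_, rfl⟩
  rw [← hN] at hSQ ⊢
  have hQN : Q ≤ N := by rw [hN]; exact Subgroup.le_normalizer
  haveI hQn : (Q.subgroupOf N).Normal := by rw [hN]; exact Subgroup.normal_in_normalizer
  have hCNle : Subgroup.centralizer (Q : Set G) ≤ N := by rw [hN]; exact Subgroup.centralizer_le_normalizer _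
  haveI hCn : ((Subgroup.centralizer (Q : Set G)).subgroupOf N).Normal := by
    apply Subgroup.normal_subgroupOf_of_le_normalizer
    rw [hN]; exact normalizer_le_normalizer_centralizer Q
  obtain ⟨π, hπ⟩ : ∃ π : ↥N →* ↥N ⧸ Q.subgroupOf N, π = QuotientGroup.mk' (Q.subgroupOf N) := ⟨_, rfl⟩
  have hπs : Function.Surjective π := by rw [hπ]; exact QuotientGroup.mk'_surjective _
  have hπ1 : ∀ x : ↥N, π x = 1 ↔ (x : G) ∈ Q := by
    intro x
    rw [hπ, QuotientGroup.mk'_apply, QuotientGroup.eq_one_iff, Subgroup.mem_subgroupOf]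
  have hπeq : ∀ x y : ↥N, π x = π y ↔ (x : G)⁻¹ * (y : G) ∈ Q := by
    intro x y
    rw [hπ, QuotientGroup.mk'_apply, QuotientGroup.mk'_apply, QuotientGroup.eq, Subgroup.mem_subgroupOf]
    rfl
  -- the Sylow subgroup of the quotient
  obtain ⟨Sb, hSb⟩ : ∃ Sb : Sylow p (↥N ⧸ Q.subgroupOf N),
      (Sb : Subgroup (↥N ⧸ Q.subgroupOf N)) = ((S : Subgroup G).subgroupOf N).map π :=
    ⟨(S.subtype hSQ).mapSurjective hπs, rfl⟩
  obtain ⟨Cb, hCb⟩ : ∃ Cb : Subgroup (↥N ⧸ Q.subgroupOf N),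
      Cb = ((Subgroup.centralizer (Q : Set G)).subgroupOf N).map π := ⟨_, rfl⟩
  haveI hCbn : Cb.Normal := by rw [hCb]; exact Subgroup.Normal.map hCn π hπs
  obtain ⟨S1, hS1⟩ : ∃ S1 : Subgroup (↥N ⧸ Q.subgroupOf N),
      S1 = (Sb : Subgroup (↥N ⧸ Q.subgroupOf N)) ⊓ Cb := ⟨_, rfl⟩
  have hS1p : IsPGroup p S1 := by rw [hS1]; exact Sb.isPGroup'.to_le inf_le_left
  have hS1C : S1 ≤ Cb := by rw [hS1]; exact inf_le_right
  have hS1i : ¬ p ∣ S1.relIndex Cb := by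
    rw [hS1]
    apply not_dvd_relIndex_inf Sb (N := ⊤) le_top le_top
    rw [Subgroup.normalizer_eq_top]
  -- control of fusion in `Cb`
  have hfreeC : AutFreeSL p ↥Cb :=
    autFreeOf_subgroup (autFreeOf_of_surjective π hπs (autFreeOf_subgroup hfree N)) Cb
  have hWc := isConjugacyFunctor_inducedFunctor (isCharPFunctor_WZJ.{u} p) (↥N ⧸ Q.subgroupOf N)
  have hctl := Cfsg.Agent.S1961.control_any_sylow _ hWc Cb
    (ctlIn_of_ctl (isCharPFunctor_WZJ.{u} p) Cb (ctl_of_autFree hp hfreeC)) S1 hS1C hS1p hS1i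
  obtain ⟨Wb, hWb⟩ : ∃ Wb : Subgroup (↥N ⧸ Q.subgroupOf N),
      Wb = inducedFunctor (G := ↥N ⧸ Q.subgroupOf N) WZJ S1 := ⟨_, rfl⟩
  rw [← hWb] at hctl
  obtain ⟨hWle, hWne, hWconj⟩ := hWc S1 hS1p
  rw [← hWb] at hWle hWne
  have hWab : ∀ x ∈ Wb, ∀ y ∈ Wb, x * y = y * x := by
    rw [hWb, inducedFunctor_WZJ]
    exact (Cfsg.H5.ZJ.good_Zc 0 _).1
  -- the subgroup `T`
  obtain ⟨T, hT⟩ : ∃ T : Subgroup G, T = (Wb.comap π).map N.subtype := ⟨_, rfl⟩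
  have hmemT : ∀ t : G, t ∈ T ↔ ∃ ht : t ∈ N, π ⟨t, ht⟩ ∈ Wb := by
    intro t
    rw [hT]
    constructor
    · rintro ⟨x, hx, rfl⟩
      exact ⟨x.2, hx⟩
    · rintro ⟨ht, h⟩
      exact ⟨⟨t, ht⟩, h, rfl⟩
  have hmemSb : ∀ x : ↥N, π x ∈ (Sb : Subgroup (↥N ⧸ Q.subgroupOf N)) ↔ (x : G) ∈ (S : Subgroup G) := by
    intro x
    rw [hSb]
    constructor
    · rintro ⟨s, hs, hsx⟩
      have h1 := (hπeq s x).mp hsx
      have hs' : (s : G) ∈ (S : Subgroup G) := Subgroup.mem_subgroupOf.mp hs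
      have : (x : G) = (s : G) * ((s : G)⁻¹ * (x : G)) := by group
      rw [this]
      exact (S : Subgroup G).mul_mem hs' (hQS h1)
    · intro hx
      exact ⟨x, Subgroup.mem_subgroupOf.mpr hx, rfl⟩
  have hmemCb : ∀ x : ↥N, (x : G) ∈ Subgroup.centralizer (Q : Set G) → π x ∈ Cb := by
    intro x hx
    rw [hCb]
    exact ⟨x, Subgroup.mem_subgroupOf.mpr hx, rfl⟩
  refine ⟨T, ?_, ?_, ?_, ?_, ?_, ?_⟩
  · intro q hq
    rw [hmemT]
    refine ⟨hQN hq, ?_⟩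
    rw [(hπ1 ⟨q, hQN hq⟩).mpr hq]
    exact Wb.one_mem
  · intro t ht
    obtain ⟨htN, h⟩ := (hmemT t).mp ht
    have h1 : π ⟨t, htN⟩ ∈ (Sb : Subgroup (↥N ⧸ Q.subgroupOf N)) := by
      have := hWle h
      rw [hS1] at this
      exact (Subgroup.mem_inf.mp this).1
    exact (hmemSb ⟨t, htN⟩).mp h1
  · intro hTQ
    apply hnc
    intro c hc
    obtain ⟨hcS, hcC⟩ := Subgroup.mem_inf.mp hc
    by_contra hcQ
    have hcN : c ∈ N := hSQ hcS
    have hS1ne : S1 ≠ ⊥ := by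
      intro hbot
      have h1 : π ⟨c, hcN⟩ ∈ S1 := by
        rw [hS1]
        exact Subgroup.mem_inf.mpr ⟨(hmemSb ⟨c, hcN⟩).mpr hcS, hmemCb ⟨c, hcN⟩ hcC⟩
      rw [hbot, Subgroup.mem_bot, hπ1] at h1
      exact hcQ h1
    have hWne' := hWne hS1ne
    obtain ⟨w, hw, hw1⟩ : ∃ w ∈ Wb, w ≠ 1 := by
      by_contra hcon
      push Not at hcon
      apply hWne'
      rw [eq_bot_iff]
      intro x hx
      rw [Subgroup.mem_bot]
      exact hcon x hx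
    obtain ⟨x, rfl⟩ := hπs w
    have hxT : (x : G) ∈ T := (hmemT _).mpr ⟨x.2, hw⟩
    rw [hTQ] at hxT
    exact hw1 ((hπ1 x).mpr hxT)
  · intro s hs t ht
    obtain ⟨hsN, hs'⟩ := (hmemT s).mp hs
    obtain ⟨htN, ht'⟩ := (hmemT t).mp ht
    have h1 := hWab _ hs' _ ht'
    have h2 : π (⟨s, hsN⟩ * ⟨t, htN⟩ * ⟨s, hsN⟩⁻¹ * ⟨t, htN⟩⁻¹) = 1 := by
      rw [map_mul, map_mul, map_mul, map_inv, map_inv, h1]
      group
    exact (hπ1 _).mp h2
  · intro t ht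
    obtain ⟨htN, ht'⟩ := (hmemT t).mp ht
    have h1 : π ⟨t, htN⟩ ∈ Cb := hS1C (hWle ht')
    rw [hCb] at h1
    obtain ⟨c, hc, hct⟩ := h1
    have hc' : (c : G) ∈ Subgroup.centralizer (Q : Set G) := Subgroup.mem_subgroupOf.mp hc
    have h2 := (hπeq c ⟨t, htN⟩).mp hct
    -- `t = c (c⁻¹ t)` and `c` commutes with `c⁻¹ t ∈ Q`
    have h3 := Subgroup.mem_centralizer_iff.mp hc' _ h2
    refine ⟨(c : G)⁻¹ * t, h2, (c : G), hc', ?_⟩
    rw [h3]; group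
  · intro t ht g hg hgS
    obtain ⟨htN, ht'⟩ := (hmemT t).mp ht
    rw [hmemT]
    have hgtN : g * t * g⁻¹ ∈ N := N.mul_mem (N.mul_mem hg htN) (N.inv_mem hg)
    refine ⟨hgtN, ?_⟩
    obtain ⟨gb, hgb⟩ : ∃ gb, gb = π ⟨g, hg⟩ := ⟨_, rfl⟩
    obtain ⟨tb, htb⟩ : ∃ tb, tb = π ⟨t, htN⟩ := ⟨_, rfl⟩
    have hconj : π ⟨g * t * g⁻¹, hgtN⟩ = gb * tb * gb⁻¹ := by
      have e : (⟨g * t * g⁻¹, hgtN⟩ : ↥N) = ⟨g, hg⟩ * ⟨t, htN⟩ * ⟨g, hg⟩⁻¹ := rfl
      rw [e, map_mul, map_mul, map_inv, hgb, htb]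
    rw [hconj]
    rw [← htb] at ht'
    have htbS1 : tb ∈ S1 := hWle ht'
    -- Frattini argument in `Cb`
    have hle : S1.map (MulAut.conj gb).toMonoidHom ≤ Cb := by
      rw [map_conj_le_iff]
      intro s hs
      exact hCbn.conj_mem s (hS1C hs) gb
    obtain ⟨cb, hcb, hcbS⟩ := exists_conj_le_of_relIndex Cb S1 (S1.map (MulAut.conj gb).toMonoidHom)
      hS1p hS1i hle (hS1p.map _)
    obtain ⟨nb, hnb⟩ : ∃ nb, nb = cb * gb := ⟨_, rfl⟩
    have hnbS : ∀ s ∈ S1, nb * s * nb⁻¹ ∈ S1 := by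
      intro s hs
      have h1 := hcbS _ (conj_mem_map_conj S1 gb hs)
      have e : nb * s * nb⁻¹ = cb * (gb * s * gb⁻¹) * cb⁻¹ := by rw [hnb]; group
      rw [e]; exact h1
    have hnbN : nb ∈ Subgroup.normalizer (S1 : Set (↥N ⧸ Q.subgroupOf N)) :=
      mem_normalizer_of_conj_mem S1 hnbS
    have hWnb : Wb.map (MulAut.conj nb).toMonoidHom = Wb := by
      rw [hWb, ← hWconj nb, (map_conj_eq_self_iff_mem_normalizer S1 nb).mpr hnbN]
    obtain ⟨ub, hub⟩ : ∃ ub, ub = nb * tb * nb⁻¹ := ⟨_, rfl⟩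
    have hubW : ub ∈ Wb := by
      rw [hub, ← hWnb]; exact conj_mem_map_conj Wb nb ht'
    have hgoal : gb * tb * gb⁻¹ = cb⁻¹ * ub * cb⁻¹⁻¹ := by rw [hub, hnb]; group
    have hgtS1 : gb * tb * gb⁻¹ ∈ S1 := by
      rw [hS1]
      refine Subgroup.mem_inf.mpr ⟨?_, hCbn.conj_mem tb (hS1C htbS1) gb⟩
      rw [← hconj]
      exact (hmemSb _).mpr hgS
    obtain ⟨x, hx, hxu⟩ := hctl {ub} cb⁻¹ (Cb.inv_mem hcb)
      (by intro a ha; rw [Set.mem_singleton_iff] at ha; rw [ha]; exact hWle hubW)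
      (by
        rintro _ ⟨a, ha, rfl⟩
        rw [Set.mem_singleton_iff] at ha
        rw [ha]
        show cb⁻¹ * ub * cb⁻¹⁻¹ ∈ S1
        rw [← hgoal]; exact hgtS1)
    rw [hgoal, ← hxu ub (Set.mem_singleton _)]
    exact (Subgroup.mem_normalizer_iff.mp (Subgroup.mem_inf.mp hx).2 ub).mp hubW

/-- **the least centric radical subgroup** -/
theorem exists_least (hp : p ≠ 2) (S : Sylow p G) (hfree : AutFreeSL p G) :
    ∃ Q : Subgroup G, Cand (S : Subgroup G) Q ∧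
      (∀ U : Subgroup G, U ≤ (S : Subgroup G) → IsCR p (S : Subgroup G) U → Q ≤ U) ∧
      (S : Subgroup G) ⊓ Subgroup.centralizer (Q : Set G) ≤ Q ∧
      ∀ X : Subgroup G, X ≤ Subgroup.normalizer (Q : Set G) →
        Subgroup.normalizer (Q : Set G) ≤ Subgroup.normalizer (X : Set G) →
        Q ⊔ Subgroup.centralizer (Q : Set G) ≤ X →
        (∃ k : ℕ, (Q ⊔ Subgroup.centralizer (Q : Set G)).relIndex X = p ^ k) →
        X = Q ⊔ Subgroup.centralizer (Q : Set G) := by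
  obtain ⟨Q, hQ, hmax⟩ := exists_max_cand (S : Subgroup G)
  have hcen : (S : Subgroup G) ⊓ Subgroup.centralizer (Q : Set G) ≤ Q := by
    by_contra hnc
    obtain ⟨T, hQT, hTS, hTQ, hab, hdec, hsc⟩ := exists_witness hp S hfree hQ.1 hQ.2.1 hnc
    have hT := cand_of_witness S hQ hQT hTS hab hdec hsc
    exact hTQ (le_antisymm (hmax T hT) hQT)
  exact ⟨Q, hQ, fun U hUS hU => le_of_isCR S hQ hUS hU, hcen,
    fun X hXN hNX hQX hidx => radical_of_max S hQ hmax hcen X hXN hNX hQX hidx⟩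

end Cfsg.Agent.Lib.Helper18.LeastCR
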