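import Mathlib

/-!
# Burnside counting for a finite abelian group all of whose non-identity elements have the same
number of fixed points (piece F2 of S2140, helper18)
-/

set_option autoImplicit false
set_option linter.style.haveILetI false

namespace Cfsg.Agent.Lib.Helper11.MinDeg

open MulAction

namespace BurnsideAux

variable {A Ω : Type*} [CommGroup A] [Fintype A] [Fintype Ω] [MulAction A Ω]

/-- stabilisers are constant along orbits of an abelian group -/
theorem stabilizer_smul_comm (g : A) (x : Ω) : stabilizer A (g • x) = stabilizer A x := by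
  ext t
  rw [mem_stabilizer_iff, mem_stabilizer_iff, smul_smul, mul_comm, ← smul_smul]
  exact (MulAction.injective g).eq_iff

theorem stabilizer_eq_of_mem_orbit {x y : Ω} (h : y ∈ orbit A x) :
    stabilizer A y = stabilizer A x := by
  obtain ⟨g, rfl⟩ := h
  exact stabilizer_smul_comm g x

/-- double counting of the pairs `(t, x)` with `t ∈ U` and `t • x = x` -/
theorem sum_card_inf_stabilizer (f : ℕ)
    (hfix : ∀ t : A, t ≠ 1 → Nat.card (fixedBy Ω t) = f) (U : Subgroup A) :
    ∑ x : Ω, Nat.card ↥(U ⊓ stabilizer A x) = Fintype.card Ω + (Nat.card U - 1) * f := by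
  classical
  have h1 : ∀ x : Ω, Nat.card ↥(U ⊓ stabilizer A x)
      = ∑ t : A, if t ∈ U ∧ t • x = x then 1 else 0 := by
    intro x
    rw [Nat.card_eq_fintype_card,
      Fintype.card_of_subtype (Finset.univ.filter fun t : A => t ∈ U ∧ t • x = x)]
    · rw [Finset.card_filter]
    · intro t
      simp [Subgroup.mem_inf, mem_stabilizer_iff]
  have h2 : ∀ t : A, (∑ x : Ω, if t ∈ U ∧ t • x = x then 1 else 0)
      = if t ∈ U then (if t = 1 then Fintype.card Ω else f) else 0 := by
    intro t
    by_cases htU : t ∈ U
    · rw [if_pos htU]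
      by_cases ht1 : t = 1
      · subst ht1
        simp [U.one_mem]
      · rw [if_neg ht1, ← hfix t ht1, Nat.card_eq_fintype_card,
          Fintype.card_of_subtype (Finset.univ.filter fun x : Ω => t • x = x)]
        · rw [Finset.card_filter]
          simp [htU]
        · intro x
          simp [mem_fixedBy]
    · simp [htU]
  simp_rw [h1]
  rw [Finset.sum_comm]
  simp_rw [h2]
  rw [← Finset.sum_filter]
  have hU1 : (1 : A) ∈ Finset.univ.filter (fun t : A => t ∈ U) := by simp [U.one_mem]
  rw [← Finset.add_sum_erase _ _ hU1, if_pos rfl]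
  congr 1
  have hcardU : (Finset.univ.filter (fun t : A => t ∈ U)).card = Nat.card U := by
    rw [Nat.card_eq_fintype_card,
      Fintype.card_of_subtype (Finset.univ.filter fun t : A => t ∈ U)]
    intro t
    simp
  rw [Finset.sum_congr rfl (g := fun _ => f)]
  · rw [Finset.sum_const, smul_eq_mul, Finset.card_erase_of_mem hU1, hcardU]
  · intro t ht
    rw [if_neg (Finset.ne_of_mem_erase ht)]

/-- `|U| * |B| ≤ |A| * |U ⊓ B|` -/
theorem card_mul_card_le (U B : Subgroup A) :
    Nat.card U * Nat.card B ≤ Nat.card A * Nat.card ↥(U ⊓ B) := by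
  have h1 : Nat.card ↥(U ⊓ B) * (U ⊓ B).relIndex U = Nat.card U := by
    rw [← Subgroup.relIndex_bot_left, ← Subgroup.relIndex_bot_left,
      Subgroup.relIndex_mul_relIndex _ _ _ bot_le inf_le_left]
  have h2 : (U ⊓ B).relIndex U = B.relIndex U := by
    rw [inf_comm, Subgroup.inf_relIndex_right]
  have h3 : B.relIndex U ∣ B.index := Subgroup.relIndex_dvd_index_of_normal B U
  have h4 : Nat.card B * B.index = Nat.card A := B.card_mul_index
  have h5 : B.index ≠ 0 := by
    intro h0
    rw [h0, mul_zero] at h4
    exact absurd h4.symm Nat.card_pos.ne'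
  have h6 : B.relIndex U ≤ B.index := Nat.le_of_dvd (Nat.pos_of_ne_zero h5) h3
  calc Nat.card U * Nat.card B = Nat.card ↥(U ⊓ B) * B.relIndex U * Nat.card B := by
        rw [← h2, h1]
    _ ≤ Nat.card ↥(U ⊓ B) * B.index * Nat.card B := by
        gcongr
    _ = Nat.card A * Nat.card ↥(U ⊓ B) := by
        rw [← h4]; ring

/-- the sum of the stabiliser orders over one orbit is the group order -/
theorem sum_card_stabilizer_orbit [DecidableEq Ω] (ω : Ω)
    [DecidablePred fun x => x ∈ orbit A ω] :
    ∑ x ∈ Finset.univ.filter (fun x => x ∈ orbit A ω), Nat.card (stabilizer A x)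
      = Fintype.card A := by
  classical
  rw [Finset.sum_congr rfl (g := fun _ => Nat.card (stabilizer A ω))]
  · rw [Finset.sum_const, smul_eq_mul]
    have h := MulAction.card_orbit_mul_card_stabilizer_eq_card_group A ω
    rw [← h, Nat.card_eq_fintype_card]
    congr 1
    rw [Fintype.card_of_subtype (Finset.univ.filter fun x => x ∈ orbit A ω)]
    intro x
    simp
  · intro x hx
    rw [Finset.mem_filter] at hx
    rw [stabilizer_eq_of_mem_orbit hx.2]

end BurnsideAux

open BurnsideAux

section Burnside

variable {A Ω : Type*} [CommGroup A] [Fintype A] [Fintype Ω] [MulAction A Ω]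

theorem burnside_card (f : ℕ)
    (hfix : ∀ t : A, t ≠ 1 → Nat.card (MulAction.fixedBy Ω t) = f)
    (hno : ∀ ω : Ω, MulAction.stabilizer A ω ≠ ⊤) (hne : Nonempty Ω)
    (hlt : Fintype.card Ω < 2 * Fintype.card A) :
    Fintype.card Ω = f + Fintype.card A ∧
      Nat.card (MulAction.orbitRel.Quotient A Ω) = f + 1 := by
  classical
  obtain ⟨ω⟩ := hne
  -- an element moving `ω`
  have hex : ∃ t : A, t • ω ≠ ω := by
    by_contra hcon
    push Not at hcon
    apply hno ω
    rw [eq_top_iff]
    intro t _
    exact hcon t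
  obtain ⟨t₀, ht₀⟩ := hex
  have ht₀1 : t₀ ≠ 1 := by
    rintro rfl
    exact ht₀ (one_smul _ _)
  -- f < |Ω|
  have hfN : f < Fintype.card Ω := by
    rw [← hfix t₀ ht₀1, Nat.card_coe_set_eq, ← Nat.card_eq_fintype_card, ← Set.ncard_univ]
    apply Set.ncard_lt_ncard _ (Set.toFinite _)
    rw [Set.ssubset_univ_iff]
    intro h
    have : ω ∈ fixedBy Ω t₀ := by rw [h]; trivial
    exact ht₀ this
  -- Burnside's lemma
  haveI : Fintype (Quotient (orbitRel A Ω)) := Fintype.ofFinite _
  have hB := MulAction.sum_card_fixedBy_eq_card_orbits_mul_card_group A Ω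
  have hsum : (∑ g : A, Fintype.card (fixedBy Ω g))
      = Fintype.card Ω + (Fintype.card A - 1) * f := by
    rw [← Finset.add_sum_erase _ _ (Finset.mem_univ (1 : A))]
    congr 1
    · rw [Fintype.card_of_subtype (Finset.univ : Finset Ω)]
      · rfl
      · intro x
        simp
    · rw [Finset.sum_congr rfl (g := fun _ => f)]
      · rw [Finset.sum_const, smul_eq_mul, Finset.card_erase_of_mem (Finset.mem_univ _),
          Finset.card_univ]
      · intro t ht
        rw [← hfix t (Finset.ne_of_mem_erase ht), Nat.card_eq_fintype_card]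
  rw [hsum] at hB
  set N := Fintype.card Ω with hN
  set a := Fintype.card A with ha
  set k := Fintype.card (Quotient (orbitRel A Ω)) with hk
  have ha1 : 1 ≤ a := Fintype.card_pos
  have hk' : Nat.card (MulAction.orbitRel.Quotient A Ω) = k := by
    rw [hk, ← Nat.card_eq_fintype_card]
  rw [hk']
  -- arithmetic
  have e1 : (a - 1) * f + f = a * f := by
    have : a - 1 + 1 = a := Nat.sub_add_cancel ha1
    calc (a - 1) * f + f = (a - 1 + 1) * f := by ring
      _ = a * f := by rw [this]
  rcases Nat.lt_or_ge k (f + 1) with hlow | hge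
  · -- k ≤ f : impossible
    exfalso
    have : k * a ≤ f * a := Nat.mul_le_mul_right a (Nat.lt_succ_iff.mp hlow)
    have e2 : f * a = a * f := mul_comm _ _
    omega
  · rcases Nat.lt_or_ge k (f + 2) with hk1 | hk2
    · have hkf : k = f + 1 := by omega
      refine ⟨?_, hkf⟩
      rw [hkf] at hB
      have e3 : (f + 1) * a = a * f + a := by ring
      omega
    · exfalso
      have : (f + 2) * a ≤ k * a := Nat.mul_le_mul_right a hk2
      have e3 : (f + 2) * a = a * f + 2 * a := by ring
      omega

/-- uniqueness: two points whose stabilisers lie in one proper subgroup `U` are in one orbit -/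
theorem burnside_unique
    (f : ℕ) (hfix : ∀ t : A, t ≠ 1 → Nat.card (MulAction.fixedBy Ω t) = f)
    (hcard : Fintype.card Ω = f + Fintype.card A)
    (horb : Nat.card (MulAction.orbitRel.Quotient A Ω) = f + 1)
    (U : Subgroup A) (hU : U ≠ ⊤) (ω ω' : Ω)
    (h : MulAction.stabilizer A ω ≤ U) (h' : MulAction.stabilizer A ω' ≤ U) :
    ω' ∈ MulAction.orbit A ω := by
  classical
  by_contra hnot
  set a := Fintype.card A with ha
  set u := Nat.card U with hu
  set N := Fintype.card Ω with hN
  have hua : u < a := by
    have hle : u ≤ a := by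
      rw [hu, ha, ← Nat.card_eq_fintype_card]
      exact Subgroup.card_le_card_group U
    rcases Nat.lt_or_ge u a with hl | hg
    · exact hl
    · exfalso
      apply hU
      apply Subgroup.eq_top_of_card_eq
      rw [Nat.card_eq_fintype_card (α := A)]
      omega
  have hu1 : 1 ≤ u := Nat.card_pos
  -- the two sums
  have hSU : ∑ x : Ω, Nat.card ↥(U ⊓ stabilizer A x) = N + (u - 1) * f :=
    sum_card_inf_stabilizer f hfix U
  have hSA : ∑ x : Ω, Nat.card (stabilizer A x) = N + (a - 1) * f := by
    have := sum_card_inf_stabilizer f hfix (⊤ : Subgroup A)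
    simp only [top_inf_eq] at this
    rw [this, Subgroup.card_top, Nat.card_eq_fintype_card]
  set O := Finset.univ.filter (fun x => x ∈ orbit A ω) with hO
  set O' := Finset.univ.filter (fun x => x ∈ orbit A ω') with hO'
  have hdisj : Disjoint O O' := by
    rw [Finset.disjoint_left]
    intro x hx hx'
    rw [hO, Finset.mem_filter] at hx
    rw [hO', Finset.mem_filter] at hx'
    apply hnot
    have e1 : orbit A x = orbit A ω := orbit_eq_iff.2 hx.2
    have e2 : orbit A x = orbit A ω' := orbit_eq_iff.2 hx'.2
    rw [← e1, e2]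
    exact mem_orbit_self ω'
  have hsO : ∑ x ∈ O, Nat.card (stabilizer A x) = a := sum_card_stabilizer_orbit ω
  have hsO' : ∑ x ∈ O', Nat.card (stabilizer A x) = a := sum_card_stabilizer_orbit ω'
  -- termwise inequality
  have hterm : ∀ x : Ω, u * Nat.card (stabilizer A x)
      + (a - u) * (if x ∈ O ∪ O' then Nat.card (stabilizer A x) else 0)
      ≤ a * Nat.card ↥(U ⊓ stabilizer A x) := by
    intro x
    by_cases hx : x ∈ O ∪ O'
    · rw [if_pos hx]
      have hle : stabilizer A x ≤ U := by
        rw [Finset.mem_union] at hx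
        rcases hx with hx | hx
        · rw [hO, Finset.mem_filter] at hx
          rw [stabilizer_eq_of_mem_orbit hx.2]
          exact h
        · rw [hO', Finset.mem_filter] at hx
          rw [stabilizer_eq_of_mem_orbit hx.2]
          exact h'
      rw [inf_eq_right.2 hle]
      have : u + (a - u) = a := by omega
      calc u * Nat.card (stabilizer A x) + (a - u) * Nat.card (stabilizer A x)
          = (u + (a - u)) * Nat.card (stabilizer A x) := by ring
        _ = a * Nat.card (stabilizer A x) := by rw [this]
        _ ≤ a * Nat.card (stabilizer A x) := le_refl _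
    · rw [if_neg hx, mul_zero, add_zero]
      have := card_mul_card_le U (stabilizer A x)
      rw [Nat.card_eq_fintype_card (α := A)] at this
      exact this
  have hsum := Finset.sum_le_sum (s := Finset.univ) (fun x _ => hterm x)
  rw [Finset.sum_add_distrib, ← Finset.mul_sum, ← Finset.mul_sum, ← Finset.mul_sum, hSA, hSU,
    ← Finset.sum_filter] at hsum
  have hfil : Finset.univ.filter (fun x => x ∈ O ∪ O') = O ∪ O' := by
    ext x
    simp
  rw [hfil, Finset.sum_union hdisj, hsO, hsO'] at hsum
  -- arithmetic contradiction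
  have hu' : ((u - 1 : ℕ) : ℤ) = (u : ℤ) - 1 := by
    rw [Nat.cast_sub hu1]; simp
  have ha' : ((a - 1 : ℕ) : ℤ) = (a : ℤ) - 1 := by
    rw [Nat.cast_sub (by omega)]; simp
  have hau' : ((a - u : ℕ) : ℤ) = (a : ℤ) - u := by
    rw [Nat.cast_sub hua.le]
  have hsumZ : ((u * (N + (a - 1) * f) + (a - u) * (a + a) : ℕ) : ℤ)
      ≤ ((a * (N + (u - 1) * f) : ℕ) : ℤ) := by exact_mod_cast hsum
  push_cast at hsumZ
  rw [hu', ha', hau'] at hsumZ
  have hcardZ : (N : ℤ) = f + a := by exact_mod_cast hcard
  have hpos : (0 : ℤ) < ((a : ℤ) - u) * a := by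
    apply mul_pos
    · have : (u : ℤ) < a := by exact_mod_cast hua
      linarith
    · have : (0 : ℤ) < a := by exact_mod_cast (by omega : 0 < a)
      exact this
  rw [hcardZ] at hsumZ
  nlinarith [hsumZ, hpos]

end Burnside

end Cfsg.Agent.Lib.Helper11.MinDeg
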