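import Mathlib
import Cfsg.Prelude.Def_GeometricClasses

/-!
# Monomial subgroup of `SL_n`: definitions and basic API (helper18, MonMax farm-out)

`IsMono g` : `g` is a monomial matrix.  `Over K` : `Mon ∩ SL_n ≤ K ≤ SL_n`.
`dg d hd` : diagonal element of `GL`, `pm σ` : permutation matrix with `pm σ e_j = e_{σ j}`.
-/

set_option autoImplicit false

namespace Cfsg.Agent.Lib.Helper18.Mon

open Matrix

section defs
variable {n : ℕ} {F : Type*} [Field F]

/-- monomial matrix: the nonzero entries sit on the graph of a permutation -/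
def IsMono (g : Matrix (Fin n) (Fin n) F) : Prop :=
  ∃ π : Equiv.Perm (Fin n), ∀ i j, g i j ≠ 0 → i = π j

/-- column `c` is a multiple of a coordinate vector -/
def ColSparse (g : Matrix (Fin n) (Fin n) F) (c : Fin n) : Prop :=
  ∃ j, ∀ l, l ≠ j → g l c = 0

/-- column `c` has at most one zero entry -/
def ColDense (g : Matrix (Fin n) (Fin n) F) (c : Fin n) : Prop :=
  ∃ j0, ∀ l, l ≠ j0 → g l c ≠ 0

/-- `Mon ∩ SL_n ≤ K ≤ SL_n` -/
structure Over (K : Subgroup (GL (Fin n) F)) : Prop where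
  le_SL : K ≤ Cfsg.Geo.specialLinear (Fin n) F
  mono_mem : ∀ g : GL (Fin n) F, IsMono (g : Matrix (Fin n) (Fin n) F) →
    g ∈ Cfsg.Geo.specialLinear (Fin n) F → g ∈ K

theorem mem_SL_iff (g : GL (Fin n) F) :
    g ∈ Cfsg.Geo.specialLinear (Fin n) F ↔ (g : Matrix (Fin n) (Fin n) F).det = 1 := by
  constructor
  · intro h
    have h1 : Matrix.GeneralLinearGroup.det g = 1 := h
    have h2 := congrArg Units.val h1
    rwa [Matrix.GeneralLinearGroup.val_det_apply, Units.val_one] at h2
  · intro h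
    change Matrix.GeneralLinearGroup.det g = 1
    apply Units.ext
    rw [Matrix.GeneralLinearGroup.val_det_apply, h]
    rfl

theorem perm_apply_inv (σ : Equiv.Perm (Fin n)) (i : Fin n) : σ (σ⁻¹ i) = i := by simp

theorem perm_inv_apply (σ : Equiv.Perm (Fin n)) (i : Fin n) : σ⁻¹ (σ i) = i := by simp

theorem isMono_one : IsMono (1 : Matrix (Fin n) (Fin n) F) := by
  refine ⟨1, fun i j h => ?_⟩
  by_contra hij
  exact h (Matrix.one_apply_ne hij)

theorem IsMono.mul {g h : Matrix (Fin n) (Fin n) F} (hg : IsMono g) (hh : IsMono h) :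
    IsMono (g * h) := by
  obtain ⟨π, hπ⟩ := hg
  obtain ⟨ρ, hρ⟩ := hh
  refine ⟨π * ρ, fun i j hij => ?_⟩
  rw [Matrix.mul_apply] at hij
  obtain ⟨l, -, hl⟩ := Finset.exists_ne_zero_of_sum_ne_zero hij
  have h1 : g i l ≠ 0 := left_ne_zero_of_mul hl
  have h2 : h l j ≠ 0 := right_ne_zero_of_mul hl
  rw [hπ i l h1, hρ l j h2]
  rfl

/-- a monomial invertible matrix has a nonzero entry in each column at the expected place -/
theorem IsMono.apply_ne_zero {g : GL (Fin n) F} {π : Equiv.Perm (Fin n)}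
    (hπ : ∀ i j, (g : Matrix (Fin n) (Fin n) F) i j ≠ 0 → i = π j) (j : Fin n) :
    (g : Matrix (Fin n) (Fin n) F) (π j) j ≠ 0 := by
  intro h0
  have hcol : ∀ i, (g : Matrix (Fin n) (Fin n) F) i j = 0 := by
    intro i
    by_contra hne
    have := hπ i j hne
    rw [this] at hne
    exact hne h0
  have h1 : ((g⁻¹ : GL (Fin n) F) : Matrix (Fin n) (Fin n) F) * (g : Matrix (Fin n) (Fin n) F) = 1 := by
    rw [← Units.val_mul, inv_mul_cancel, Units.val_one]
  have h2 := congrFun (congrFun h1 j) j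
  rw [Matrix.mul_apply, Matrix.one_apply_eq] at h2
  rw [Finset.sum_eq_zero (fun l _ => by rw [hcol l, mul_zero])] at h2
  exact zero_ne_one h2

theorem isMono_inv {g : GL (Fin n) F} (hg : IsMono (g : Matrix (Fin n) (Fin n) F)) :
    IsMono ((g⁻¹ : GL (Fin n) F) : Matrix (Fin n) (Fin n) F) := by
  obtain ⟨π, hπ⟩ := hg
  refine ⟨π⁻¹, fun i l hil => ?_⟩
  have h1 : ((g⁻¹ : GL (Fin n) F) : Matrix (Fin n) (Fin n) F) * (g : Matrix (Fin n) (Fin n) F) = 1 := by
    rw [← Units.val_mul, inv_mul_cancel, Units.val_one]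
  -- look at entry (i, π⁻¹ l)
  have h2 := congrFun (congrFun h1 i) (π⁻¹ l)
  rw [Matrix.mul_apply] at h2
  rw [Finset.sum_eq_single l] at h2
  · by_contra hne
    rw [Matrix.one_apply_ne hne] at h2
    rcases mul_eq_zero.mp h2 with h3 | h3
    · exact hil h3
    · have := IsMono.apply_ne_zero hπ (π⁻¹ l)
      rw [perm_apply_inv] at this
      exact this h3
  · intro b _ hb
    have : (g : Matrix (Fin n) (Fin n) F) b (π⁻¹ l) = 0 := by
      by_contra hne
      have := hπ b _ hne
      rw [perm_apply_inv] at this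
      exact hb this
    rw [this, mul_zero]
  · intro h; exact absurd (Finset.mem_univ l) h

theorem Over.mul_mono {K : Subgroup (GL (Fin n) F)} (hK : Over K) {g : GL (Fin n) F}
    (hg : IsMono (g : Matrix (Fin n) (Fin n) F))
    (hdet : (g : Matrix (Fin n) (Fin n) F).det = 1) : g ∈ K :=
  hK.mono_mem g hg ((mem_SL_iff g).mpr hdet)

theorem Over.det_eq_one {K : Subgroup (GL (Fin n) F)} (hK : Over K) {g : GL (Fin n) F}
    (hg : g ∈ K) : (g : Matrix (Fin n) (Fin n) F).det = 1 :=
  (mem_SL_iff g).mp (hK.le_SL hg)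

/-! ### diagonal elements -/

/-- the diagonal element `diag(d)` of `GL` -/
noncomputable def dg (d : Fin n → F) (hd : ∀ i, d i ≠ 0) : GL (Fin n) F :=
  ⟨Matrix.diagonal d, Matrix.diagonal fun i => (d i)⁻¹,
    by rw [Matrix.diagonal_mul_diagonal]
       have : (fun i => d i * (d i)⁻¹) = fun _ => (1 : F) := by
         funext i; exact mul_inv_cancel₀ (hd i)
       rw [this]; exact Matrix.diagonal_one,
    by rw [Matrix.diagonal_mul_diagonal]
       have : (fun i => (d i)⁻¹ * d i) = fun _ => (1 : F) := by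
         funext i; exact inv_mul_cancel₀ (hd i)
       rw [this]; exact Matrix.diagonal_one⟩

theorem dg_val (d : Fin n → F) (hd : ∀ i, d i ≠ 0) :
    ((dg d hd : GL (Fin n) F) : Matrix (Fin n) (Fin n) F) = Matrix.diagonal d := rfl

theorem dg_inv_val (d : Fin n → F) (hd : ∀ i, d i ≠ 0) :
    (((dg d hd)⁻¹ : GL (Fin n) F) : Matrix (Fin n) (Fin n) F) = Matrix.diagonal fun i => (d i)⁻¹ := rfl

theorem isMono_dg (d : Fin n → F) (hd : ∀ i, d i ≠ 0) :
    IsMono ((dg d hd : GL (Fin n) F) : Matrix (Fin n) (Fin n) F) := by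
  refine ⟨1, fun i j h => ?_⟩
  by_contra hij
  rw [dg_val] at h
  exact h (Matrix.diagonal_apply_ne d hij)

theorem det_dg (d : Fin n → F) (hd : ∀ i, d i ≠ 0) :
    ((dg d hd : GL (Fin n) F) : Matrix (Fin n) (Fin n) F).det = ∏ i, d i := by
  rw [dg_val, Matrix.det_diagonal]

theorem Over.dg_mem {K : Subgroup (GL (Fin n) F)} (hK : Over K) (d : Fin n → F)
    (hd : ∀ i, d i ≠ 0) (hprod : ∏ i, d i = 1) : dg d hd ∈ K :=
  hK.mul_mono (isMono_dg d hd) (by rw [det_dg, hprod])

theorem dg_mul_apply (d : Fin n → F) (hd : ∀ i, d i ≠ 0) (g : Matrix (Fin n) (Fin n) F)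
    (i j : Fin n) :
    (((dg d hd : GL (Fin n) F) : Matrix (Fin n) (Fin n) F) * g) i j = d i * g i j := by
  rw [dg_val, Matrix.diagonal_mul]

theorem mul_dg_apply (d : Fin n → F) (hd : ∀ i, d i ≠ 0) (g : Matrix (Fin n) (Fin n) F)
    (i j : Fin n) :
    (g * ((dg d hd : GL (Fin n) F) : Matrix (Fin n) (Fin n) F)) i j = g i j * d j := by
  rw [dg_val, Matrix.mul_diagonal]

/-- conjugation by a diagonal element, entrywise -/
theorem dg_conj_apply (d : Fin n → F) (hd : ∀ i, d i ≠ 0) (g : GL (Fin n) F) (i j : Fin n) :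
    ((dg d hd * g * (dg d hd)⁻¹ : GL (Fin n) F) : Matrix (Fin n) (Fin n) F) i j =
      d i * (g : Matrix (Fin n) (Fin n) F) i j * (d j)⁻¹ := by
  rw [Units.val_mul, Units.val_mul, dg_inv_val, Matrix.mul_diagonal, dg_val, Matrix.diagonal_mul]

theorem dg_mulVec (d : Fin n → F) (hd : ∀ i, d i ≠ 0) (x : Fin n → F) (i : Fin n) :
    (((dg d hd : GL (Fin n) F) : Matrix (Fin n) (Fin n) F) *ᵥ x) i = d i * x i := by
  rw [dg_val, Matrix.mulVec_diagonal]

/-! ### permutation matrices -/

/-- the permutation matrix with `pm σ e_j = e_{σ j}`: entry `(i,j)` is `1` iff `i = σ j` -/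
noncomputable def pmM (σ : Equiv.Perm (Fin n)) : Matrix (Fin n) (Fin n) F :=
  Matrix.of fun i j => if i = σ j then 1 else 0

theorem pmM_apply (σ : Equiv.Perm (Fin n)) (i j : Fin n) :
    (pmM σ : Matrix (Fin n) (Fin n) F) i j = if i = σ j then 1 else 0 := rfl

theorem pmM_mul_apply (σ : Equiv.Perm (Fin n)) (g : Matrix (Fin n) (Fin n) F) (i j : Fin n) :
    ((pmM σ : Matrix (Fin n) (Fin n) F) * g) i j = g (σ⁻¹ i) j := by
  rw [Matrix.mul_apply, Finset.sum_eq_single (σ⁻¹ i)]
  · rw [pmM_apply, perm_apply_inv, if_pos rfl, one_mul]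
  · intro b _ hb
    rw [pmM_apply, if_neg, zero_mul]
    intro h
    apply hb
    rw [h, perm_inv_apply]
  · intro h; exact absurd (Finset.mem_univ _) h

theorem mul_pmM_apply (σ : Equiv.Perm (Fin n)) (g : Matrix (Fin n) (Fin n) F) (i j : Fin n) :
    (g * (pmM σ : Matrix (Fin n) (Fin n) F)) i j = g i (σ j) := by
  rw [Matrix.mul_apply, Finset.sum_eq_single (σ j)]
  · rw [pmM_apply, if_pos rfl, mul_one]
  · intro b _ hb
    rw [pmM_apply, if_neg hb, mul_zero]
  · intro h; exact absurd (Finset.mem_univ _) h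

theorem pmM_one : (pmM (1 : Equiv.Perm (Fin n)) : Matrix (Fin n) (Fin n) F) = 1 := by
  ext i j
  rw [pmM_apply, Matrix.one_apply]
  rfl

theorem pmM_mul (σ τ : Equiv.Perm (Fin n)) :
    (pmM σ : Matrix (Fin n) (Fin n) F) * pmM τ = pmM (σ * τ) := by
  ext i j
  rw [mul_pmM_apply, pmM_apply, pmM_apply]
  rfl

/-- the permutation matrix as an element of `GL` -/
noncomputable def pm (σ : Equiv.Perm (Fin n)) : GL (Fin n) F :=
  ⟨pmM σ, pmM σ⁻¹, by rw [pmM_mul, mul_inv_cancel, pmM_one],
    by rw [pmM_mul, inv_mul_cancel, pmM_one]⟩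

theorem pm_val (σ : Equiv.Perm (Fin n)) :
    ((pm σ : GL (Fin n) F) : Matrix (Fin n) (Fin n) F) = pmM σ := rfl

theorem pm_inv_val (σ : Equiv.Perm (Fin n)) :
    (((pm σ)⁻¹ : GL (Fin n) F) : Matrix (Fin n) (Fin n) F) = pmM σ⁻¹ := rfl

theorem isMono_pm (σ : Equiv.Perm (Fin n)) :
    IsMono ((pm σ : GL (Fin n) F) : Matrix (Fin n) (Fin n) F) := by
  refine ⟨σ, fun i j h => ?_⟩
  by_contra hij
  rw [pm_val, pmM_apply, if_neg hij] at h
  exact h rfl

theorem pmM_eq_permMatrix (σ : Equiv.Perm (Fin n)) :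
    (pmM σ : Matrix (Fin n) (Fin n) F) = (σ⁻¹ : Equiv.Perm (Fin n)).permMatrix F := by
  ext i j
  rw [pmM_apply, Equiv.Perm.permMatrix, PEquiv.toMatrix_apply]
  simp only [Equiv.toPEquiv_apply, Option.mem_def, Option.some.injEq]
  by_cases h : i = σ j
  · rw [if_pos h, if_pos]
    rw [h, perm_inv_apply]
  · rw [if_neg h, if_neg]
    intro h2
    apply h
    rw [← h2, perm_apply_inv]

theorem det_pm (σ : Equiv.Perm (Fin n)) :
    ((pm σ : GL (Fin n) F) : Matrix (Fin n) (Fin n) F).det = ((Equiv.Perm.sign σ : ℤˣ) : ℤ) := by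
  rw [pm_val, pmM_eq_permMatrix, Matrix.det_permutation, Equiv.Perm.sign_inv]

theorem Over.pm_mem {K : Subgroup (GL (Fin n) F)} (hK : Over K) (σ : Equiv.Perm (Fin n))
    (hσ : Equiv.Perm.sign σ = 1) : (pm σ : GL (Fin n) F) ∈ K :=
  hK.mul_mono (isMono_pm σ) (by rw [det_pm, hσ]; simp)

theorem pm_mulVec (σ : Equiv.Perm (Fin n)) (x : Fin n → F) (i : Fin n) :
    (((pm σ : GL (Fin n) F) : Matrix (Fin n) (Fin n) F) *ᵥ x) i = x (σ⁻¹ i) := by
  rw [pm_val, Matrix.mulVec, dotProduct, Finset.sum_eq_single (σ⁻¹ i)]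
  · rw [pmM_apply, perm_apply_inv, if_pos rfl, one_mul]
  · intro b _ hb
    rw [pmM_apply, if_neg, zero_mul]
    intro h
    apply hb
    rw [h, perm_inv_apply]
  · intro h; exact absurd (Finset.mem_univ _) h

/-- conjugation by a permutation matrix, entrywise -/
theorem pm_conj_apply (σ : Equiv.Perm (Fin n)) (g : GL (Fin n) F) (i j : Fin n) :
    ((pm σ * g * (pm σ)⁻¹ : GL (Fin n) F) : Matrix (Fin n) (Fin n) F) i j =
      (g : Matrix (Fin n) (Fin n) F) (σ⁻¹ i) (σ⁻¹ j) := by
  rw [Units.val_mul, Units.val_mul, pm_inv_val, mul_pmM_apply, pm_val, pmM_mul_apply]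

/-! ### sparse columns -/

/-- an invertible matrix all of whose columns are multiples of coordinate vectors is monomial -/
theorem isMono_of_colSparse (g : GL (Fin n) F)
    (h : ∀ c, ColSparse (g : Matrix (Fin n) (Fin n) F) c) :
    IsMono (g : Matrix (Fin n) (Fin n) F) := by
  choose f hf using h
  -- f is injective: otherwise two columns are proportional to the same coordinate vector
  have hinj : Function.Injective f := by
    intro a b hab
    by_contra hne
    -- columns a and b both supported at row f a: the matrix has rank < n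
    have hdet : (g : Matrix (Fin n) (Fin n) F).det = 0 := by
      -- the row space argument: transpose has two rows (a and b) proportional
      by_cases h0 : (g : Matrix (Fin n) (Fin n) F) (f a) a = 0
      · apply Matrix.det_eq_zero_of_column_eq_zero a
        intro i
        by_cases hi : i = f a
        · rw [hi]; exact h0
        · exact hf a i hi
      · -- column b = c • column a
        have key : ∀ i, (g : Matrix (Fin n) (Fin n) F) i b =
            ((g : Matrix (Fin n) (Fin n) F) (f a) b / (g : Matrix (Fin n) (Fin n) F) (f a) a) *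
              (g : Matrix (Fin n) (Fin n) F) i a := by
          intro i
          by_cases hi : i = f a
          · rw [hi]; field_simp
          · rw [hf a i hi, mul_zero]
            exact hf b i (by rw [← hab]; exact hi)
        rw [← Matrix.det_transpose]
        have hrow : ((g : Matrix (Fin n) (Fin n) F)ᵀ) b =
            ((g : Matrix (Fin n) (Fin n) F) (f a) b / (g : Matrix (Fin n) (Fin n) F) (f a) a) •
              ((g : Matrix (Fin n) (Fin n) F)ᵀ) a := by
          funext i
          simp only [Matrix.transpose_apply, Pi.smul_apply, smul_eq_mul]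
          exact key i
        have h1 := Matrix.det_updateRow_add_smul_self ((g : Matrix (Fin n) (Fin n) F)ᵀ)
          (Ne.symm hne)
          (-((g : Matrix (Fin n) (Fin n) F) (f a) b / (g : Matrix (Fin n) (Fin n) F) (f a) a))
        rw [← h1]
        apply Matrix.det_eq_zero_of_row_eq_zero b
        intro j
        rw [Matrix.updateRow_self, hrow]
        simp
    have hunit : IsUnit (g : Matrix (Fin n) (Fin n) F).det := by
      have := (Matrix.isUnit_iff_isUnit_det _).mp g.isUnit
      exact this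
    rw [hdet] at hunit
    exact not_isUnit_zero hunit
  have hbij : Function.Bijective f := Finite.injective_iff_bijective.mp hinj
  refine ⟨Equiv.ofBijective f hbij, fun i j hij => ?_⟩
  by_contra hne
  exact hij (hf j i hne)

end defs

end Cfsg.Agent.Lib.Helper18.Mon
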