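import Mathlib
import Cfsg.Prelude.Def_GeometricClasses
import Cfsg.Agent.Lib.Helper18.MonDefs
import Cfsg.Agent.Lib.Helper13.DecompCoords

/-!
# MonMax glue: from the abstract monomial theorem to the case `m = 1` of S5634

`decomp_one_maximal`: if `D` is a decomposition of `F^n` into lines and the abstract monomial dichotomy
(`MonMax.main`) holds for `n`, then `Stab(D) ∩ SL_n` is maximal in `SL_n`.
-/

set_option autoImplicit false

namespace Cfsg.Agent.Lib.Helper18.MonMaxGlue

open Matrix Cfsg Cfsg.Geo Cfsg.Agent.Lib.Helper18.Mon Cfsg.Agent.Lib.Helper13.TNM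

variable {F : Type*} [Field F] {n : ℕ}

/-- the stabiliser of the coordinate frame is the monomial group -/
theorem mem_decStab_id_iff (M : GL (Fin n) F) :
    M ∈ decompositionStabilizer (blk (F := F) (id : Fin n → Fin n)) ↔
      IsMono (M : Matrix (Fin n) (Fin n) F) := by
  constructor
  · intro h
    obtain ⟨π, h1, -⟩ := exists_perm_inv_of_mem_decStab (id : Fin n → Fin n) M h
    refine ⟨π, fun i j hij => ?_⟩
    by_contra hne
    exact hij (h1 i j hne)
  · intro h
    obtain ⟨π, hπ⟩ := h
    have hinv := isMono_inv (g := M) ⟨π, hπ⟩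
    -- the inverse is monomial with permutation π⁻¹; we need it with exactly π.symm
    have h2 : ∀ a a', a ≠ π.symm a' →
        ((M⁻¹ : GL (Fin n) F) : Matrix (Fin n) (Fin n) F) a a' = 0 := by
      intro a a' ha
      by_contra hne
      have h1 : ((M⁻¹ : GL (Fin n) F) : Matrix (Fin n) (Fin n) F) *
          (M : Matrix (Fin n) (Fin n) F) = 1 := by
        rw [← Units.val_mul, inv_mul_cancel, Units.val_one]
      have h3 := congrFun (congrFun h1 a) (π.symm a')
      rw [Matrix.mul_apply, Finset.sum_eq_single a'] at h3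
      · rw [Matrix.one_apply_ne ha] at h3
        rcases mul_eq_zero.mp h3 with h4 | h4
        · exact hne h4
        · have := IsMono.apply_ne_zero hπ (π.symm a')
          rw [Equiv.apply_symm_apply] at this
          exact this h4
      · intro b _ hb
        have : (M : Matrix (Fin n) (Fin n) F) b (π.symm a') = 0 := by
          by_contra hne'
          have := hπ b _ hne'
          rw [Equiv.apply_symm_apply] at this
          exact hb this
        rw [this, mul_zero]
      · intro h; exact absurd (Finset.mem_univ a') h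
    exact mem_decStab_of_blockMonomial (id : Fin n → Fin n) M π
      (fun a a' ha => by
        by_contra hne
        exact ha (hπ a a' hne)) h2

theorem det_psi (e : Fin n ≃ Fin n) (P : GL (Fin n) F) (M : GL (Fin n) F) :
    ((psi e P M : GL (Fin n) F) : Matrix (Fin n) (Fin n) F).det =
      (M : Matrix (Fin n) (Fin n) F).det := by
  rw [psi_val, Matrix.det_mul, Matrix.det_mul, Matrix.det_submatrix_equiv_self, mul_comm,
    ← mul_assoc, ← Matrix.det_mul, ← Units.val_mul, inv_mul_cancel, Units.val_one, Matrix.det_one,
    one_mul]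

theorem psi_mem_SL_iff (e : Fin n ≃ Fin n) (P : GL (Fin n) F) (M : GL (Fin n) F) :
    psi e P M ∈ specialLinear (Fin n) F ↔ M ∈ specialLinear (Fin n) F := by
  rw [mem_SL_iff, mem_SL_iff, det_psi]

/-- a non-monomial element of `SL_n` -/
theorem exists_not_mono (hn : 2 ≤ n) :
    ∃ g : GL (Fin n) F, g ∈ specialLinear (Fin n) F ∧
      ¬ IsMono (g : Matrix (Fin n) (Fin n) F) := by
  have h01 : (⟨0, by omega⟩ : Fin n) ≠ ⟨1, by omega⟩ := by
    intro h
    have := congrArg Fin.val h
    simp at this
  set i : Fin n := ⟨0, by omega⟩ with hi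
  set j : Fin n := ⟨1, by omega⟩ with hj
  have hdet : (Matrix.transvection i j (1 : F)).det = 1 := Matrix.det_transvection_of_ne i j h01 1
  refine ⟨Matrix.GeneralLinearGroup.mk'' (Matrix.transvection i j (1 : F))
    (by rw [hdet]; exact isUnit_one), ?_, ?_⟩
  · rw [mem_SL_iff]
    exact hdet
  · rintro ⟨π, hπ⟩
    have hv : ∀ a b, ((Matrix.GeneralLinearGroup.mk'' (Matrix.transvection i j (1 : F))
        (by rw [hdet]; exact isUnit_one) : GL (Fin n) F) : Matrix (Fin n) (Fin n) F) a b =
        (Matrix.transvection i j (1 : F)) a b := fun a b => rfl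
    have h1 : i = π j := by
      apply hπ
      rw [hv, Matrix.transvection, Matrix.add_apply, Matrix.one_apply_ne h01, zero_add,
        Matrix.single_apply_same]
      exact one_ne_zero
    have h2 : j = π j := by
      apply hπ
      rw [hv, Matrix.transvection, Matrix.add_apply, Matrix.one_apply_eq,
        Matrix.single_apply_of_row_ne h01, add_zero]
      exact one_ne_zero
    exact h01 (h1.trans h2.symm)

/-- the case `m = 1` of S5634, modulo the abstract monomial dichotomy -/
theorem decomp_one_maximal (hn : 2 ≤ n) {t : ℕ} (D : Fin t → Submodule F (Fin n → F))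
    (hD : IsMDecomposition 1 D)
    (hmain : ∀ K : Subgroup (GL (Fin n) F), Over K →
      (∀ k ∈ K, IsMono (k : Matrix (Fin n) (Fin n) F)) ∨ specialLinear (Fin n) F ≤ K) :
    IsMaximalIn (specialLinear (Fin n) F)
      (decompositionStabilizer D ⊓ specialLinear (Fin n) F) := by
  obtain ⟨e, P, hDe⟩ := exists_coords_of_decomposition D hD
  have hnt : n = t := by
    have := Fintype.card_congr e
    rw [Fintype.card_fin, Fintype.card_prod, Fintype.card_fin, Fintype.card_fin, mul_one] at this
    exact this
  subst hnt
  set e₁ : Fin n ≃ Fin n := e.trans (Equiv.prodUnique (Fin n) (Fin 1)) with he₁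
  have hD₁ : ∀ i x, TT e₁ P x ∈ D i ↔ x ∈ blk (F := F) (id : Fin n → Fin n) i := by
    intro i x
    have h1 : TT e₁ P x = TT e P (x ∘ (Equiv.prodUnique (Fin n) (Fin 1))) := rfl
    rw [h1, hDe, mem_blk, mem_blk]
    constructor
    · intro h a ha
      have := h (a, 0) ha
      simpa using this
    · intro h a ha
      have := h a.1 ha
      simpa using this
  -- key facts
  have hA : ∀ M : GL (Fin n) F, psi e₁ P M ∈ decompositionStabilizer D ↔
      IsMono (M : Matrix (Fin n) (Fin n) F) := by
    intro M
    rw [psi_mem_decStab_iff e₁ P D id hD₁ M, mem_decStab_id_iff]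
  have hB := psi_mem_SL_iff (F := F) e₁ P
  have hsurj := psi_surjective (F := F) e₁ P
  refine ⟨lt_of_le_of_ne inf_le_right ?_, ?_⟩
  · intro heq
    obtain ⟨g, hg1, hg2⟩ := exists_not_mono (F := F) hn
    have : psi e₁ P g ∈ decompositionStabilizer D ⊓ specialLinear (Fin n) F := by
      rw [heq]; exact (hB g).mpr hg1
    exact hg2 ((hA g).mp this.1)
  · intro M' hHM hMS
    have hK : Over (M'.comap (psi e₁ P)) := by
      constructor
      · intro k hk
        exact (hB k).mp (hMS hk)
      · intro g hg hgS
        exact hHM ⟨(hA g).mpr hg, (hB g).mpr hgS⟩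
    rcases hmain _ hK with h | h
    · left
      apply le_antisymm _ hHM
      intro x hx
      obtain ⟨k, rfl⟩ := hsurj x
      exact ⟨(hA k).mpr (h k hx), hMS hx⟩
    · right
      apply le_antisymm hMS
      intro x hx
      obtain ⟨k, rfl⟩ := hsurj x
      exact h ((hB k).mp hx)

end Cfsg.Agent.Lib.Helper18.MonMaxGlue
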