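import Mathlib
import Cfsg.Prelude.Def_GeometricClasses
import Cfsg.Agent.Lib.Helper18.MonDefs

/-!
# MonMax FO-U : symmetry reduction

If some `k ∈ K` is not monomial but has a column proportional to a coordinate vector, then (multiplying by
even permutation matrices on both sides) some non-monomial `k' ∈ K` has first column in `F e_0`.
-/

set_option autoImplicit false

namespace Cfsg.Agent.Lib.Helper18.MonMaxU

open Matrix Cfsg.Agent.Lib.Helper18.Mon

variable {F : Type*} [Field F]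

/-- an even permutation of `Fin n` (`4 ≤ n`) moving `a` to `b` -/
theorem exists_even_perm {n : ℕ} (hn : 4 ≤ n) (a b : Fin n) :
    ∃ σ : Equiv.Perm (Fin n), Equiv.Perm.sign σ = 1 ∧ σ a = b := by
  by_cases hab : a = b
  · exact ⟨1, Equiv.Perm.sign_one, by rw [hab]; rfl⟩
  · have hcard : 1 < (({a, b} : Finset (Fin n))ᶜ).card := by
      rw [Finset.card_compl, Fintype.card_fin]
      have : ({a, b} : Finset (Fin n)).card ≤ 2 := Finset.card_le_two
      omega
    obtain ⟨x, hx, y, hy, hxy⟩ := Finset.one_lt_card.mp hcard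
    rw [Finset.mem_compl, Finset.mem_insert, Finset.mem_singleton, not_or] at hx hy
    refine ⟨Equiv.swap a b * Equiv.swap x y, ?_, ?_⟩
    · rw [Equiv.Perm.sign_mul, Equiv.Perm.sign_swap hab, Equiv.Perm.sign_swap hxy]
      rfl
    · rw [Equiv.Perm.mul_apply, Equiv.swap_apply_of_ne_of_ne (fun h => hx.1 h.symm)
        (fun h => hy.1 h.symm), Equiv.swap_apply_left]

theorem exists_stab_of_not_U [Fintype F] {m : ℕ} (hm : 3 ≤ m) (K : Subgroup (GL (Fin (m + 1)) F))
    (hK : Over K)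
    (k : GL (Fin (m + 1)) F) (hk : k ∈ K) (c : Fin (m + 1))
    (hc : ColSparse (k : Matrix (Fin (m + 1)) (Fin (m + 1)) F) c)
    (hkm : ¬ IsMono (k : Matrix (Fin (m + 1)) (Fin (m + 1)) F)) :
    ∃ k' ∈ K, (∀ l : Fin m, (k' : Matrix (Fin (m + 1)) (Fin (m + 1)) F) l.succ 0 = 0) ∧
      ¬ IsMono (k' : Matrix (Fin (m + 1)) (Fin (m + 1)) F) := by
  obtain ⟨j, hj⟩ := hc
  obtain ⟨σ₁, hs1, h1⟩ := exists_even_perm (n := m + 1) (by omega) 0 c
  obtain ⟨σ₂, hs2, h2⟩ := exists_even_perm (n := m + 1) (by omega) j 0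
  have hp1 : (pm σ₁ : GL (Fin (m + 1)) F) ∈ K := hK.pm_mem σ₁ hs1
  have hp2 : (pm σ₂ : GL (Fin (m + 1)) F) ∈ K := hK.pm_mem σ₂ hs2
  refine ⟨pm σ₂ * k * pm σ₁, K.mul_mem (K.mul_mem hp2 hk) hp1, ?_, ?_⟩
  · intro l
    rw [Units.val_mul, Units.val_mul, pm_val, pm_val, mul_pmM_apply, pmM_mul_apply, h1]
    apply hj
    intro h
    have : σ₂ (σ₂⁻¹ l.succ) = σ₂ j := by rw [h]
    rw [perm_apply_inv, h2] at this
    exact Fin.succ_ne_zero l this
  · intro hmono
    apply hkm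
    have h3 : (k : Matrix (Fin (m + 1)) (Fin (m + 1)) F) =
        (((pm σ₂)⁻¹ * (pm σ₂ * k * pm σ₁) * (pm σ₁)⁻¹ : GL (Fin (m + 1)) F) :
          Matrix (Fin (m + 1)) (Fin (m + 1)) F) := by
      congr 1
      group
    rw [h3, Units.val_mul, Units.val_mul]
    exact ((isMono_inv (isMono_pm σ₂)).mul hmono).mul (isMono_inv (isMono_pm σ₁))

end Cfsg.Agent.Lib.Helper18.MonMaxU
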