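import Mathlib
import Cfsg.Prelude.Def_GeometricClasses
import Cfsg.Agent.Lib.Helper18.MonDefs
import Cfsg.Agent.Lib.Helper18.MonMaxU
import Cfsg.Agent.Lib.Helper18.MonMaxGlue
import Cfsg.Agent.Lib.Helper13.TransvSL
import Cfsg.Agent.Lib.Helper25.MonMaxFOT1
import Cfsg.Agent.Lib.Helper25.MonMaxFOLIFTc
import Cfsg.Agent.Lib.Helper28.MonMaxLift
import Cfsg.Agent.Lib.Helper23.MonMaxFODense
import Cfsg.Agent.Lib.Helper22.MonGLc

/-!
# MonMax: the monomial subgroup `Mon ∩ SL_n(F)` is maximal in `SL_n(F)`  (|F| ≥ 5, n ≥ 13)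

Final assembly (helper18) of the farm-out pieces:
* T1a, T1b, LIFT-c : helper25;  LIFT-a, LIFT-b : helper28;  Case II (`mono_of_U`) : helper23;
* GL-claim (Borevich) : helper22;  symmetry reduction U, glue to `IsMDecomposition 1` : helper18.

`main` : `Over K → (∀ k ∈ K, IsMono k) ∨ SL_n ≤ K`;
`mono_case` : the case `m = 1` of S5634.
-/

set_option autoImplicit false

namespace Cfsg.Agent.Lib.Helper18.MonMax

open Matrix Cfsg.Agent.Lib.Helper18.Mon Cfsg.Agent.Lib.Helper13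

variable {F : Type*} [Field F] [Fintype F]

/-- T1: a transvection with a coordinate centre in `K` forces `SL_n ≤ K` -/
theorem SL_le_of_coord_tv {n : ℕ} (hq : 4 ≤ Fintype.card F) (hn : 5 ≤ n)
    (K : Subgroup (GL (Fin n) F)) (hK : Over K) (i : Fin n) (φ : Fin n → F) (hφ : φ ≠ 0)
    (hφi : φ i = 0) (g : GL (Fin n) F)
    (hg : (g : Matrix (Fin n) (Fin n) F) = tv (Pi.single i 1) φ) (hgK : g ∈ K) :
    Cfsg.Geo.specialLinear (Fin n) F ≤ K := by
  obtain ⟨j, c, t, hji, hc, ht, htv⟩ :=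
    Cfsg.Agent.Lib.Helper25.MonMax.exists_elem_of_coord_tv hq hn K hK i φ hφ hφi g hg hgK
  exact Cfsg.Agent.Lib.Helper25.MonMax.SL_le_of_elem hq hn K hK i j (Ne.symm hji) c hc t ht htv

/-- LIFT = CASE I: a non-monomial element of `K` fixing the line `⟨e_0⟩` forces `SL ≤ K` -/
theorem SL_le_of_stab {m : ℕ} (hm : 12 ≤ m) (hq : 5 ≤ Fintype.card F)
    (K : Subgroup (GL (Fin (m + 1)) F)) (hK : Over K)
    (k : GL (Fin (m + 1)) F) (hk : k ∈ K)
    (hcol : ∀ l : Fin m, (k : Matrix (Fin (m + 1)) (Fin (m + 1)) F) l.succ 0 = 0)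
    (hkm : ¬ IsMono (k : Matrix (Fin (m + 1)) (Fin (m + 1)) F)) :
    Cfsg.Geo.specialLinear (Fin (m + 1)) F ≤ K := by
  obtain ⟨X, hX1, hX2, hX3⟩ := Cfsg.Agent.Lib.Helper28.MonLift.exists_block_group K hK
  obtain ⟨B, hBX, hB⟩ := hX1 k hk hcol
  by_cases hBm : IsMono (B : Matrix (Fin m) (Fin m) F)
  · obtain ⟨φ, g, hφ, hφ0, hgK, hg⟩ :=
      Cfsg.Agent.Lib.Helper28.MonLift.exists_tv_of_mono_block (by omega) K hK k hk hcol B hB hBm hkm
    exact SL_le_of_coord_tv (by omega) (by omega) K hK 0 φ hφ hφ0 g hg hgK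
  · obtain ⟨a, b, c, t, hab, hc, htX, ht⟩ :=
      Cfsg.Agent.Lib.Helper22.MonGL.exists_elem_tv (by omega) hq X hX3 B hBX hBm
    obtain ⟨k', hk', hcol', hB'⟩ := hX2 t htX
    obtain ⟨i, φ, g, hφ, hφi, hgK, hg⟩ :=
      Cfsg.Agent.Lib.Helper25.MonMax.exists_tv_of_elem_block (by omega) (by omega) K hK k' hk' hcol'
        a b hab c hc (by intro i j; rw [hB' i j, ht])
    exact SL_le_of_coord_tv (by omega) (by omega) K hK i φ hφ hφi g hg hgK

/-- **MonMax**: a subgroup `K` with `Mon ∩ SL_n ≤ K ≤ SL_n` (`|F| ≥ 5`, `n ≥ 13`) is monomial or is `SL_n` -/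
theorem main {n : ℕ} (hq : 5 ≤ Fintype.card F) (hn : 13 ≤ n)
    (K : Subgroup (GL (Fin n) F)) (hK : Over K) :
    (∀ k ∈ K, IsMono (k : Matrix (Fin n) (Fin n) F)) ∨ Cfsg.Geo.specialLinear (Fin n) F ≤ K := by
  obtain ⟨m, rfl⟩ : ∃ m, n = m + 1 := ⟨n - 1, by omega⟩
  by_cases hU : ∀ k ∈ K, (∃ c, ColSparse (k : Matrix (Fin (m + 1)) (Fin (m + 1)) F) c) →
      IsMono (k : Matrix (Fin (m + 1)) (Fin (m + 1)) F)
  · exact Or.inl (Cfsg.Agent.Lib.Helper23.MonMax.mono_of_U hq (by omega) K hK hU)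
  · right
    push Not at hU
    obtain ⟨k, hk, ⟨c, hc⟩, hkm⟩ := hU
    obtain ⟨k', hk', hcol, hkm'⟩ :=
      Cfsg.Agent.Lib.Helper18.MonMaxU.exists_stab_of_not_U (by omega) K hK k hk c hc hkm
    exact SL_le_of_stab (by omega) hq K hK k' hk' hcol hkm'

/-- the case `m = 1` of S5634: the stabiliser in `SL_n(F)` of a decomposition of `F^n` into lines is maximal
(`|F| ≥ 5`, `n ≥ 13`) -/
theorem mono_case (n : ℕ) (hn : 13 ≤ n) {t : ℕ}
    (D : Fin t → Submodule F (Fin n → F)) (hD : Cfsg.Geo.IsMDecomposition 1 D)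
    (hq : 5 ≤ Fintype.card F) :
    Cfsg.Geo.IsMaximalIn (Cfsg.Geo.specialLinear (Fin n) F)
      (Cfsg.Geo.decompositionStabilizer D ⊓ Cfsg.Geo.specialLinear (Fin n) F) :=
  Cfsg.Agent.Lib.Helper18.MonMaxGlue.decomp_one_maximal (by omega) D hD
    (fun K hK => main hq hn K hK)

end Cfsg.Agent.Lib.Helper18.MonMax
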