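import Mathlib
import Cfsg.Prelude.Def_GeometricClasses
import Cfsg.Agent.Lib.Helper18.MonDefs

/-!
# MonMax FO-SPARSE

Under (U) [every element of `K` having a column proportional to a coordinate vector is monomial], every column
of every element of `K` is either sparse (a multiple of a coordinate vector) or dense (at most one zero).
Proof: helper15's (Z')/(Z) argument (notes/S5634_monomial_proof_helper15.md): if the column `c` of `g ∈ K`
vanishes at `k ≠ l`, the torus elements `δ_kl(a)` fix it, so `g⁻¹ δ g` is monomial by (U) and `δ` permutes the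
lines spanned by the columns of `g`; a column with a nonzero part on `{k,l}` and a nonzero part off `{k,l}` would
give `q - 1 ≥ 4` pairwise different columns of `g` inside a 3-dimensional space.
-/

set_option autoImplicit false

namespace Cfsg.Agent.Lib.Helper18.MonMaxSparse

open Matrix Cfsg.Agent.Lib.Helper18.Mon

variable {F : Type*} [Field F] {n : ℕ}

theorem colSparse_of_isMono {g : Matrix (Fin n) (Fin n) F} (hg : IsMono g) (c : Fin n) :
    ColSparse g c := by
  obtain ⟨π, hπ⟩ := hg
  refine ⟨π c, fun l hl => ?_⟩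
  by_contra h
  exact hl (hπ l c h)

/-- the diagonal of the torus element `δ_{kl}(a)` -/
def tor (k l : Fin n) (a : F) : Fin n → F :=
  Function.update (Function.update (fun _ => (1 : F)) k a) l a⁻¹

theorem tor_k {k l : Fin n} (hkl : k ≠ l) (a : F) : tor k l a k = a := by
  unfold tor
  rw [Function.update_of_ne hkl, Function.update_self]

theorem tor_l (k l : Fin n) (a : F) : tor k l a l = a⁻¹ := by
  unfold tor
  rw [Function.update_self]

theorem tor_other {k l i : Fin n} (hik : i ≠ k) (hil : i ≠ l) (a : F) : tor k l a i = 1 := by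
  unfold tor
  rw [Function.update_of_ne hil, Function.update_of_ne hik]

theorem tor_ne_zero {k l : Fin n} (hkl : k ≠ l) {a : F} (ha : a ≠ 0) (i : Fin n) :
    tor k l a i ≠ 0 := by
  by_cases hil : i = l
  · rw [hil, tor_l]; exact inv_ne_zero ha
  · by_cases hik : i = k
    · rw [hik, tor_k hkl]; exact ha
    · rw [tor_other hik hil]; exact one_ne_zero

theorem tor_prod {k l : Fin n} (hkl : k ≠ l) {a : F} (ha : a ≠ 0) : ∏ i, tor k l a i = 1 := by
  unfold tor
  rw [Finset.prod_update_of_mem (Finset.mem_univ l),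
    Finset.prod_update_of_mem (Finset.mem_sdiff.mpr ⟨Finset.mem_univ k, by
      rw [Finset.mem_singleton]; exact hkl⟩)]
  rw [Finset.prod_const_one, mul_one, inv_mul_cancel₀ ha]

section twist
variable [Fintype F]

/-- the basic principle: a torus element fixing the column `c` of `g ∈ K` permutes the lines spanned by the
columns of `g` (under (U)) -/
theorem twist (K : Subgroup (GL (Fin n) F)) (hK : Over K)
    (hU : ∀ k ∈ K, (∃ c, ColSparse (k : Matrix (Fin n) (Fin n) F) c) →
      IsMono (k : Matrix (Fin n) (Fin n) F))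
    (g : GL (Fin n) F) (hg : g ∈ K) (c k l : Fin n) (hkl : k ≠ l)
    (hk0 : (g : Matrix (Fin n) (Fin n) F) k c = 0) (hl0 : (g : Matrix (Fin n) (Fin n) F) l c = 0)
    (a : F) (ha : a ≠ 0) (m : Fin n) :
    ∃ (b : Fin n) (μ : F), μ ≠ 0 ∧
      ∀ i, tor k l a i * (g : Matrix (Fin n) (Fin n) F) i m =
        μ * (g : Matrix (Fin n) (Fin n) F) i b := by
  have hδK : dg (tor k l a) (tor_ne_zero hkl ha) ∈ K :=
    hK.dg_mem _ _ (tor_prod hkl ha)
  set δ : GL (Fin n) F := dg (tor k l a) (tor_ne_zero hkl ha) with hδ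
  set y : GL (Fin n) F := g⁻¹ * δ * g with hy
  have hyK : y ∈ K := K.mul_mem (K.mul_mem (K.inv_mem hg) hδK) hg
  -- column c of δ g is column c of g
  have hcol : ∀ i, ((δ : Matrix (Fin n) (Fin n) F) * (g : Matrix (Fin n) (Fin n) F)) i c =
      (g : Matrix (Fin n) (Fin n) F) i c := by
    intro i
    rw [hδ, dg_mul_apply]
    by_cases hil : i = l
    · rw [hil, hl0, mul_zero]
    · by_cases hik : i = k
      · rw [hik, hk0, mul_zero]
      · rw [tor_other hik hil, one_mul]
  have hyv : (y : Matrix (Fin n) (Fin n) F) =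
      ((g⁻¹ : GL (Fin n) F) : Matrix (Fin n) (Fin n) F) *
        ((δ : Matrix (Fin n) (Fin n) F) * (g : Matrix (Fin n) (Fin n) F)) := by
    rw [hy, Units.val_mul, Units.val_mul, Matrix.mul_assoc]
  have hginv : ((g⁻¹ : GL (Fin n) F) : Matrix (Fin n) (Fin n) F) *
      (g : Matrix (Fin n) (Fin n) F) = 1 := by
    rw [← Units.val_mul, inv_mul_cancel, Units.val_one]
  have hyc : ∀ i, i ≠ c → (y : Matrix (Fin n) (Fin n) F) i c = 0 := by
    intro i hic
    rw [hyv, Matrix.mul_apply]
    have : ∑ j, ((g⁻¹ : GL (Fin n) F) : Matrix (Fin n) (Fin n) F) i j *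
        ((δ : Matrix (Fin n) (Fin n) F) * (g : Matrix (Fin n) (Fin n) F)) j c =
        (((g⁻¹ : GL (Fin n) F) : Matrix (Fin n) (Fin n) F) *
          (g : Matrix (Fin n) (Fin n) F)) i c := by
      rw [Matrix.mul_apply]
      exact Finset.sum_congr rfl fun j _ => by rw [hcol j]
    rw [this, hginv, Matrix.one_apply_ne hic]
  obtain ⟨π, hπ⟩ := hU y hyK ⟨c, c, hyc⟩
  refine ⟨π m, (y : Matrix (Fin n) (Fin n) F) (π m) m, IsMono.apply_ne_zero hπ m, fun i => ?_⟩
  have hgy : (δ : Matrix (Fin n) (Fin n) F) * (g : Matrix (Fin n) (Fin n) F) =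
      (g : Matrix (Fin n) (Fin n) F) * (y : Matrix (Fin n) (Fin n) F) := by
    rw [← Units.val_mul, ← Units.val_mul]
    congr 1
    rw [hy]
    group
  have h1 := congrFun (congrFun hgy i) m
  rw [hδ, dg_mul_apply, Matrix.mul_apply, Finset.sum_eq_single (π m)] at h1
  · rw [h1, mul_comm]
  · intro b _ hb
    have : (y : Matrix (Fin n) (Fin n) F) b m = 0 := by
      by_contra hne
      exact hb (hπ b m hne)
    rw [this, mul_zero]
  · intro h; exact absurd (Finset.mem_univ _) h

/-- (Z'): if column `c` of `g ∈ K` vanishes at `k ≠ l` then every column of `g` lives on `{k,l}` or vanishes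
there -/
theorem Zp (hq : 5 ≤ Fintype.card F) (K : Subgroup (GL (Fin n) F)) (hK : Over K)
    (hU : ∀ k ∈ K, (∃ c, ColSparse (k : Matrix (Fin n) (Fin n) F) c) →
      IsMono (k : Matrix (Fin n) (Fin n) F))
    (g : GL (Fin n) F) (hg : g ∈ K) (c k l : Fin n) (hkl : k ≠ l)
    (hk0 : (g : Matrix (Fin n) (Fin n) F) k c = 0) (hl0 : (g : Matrix (Fin n) (Fin n) F) l c = 0)
    (m : Fin n) :
    (∀ i, i ≠ k → i ≠ l → (g : Matrix (Fin n) (Fin n) F) i m = 0) ∨
      ((g : Matrix (Fin n) (Fin n) F) k m = 0 ∧ (g : Matrix (Fin n) (Fin n) F) l m = 0) := by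
  classical
  by_contra hcon
  rw [not_or] at hcon
  obtain ⟨h1, hx⟩ := hcon
  push Not at h1
  obtain ⟨i0, hi0k, hi0l, hi0⟩ := h1
  rw [not_and] at hx
  have htw := fun a : Fˣ => twist K hK hU g hg c k l hkl hk0 hl0 (a : F) a.ne_zero m
  choose b μ hμ hb using htw
  -- b is injective
  have hbinj : Function.Injective b := by
    intro a a' hab
    have e1 := hb a i0
    have e2 := hb a' i0
    rw [tor_other hi0k hi0l, one_mul] at e1 e2
    rw [hab] at e1
    have hne : (g : Matrix (Fin n) (Fin n) F) i0 (b a') ≠ 0 := by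
      intro h0
      rw [h0, mul_zero] at e2
      exact hi0 e2
    have hμeq : μ a = μ a' := by
      have : μ a * (g : Matrix (Fin n) (Fin n) F) i0 (b a') =
          μ a' * (g : Matrix (Fin n) (Fin n) F) i0 (b a') := by rw [← e1, ← e2]
      exact mul_right_cancel₀ hne this
    by_cases hkm : (g : Matrix (Fin n) (Fin n) F) k m = 0
    · have hlm := hx hkm
      have f1 := hb a l
      have f2 := hb a' l
      rw [tor_l] at f1 f2
      rw [hab, hμeq, ← f2] at f1
      have := mul_right_cancel₀ hlm f1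
      exact Units.ext (inv_injective this)
    · have f1 := hb a k
      have f2 := hb a' k
      rw [tor_k hkl] at f1 f2
      rw [hab, hμeq, ← f2] at f1
      exact Units.ext (mul_right_cancel₀ hkm f1)
  -- the columns of g are linearly independent
  have hcols : LinearIndependent F (g : Matrix (Fin n) (Fin n) F).col :=
    Matrix.linearIndependent_cols_of_isUnit g.isUnit
  have hli1 : LinearIndependent F ((g : Matrix (Fin n) (Fin n) F).col ∘ b) :=
    hcols.comp b hbinj
  have hli2 := hli1.units_smul (fun a => Units.mk0 (μ a) (hμ a))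
  -- the twisted vectors live in a 3-dimensional space
  let y' : Fin n → F := fun i => if i = k ∨ i = l then 0 else (g : Matrix (Fin n) (Fin n) F) i m
  let T : (Fin 3 → F) →ₗ[F] (Fin n → F) :=
    Fintype.linearCombination F ![Pi.single k (1 : F), Pi.single l (1 : F), y']
  let z : Fˣ → (Fin 3 → F) := fun a =>
    ![(a : F) * (g : Matrix (Fin n) (Fin n) F) k m,
      (a : F)⁻¹ * (g : Matrix (Fin n) (Fin n) F) l m, 1]
  have hTz : ((fun a => Units.mk0 (μ a) (hμ a)) • ((g : Matrix (Fin n) (Fin n) F).col ∘ b)) =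
      T ∘ z := by
    funext a i
    have e := hb a i
    change (Units.mk0 (μ a) (hμ a)) • ((g : Matrix (Fin n) (Fin n) F) i (b a)) = T (z a) i
    rw [Units.smul_def, Units.val_mk0, smul_eq_mul, ← e]
    change _ = (Fintype.linearCombination F
      ![Pi.single k (1 : F), Pi.single l (1 : F), y'] (z a)) i
    rw [Fintype.linearCombination_apply, Fin.sum_univ_three]
    simp only [z, y', Matrix.cons_val_zero, Matrix.cons_val_one, Matrix.cons_val_two,
      Matrix.head_cons, Matrix.tail_cons, Pi.add_apply, Pi.smul_apply, smul_eq_mul, Pi.single_apply]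
    by_cases hil : i = l
    · subst hil
      rw [tor_l, if_neg (Ne.symm hkl), if_pos rfl, if_pos (Or.inr rfl)]
      ring
    · by_cases hik : i = k
      · subst hik
        rw [tor_k hkl, if_pos rfl, if_neg hil, if_pos (Or.inl rfl)]
        ring
      · rw [tor_other hik hil, if_neg hik, if_neg hil, if_neg (by tauto)]
        ring
  rw [hTz] at hli2
  have hli3 : LinearIndependent F z := hli2.of_comp T
  have hcard := hli3.fintype_card_le_finrank
  rw [Module.finrank_fin_fun, Fintype.card_units] at hcard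
  omega

end twist

/-- every row of an invertible matrix is nonzero -/
theorem exists_row_ne_zero (g : GL (Fin n) F) (a : Fin n) :
    ∃ j, (g : Matrix (Fin n) (Fin n) F) a j ≠ 0 := by
  by_contra hcon
  push Not at hcon
  have h1 : (g : Matrix (Fin n) (Fin n) F) *
      ((g⁻¹ : GL (Fin n) F) : Matrix (Fin n) (Fin n) F) = 1 := by
    rw [← Units.val_mul, mul_inv_cancel, Units.val_one]
  have h2 := congrFun (congrFun h1 a) a
  rw [Matrix.mul_apply, Matrix.one_apply_eq,
    Finset.sum_eq_zero (fun j _ => by rw [hcon j, zero_mul])] at h2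
  exact zero_ne_one h2

/-- FO-SPARSE -/
theorem sparse [Fintype F] (hq : 5 ≤ Fintype.card F) (hn : 13 ≤ n)
    (K : Subgroup (GL (Fin n) F)) (hK : Over K)
    (hU : ∀ k ∈ K, (∃ c, ColSparse (k : Matrix (Fin n) (Fin n) F) c) →
      IsMono (k : Matrix (Fin n) (Fin n) F)) :
    ∀ k ∈ K, ∀ c, ColSparse (k : Matrix (Fin n) (Fin n) F) c ∨
      ColDense (k : Matrix (Fin n) (Fin n) F) c := by
  intro g hg c
  by_cases hgm : IsMono (g : Matrix (Fin n) (Fin n) F)
  · exact Or.inl (colSparse_of_isMono hgm c)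
  right
  by_contra hnd
  -- (L0): no column of g is sparse
  have hL0 : ∀ c', ¬ ColSparse (g : Matrix (Fin n) (Fin n) F) c' := fun c' h => hgm (hU g hg ⟨c', h⟩)
  -- two zeros k ≠ l in column c
  unfold ColDense at hnd
  push Not at hnd
  obtain ⟨k, -, hk0⟩ := hnd c
  obtain ⟨l, hlk, hl0⟩ := hnd k
  have hkl : k ≠ l := Ne.symm hlk
  -- a column j living on {k,l}
  obtain ⟨j, hj⟩ := exists_row_ne_zero g k
  have hjl : ∀ i, i ≠ k → i ≠ l → (g : Matrix (Fin n) (Fin n) F) i j = 0 := by
    rcases Zp hq K hK hU g hg c k l hkl hk0 hl0 j with h | h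
    · exact h
    · exact absurd h.1 hj
  -- three more indices
  have hcard : 2 < (({k, l} : Finset (Fin n))ᶜ).card := by
    rw [Finset.card_compl, Fintype.card_fin]
    have : ({k, l} : Finset (Fin n)).card ≤ 2 := Finset.card_le_two
    omega
  obtain ⟨a, ha, b, hb, d, hd, hab, had, hbd⟩ := Finset.two_lt_card.mp hcard
  rw [Finset.mem_compl, Finset.mem_insert, Finset.mem_singleton, not_or] at ha hb hd
  have ha0 := hjl a ha.1 ha.2
  have hb0 := hjl b hb.1 hb.2
  have hd0 := hjl d hd.1 hd.2
  -- a column j' with a nonzero entry at a: lives on {a,b}, and both entries are nonzero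
  obtain ⟨j', hj'⟩ := exists_row_ne_zero g a
  have hj'ab : ∀ i, i ≠ a → i ≠ b → (g : Matrix (Fin n) (Fin n) F) i j' = 0 := by
    rcases Zp hq K hK hU g hg j a b hab ha0 hb0 j' with h | h
    · exact h
    · exact absurd h.1 hj'
  have hj'b : (g : Matrix (Fin n) (Fin n) F) b j' ≠ 0 := by
    intro h0
    apply hL0 j'
    refine ⟨a, fun i hia => ?_⟩
    by_cases hib : i = b
    · rw [hib]; exact h0
    · exact hj'ab i hia hib
  -- but it also lives on {a,d}
  have hj'ad : ∀ i, i ≠ a → i ≠ d → (g : Matrix (Fin n) (Fin n) F) i j' = 0 := by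
    rcases Zp hq K hK hU g hg j a d had ha0 hd0 j' with h | h
    · exact h
    · exact absurd h.1 hj'
  exact hj'b (hj'ad b (Ne.symm hab) hbd)

end Cfsg.Agent.Lib.Helper18.MonMaxSparse
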