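import Mathlib

/-!
# Self-adjoint extension fields acting on a quadratic space, anisotropic case: the model (helper18)

Abstract setting: `F ⊆ K` finite fields, `V` a `K`-space of dimension `2` (hence an `F`-space), `Q : V → F` an `F`-quadratic
function whose polar form is `K`-self-adjoint, and no `K`-line is totally singular.  Then `(V, Q)` is `K`-linearly isomorphic
to `(L, lam ∘ norm)` where `L = QuadraticAlgebra K a b` is a quadratic field extension of `K` and `lam : K →ₗ[F] F` is a non-zero
functional (`exists_model`).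
-/

set_option autoImplicit false
set_option linter.unusedSectionVars false
set_option linter.unusedVariables false

namespace Cfsg.Agent.Lib.Helper18.OEField5

open QuadraticMap

section prelim

variable {F K : Type*} [Field F] [Finite F] [Field K] [Finite K] [Algebra F K]

theorem two_K_of_two_F (h2 : (2 : F) = 0) : (2 : K) = 0 := by
  have := congrArg (algebraMap F K) h2
  rwa [map_ofNat, map_zero] at this

theorem two_F_of_two_K (h2 : (2 : K) = 0) : (2 : F) = 0 := by
  apply (algebraMap F K).injective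
  rw [map_ofNat, map_zero]
  exact h2

omit [Finite F] [Algebra F K] in
theorem exists_sqrt (h2 : (2 : K) = 0) (c : K) : ∃ s : K, s * s = c := by
  have hch : ringChar K = 2 := CharP.ringChar_of_prime_eq_zero Nat.prime_two (by exact_mod_cast h2)
  obtain ⟨s, hs⟩ := FiniteField.isSquare_of_char_two hch c
  exact ⟨s, hs.symm⟩

omit [Finite F] [Finite K] [Algebra F K] in
theorem sq_inj (h2 : (2 : K) = 0) {s t : K} (h : s * s = t * t) : s = t := by
  have h0 : (s - t) * (s - t) = 0 := by linear_combination h + (t * t - s * t) * h2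
  have := mul_self_eq_zero.mp h0
  exact sub_eq_zero.mp this

omit [Finite F] in
/-- two `F`-linear functionals on `K` agreeing on the squares are equal -/
theorem ext_sq (μ ν : K →ₗ[F] F) (h : ∀ k : K, μ (k * k) = ν (k * k)) : μ = ν := by
  by_cases h2 : (2 : K) = 0
  · ext c
    obtain ⟨s, rfl⟩ := exists_sqrt h2 c
    exact h s
  · ext c
    have hc : c = ((c + 1) / 2) * ((c + 1) / 2) - ((c - 1) / 2) * ((c - 1) / 2) := by
      field_simp
      ring
    calc μ c = μ (((c + 1) / 2) * ((c + 1) / 2) - ((c - 1) / 2) * ((c - 1) / 2)) := by rw [← hc]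
      _ = ν (((c + 1) / 2) * ((c + 1) / 2) - ((c - 1) / 2) * ((c - 1) / 2)) := by
        rw [map_sub, map_sub, h, h]
      _ = ν c := by rw [← hc]

variable (lam : K →ₗ[F] F)

/-- `c ↦ lam (c * ·)` -/
noncomputable def Rmap : K →ₗ[F] (K →ₗ[F] F) :=
  LinearMap.mk₂ F (fun c k => lam (c * k)) (by intro a b c; simp [add_mul])
    (by intro c a b; simp) (by intro a b c; simp [mul_add])
    (by intro c a b; simp)

omit [Finite F] [Finite K] in
theorem Rmap_apply (c k : K) : Rmap lam c k = lam (c * k) := rfl

omit [Finite F] [Finite K] in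
theorem Rmap_injective (hlam : lam ≠ 0) : Function.Injective (Rmap lam) := by
  rw [injective_iff_map_eq_zero]
  intro c hc
  by_contra hne
  apply hlam
  ext k
  have := LinearMap.congr_fun hc (c⁻¹ * k)
  rw [Rmap_apply, mul_inv_cancel_left₀ hne] at this
  simpa using this

omit [Finite F] in
theorem Rmap_surjective (hlam : lam ≠ 0) : Function.Surjective (Rmap lam) := by
  have : Module.Finite F K := Module.Finite.of_finite
  have hfin : Module.finrank F K = Module.finrank F (K →ₗ[F] F) := (Subspace.dual_finrank_eq (K := F) (V := K)).symm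
  exact (LinearMap.injective_iff_surjective_of_finrank_eq_finrank hfin).mp (Rmap_injective lam hlam)

omit [Finite F] in
theorem rep (hlam : lam ≠ 0) (ν : K →ₗ[F] F) : ∃ c : K, ∀ k, ν k = lam (c * k) := by
  obtain ⟨c, hc⟩ := Rmap_surjective lam hlam ν
  exact ⟨c, fun k => by rw [← hc, Rmap_apply]⟩

omit [Finite F] [Finite K] in
theorem rep_unique (hlam : lam ≠ 0) {c d : K} (h : ∀ k, lam (c * k) = lam (d * k)) : c = d := by
  apply Rmap_injective lam hlam
  ext k
  exact h k

omit [Finite F] in
theorem sq_unique (hlam : lam ≠ 0) {c d : K} (h : ∀ k, lam (c * (k * k)) = lam (d * (k * k))) : c = d := by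
  apply Rmap_injective lam hlam
  exact ext_sq _ _ h

end prelim

/-- the hypotheses: `Q` is an `F`-quadratic function on the `K`-space `V` with `K`-self-adjoint polar form and without
totally singular `K`-lines -/
structure KQuad (K : Type*) {F V : Type*} [Field F] [Field K] [Algebra F K] [AddCommGroup V] [Module F V] [Module K V]
    (Q : V → F) : Prop where
  smul : ∀ (c : F) (v : V), Q (c • v) = c * c * Q v
  add_left : ∀ u v w : V, polar Q (u + v) w = polar Q u w + polar Q v w
  smul_left : ∀ (c : F) (u v : V), polar Q (c • u) v = c * polar Q u v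
  sa : ∀ (k : K) (u v : V), polar Q (k • u) v = polar Q u (k • v)
  aniso : ∀ v : V, v ≠ 0 → ∃ k : K, Q (k • v) ≠ 0

section partA

variable {F K V : Type*} [Field F] [Finite F] [Field K] [Finite K] [Algebra F K]
  [AddCommGroup V] [Module F V] [Module K V] [IsScalarTower F K V] {Q : V → F}

namespace KQuad

theorem quad_add (Q : V → F) (u v : V) : Q (u + v) = Q u + Q v + polar Q u v := by
  unfold polar
  ring

theorem polar_self (hQ : KQuad K Q) (v : V) : polar Q v v = 2 * Q v := by
  have h : v + v = (2 : F) • v := (two_smul F v).symm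
  unfold polar
  rw [h, hQ.smul]
  ring

theorem add_right (hQ : KQuad K Q) (u v w : V) : polar Q u (v + w) = polar Q u v + polar Q u w := by
  rw [polar_comm, hQ.add_left, polar_comm _ v, polar_comm _ w]

theorem smul_right (hQ : KQuad K Q) (c : F) (u v : V) : polar Q u (c • v) = c * polar Q u v := by
  rw [polar_comm, hQ.smul_left, polar_comm]

theorem polar_smul_smul (hQ : KQuad K Q) (k k' : K) (u v : V) :
    polar Q (k • u) (k' • v) = polar Q ((k' * k) • u) v := by
  rw [mul_smul, hQ.sa k' (k • u) v]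

theorem polar_smul_self_even (hQ : KQuad K Q) (h2 : (2 : F) = 0) (k : K) (v : V) : polar Q (k • v) v = 0 := by
  obtain ⟨s, rfl⟩ := exists_sqrt (two_K_of_two_F h2) k
  rw [mul_smul, hQ.sa, hQ.polar_self, h2, zero_mul]

/-- the functional `k ↦ polar Q (k • u) v` -/
noncomputable def phi (hQ : KQuad K Q) (u v : V) : K →ₗ[F] F where
  toFun k := polar Q (k • u) v
  map_add' k k' := by rw [add_smul, hQ.add_left]
  map_smul' c k := by rw [smul_assoc, hQ.smul_left, RingHom.id_apply, smul_eq_mul]

theorem phi_apply (hQ : KQuad K Q) (u v : V) (k : K) : hQ.phi u v k = polar Q (k • u) v := rfl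

/-- the functional `μ_v` with `μ_v (k²) = Q (k v)` -/
theorem exists_mu (hQ : KQuad K Q) (v : V) : ∃ μ : K →ₗ[F] F, ∀ k : K, μ (k * k) = Q (k • v) := by
  by_cases h2 : (2 : F) = 0
  · -- even characteristic
    have h2K : (2 : K) = 0 := two_K_of_two_F h2
    choose sq hsq using exists_sqrt (K := K) h2K
    have hsq_add : ∀ c d : K, sq (c + d) = sq c + sq d := by
      intro c d
      apply sq_inj h2K
      rw [hsq]
      linear_combination (-1 : K) * hsq c - hsq d - (sq c * sq d) * h2K
    have hsqF : ∀ a : F, ∃ b : F, b * b = a := exists_sqrt h2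
    have hsq_smul : ∀ (a b : F) (c : K), b * b = a → sq (a • c) = algebraMap F K b * sq c := by
      intro a b c hab
      apply sq_inj h2K
      rw [hsq, Algebra.smul_def, ← hab, map_mul]
      linear_combination (-(algebraMap F K b * algebraMap F K b)) * hsq c
    refine ⟨{ toFun := fun c => Q (sq c • v), map_add' := ?_, map_smul' := ?_ }, ?_⟩
    · intro c d
      rw [hsq_add, add_smul, quad_add Q (sq c • v) (sq d • v), hQ.polar_smul_smul, hQ.polar_smul_self_even h2, add_zero]
    · intro a c
      obtain ⟨b, hb⟩ := hsqF a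
      rw [hsq_smul a b c hb, mul_smul, algebraMap_smul, hQ.smul, hb, RingHom.id_apply, smul_eq_mul]
    · intro k
      have : sq (k * k) = k := sq_inj h2K (hsq _)
      change Q (sq (k * k) • v) = _
      rw [this]
  · -- odd characteristic
    refine ⟨{ toFun := fun c => 2⁻¹ * polar Q (c • v) v, map_add' := ?_, map_smul' := ?_ }, ?_⟩
    · intro c d
      rw [add_smul, hQ.add_left, mul_add]
    · intro a c
      rw [smul_assoc, hQ.smul_left, RingHom.id_apply, smul_eq_mul]
      ring
    · intro k
      change 2⁻¹ * polar Q ((k * k) • v) v = _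
      rw [mul_smul, hQ.sa, hQ.polar_self, ← mul_assoc, inv_mul_cancel₀ h2, one_mul]

/-- the `K`-valued quadratic form `QK` with `Q (k v) = lam (QK v * k²)` -/
theorem exists_form (hQ : KQuad K Q) (v₀ : V) (hv₀ : v₀ ≠ 0) :
    ∃ (lam : K →ₗ[F] F) (QK : V → K) (B : V → V → K), lam ≠ 0 ∧
      (∀ (k : K) (v : V), Q (k • v) = lam (QK v * (k * k))) ∧
      (∀ (c : K) (v : V), QK (c • v) = c * c * QK v) ∧
      (∀ u v : V, QK (u + v) = QK u + QK v + B u v) ∧
      (∀ u u' v : V, B (u + u') v = B u v + B u' v) ∧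
      (∀ (c : K) (u v : V), B (c • u) v = c * B u v) ∧
      (∀ u v : V, B u v = B v u) ∧
      (∀ v : V, QK v = 0 → v = 0) ∧ QK v₀ = 1 := by
  choose μ hμ using hQ.exists_mu
  have hlam : μ v₀ ≠ 0 := by
    obtain ⟨k, hk⟩ := hQ.aniso v₀ hv₀
    intro h0
    apply hk
    rw [← hμ, h0, LinearMap.zero_apply]
  choose QK hQK using fun v => rep (μ v₀) hlam (μ v)
  choose B hB using fun u v => rep (μ v₀) hlam (hQ.phi u v)
  have h1 : ∀ (k : K) (v : V), Q (k • v) = μ v₀ (QK v * (k * k)) := fun k v => by rw [← hμ, hQK]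
  refine ⟨μ v₀, QK, B, hlam, h1, ?_, ?_, ?_, ?_, ?_, ?_, ?_⟩
  · intro c v
    apply sq_unique (μ v₀) hlam
    intro k
    rw [← h1, ← mul_smul, h1]
    congr 1
    ring
  · intro u v
    apply sq_unique (μ v₀) hlam
    intro k
    rw [← h1, smul_add, quad_add Q (k • u) (k • v), h1, h1, hQ.polar_smul_smul, ← hQ.phi_apply, hB, ← map_add,
      ← map_add]
    congr 1
    ring
  · intro u u' v
    apply rep_unique (μ v₀) hlam
    intro k
    rw [← hB, hQ.phi_apply, smul_add, hQ.add_left, ← hQ.phi_apply, ← hQ.phi_apply, hB, hB, ← map_add]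
    congr 1
    ring
  · intro c u v
    apply rep_unique (μ v₀) hlam
    intro k
    rw [← hB, hQ.phi_apply, ← mul_smul, ← hQ.phi_apply, hB]
    congr 1
    ring
  · intro u v
    apply rep_unique (μ v₀) hlam
    intro k
    rw [← hB, ← hB, hQ.phi_apply, hQ.phi_apply, hQ.sa, polar_comm]
  · intro v hv
    by_contra hne
    obtain ⟨k, hk⟩ := hQ.aniso v hne
    apply hk
    rw [h1, hv, zero_mul, map_zero]
  · apply rep_unique (μ v₀) hlam
    intro k
    rw [← hQK, one_mul]

end KQuad

open QuadraticAlgebra in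
/-- **the model**: `(V, Q)` is `K`-linearly isometric to `(QuadraticAlgebra K a b, lam ∘ norm)`, a quadratic field extension of `K` -/
theorem exists_model (hQ : KQuad K Q) (hdim : Module.finrank K V = 2) :
    ∃ (a b : K) (lam : K →ₗ[F] F) (Ψ : QuadraticAlgebra K a b ≃ₗ[K] V), (∀ r : K, r ^ 2 ≠ a + b * r) ∧ lam ≠ 0 ∧
      ∀ z : QuadraticAlgebra K a b, Q (Ψ z) = lam (QuadraticAlgebra.norm z) := by
  have hfd : Module.Finite K V := Module.finite_of_finrank_pos (by omega)
  have hnt : Nontrivial V := Module.nontrivial_of_finrank_pos (R := K) (by omega)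
  obtain ⟨v₀, hv₀⟩ := exists_ne (0 : V)
  obtain ⟨lam, QK, B, hlam, h1, h2, h3, h4, h5, h6, h7, h8⟩ := hQ.exists_form v₀ hv₀
  -- a second basis vector
  have hspan : Submodule.span K {v₀} ≠ ⊤ := by
    intro h
    have := finrank_span_singleton (K := K) hv₀
    rw [h, finrank_top, hdim] at this
    omega
  obtain ⟨w₀, hw₀⟩ : ∃ w₀ : V, w₀ ∉ Submodule.span K {v₀} := by
    by_contra hcon
    push Not at hcon
    exact hspan (Submodule.eq_top_iff'.mpr hcon)
  have hli : LinearIndependent K ![v₀, w₀] := by
    rw [LinearIndependent.pair_iff]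
    intro s t hst
    have ht : t = 0 := by
      by_contra ht
      apply hw₀
      have : w₀ = (-(t⁻¹ * s)) • v₀ := by
        have h' : t • w₀ = -(s • v₀) := eq_neg_of_add_eq_zero_right hst
        calc w₀ = t⁻¹ • (t • w₀) := by rw [smul_smul, inv_mul_cancel₀ ht, one_smul]
          _ = (-(t⁻¹ * s)) • v₀ := by rw [h', smul_neg, smul_smul, neg_smul]
      rw [this]
      exact Submodule.smul_mem _ _ (Submodule.mem_span_singleton_self v₀)
    refine ⟨?_, ht⟩
    rw [ht, zero_smul, add_zero] at hst
    exact (smul_eq_zero.mp hst).resolve_right hv₀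
  let bas : Module.Basis (Fin 2) K V := basisOfLinearIndependentOfCardEqFinrank hli (by rw [hdim]; rfl)
  have hbas : ∀ i, bas i = ![v₀, w₀] i := fun i => by
    simp only [bas, coe_basisOfLinearIndependentOfCardEqFinrank]
  have hB' : ∀ (c : K) (u v : V), B u (c • v) = c * B u v := fun c u v => by rw [h6, h5, h6]
  have hform : ∀ x y : K, QK (x • v₀ + y • w₀) = x * x + B v₀ w₀ * x * y + QK w₀ * y * y := by
    intro x y
    rw [h3, h2, h2, h5, hB', h8]
    ring
  have hfact : ∀ r : K, r ^ 2 ≠ -QK w₀ + B v₀ w₀ * r := by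
    intro r hr
    have h0 : QK (r • v₀ + (-1 : K) • w₀) = 0 := by
      rw [hform]
      linear_combination hr
    have h00 := h7 _ h0
    have := (LinearIndependent.pair_iff.mp hli r (-1) h00).2
    exact one_ne_zero (neg_eq_zero.mp this)
  let Ψ : QuadraticAlgebra K (-QK w₀) (B v₀ w₀) ≃ₗ[K] V :=
    (QuadraticAlgebra.linearEquivTuple (-QK w₀) (B v₀ w₀)).trans bas.equivFun.symm
  have hΨ : ∀ z, Ψ z = z.re • v₀ + z.im • w₀ := by
    intro z
    simp only [Ψ, LinearEquiv.trans_apply, Module.Basis.equivFun_symm_apply, Fin.sum_univ_two, hbas,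
      QuadraticAlgebra.linearEquivTuple_apply]
    simp
  refine ⟨-QK w₀, B v₀ w₀, lam, Ψ, hfact, hlam, fun z => ?_⟩
  have := h1 1 (Ψ z)
  rw [one_smul, mul_one, mul_one] at this
  rw [this, hΨ, hform, QuadraticAlgebra.norm_def]
  congr 1
  ring

end partA

end Cfsg.Agent.Lib.Helper18.OEField5
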