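import Mathlib
import Cfsg.Agent.Lib.Helper18.OEField5A

/-!
# Self-adjoint extension fields, anisotropic case: the quadratic subfield `K₂` of the model `L` (helper18)

`F ⊆ K` finite fields with `[K : F]` odd, `L = QuadraticAlgebra K a b` a quadratic field extension of `K`, `lam : K →ₗ[F] F` a
non-zero functional, `Q' = lam ∘ norm` on `L`.  `K₂ ≤ L` is the subfield with `|F|²` elements.
-/

set_option autoImplicit false
set_option linter.unusedSectionVars false
set_option linter.unusedVariables false

namespace Cfsg.Agent.Lib.Helper18.OEField5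

open QuadraticAlgebra

section finiteFields

/-- an element of a finite field `L` fixed by `x ↦ x ^ |M|` lies in the image of the finite field `M` -/
theorem mem_range_of_pow_card {M L : Type*} [Field M] [Finite M] [Field L] (j : M →+* L) (x : L)
    (hx : x ^ Nat.card M = x) : x ∈ Set.range j := by
  classical
  haveI : Fintype M := Fintype.ofFinite M
  rw [Nat.card_eq_fintype_card] at hx
  have hn : 1 < Fintype.card M := Fintype.one_lt_card
  have hP : (Polynomial.X ^ Fintype.card M - Polynomial.X : Polynomial L) ≠ 0 :=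
    FiniteField.X_pow_card_sub_X_ne_zero L hn
  have hdeg := FiniteField.X_pow_card_sub_X_natDegree_eq L hn
  set P : Polynomial L := Polynomial.X ^ Fintype.card M - Polynomial.X with hPdef
  have hT : (Finset.univ.image j) ⊆ P.roots.toFinset := by
    intro y hy
    obtain ⟨m, -, rfl⟩ := Finset.mem_image.mp hy
    rw [Multiset.mem_toFinset, Polynomial.mem_roots hP, Polynomial.IsRoot.def, hPdef]
    simp only [Polynomial.eval_sub, Polynomial.eval_pow, Polynomial.eval_X]
    rw [← map_pow, FiniteField.pow_card, sub_self]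
  have hcard : P.roots.toFinset.card ≤ (Finset.univ.image j).card := by
    rw [Finset.card_image_of_injective _ j.injective, Finset.card_univ]
    calc P.roots.toFinset.card ≤ Multiset.card P.roots := Multiset.toFinset_card_le _
      _ ≤ P.natDegree := Polynomial.card_roots' P
      _ = Fintype.card M := hdeg
  have heq := Finset.eq_of_subset_of_card_le hT hcard
  have hxr : x ∈ P.roots.toFinset := by
    rw [Multiset.mem_toFinset, Polynomial.mem_roots hP, Polynomial.IsRoot.def, hPdef]
    simp only [Polynomial.eval_sub, Polynomial.eval_pow, Polynomial.eval_X]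
    rw [hx, sub_self]
  rw [← heq] at hxr
  obtain ⟨m, -, rfl⟩ := Finset.mem_image.mp hxr
  exact ⟨m, rfl⟩

/-- the subfield with `|F|²` elements of a finite field of even degree over `F` -/
theorem exists_K2 (F L : Type*) [Field F] [Finite F] [Field L] [Finite L] [Algebra F L]
    (h2 : 2 ∣ Module.finrank F L) :
    ∃ K₂ : Subalgebra F L, Module.finrank F K₂ = 2 ∧ ∀ x : L, x ∈ K₂ ↔ x ^ (Nat.card F ^ 2) = x := by
  obtain ⟨p, hp⟩ := CharP.exists F
  haveI : Fact p.Prime := ⟨CharP.char_is_prime F p⟩
  haveI : NeZero 2 := ⟨two_ne_zero⟩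
  have hM : Module.finrank F (FiniteField.Extension F p 2) = 2 := FiniteField.finrank_extension F p 2
  obtain ⟨j⟩ := FiniteField.nonempty_algHom_of_finrank_dvd (F := F) (K := FiniteField.Extension F p 2) (L := L)
    (by rw [hM]; exact h2)
  have hcardM : Nat.card (FiniteField.Extension F p 2) = Nat.card F ^ 2 := FiniteField.natCard_extension F p 2
  refine ⟨j.range, ?_, fun x => ⟨?_, ?_⟩⟩
  · rw [← (AlgEquiv.ofInjective j j.injective).toLinearEquiv.finrank_eq, hM]
  · rintro ⟨m, rfl⟩
    haveI : Fintype (FiniteField.Extension F p 2) := Fintype.ofFinite _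
    rw [← hcardM, Nat.card_eq_fintype_card, ← map_pow, FiniteField.pow_card]
  · intro hx
    rw [← hcardM] at hx
    obtain ⟨m, hm⟩ := mem_range_of_pow_card j.toRingHom x hx
    exact ⟨m, hm⟩

theorem exists_algebraMap_of_pow_card {F L : Type*} [Field F] [Finite F] [Field L] [Algebra F L] (x : L)
    (hx : x ^ Nat.card F = x) : ∃ c : F, algebraMap F L c = x :=
  mem_range_of_pow_card (algebraMap F L) x hx

end finiteFields

section partB

variable {F K : Type*} [Field F] [Finite F] [Field K] [Finite K] [Algebra F K] {a b : K}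
  [hab : Fact (∀ r : K, r ^ 2 ≠ a + b * r)]

theorem finite_L : Finite (QuadraticAlgebra K a b) := Finite.of_equiv _ (QuadraticAlgebra.equivProd a b).symm

omit [Finite F] [Algebra F K] hab in
theorem two_or_b (a b : K) [hab : Fact (∀ r : K, r ^ 2 ≠ a + b * r)] : (2 : K) ≠ 0 ∨ b ≠ 0 := by
  by_contra h
  push Not at h
  obtain ⟨h2, hb⟩ := h
  obtain ⟨s, hs⟩ := exists_sqrt h2 a
  exact hab.out s (by rw [hb, zero_mul, add_zero, sq, hs])

omit [Finite F] [Algebra F K] in
theorem im_eq_zero_of_star_eq {z : QuadraticAlgebra K a b} (h : star z = z) : z.im = 0 := by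
  have hre := congrArg QuadraticAlgebra.re h
  have him := congrArg QuadraticAlgebra.im h
  rw [re_star] at hre
  rw [im_star] at him
  rcases two_or_b a b with h2 | hb
  · have : (2 : K) * z.im = 0 := by linear_combination -him
    exact (mul_eq_zero.mp this).resolve_left h2
  · have : b * z.im = 0 := by linear_combination hre
    exact (mul_eq_zero.mp this).resolve_left hb

omit [Finite F] [Finite K] [Algebra F K] hab in
theorem eq_algebraMap_of_im {z : QuadraticAlgebra K a b} (h : z.im = 0) :
    z = algebraMap K (QuadraticAlgebra K a b) z.re := by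
  ext
  · simp
  · simp [h]

omit [Finite F] [Finite K] [Algebra F K] hab in
theorem norm_one_add (x : QuadraticAlgebra K a b) : norm (1 + x) = 1 + trace x + norm x := by
  simp only [norm_def, trace_def, re_add, im_add, re_one, im_one]
  ring

omit [Finite F] [Finite K] [Algebra F K] hab in
theorem norm_algebraMap_mul (k : K) (u : QuadraticAlgebra K a b) :
    norm (algebraMap K (QuadraticAlgebra K a b) k * u) = k * k * norm u := by
  rw [map_mul, QuadraticAlgebra.norm_algebraMap, sq]

omit [Finite F] [Finite K] [Algebra F K] hab in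
theorem norm_omega : norm (ω : QuadraticAlgebra K a b) = -a := by
  simp [norm_def]

omit [Finite F] [Finite K] [Algebra F K] in
theorem root_cases {w : QuadraticAlgebra K a b} (ht : trace w = b) (hn : norm w = -a) : w = ω ∨ w = star ω := by
  have h1 := sq_eq_trace_smul_sub_norm w
  rw [ht, hn] at h1
  have h2 : (w - ω) * (w - star ω) = 0 := by
    have h3 : (ω : QuadraticAlgebra K a b) + star ω = algebraMap K _ b := by
      rw [← algebraMap_trace_eq_add_star, trace_omega]
    have h4 : (ω : QuadraticAlgebra K a b) * star ω = algebraMap K _ (-a) := by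
      rw [← algebraMap_norm_eq_mul_star, norm_omega]
    have h5 : (w - ω) * (w - star ω) = w ^ 2 - (ω + star ω) * w + ω * star ω := by ring
    rw [h5, h3, h4, h1, Algebra.smul_def, map_neg]
    ring
  rcases mul_eq_zero.mp h2 with h | h
  · exact Or.inl (sub_eq_zero.mp h)
  · exact Or.inr (sub_eq_zero.mp h)

/-- `K`-linear maps of `L` preserving `lam ∘ norm` -/
structure IsKIso (lam : K →ₗ[F] F) (s : QuadraticAlgebra K a b → QuadraticAlgebra K a b) : Prop where
  add : ∀ u v, s (u + v) = s u + s v
  smul : ∀ (k : K) (u : QuadraticAlgebra K a b), s (algebraMap K _ k * u) = algebraMap K _ k * s u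
  iso : ∀ u, lam (norm (s u)) = lam (norm u)

namespace IsKIso

variable {lam : K →ₗ[F] F} {s : QuadraticAlgebra K a b → QuadraticAlgebra K a b}

omit [Finite F] hab in
theorem norm_eq (hlam : lam ≠ 0) (hs : IsKIso lam s) (u : QuadraticAlgebra K a b) : norm (s u) = norm u := by
  apply sq_unique lam hlam
  intro k
  rw [mul_comm (norm (s u)), mul_comm (norm u), ← norm_algebraMap_mul, ← norm_algebraMap_mul, ← hs.smul, hs.iso]

omit [Finite F] [Finite K] hab in
theorem apply_mk (hs : IsKIso lam s) (x y : K) :
    s ⟨x, y⟩ = algebraMap K _ x * s 1 + algebraMap K _ y * s ω := by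
  have : (⟨x, y⟩ : QuadraticAlgebra K a b) = algebraMap K _ x * 1 + algebraMap K _ y * ω := by
    ext <;> simp
  rw [this, hs.add, hs.smul, hs.smul]

omit [Finite F] in
theorem norm_one (hlam : lam ≠ 0) (hs : IsKIso lam s) : norm (s 1) = 1 := by
  rw [hs.norm_eq hlam, map_one]

omit [Finite F] in
theorem cases (hlam : lam ≠ 0) (hs : IsKIso lam s) : (∀ u, s u = s 1 * u) ∨ (∀ u, s u = s 1 * star u) := by
  have hy1 : norm (s 1) = 1 := hs.norm_one hlam
  have hy0 : s 1 ≠ 0 := by
    intro h
    rw [h, QuadraticAlgebra.norm_zero] at hy1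
    exact zero_ne_one hy1
  have hinv : norm ((s 1)⁻¹) = 1 := by
    have : norm ((s 1)⁻¹) * norm (s 1) = 1 := by
      rw [← map_mul, inv_mul_cancel₀ hy0, map_one]
    rwa [hy1, mul_one] at this
  set w := (s 1)⁻¹ * s ω with hw
  have hsw : s ω = s 1 * w := by rw [hw, mul_inv_cancel_left₀ hy0]
  have hnw : norm w = -a := by
    rw [hw, map_mul, hinv, one_mul, hs.norm_eq hlam, norm_omega]
  have htw : trace w = b := by
    have h1 : norm (1 + w) = norm (1 + (ω : QuadraticAlgebra K a b)) := by
      have : 1 + w = (s 1)⁻¹ * s (1 + ω) := by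
        rw [hs.add, mul_add, inv_mul_cancel₀ hy0]
      rw [this, map_mul, hinv, one_mul, hs.norm_eq hlam]
    rw [norm_one_add, norm_one_add, hnw, norm_omega, trace_omega] at h1
    linear_combination h1
  rcases root_cases htw hnw with h | h
  · left
    rintro ⟨x, y⟩
    rw [hs.apply_mk, hsw, h]
    have : (⟨x, y⟩ : QuadraticAlgebra K a b) = algebraMap K _ x * 1 + algebraMap K _ y * ω := by
      ext <;> simp
    rw [this]
    ring
  · right
    rintro ⟨x, y⟩
    rw [hs.apply_mk, hsw, h]
    have : star (⟨x, y⟩ : QuadraticAlgebra K a b) = algebraMap K _ x * 1 + algebraMap K _ y * star ω := by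
      ext <;> simp <;> ring
    rw [this]
    ring

end IsKIso

omit [Finite F] [Algebra F K] in
/-- a norm-one element outside `K` -/
theorem exists_unit_nonK : ∃ y₀ : QuadraticAlgebra K a b, norm y₀ = 1 ∧ y₀.im ≠ 0 := by
  obtain ⟨z, hzim, hztr⟩ : ∃ z : QuadraticAlgebra K a b, z.im = 1 ∧ trace z ≠ 0 := by
    by_cases hb : b = 0
    · refine ⟨1 + ω, by simp, ?_⟩
      rw [map_add, trace_one, trace_omega, hb, add_zero]
      exact (two_or_b a b).resolve_right (fun h => h hb)
    · exact ⟨ω, by simp, by rw [trace_omega]; exact hb⟩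
  have hz0 : z ≠ 0 := by
    intro h
    rw [h] at hzim
    simp at hzim
  have hsz0 : star z ≠ 0 := by
    intro h
    apply hz0
    rw [← star_star z, h, star_zero]
  have hnz : norm z ≠ 0 := fun h => hz0 (norm_eq_zero_iff_eq_zero.mp h)
  refine ⟨z * (star z)⁻¹, ?_, ?_⟩
  · have h1 : norm (z * (star z)⁻¹) * norm (star z) = norm z := by
      rw [← map_mul, mul_assoc, inv_mul_cancel₀ hsz0, mul_one]
    rw [QuadraticAlgebra.norm_star] at h1
    exact mul_right_cancel₀ hnz (by rw [h1, one_mul])
  · intro him
    set y₀ := z * (star z)⁻¹ with hy₀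
    have hyk : y₀ = algebraMap K _ y₀.re := eq_algebraMap_of_im him
    have hz1 : z = algebraMap K _ y₀.re * star z := by
      rw [← hyk, hy₀, mul_assoc, inv_mul_cancel₀ hsz0, mul_one]
    have hz2 : star z = algebraMap K _ y₀.re * z := by
      have := congrArg star hz1
      rw [star_mul, star_star] at this
      rw [this]
      have : star (algebraMap K (QuadraticAlgebra K a b) y₀.re) = algebraMap K _ y₀.re := by
        ext <;> simp
      rw [this, mul_comm]
    have hz3 : (algebraMap K (QuadraticAlgebra K a b) (y₀.re * y₀.re - 1)) * z = 0 := by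
      rw [map_sub, map_mul, map_one, sub_mul, one_mul, mul_assoc, ← hz2, ← hz1, sub_self]
    have hk : y₀.re * y₀.re - 1 = 0 := by
      rcases mul_eq_zero.mp hz3 with h | h
      · exact (map_eq_zero _).mp h
      · exact absurd h hz0
    have hk' : (y₀.re - 1) * (y₀.re + 1) = 0 := by linear_combination hk
    rcases mul_eq_zero.mp hk' with h | h
    · have h1 : y₀.re = 1 := sub_eq_zero.mp h
      rw [h1, map_one, one_mul] at hz2
      have := im_eq_zero_of_star_eq hz2
      rw [hzim] at this
      exact one_ne_zero this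
    · have h1 : y₀.re = -1 := eq_neg_of_add_eq_zero_left h
      rw [h1, map_neg, map_one, neg_one_mul] at hz2
      have h2 : algebraMap K (QuadraticAlgebra K a b) (trace z) = 0 := by
        rw [algebraMap_trace_eq_add_star, hz2, add_neg_cancel]
      exact hztr ((map_eq_zero _).mp h2)

omit [Finite F] [Finite K] [Algebra F K] hab in
theorem exists_coeffs {y₀ : QuadraticAlgebra K a b} (h : y₀.im ≠ 0) (u : QuadraticAlgebra K a b) :
    ∃ p r : K, u = algebraMap K _ p + algebraMap K _ r * y₀ := by
  refine ⟨u.re - u.im / y₀.im * y₀.re, u.im / y₀.im, ?_⟩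
  ext
  · simp
  · simp
    field_simp

/-- the polar form of the norm -/
def polN (x y : QuadraticAlgebra K a b) : K := norm (x + y) - norm x - norm y

omit [Finite F] [Finite K] [Algebra F K] hab in
theorem algebraMap_polN (x y : QuadraticAlgebra K a b) :
    algebraMap K (QuadraticAlgebra K a b) (polN x y) = x * star y + y * star x := by
  unfold polN
  rw [map_sub, map_sub, algebraMap_norm_eq_mul_star, algebraMap_norm_eq_mul_star, algebraMap_norm_eq_mul_star, star_add]
  ring

omit [Finite F] [Finite K] [Algebra F K] hab in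
theorem star_algebraMap (k : K) : star (algebraMap K (QuadraticAlgebra K a b) k) = algebraMap K _ k := by
  ext <;> simp

omit [Finite F] [Finite K] [Algebra F K] hab in
theorem polN_adj (z u v : QuadraticAlgebra K a b) : polN (z * u) v = polN u (star z * v) := by
  apply (algebraMap K (QuadraticAlgebra K a b)).injective
  rw [algebraMap_polN, algebraMap_polN, star_mul, star_mul, star_star]
  ring

omit [Finite F] [Finite K] [Algebra F K] hab in
theorem polN_smul (k : K) (u v : QuadraticAlgebra K a b) : polN (algebraMap K _ k * u) v = k * polN u v := by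
  apply (algebraMap K (QuadraticAlgebra K a b)).injective
  rw [map_mul, algebraMap_polN, algebraMap_polN, star_mul, star_algebraMap]
  ring

omit [Finite F] [Finite K] [Algebra F K] hab in
theorem polN_add_right (u v w : QuadraticAlgebra K a b) : polN u (v + w) = polN u v + polN u w := by
  apply (algebraMap K (QuadraticAlgebra K a b)).injective
  rw [map_add, algebraMap_polN, algebraMap_polN, algebraMap_polN, star_add]
  ring

omit [Finite F] [Finite K] [Algebra F K] hab in
theorem polN_one_one : polN (1 : QuadraticAlgebra K a b) 1 = 2 := by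
  unfold polN
  simp only [norm_def, re_add, im_add, re_one, im_one]
  ring

omit [Finite F] [Finite K] [Algebra F K] hab in
theorem polN_one_omega : polN (1 : QuadraticAlgebra K a b) ω = b := by
  unfold polN
  simp only [norm_def, re_add, im_add, re_one, im_one, omega_re, omega_im]
  ring

omit [Finite F] in
/-- an element moved by `star` is not self-adjoint for the polar form of `lam ∘ norm` -/
theorem exists_polar_ne (lam : K →ₗ[F] F) (hlam : lam ≠ 0) {z : QuadraticAlgebra K a b} (hz : star z ≠ z) :
    ∃ u v : QuadraticAlgebra K a b, lam (polN (z * u) v) ≠ lam (polN u (z * v)) := by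
  by_contra hcon
  push Not at hcon
  set d := z - star z with hd
  have hd0 : d ≠ 0 := fun h => hz (sub_eq_zero.mp h).symm
  have h1 : ∀ u v : QuadraticAlgebra K a b, lam (polN u (d * v)) = 0 := by
    intro u v
    have e1 := hcon u v
    have e2 : z * v = star z * v + d * v := by rw [hd]; ring
    rw [polN_adj, e2, polN_add_right, map_add] at e1
    linear_combination -e1
  have h2 : ∀ u v : QuadraticAlgebra K a b, polN u v = 0 := by
    intro u v
    apply rep_unique lam hlam
    intro k
    rw [zero_mul, map_zero, mul_comm, ← polN_smul]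
    have := h1 (algebraMap K _ k * u) (d⁻¹ * v)
    rwa [mul_inv_cancel_left₀ hd0] at this
  rcases two_or_b a b with h | h
  · exact h (by rw [← polN_one_one (a := a) (b := b), h2])
  · exact h (by rw [← polN_one_omega (a := a) (b := b), h2])

omit [Finite F] [Finite K] [Algebra F K] in
theorem pow_card_pow_even {x : QuadraticAlgebra K a b} {q : ℕ} (hx : x ^ (q ^ 2) = x) (m : ℕ) :
    x ^ (q ^ (2 * m)) = x := by
  induction m with
  | zero => simp
  | succ m ih => rw [Nat.mul_succ, pow_add, pow_mul, ih, hx]

/-- `K₂ ∩ K = F` when `[K : F]` is odd -/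
theorem inter (hodd : Odd (Module.finrank F K)) {x : QuadraticAlgebra K a b}
    (hx : x ^ (Nat.card F ^ 2) = x) (hxK : x.im = 0) :
    ∃ c : F, algebraMap F (QuadraticAlgebra K a b) c = x := by
  apply exists_algebraMap_of_pow_card
  obtain ⟨m, hm⟩ := hodd
  have hxk := eq_algebraMap_of_im hxK
  have h1 : x ^ (Nat.card F ^ (2 * m + 1)) = x := by
    haveI : Fintype K := Fintype.ofFinite K
    have hcK : Nat.card K = Nat.card F ^ (2 * m + 1) := by
      rw [← hm]
      exact Module.natCard_eq_pow_finrank (K := F) (V := K)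
    rw [← hcK, hxk, ← map_pow, Nat.card_eq_fintype_card, FiniteField.pow_card]
  rw [pow_succ, pow_mul, pow_card_pow_even hx] at h1
  exact h1

/-- **the quadratic subfield of unitary type** of the model `(L, lam ∘ norm)` -/
theorem exists_unitary_subfield (lam : K →ₗ[F] F) (hlam : lam ≠ 0) (hodd : Odd (Module.finrank F K)) :
    ∃ K₂ : Subalgebra F (QuadraticAlgebra K a b), Module.finrank F K₂ = 2 ∧
      (∀ z ∈ K₂, star z ∈ K₂) ∧ (∃ z ∈ K₂, star z ≠ z) ∧
      (∀ z ∈ K₂, ∃ c : F, norm z = algebraMap F K c) ∧
      (∀ z ∈ K₂, z ≠ 0 → z⁻¹ ∈ K₂) ∧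
      (∀ h : QuadraticAlgebra K a b ≃+ QuadraticAlgebra K a b, (∀ u, lam (norm (h u)) = lam (norm u)) →
        (∀ k : K, ∃ k' : K, ∀ u, h (algebraMap K _ k * u) = algebraMap K _ k' * h u) →
        (∀ k : K, ∃ k' : K, ∀ u, h.symm (algebraMap K _ k * u) = algebraMap K _ k' * h.symm u) →
        ∀ z ∈ K₂, ∃ z' ∈ K₂, ∀ u, h (z * h.symm u) = z' * u) := by
  haveI : Finite (QuadraticAlgebra K a b) := finite_L
  have h2 : 2 ∣ Module.finrank F (QuadraticAlgebra K a b) := by
    rw [← Module.finrank_mul_finrank F K (QuadraticAlgebra K a b), QuadraticAlgebra.finrank_eq_two]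
    exact dvd_mul_left 2 _
  obtain ⟨K₂, hfin, hmem⟩ := exists_K2 F (QuadraticAlgebra K a b) h2
  refine ⟨K₂, hfin, ?_, ?_, ?_, ?_, ?_⟩
  · intro z hz
    rw [hmem] at hz ⊢
    rw [← star_pow, hz]
  · by_contra hcon
    push Not at hcon
    have hle : K₂ ≤ (⊥ : Subalgebra F (QuadraticAlgebra K a b)) := by
      intro z hz
      obtain ⟨c, hc⟩ := inter hodd ((hmem z).mp hz) (im_eq_zero_of_star_eq (hcon z hz))
      rw [← hc]
      exact Subalgebra.algebraMap_mem _ c
    have h3 : Module.finrank F K₂ ≤ Module.finrank F (⊥ : Subalgebra F (QuadraticAlgebra K a b)) :=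
      Submodule.finrank_mono (s := Subalgebra.toSubmodule K₂) (t := Subalgebra.toSubmodule ⊥) hle
    rw [hfin, Subalgebra.finrank_bot] at h3
    omega
  · intro z hz
    have hz' : algebraMap K (QuadraticAlgebra K a b) (norm z) ∈ K₂ := by
      rw [algebraMap_norm_eq_mul_star]
      exact K₂.mul_mem hz (by rw [hmem] at hz ⊢; rw [← star_pow, hz])
    obtain ⟨c, hc⟩ := inter hodd ((hmem _).mp hz') (by simp)
    refine ⟨c, ?_⟩
    apply (algebraMap K (QuadraticAlgebra K a b)).injective
    rw [← hc, IsScalarTower.algebraMap_apply F K (QuadraticAlgebra K a b)]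
  · intro z hz _
    rw [hmem] at hz ⊢
    rw [inv_pow, hz]
  · intro h hiso hK hK' z hz
    obtain ⟨y₀, hy₀n, hy₀i⟩ := exists_unit_nonK (K := K) (a := a) (b := b)
    -- the conjugate of multiplication by `y₀`
    have hs : IsKIso lam (fun u => h (y₀ * h.symm u)) := by
      refine ⟨fun u v => ?_, fun k u => ?_, fun u => ?_⟩
      · simp only [map_add, mul_add]
      · obtain ⟨k', hk'⟩ := hK' k
        obtain ⟨k'', hk''⟩ := hK k'
        have hkk : algebraMap K (QuadraticAlgebra K a b) k'' = algebraMap K _ k := by
          have e1 := hk'' (h.symm 1)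
          rw [← hk' 1, mul_one, AddEquiv.apply_symm_apply, AddEquiv.apply_symm_apply, mul_one] at e1
          exact e1.symm
        show h (y₀ * h.symm (algebraMap K _ k * u)) = algebraMap K _ k * h (y₀ * h.symm u)
        rw [hk', ← hkk, ← hk'']
        congr 1
        ring
      · show lam (norm (h (y₀ * h.symm u))) = lam (norm u)
        rw [hiso, map_mul, hy₀n, one_mul, ← hiso (h.symm u), AddEquiv.apply_symm_apply]
    have hy₀sq : y₀ * y₀ ≠ 1 := by
      intro hsq
      have : (y₀ - 1) * (y₀ + 1) = 0 := by linear_combination hsq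
      rcases mul_eq_zero.mp this with h' | h'
      · apply hy₀i
        rw [sub_eq_zero.mp h']
        simp
      · apply hy₀i
        rw [eq_neg_of_add_eq_zero_left h']
        simp
    have hA : ∀ u, h (y₀ * h.symm u) = h (y₀ * h.symm 1) * u := by
      rcases hs.cases hlam with hA | hB
      · exact hA
      · exfalso
        apply hy₀sq
        have hn1 : norm (h (y₀ * h.symm 1)) = 1 := hs.norm_one hlam
        have e1 : ∀ u, h (y₀ * h.symm (h (y₀ * h.symm u))) = u := by
          intro u
          have := hB (h (y₀ * h.symm u))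
          rw [this, hB u, star_mul, star_star, ← mul_assoc, mul_right_comm, ← algebraMap_norm_eq_mul_star, hn1, map_one, one_mul]
        have e2 := e1 (h 1)
        rw [AddEquiv.symm_apply_apply, AddEquiv.symm_apply_apply, mul_one] at e2
        have e3 := congrArg h.symm e2
        rw [AddEquiv.symm_apply_apply, AddEquiv.symm_apply_apply] at e3
        exact e3
    set y := h (y₀ * h.symm 1) with hy
    obtain ⟨p, r, hz_eq⟩ := exists_coeffs hy₀i z
    obtain ⟨p', hp'⟩ := hK p
    obtain ⟨r', hr'⟩ := hK r
    have hz' : ∀ u, h (z * h.symm u) = (algebraMap K _ p' + algebraMap K _ r' * y) * u := by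
      intro u
      rw [hz_eq, add_mul, map_add, hp', mul_assoc, hr', hA, AddEquiv.apply_symm_apply]
      ring
    refine ⟨algebraMap K _ p' + algebraMap K _ r' * y, ?_, hz'⟩
    set z' := algebraMap K (QuadraticAlgebra K a b) p' + algebraMap K _ r' * y with hz'def
    have hpow : ∀ (n : ℕ) u, h (z ^ n * h.symm u) = z' ^ n * u := by
      intro n
      induction n with
      | zero => intro u; simp
      | succ n ih =>
        intro u
        rw [pow_succ, pow_succ, mul_assoc, mul_assoc, ← hz' u, ← ih, AddEquiv.symm_apply_apply]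
    rw [hmem] at hz ⊢
    have e1 := hpow (Nat.card F ^ 2) 1
    rw [hz, hz' 1, mul_one, mul_one] at e1
    exact e1.symm

end partB

end Cfsg.Agent.Lib.Helper18.OEField5
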