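import Mathlib
import Cfsg.Prelude.Def_GeometricClasses
import Cfsg.Agent.Lib.Helper18.OEField5B

/-!
# Even orthogonal rows, class 3, `n = 2r`: a self-adjoint field of odd degree `r` WITHOUT totally singular `K`-lines
(`O₂⁻(q^r)`) lies in the normaliser of a quadratic field of unitary type (`GU_r(q)`)  (helper18)

`exists_unitaryField_of_anisotropic` : the minus half of E-FIELD5 (rows S5850 / S5847).
-/

set_option autoImplicit false
set_option linter.unusedSectionVars false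
set_option linter.unusedVariables false

namespace Cfsg.Agent.Lib.Helper18.OEField5

open Matrix Cfsg Cfsg.Geo QuadraticMap

section bridge

variable {F : Type*} [Field F] {ι : Type} [Fintype ι] [DecidableEq ι]
  {L : Type*} [CommRing L] [Algebra F L]

/-- the matrix of multiplication by `z` transported along `Ψ` -/
noncomputable def theta (Ψ : L ≃ₗ[F] (ι → F)) : L →ₐ[F] Matrix ι ι F :=
  (LinearMap.toMatrixAlgEquiv' : ((ι → F) →ₗ[F] (ι → F)) ≃ₐ[F] Matrix ι ι F).toAlgHom.comp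
    ((Ψ.conjAlgEquiv F).toAlgHom.comp (Algebra.lmul F L))

theorem theta_mulVec (Ψ : L ≃ₗ[F] (ι → F)) (z : L) (v : ι → F) : theta Ψ z *ᵥ v = Ψ (z * Ψ.symm v) := by
  rw [← Matrix.toLinAlgEquiv'_apply]
  change Matrix.toLinAlgEquiv' (LinearMap.toMatrixAlgEquiv' (Ψ.conjAlgEquiv F (Algebra.lmul F L z))) v = _
  rw [Matrix.toLinAlgEquiv'_toMatrixAlgEquiv', LinearEquiv.conjAlgEquiv_apply]
  simp

theorem theta_mulVec_apply (Ψ : L ≃ₗ[F] (ι → F)) (z u : L) : theta Ψ z *ᵥ Ψ u = Ψ (z * u) := by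
  rw [theta_mulVec, LinearEquiv.symm_apply_apply]

theorem mat_ext_of (Ψ : L ≃ₗ[F] (ι → F)) {A B : Matrix ι ι F} (h : ∀ u : L, A *ᵥ Ψ u = B *ᵥ Ψ u) : A = B := by
  apply Matrix.toLin'.injective
  apply LinearMap.ext
  intro v
  rw [Matrix.toLin'_apply, Matrix.toLin'_apply]
  have := h (Ψ.symm v)
  rwa [LinearEquiv.apply_symm_apply] at this

theorem theta_injective (Ψ : L ≃ₗ[F] (ι → F)) : Function.Injective (theta Ψ) := by
  intro z z' h
  have h1 := theta_mulVec_apply Ψ z 1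
  rw [h, theta_mulVec_apply, mul_one, mul_one] at h1
  exact (Ψ.injective h1).symm

end bridge

section main

universe u

variable {F : Type u} [Field F] [Fintype F] {ι : Type} [Fintype ι] [DecidableEq ι] {Q : (ι → F) → F}

/-- a field subalgebra as an abstract field with an embedding -/
theorem exists_abstract_field [Nonempty ι] {r : ℕ} (K : Subalgebra F (Matrix ι ι F)) (hK : IsFieldSubalgebra r K) :
    ∃ (K' : Type u) (_ : Field K') (_ : Algebra F K') (φ : K' →ₐ[F] Matrix ι ι F),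
      Function.Injective φ ∧ (∀ m, m ∈ K ↔ ∃ k, φ k = m) ∧ Module.finrank F K' = r := by
  have hfield : IsField ↥K :=
    { exists_pair_ne := by
        refine ⟨0, 1, ?_⟩
        intro h
        have := congrArg Subtype.val h
        exact zero_ne_one this
      mul_comm := fun a b => Subtype.ext (hK.comm a a.2 b b.2)
      mul_inv_cancel := by
        intro a ha
        have ha' : (a : Matrix ι ι F) ≠ 0 := fun h => ha (Subtype.ext h)
        obtain ⟨y, hy, hxy⟩ := hK.inv a a.2 ha'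
        exact ⟨⟨y, hy⟩, Subtype.ext hxy⟩ }
  exact ⟨↥K, hfield.toField, K.algebra, K.val, Subtype.val_injective,
    fun m => ⟨fun hm => ⟨⟨m, hm⟩, rfl⟩, fun ⟨k, hk⟩ => hk ▸ k.2⟩, hK.finrank_eq⟩

open QuadraticAlgebra in
/-- **the minus half of E-FIELD5**: `n = 2r`, `r` odd, `K` a self-adjoint field subalgebra of degree `r` without totally singular
`K`-lines: there is a quadratic field subalgebra `K₂` of unitary type, commuting with `K`, with `N(K) ∩ I(Q) ≤ N(K₂)`. -/
theorem exists_unitaryField_of_anisotropic (hQ : IsNondegenerateQuadraticForm Q) (r : ℕ) (hr : Odd r)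
    (hcard : Fintype.card ι = 2 * r) (K : Subalgebra F (Matrix ι ι F)) (hK : IsFieldSubalgebra r K)
    (hsa : IsSelfAdjointFor (polar Q) K) (hani : ∀ v : ι → F, v ≠ 0 → ∃ k ∈ K, Q (k *ᵥ v) ≠ 0) :
    ∃ K₂ : Subalgebra F (Matrix ι ι F), IsFieldSubalgebra 2 K₂ ∧ (∀ k ∈ K, ∀ z ∈ K₂, k * z = z * k) ∧
      IsAdjointClosedFor (polar Q) K₂ ∧ ¬ IsSelfAdjointFor (polar Q) K₂ ∧
      (∀ z ∈ K₂, ∃ c : F, ∀ v : ι → F, Q (z *ᵥ v) = c * Q v) ∧
      subalgebraNormalizer K ⊓ isometryGroup F Q ≤ subalgebraNormalizer K₂ := by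
  have hrpos : 0 < r := hr.pos
  haveI : Nonempty ι := by
    rw [← Fintype.card_pos_iff]
    omega
  obtain ⟨K', instF, instA, φ, hφinj, hφmem, hfinK⟩ := exists_abstract_field K hK
  letI : Module K' (ι → F) :=
    Module.compHom (ι → F) (((Matrix.toLinAlgEquiv' (R := F) (n := ι)).toAlgHom.comp φ).toRingHom)
  have hsmul : ∀ (k : K') (v : ι → F), k • v = φ k *ᵥ v := fun k v => rfl
  haveI htower : IsScalarTower F K' (ι → F) := by
    refine ⟨fun c a v => ?_⟩
    rw [hsmul, hsmul, map_smul, Matrix.smul_mulVec]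
  haveI : Finite K' := Finite.of_injective φ hφinj
  have hdim : Module.finrank K' (ι → F) = 2 := by
    have h := Module.finrank_mul_finrank F K' (ι → F)
    rw [Module.finrank_fintype_fun_eq_card, hfinK, hcard] at h
    have : r * Module.finrank K' (ι → F) = r * 2 := by rw [h]; ring
    exact Nat.eq_of_mul_eq_mul_left hrpos this
  have hKQ : KQuad K' Q :=
    { smul := fun c v => by rw [hQ.smul, pow_two]
      add_left := hQ.polar_bilinear.add_left
      smul_left := hQ.polar_bilinear.smul_left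
      sa := fun k u v => by
        rw [hsmul, hsmul]
        exact hsa (φ k) ((hφmem _).mpr ⟨k, rfl⟩) u v
      aniso := fun v hv => by
        obtain ⟨k, hk, hkv⟩ := hani v hv
        obtain ⟨k', rfl⟩ := (hφmem k).mp hk
        exact ⟨k', hkv⟩ }
  obtain ⟨a, b, lam, Ψ, hfact, hlam, hΨ⟩ := exists_model hKQ hdim
  haveI : Fact (∀ r : K', r ^ 2 ≠ a + b * r) := ⟨hfact⟩
  obtain ⟨K₂L, hfin2, hstar, ⟨z₁, hz₁, hz₁s⟩, hnorm, hinv, hnormalize⟩ :=
    exists_unitary_subfield (a := a) (b := b) lam hlam (by rw [hfinK]; exact hr)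
  -- transport
  set ΨF : QuadraticAlgebra K' a b ≃ₗ[F] (ι → F) := Ψ.restrictScalars F with hΨF
  have hΨF_apply : ∀ u, ΨF u = Ψ u := fun u => rfl
  have hΨK : ∀ (k : K') (u : QuadraticAlgebra K' a b), ΨF (algebraMap K' _ k * u) = φ k *ᵥ ΨF u := by
    intro k u
    rw [hΨF_apply, hΨF_apply, ← hsmul, ← map_smul, Algebra.smul_def]
  have hQΨ : ∀ u, Q (ΨF u) = lam (QuadraticAlgebra.norm u) := hΨ
  have hpolar : ∀ x y, polar Q (ΨF x) (ΨF y) = lam (polN x y) := by
    intro x y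
    unfold polar polN
    rw [← map_add, hQΨ, hQΨ, hQΨ, map_sub, map_sub]
  have hmm : ∀ m, m ∈ K₂L.map (theta ΨF) ↔ ∃ z ∈ K₂L, theta ΨF z = m := fun m => Subalgebra.mem_map
  refine ⟨K₂L.map (theta ΨF), ⟨?_, ?_, ?_⟩, ?_, ?_, ?_, ?_, ?_⟩
  · -- commutative
    intro x' hx' y' hy'
    obtain ⟨x, -, rfl⟩ := (hmm _).mp hx'
    obtain ⟨y, -, rfl⟩ := (hmm _).mp hy'
    rw [← map_mul, ← map_mul, mul_comm]
  · -- inverses
    intro x' hx' hx0
    obtain ⟨x, hx, rfl⟩ := (hmm _).mp hx'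
    have hx0' : x ≠ 0 := by
      intro h
      apply hx0
      rw [h, map_zero]
    refine ⟨theta ΨF x⁻¹, (hmm _).mpr ⟨x⁻¹, hinv x hx hx0', rfl⟩, ?_⟩
    rw [← map_mul, mul_inv_cancel₀ hx0', map_one]
  · -- degree
    rw [← (K₂L.equivMapOfInjective (theta ΨF) (theta_injective ΨF)).toLinearEquiv.finrank_eq, hfin2]
  · -- commutes with `K`
    intro k hk z' hz'
    obtain ⟨z, -, rfl⟩ := (hmm _).mp hz'
    obtain ⟨k', rfl⟩ := (hφmem k).mp hk
    apply mat_ext_of ΨF
    intro u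
    rw [← Matrix.mulVec_mulVec, ← Matrix.mulVec_mulVec, theta_mulVec_apply, ← hΨK, ← hΨK, theta_mulVec_apply]
    congr 1
    ring
  · -- adjoint closed
    intro z' hz'
    obtain ⟨z, hz, rfl⟩ := (hmm _).mp hz'
    refine ⟨theta ΨF (star z), (hmm _).mpr ⟨star z, hstar z hz, rfl⟩, fun u v => ?_⟩
    obtain ⟨u', rfl⟩ := ΨF.surjective u
    obtain ⟨v', rfl⟩ := ΨF.surjective v
    rw [theta_mulVec_apply, theta_mulVec_apply, hpolar, hpolar, polN_adj]
  · -- not self-adjoint
    intro hself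
    obtain ⟨u, v, huv⟩ := exists_polar_ne lam hlam hz₁s
    apply huv
    have := hself (theta ΨF z₁) ((hmm _).mpr ⟨z₁, hz₁, rfl⟩) (ΨF u) (ΨF v)
    rwa [theta_mulVec_apply, theta_mulVec_apply, hpolar, hpolar] at this
  · -- similarities
    intro z' hz'
    obtain ⟨z, hz, rfl⟩ := (hmm _).mp hz'
    obtain ⟨c, hc⟩ := hnorm z hz
    refine ⟨c, fun v => ?_⟩
    obtain ⟨v', rfl⟩ := ΨF.surjective v
    rw [theta_mulVec_apply, hQΨ, hQΨ, map_mul, hc, ← Algebra.smul_def, map_smul, smul_eq_mul]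
  · -- the normaliser
    have key : ∀ g : GL ι F, g ∈ subalgebraNormalizer K ⊓ isometryGroup F Q → ∀ m ∈ K₂L.map (theta ΨF),
        (g : Matrix ι ι F) * m * ((g⁻¹ : GL ι F) : Matrix ι ι F) ∈ K₂L.map (theta ΨF) := by
      rintro g ⟨hgN, hgI⟩ m hm
      obtain ⟨z, hz, rfl⟩ := (hmm _).mp hm
      have hgg : ((g⁻¹ : GL ι F) : Matrix ι ι F) * (g : Matrix ι ι F) = 1 := by
        rw [← Units.val_mul, inv_mul_cancel, Units.val_one]
      have hgg' : (g : Matrix ι ι F) * ((g⁻¹ : GL ι F) : Matrix ι ι F) = 1 := by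
        rw [← Units.val_mul, mul_inv_cancel, Units.val_one]
      -- the map induced by `g` on the model
      let h : QuadraticAlgebra K' a b ≃+ QuadraticAlgebra K' a b :=
        { toFun := fun u => ΨF.symm ((g : Matrix ι ι F) *ᵥ ΨF u)
          invFun := fun u => ΨF.symm (((g⁻¹ : GL ι F) : Matrix ι ι F) *ᵥ ΨF u)
          left_inv := fun u => by
            simp only [LinearEquiv.apply_symm_apply, Matrix.mulVec_mulVec, hgg, Matrix.one_mulVec,
              LinearEquiv.symm_apply_apply]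
          right_inv := fun u => by
            simp only [LinearEquiv.apply_symm_apply, Matrix.mulVec_mulVec, hgg', Matrix.one_mulVec,
              LinearEquiv.symm_apply_apply]
          map_add' := fun u v => by
            simp only [map_add, Matrix.mulVec_add] }
      have hh : ∀ u, ΨF (h u) = (g : Matrix ι ι F) *ᵥ ΨF u := fun u => LinearEquiv.apply_symm_apply _ _
      have hh' : ∀ u, ΨF (h.symm u) = ((g⁻¹ : GL ι F) : Matrix ι ι F) *ᵥ ΨF u :=
        fun u => LinearEquiv.apply_symm_apply _ _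
      have hiso : ∀ u, lam (QuadraticAlgebra.norm (h u)) = lam (QuadraticAlgebra.norm u) := by
        intro u
        rw [← hQΨ, ← hQΨ, hh]
        exact hgI (ΨF u) (ΨF u)
      have hnK : ∀ (g' : GL ι F), g' ∈ subalgebraNormalizer K → ∀ k : K', ∃ k' : K',
          φ k' = (g' : Matrix ι ι F) * φ k * ((g'⁻¹ : GL ι F) : Matrix ι ι F) :=
        fun g' hg' k => (hφmem _).mp ((hg' (φ k)).mp ((hφmem _).mpr ⟨k, rfl⟩))
      have hK1 : ∀ k : K', ∃ k' : K', ∀ u, h (algebraMap K' _ k * u) = algebraMap K' _ k' * h u := by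
        intro k
        obtain ⟨k', hk'⟩ := hnK g hgN k
        refine ⟨k', fun u => ?_⟩
        apply ΨF.injective
        rw [hh, hΨK, hΨK, hh, hk', Matrix.mulVec_mulVec, Matrix.mulVec_mulVec]
        congr 1
        rw [mul_assoc, mul_assoc, hgg, mul_one]
      have hK2 : ∀ k : K', ∃ k' : K', ∀ u, h.symm (algebraMap K' _ k * u) = algebraMap K' _ k' * h.symm u := by
        intro k
        have hginv : g⁻¹ ∈ subalgebraNormalizer K := Subgroup.inv_mem _ hgN
        obtain ⟨k', hk'⟩ := hnK g⁻¹ hginv k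
        refine ⟨k', fun u => ?_⟩
        apply ΨF.injective
        rw [hh', hΨK, hΨK, hh', hk', Matrix.mulVec_mulVec, Matrix.mulVec_mulVec]
        congr 1
        rw [inv_inv, mul_assoc, mul_assoc, hgg', mul_one]
      obtain ⟨z', hz', hzz'⟩ := hnormalize h hiso hK1 hK2 z hz
      refine (hmm _).mpr ⟨z', hz', ?_⟩
      apply mat_ext_of ΨF
      intro u
      rw [theta_mulVec_apply, ← hzz', hh, ← theta_mulVec_apply, hh', Matrix.mulVec_mulVec, Matrix.mulVec_mulVec]
    intro g hg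
    have hg' : g⁻¹ ∈ subalgebraNormalizer K ⊓ isometryGroup F Q := Subgroup.inv_mem _ hg
    intro m
    constructor
    · exact key g hg m
    · intro hm
      have := key g⁻¹ hg' _ hm
      rw [inv_inv] at this
      have e : ((g⁻¹ : GL ι F) : Matrix ι ι F) * ((g : Matrix ι ι F) * m * ((g⁻¹ : GL ι F) : Matrix ι ι F)) *
          (g : Matrix ι ι F) = m := by
        have hgg : ((g⁻¹ : GL ι F) : Matrix ι ι F) * (g : Matrix ι ι F) = 1 := by
          rw [← Units.val_mul, inv_mul_cancel, Units.val_one]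
        calc _ = (((g⁻¹ : GL ι F) : Matrix ι ι F) * (g : Matrix ι ι F)) * m *
              (((g⁻¹ : GL ι F) : Matrix ι ι F) * (g : Matrix ι ι F)) := by simp only [mul_assoc]
          _ = m := by rw [hgg, one_mul, mul_one]
      rwa [e] at this

/-- the `Fin n` form -/
theorem exists_unitaryField_of_anisotropic_fin {n : ℕ} {Q : (Fin n → F) → F} (hQ : IsNondegenerateQuadraticForm Q)
    (r : ℕ) (hr : Odd r) (hn : n = 2 * r) (K : Subalgebra F (Matrix (Fin n) (Fin n) F)) (hK : IsFieldSubalgebra r K)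
    (hsa : IsSelfAdjointFor (polar Q) K) (hani : ∀ v : Fin n → F, v ≠ 0 → ∃ k ∈ K, Q (k *ᵥ v) ≠ 0) :
    ∃ K₂ : Subalgebra F (Matrix (Fin n) (Fin n) F), IsFieldSubalgebra 2 K₂ ∧ (∀ k ∈ K, ∀ z ∈ K₂, k * z = z * k) ∧
      IsAdjointClosedFor (polar Q) K₂ ∧ ¬ IsSelfAdjointFor (polar Q) K₂ ∧
      (∀ z ∈ K₂, ∃ c : F, ∀ v : Fin n → F, Q (z *ᵥ v) = c * Q v) ∧
      subalgebraNormalizer K ⊓ isometryGroup F Q ≤ subalgebraNormalizer K₂ :=
  exists_unitaryField_of_anisotropic hQ r hr (by rw [Fintype.card_fin]; exact hn) K hK hsa hani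

/-- if some `K`-line is NOT anisotropic it is totally singular: the alternative to `hani` -/
theorem exists_singular_line_of_not_anisotropic (K : Subalgebra F (Matrix ι ι F))
    (h : ¬ ∀ v : ι → F, v ≠ 0 → ∃ k ∈ K, Q (k *ᵥ v) ≠ 0) : ∃ v : ι → F, v ≠ 0 ∧ ∀ k ∈ K, Q (k *ᵥ v) = 0 := by
  push Not at h
  exact h

end main

end Cfsg.Agent.Lib.Helper18.OEField5
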