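import Mathlib
import Cfsg.Prelude.Def_GeometricClasses
import Cfsg.Agent.Lib.Helper28.OECorF2m
import Cfsg.Agent.Lib.Helper18.OEField5

/-!
# Even orthogonal rows: F2m `field_half_minus` (helper1's skeleton, EXACT signature) and the CORE
`exists_unitaryField_of_no_ts_line` (helper17's statement, EXACT signature), from `Helper18.OEField5`  (helper18)
-/

set_option autoImplicit false

namespace Cfsg.Agent.Lib.Helper18.OECorF2m

open Matrix Cfsg Cfsg.Geo Module QuadraticMap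

variable {F : Type*} [Field F] [Fintype F] {n : ℕ}

/-- the CORE in the shape of helper17's msg 3758 -/
theorem exists_unitaryField_of_no_ts_line {Q : (Fin n → F) → F} (hQ : IsNondegenerateQuadraticForm Q) (r : ℕ)
    (hr : r.Prime) (hodd : Odd r) (hn : n = 2 * r) (K : Subalgebra F (Matrix (Fin n) (Fin n) F))
    (hK : IsFieldSubalgebra r K) (hsa : IsSelfAdjointFor (polar Q) K)
    (hno : ∀ v : Fin n → F, v ≠ 0 → ∃ k ∈ K, Q (k *ᵥ v) ≠ 0) :
    ∃ K' : Subalgebra F (Matrix (Fin n) (Fin n) F), IsFieldSubalgebra 2 K' ∧ IsAdjointClosedFor (polar Q) K' ∧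
      ¬ IsSelfAdjointFor (polar Q) K' ∧ (∀ k ∈ K', ∃ c : F, ∀ v : Fin n → F, Q (k *ᵥ v) = c * Q v) ∧
      subalgebraNormalizer K ⊓ isometryGroup F Q ≤ subalgebraNormalizer K' := by
  obtain ⟨K', h1, -, h2, h3, h4, h5⟩ :=
    Cfsg.Agent.Lib.Helper18.OEField5.exists_unitaryField_of_anisotropic_fin hQ r hodd hn K hK hsa hno
  exact ⟨K', h1, h2, h3, h4, h5⟩

/-- **F2m** (helper1's `field_half_minus`, EXACT signature) -/
theorem field_half_minus {Q : (Fin n → F) → F} (hQ : IsNondegenerateQuadraticForm Q) (r : ℕ) (hr : r.Prime)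
    (hodd : Odd r) (hn : n = 2 * r) (hminus : ¬ IsPlusTypeOn Q ⊤)
    (K : Subalgebra F (Matrix (Fin n) (Fin n) F)) (hK : IsFieldSubalgebra r K)
    (hsa : IsSelfAdjointFor (polar Q) K) :
    ∃ K₂ : Subalgebra F (Matrix (Fin n) (Fin n) F), IsFieldSubalgebra 2 K₂ ∧
      IsAdjointClosedFor (polar Q) K₂ ∧ ¬ IsSelfAdjointFor (polar Q) K₂ ∧
      (∀ k ∈ K₂, ∃ c : F, ∀ v : Fin n → F, Q (k *ᵥ v) = c * Q v) ∧
      subalgebraNormalizer K ⊓ isometryGroup F Q ≤ subalgebraNormalizer K₂ :=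
  Cfsg.Agent.Lib.Helper28.OECorF2m.field_half_minus_of_core
    (fun r hr hodd hn K hK hsa hno => exists_unitaryField_of_no_ts_line hQ r hr hodd hn K hK hsa hno)
    r hr hodd hn hminus K hK hsa

end Cfsg.Agent.Lib.Helper18.OECorF2m
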