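import Mathlib
import Cfsg.Agent.Lib.Helper7.NormalComplement

/-!
# Groups of order dividing 45, of order 90 (helper18)

In a group of order 45 or 90, elements of order dividing 5 commute with elements of order
dividing 9.
-/

set_option autoImplicit false
set_option linter.unusedSectionVars false

namespace Cfsg.Agent.Lib.Helper18.Ord45

variable {N : Type*} [Group N] [Finite N]

/-- an element of `q`-power order lies in the unique Sylow `q`-subgroup -/
theorem mem_of_subsingleton_sylow_pow (q : ℕ) [Fact q.Prime]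
    (hss : Subsingleton (Sylow q N)) (Q : Sylow q N) (w : N) (k : ℕ) (hw : w ^ (q ^ k) = 1) :
    w ∈ (Q : Subgroup N) := by
  have hpg : IsPGroup q (Subgroup.zpowers w) := by
    rintro ⟨g, hg⟩
    refine ⟨k, ?_⟩
    rw [Subgroup.mem_zpowers_iff] at hg
    obtain ⟨i, rfl⟩ := hg
    apply Subtype.ext
    simp only [SubmonoidClass.mk_pow, OneMemClass.coe_one]
    rw [← zpow_natCast, ← zpow_mul, mul_comm, zpow_mul, zpow_natCast, hw, one_zpow]
  obtain ⟨Q', hQ'⟩ := hpg.exists_le_sylow
  have : Q' = Q := Subsingleton.elim _ _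
  rw [← this]
  exact hQ' (Subgroup.mem_zpowers w)

theorem subsingleton_sylow_five (h : Nat.card N ∣ 45) : Subsingleton (Sylow 5 N) := by
  haveI : Fact (Nat.Prime 5) := ⟨by norm_num⟩
  obtain ⟨P⟩ : Nonempty (Sylow 5 N) := inferInstance
  have h1 : Nat.card (Sylow 5 N) ∣ (P : Subgroup N).index := Sylow.card_dvd_index P
  have h2 : ¬ 5 ∣ (P : Subgroup N).index := Sylow.not_dvd_index P
  have h3 : (P : Subgroup N).index ∣ 5 * 9 := (Subgroup.index_dvd_card _).trans h
  have hcop : Nat.Coprime (P : Subgroup N).index 5 :=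
    ((Nat.Prime.coprime_iff_not_dvd (by norm_num)).2 h2).symm
  have h4 : (P : Subgroup N).index ∣ 9 := hcop.dvd_of_dvd_mul_left h3
  have h5 : Nat.card (Sylow 5 N) ∣ 9 := h1.trans h4
  have h6 : Nat.card (Sylow 5 N) % 5 = 1 := by
    have := card_sylow_modEq_one 5 N
    unfold Nat.ModEq at this
    rw [this]
  have hle : Nat.card (Sylow 5 N) ≤ 9 := Nat.le_of_dvd (by norm_num) h5
  have h7 : Nat.card (Sylow 5 N) = 1 := by
    generalize Nat.card (Sylow 5 N) = n at *
    interval_cases n <;> omega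
  exact (Nat.card_eq_one_iff_unique.mp h7).1

theorem subsingleton_sylow_three (h : Nat.card N ∣ 45) : Subsingleton (Sylow 3 N) := by
  haveI : Fact (Nat.Prime 3) := ⟨by norm_num⟩
  obtain ⟨P⟩ : Nonempty (Sylow 3 N) := inferInstance
  have h1 : Nat.card (Sylow 3 N) ∣ (P : Subgroup N).index := Sylow.card_dvd_index P
  have h2 : ¬ 3 ∣ (P : Subgroup N).index := Sylow.not_dvd_index P
  have h3 : (P : Subgroup N).index ∣ 9 * 5 := (Subgroup.index_dvd_card _).trans h
  have hcop : Nat.Coprime (P : Subgroup N).index 9 := by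
    have : Nat.Coprime (P : Subgroup N).index 3 :=
      ((Nat.Prime.coprime_iff_not_dvd (by norm_num)).2 h2).symm
    exact Nat.Coprime.pow_right 2 this
  have h4 : (P : Subgroup N).index ∣ 5 := hcop.dvd_of_dvd_mul_left h3
  have h5 : Nat.card (Sylow 3 N) ∣ 5 := h1.trans h4
  have h6 : Nat.card (Sylow 3 N) % 3 = 1 := by
    have := card_sylow_modEq_one 3 N
    unfold Nat.ModEq at this
    rw [this]
  have hle : Nat.card (Sylow 3 N) ≤ 5 := Nat.le_of_dvd (by norm_num) h5
  have h7 : Nat.card (Sylow 3 N) = 1 := by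
    generalize Nat.card (Sylow 3 N) = n at *
    interval_cases n <;> omega
  exact (Nat.card_eq_one_iff_unique.mp h7).1

/-- in a group of order dividing 45, `5`-elements commute with `3`-elements -/
theorem comm_of_card_dvd_45 (h : Nat.card N ∣ 45) (a b : N) (ha : a ^ 5 = 1) (hb : b ^ 9 = 1) :
    a * b = b * a := by
  haveI : Fact (Nat.Prime 5) := ⟨by norm_num⟩
  haveI : Fact (Nat.Prime 3) := ⟨by norm_num⟩
  haveI h5 := subsingleton_sylow_five h
  haveI h3 := subsingleton_sylow_three h
  obtain ⟨P5⟩ : Nonempty (Sylow 5 N) := inferInstance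
  obtain ⟨P3⟩ : Nonempty (Sylow 3 N) := inferInstance
  have ha' : a ∈ (P5 : Subgroup N) :=
    mem_of_subsingleton_sylow_pow 5 h5 P5 a 1 (by rw [pow_one]; exact ha)
  have hb' : b ∈ (P3 : Subgroup N) :=
    mem_of_subsingleton_sylow_pow 3 h3 P3 b 2 (by norm_num; exact hb)
  have hn5 : (P5 : Subgroup N).Normal := Sylow.normal_of_subsingleton P5
  have hn3 : (P3 : Subgroup N).Normal := Sylow.normal_of_subsingleton P3
  have hdis : Disjoint (P5 : Subgroup N) (P3 : Subgroup N) := by
    apply IsPGroup.disjoint_of_ne 5 3 (by norm_num) _ _ P5.isPGroup' P3.isPGroup'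
  exact Subgroup.commute_of_normal_of_disjoint _ _ hn5 hn3 hdis a b ha' hb'

/-- in a group of order 45 or 90, `5`-elements commute with `3`-elements -/
theorem comm_of_card_45_or_90 {H : Type*} [Group H] [Finite H]
    (h : Nat.card H = 45 ∨ Nat.card H = 90) (a b : H) (ha : a ^ 5 = 1) (hb : b ^ 9 = 1) :
    a * b = b * a := by
  haveI : Fact (Nat.Prime 2) := ⟨by norm_num⟩
  obtain ⟨S⟩ : Nonempty (Sylow 2 H) := inferInstance
  have hScyc : IsCyclic (S : Subgroup H) := by
    obtain ⟨k, hk⟩ := IsPGroup.iff_card.mp S.isPGroup'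
    have hdvd : 2 ^ k ∣ Nat.card H := by
      rw [← hk]; exact Subgroup.card_subgroup_dvd_card _
    have hk1 : k ≤ 1 := by
      by_contra hcon
      push Not at hcon
      have h4 : 4 ∣ Nat.card H := (pow_dvd_pow 2 hcon).trans hdvd
      rcases h with h | h <;> rw [h] at h4 <;> omega
    interval_cases k
    · rw [pow_zero] at hk
      haveI : Subsingleton (S : Subgroup H) := (Nat.card_eq_one_iff_unique.mp hk).1
      exact isCyclic_of_subsingleton
    · rw [pow_one] at hk
      exact isCyclic_of_prime_card hk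
  obtain ⟨K, hKn, hK2, hKmem⟩ :=
    Cfsg.Agent.Lib.Helper7.exists_normal_pPrime_of_cyclic_sylow (H := H) (p := 2)
      (fun q hq _ => hq.two_le) S hScyc
  have hKdvd : Nat.card K ∣ 45 := by
    have h1 : Nat.card K ∣ Nat.card H := Subgroup.card_subgroup_dvd_card K
    have hcop : Nat.Coprime (Nat.card K) 2 :=
      ((Nat.Prime.coprime_iff_not_dvd (by norm_num)).2 hK2).symm
    rcases h with h | h
    · rwa [h] at h1
    · rw [h, show (90 : ℕ) = 2 * 45 by norm_num] at h1
      exact hcop.dvd_of_dvd_mul_left h1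
  have hodd : ∀ (w : H) (n : ℕ), Odd n → w ^ n = 1 → w ∈ K := by
    intro w n hn hw
    apply hKmem
    have hd : orderOf w ∣ n := orderOf_dvd_of_pow_eq_one hw
    have : Nat.Coprime n 2 := by
      exact hn.coprime_two_right
    exact Nat.Coprime.coprime_dvd_left hd this
  have haK : a ∈ K := hodd a 5 (by decide) ha
  have hbK : b ∈ K := hodd b 9 (by decide) hb
  have := comm_of_card_dvd_45 (N := K) hKdvd ⟨a, haK⟩ ⟨b, hbK⟩
    (by apply Subtype.ext; simpa using ha) (by apply Subtype.ext; simpa using hb)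
  exact congrArg Subtype.val this

end Cfsg.Agent.Lib.Helper18.Ord45
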