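import Mathlib
import Cfsg.Agent.H5.SylowTupleS

/-!
# Sylow data and subgroups of index `p` or `p + 1` (helper18)

A variant of helper5's rule D: if a non-abelian simple group has a proper subgroup of index `p` or
`p + 1` and `p` divides the group order exactly once, then `2 |N(P)| ∣ p (p - 1)`.
-/

set_option autoImplicit false
set_option linter.unusedSectionVars false

namespace Cfsg.Agent.Lib.Helper18.SDIndex

open scoped Nat
open Cfsg.H5.SmallOrd Cfsg.H5.SylowTuple

variable {G : Type*} [Group G] [Finite G]

/-- Rule D': a proper subgroup of index `p` or `p + 1` forces `2 e c ∣ p - 1`. -/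
theorem sd_dvd_of_index [IsSimpleGroup G] (hG : ¬ IsMulCommutative G) {p k e c : ℕ}
    [hp : Fact p.Prime] (h1 : IsSD G p k e c) (H : Subgroup G) (hH : H ≠ ⊤)
    (hidx : H.index = p ∨ H.index = p + 1) : 2 * (e * c) ∣ p - 1 := by
  have hp2 : p ≠ 2 := by
    rintro rfl
    have := Nat.le_of_dvd (by norm_num) h1.e_dvd
    have := h1.one_lt
    omega
  obtain ⟨P⟩ : Nonempty (Sylow p G) := inferInstance
  obtain ⟨f, hf⟩ := Cfsg.Agent.S0991.result hG H hH
  have hcardα : Fintype.card (Fin H.index) = p ∨ Fintype.card (Fin H.index) = p + 1 := by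
    rw [Fintype.card_fin]; exact hidx
  generalize H.index = d at f hf hcardα
  have hdle : d ≤ p + 1 := by
    rw [Fintype.card_fin] at hcardα
    omega
  have hd2 : 2 ≤ d := by
    rw [Fintype.card_fin] at hcardα
    have := hp.out.two_le
    omega
  -- the image of `P` in `Perm (Fin d)`
  have hinj2 : Function.Injective (alternatingGroup (Fin d)).subtype :=
    Subgroup.subtype_injective _
  have hP₂c : Nat.card (((P : Subgroup G).map f).map (alternatingGroup (Fin d)).subtype) = p := by
    rw [Subgroup.card_map_of_injective hinj2, Subgroup.card_map_of_injective hf]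
    exact h1.card_P P
  have hpg : IsPGroup p (((P : Subgroup G).map f).map (alternatingGroup (Fin d)).subtype) :=
    IsPGroup.of_card (n := 1) (by rw [hP₂c, pow_one])
  obtain ⟨S, hS⟩ := hpg.exists_le_sylow
  have hSc : Nat.card (S : Subgroup (Equiv.Perm (Fin d))) = p := by
    obtain ⟨a, ha⟩ := IsPGroup.iff_card.mp S.isPGroup'
    have hdvd1 : p ∣ Nat.card (S : Subgroup (Equiv.Perm (Fin d))) := by
      have := Subgroup.card_dvd_of_le hS
      rwa [hP₂c] at this
    have hdvd2 : Nat.card (S : Subgroup (Equiv.Perm (Fin d))) ∣ (p + 1)! := by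
      have := Subgroup.card_subgroup_dvd_card (S : Subgroup (Equiv.Perm (Fin d)))
      rw [Nat.card_perm] at this
      have h2 : Nat.card (Fin d) = d := by rw [Nat.card_eq_fintype_card, Fintype.card_fin]
      rw [h2] at this
      exact this.trans (Nat.factorial_dvd_factorial hdle)
    rw [ha] at hdvd1 hdvd2 ⊢
    rcases Nat.lt_or_ge a 2 with h | h
    · interval_cases a
      · rw [pow_zero] at hdvd1
        exact absurd (Nat.dvd_one.mp hdvd1) hp.out.one_lt.ne'
      · rw [pow_one]
    · exact absurd ((pow_dvd_pow p h).trans hdvd2) (not_sq_dvd_succ_factorial hp.out)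
  have hSeq : ((P : Subgroup G).map f).map (alternatingGroup (Fin d)).subtype =
      (S : Subgroup (Equiv.Perm (Fin d))) :=
    Subgroup.eq_of_le_of_card_ge hS (by rw [hP₂c, hSc])
  have h90 := (Cfsg.Agent.S0990.result (α := Fin d) (by rw [Fintype.card_fin]; exact hd2) p hp2 S).2
  have h89 := Cfsg.Agent.S0989.result (α := Fin d) p hcardα S
  have hsub : (S : Subgroup (Equiv.Perm (Fin d))).subgroupOf (alternatingGroup (Fin d)) =
      (P : Subgroup G).map f := by
    rw [← hSeq]
    exact Subgroup.comap_map_eq_self_of_injective hinj2 _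
  rw [hsub, h89] at h90
  have hle := Subgroup.le_normalizer_map (H := (P : Subgroup G)) f
  have hdvd := Subgroup.card_dvd_of_le hle
  rw [Subgroup.card_map_of_injective hf, h1.card_N P] at hdvd
  obtain ⟨t, ht⟩ := hdvd
  rw [ht] at h90
  have hpos := hp.out.pos
  have : p * (2 * (e * c) * t) = p * (p - 1) := by rw [← h90]; ring
  have := Nat.eq_of_mul_eq_mul_left hpos this
  exact ⟨t, this.symm⟩

end Cfsg.Agent.Lib.Helper18.SDIndex
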