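import Mathlib
import Cfsg.Agent.H5.SylowTupleS
import Cfsg.Agent.Lib.Helper7.SylowPrime
import Cfsg.Agent.Lib.Helper18.SDIndex
import Cfsg.Agent.Lib.Helper18.Ord45

/-!
# No non-abelian simple group of order 1980 (helper18, for helper10's S2490)
-/

set_option autoImplicit false
set_option linter.unusedSectionVars false
set_option maxRecDepth 100000

namespace Cfsg.Agent.Lib.Helper18.Ord1980

open Cfsg.H5.SmallOrd Cfsg.H5.SylowTuple Cfsg.Agent.Lib.Helper18.SDIndex
  Cfsg.Agent.Lib.Helper18.Ord45

variable {G : Type*} [Group G] [Finite G]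

/-- a proper subgroup of index 11 is impossible once `|N(P₁₁)| = 44` -/
theorem no_index_11 [IsSimpleGroup G] (hG : ¬ IsMulCommutative G) [Fact (Nat.Prime 11)]
    (h11 : IsSD G 11 45 2 2) (H : Subgroup G) (hidx : H.index = 11) : False := by
  have hH : H ≠ ⊤ := by
    intro h
    rw [h, Subgroup.index_top] at hidx
    omega
  have := sd_dvd_of_index hG h11 H hH (Or.inl hidx)
  omega

theorem no_1980 [IsSimpleGroup G] (hG : ¬ IsMulCommutative G) : Nat.card G ≠ 1980 := by
  intro hn
  haveI h11 : Fact (Nat.Prime 11) := ⟨by norm_num⟩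
  haveI h5 : Fact (Nat.Prime 5) := ⟨by norm_num⟩
  haveI h3 : Fact (Nat.Prime 3) := ⟨by norm_num⟩
  -- Sylow data at 11
  obtain ⟨t11, ht11, hp11, hsd11⟩ :=
    exists_mem_triples hG 1980 11 hn (by norm_num) (by norm_num) (by norm_num) (by norm_num)
  have htr11 : triples 1980 11 = [(45, 2, 2)] := by decide +kernel
  rw [htr11, List.mem_singleton] at ht11
  subst ht11
  have hsd11' : IsSD G 11 45 2 2 := hsd11
  -- Sylow data at 5
  obtain ⟨t5, ht5, hp5, hsd5⟩ :=
    exists_mem_triples hG 1980 5 hn (by norm_num) (by norm_num) (by norm_num) (by norm_num)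
  have htr5 : triples 1980 5 = [(11, 2, 18), (11, 4, 9), (66, 2, 3)] := by decide +kernel
  rw [htr5] at ht5
  have hk11 : ∀ e c : ℕ, IsSD G 5 11 e c → False := by
    intro e c hsd
    obtain ⟨P⟩ : Nonempty (Sylow 5 G) := inferInstance
    have hidx : Nat.card (Sylow 5 G) = (Subgroup.normalizer ((P : Subgroup G) : Set G)).index :=
      Sylow.card_eq_index_normalizer P
    rw [hsd.card_sylow] at hidx
    exact no_index_11 hG hsd11' _ hidx.symm
  have hsd5' : IsSD G 5 66 2 3 := by
    simp only [List.mem_cons, List.not_mem_nil, or_false] at ht5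
    rcases ht5 with rfl | rfl | rfl
    · exact (hk11 _ _ hsd5).elim
    · exact (hk11 _ _ hsd5).elim
    · exact hsd5
  -- an element of order 3 centralizing a Sylow 5-subgroup
  obtain ⟨P5⟩ : Nonempty (Sylow 5 G) := inferInstance
  obtain ⟨P11⟩ : Nonempty (Sylow 11 G) := inferInstance
  have hC5 := hsd5'.card_C P5
  have h3C : 3 ∣ Nat.card (Subgroup.centralizer ((P5 : Subgroup G) : Set G)) := by
    rw [hC5]; norm_num
  obtain ⟨x0, hx0⟩ := exists_prime_orderOf_dvd_card' 3 h3C
  set x : G := (x0 : G) with hx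
  have hxo : orderOf x = 3 := by rw [hx, Subgroup.orderOf_coe]; exact hx0
  have hxC : ∀ a ∈ (P5 : Subgroup G), a * x = x * a := by
    intro a ha
    exact (Subgroup.mem_centralizer_iff.mp x0.2) a ha
  -- a Sylow 3-subgroup containing x
  have hpg : IsPGroup 3 (Subgroup.zpowers x) :=
    IsPGroup.of_card (n := 1) (by rw [Nat.card_zpowers, hxo, pow_one])
  obtain ⟨Q, hQ⟩ := hpg.exists_le_sylow
  have hQc : Nat.card (Q : Subgroup G) = 3 ^ 2 :=
    sylow_card 3 2 220 (by norm_num) (by rw [hn]; norm_num) Q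
  have hxQ : x ∈ (Q : Subgroup G) := hQ (Subgroup.mem_zpowers x)
  have hQcomm : ∀ y ∈ (Q : Subgroup G), y * x = x * y := by
    intro y hy
    have := IsPGroup.commutative_of_card_eq_prime_sq hQc ⟨y, hy⟩ ⟨x, hxQ⟩
    exact congrArg Subtype.val this
  -- the centralizer of x
  set K : Subgroup G := Subgroup.centralizer ({x} : Set G) with hK
  have hmemK : ∀ g : G, g ∈ K ↔ x * g = g * x := by
    intro g
    rw [hK, Subgroup.mem_centralizer_iff]
    constructor
    · intro h; exact h x rfl
    · intro h y hy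
      rw [Set.mem_singleton_iff] at hy
      rw [hy]; exact h
  have hP5K : (P5 : Subgroup G) ≤ K := fun a ha => (hmemK a).2 (hxC a ha).symm
  have hQK : (Q : Subgroup G) ≤ K := fun y hy => (hmemK y).2 (hQcomm y hy).symm
  have h5K : 5 ∣ Nat.card K := by
    have := Subgroup.card_dvd_of_le hP5K
    rwa [hsd5'.card_P P5] at this
  have h9K : 9 ∣ Nat.card K := by
    have := Subgroup.card_dvd_of_le hQK
    rwa [hQc] at this
  have h45K : 45 ∣ Nat.card K :=
    (show (45 : ℕ) = 5 * 9 by norm_num) ▸
      Nat.Coprime.mul_dvd_of_dvd_of_dvd (by norm_num) h5K h9K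
  have hKG : Nat.card K * K.index = 1980 := by rw [← hn]; exact Subgroup.card_mul_index K
  have h11K : ¬ 11 ∣ Nat.card K := by
    intro h
    obtain ⟨w0, hw0⟩ := exists_prime_orderOf_dvd_card' 11 h
    have hwo : orderOf (w0 : G) = 11 := by rw [Subgroup.orderOf_coe]; exact hw0
    have hcomm : Commute x (w0 : G) := (hmemK _).1 w0.2
    have := Cfsg.Agent.Lib.Helper7.SylowPrime.orderOf_dvd_card_centralizer P11
      (hsd11'.card_P P11) hwo hcomm
    rw [hxo, hsd11'.card_C P11] at this
    omega
  have hidx11 : K.index ≠ 11 := fun h => no_index_11 hG hsd11' K h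
  have hKcard : Nat.card K = 45 ∨ Nat.card K = 90 := by
    obtain ⟨j, hj⟩ := h45K
    rw [hj] at hKG h11K
    have hj44 : j * K.index = 44 := by
      have : 45 * (j * K.index) = 45 * 44 := by rw [← mul_assoc, hKG]
      exact Nat.eq_of_mul_eq_mul_left (by norm_num) this
    have hjd : j ∣ 44 := ⟨_, hj44.symm⟩
    have hjle : j ≤ 44 := Nat.le_of_dvd (by norm_num) hjd
    have hj0 : 0 < j := Nat.pos_of_dvd_of_pos hjd (by norm_num)
    interval_cases j <;> omega
  -- conclusion: Q centralizes P5
  have hQP5 : (Q : Subgroup G) ≤ Subgroup.centralizer ((P5 : Subgroup G) : Set G) := by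
    intro y hy
    rw [Subgroup.mem_centralizer_iff]
    intro a ha
    have ha5 : a ^ 5 = 1 := by
      have := pow_card_eq_one' (G := (P5 : Subgroup G)) (x := ⟨a, ha⟩)
      rw [hsd5'.card_P P5] at this
      exact congrArg Subtype.val this
    have hy9 : y ^ 9 = 1 := by
      have := pow_card_eq_one' (G := (Q : Subgroup G)) (x := ⟨y, hy⟩)
      rw [hQc] at this
      exact congrArg Subtype.val this
    have := comm_of_card_45_or_90 (H := K) hKcard ⟨a, hP5K ha⟩ ⟨y, hQK hy⟩
      (by apply Subtype.ext; simpa using ha5) (by apply Subtype.ext; simpa using hy9)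
    exact congrArg Subtype.val this
  have := Subgroup.card_dvd_of_le hQP5
  rw [hQc, hC5] at this
  omega

end Cfsg.Agent.Lib.Helper18.Ord1980
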