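import Mathlib
import Cfsg.Agent.S0732
import Cfsg.Agent.H5.SmallOrdBasic

/-!
# No non-abelian simple group of order 5724 (helper18, for S0983)

`5724 = 2²·3³·53 = 54·53·2`: `n₅₃ = 54`, so `G` is a transitive group of degree `53 + 1` and order
`(53 + 1)·53·2`, which is excluded by helper3's `S0732` (such groups are `PGL(2,p)`, `PSL(2,p)` or
semi-affine of degree a power of two).
-/

set_option autoImplicit false
set_option linter.unusedSectionVars false
set_option maxRecDepth 100000

namespace Cfsg.Agent.Lib.Helper18.Ord5724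

open Cfsg.H5.SmallOrd
open scoped Nat

variable {G : Type*} [Group G] [Finite G]

theorem no_5724 [IsSimpleGroup G] (hG : ¬ IsMulCommutative G) : Nat.card G ≠ 5724 := by
  intro hn
  classical
  haveI h53 : Fact (Nat.Prime 53) := ⟨by norm_num⟩
  obtain ⟨h1, h2, h3, -⟩ := sylow_num hG 53 1 108 (by norm_num) (by norm_num) (by norm_num)
    (by rw [hn]; norm_num)
  have hk : Nat.card (Sylow 53 G) = 54 := by
    have hle : Nat.card (Sylow 53 G) ≤ 108 := Nat.le_of_dvd (by norm_num) h1
    generalize Nat.card (Sylow 53 G) = k at h1 h2 h3 hle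
    interval_cases k <;> omega
  haveI : Fintype (Sylow 53 G) := Fintype.ofFinite _
  have hα : Fintype.card (Sylow 53 G) = 53 + 1 := by
    rw [← Nat.card_eq_fintype_card, hk]
  have hinj : Function.Injective (MulAction.toPermHom G (Sylow 53 G)) := by
    rw [← MonoidHom.ker_eq_bot_iff]
    rcases (MonoidHom.normal_ker (MulAction.toPermHom G (Sylow 53 G))).eq_bot_or_eq_top with hk' | hk'
    · exact hk'
    · exfalso
      have hall : ∀ (g : G) (Q : Sylow 53 G), g • Q = Q := by
        intro g Q
        have hg : g ∈ (MulAction.toPermHom G (Sylow 53 G)).ker := by rw [hk']; trivial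
        rw [MonoidHom.mem_ker] at hg
        have := congrArg (fun σ : Equiv.Perm (Sylow 53 G) => σ Q) hg
        exact this
      have hsub : Subsingleton (Sylow 53 G) := by
        constructor
        intro Q Q'
        obtain ⟨g, hg⟩ := MulAction.exists_smul_eq G Q Q'
        rw [← hg, hall]
      have := Fintype.card_le_one_iff_subsingleton.mpr hsub
      omega
  set G' : Subgroup (Equiv.Perm (Sylow 53 G)) := (MulAction.toPermHom G (Sylow 53 G)).range
    with hG'def
  have hG' : Nat.card G' = (53 + 1) * 53 * 2 := by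
    rw [← Nat.card_congr (MonoidHom.ofInjective hinj).toEquiv, hn]
  haveI : MulAction.IsPretransitive G' (Sylow 53 G) := by
    constructor
    intro x y
    obtain ⟨g, hg⟩ := MulAction.exists_smul_eq G x y
    exact ⟨⟨MulAction.toPermHom G (Sylow 53 G) g, g, rfl⟩, hg⟩
  have := Cfsg.Agent.S0732.result (p := 53) (d := 2) (by norm_num) hα G' hG' (by norm_num)
  rcases this with ⟨h, -⟩ | ⟨h, -⟩ | ⟨q, -, h, -⟩
  · omega
  · omega
  · have hq6 : q < 6 := by
      by_contra hge
      push Not at hge
      have : 2 ^ 6 ≤ 2 ^ q := Nat.pow_le_pow_right (by norm_num) hge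
      omega
    interval_cases q <;> omega

end Cfsg.Agent.Lib.Helper18.Ord5724
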