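import Mathlib
import Cfsg.Agent.Lib.Helper18.SylowRules

/-!
# No non-abelian simple group of order 5880 (helper18, for S0983)

`5880 = 2³·3·5·7²`.  The Sylow tuple search leaves `n₅ = n₃ = 196` with
`N(P₅) = N(P₃)` dihedral of order 30.  `n₇ ∈ {8, 15, 120}`; `8` dies as `49 ∤ 8!`, `120` by
Burnside's transfer theorem, and for `n₇ = 15` the cyclic group `C(P₅)` of order 15 is regular on
the 15 Sylow 7-subgroups and is inverted by an involution `t`, which therefore fixes at most one
of them: an odd permutation.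
-/

set_option autoImplicit false
set_option linter.unusedSectionVars false
set_option maxRecDepth 100000

namespace Cfsg.Agent.Lib.Helper18.Ord5880

open Cfsg.H5.SmallOrd Cfsg.H5.SylowTuple Cfsg.Agent.Lib.Helper18.SylowOver
  Cfsg.Agent.Lib.Helper18.SylowFix Cfsg.Agent.Lib.Helper18.Ord3960
  Cfsg.Agent.Lib.Helper18.SylowRules
open scoped Nat

variable {G : Type*} [Group G] [Finite G]

/-- an element of odd order whose square lies in a subgroup lies in that subgroup -/
theorem mem_of_sq_mem_of_odd (A : Subgroup G) (h : G) (hh : h * h ∈ A) (ho : ¬ 2 ∣ orderOf h) :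
    h ∈ A := by
  obtain ⟨j, hj⟩ : ∃ j, orderOf h = 2 * j + 1 := ⟨orderOf h / 2, by omega⟩
  have h1 : h = (h * h) ^ (j + 1) := by
    rw [← pow_two, ← pow_mul]
    have : 2 * (j + 1) = orderOf h + 1 := by omega
    rw [this, pow_succ, pow_orderOf_eq_one, one_mul]
  rw [h1]
  exact A.pow_mem hh _

/-- If `|C(P)| = p q`, `|N(P)| = 2 p q`, and `|C(Q)| = p q` for `Q` a Sylow `q`-subgroup
(`p, q` odd primes dividing `|G|` once), an involution of `N(P)` inverts `C(P)`. -/
theorem inverts_centralizer {p q k k' : ℕ} [hp : Fact p.Prime] [hq : Fact q.Prime]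
    (hp2 : p ≠ 2) (hq2 : q ≠ 2) (hsdp : IsSD G p k 2 q) (hsdq : IsSD G q k' 2 p)
    (P : Sylow p G) (t : G) (htN : t ∈ Subgroup.normalizer ((P : Subgroup G) : Set G))
    (ht : orderOf t = 2) :
    ∀ x ∈ Subgroup.centralizer ((P : Subgroup G) : Set G), t * x * t⁻¹ = x⁻¹ := by
  classical
  set H : Subgroup G := Subgroup.normalizer ((P : Subgroup G) : Set G) with hHdef
  set A : Subgroup G := Subgroup.centralizer ((P : Subgroup G) : Set G) with hAdef
  have hH : Nat.card H = p * (2 * q) := hsdp.card_N P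
  have hA : Nat.card A = p * q := hsdp.card_C P
  have hAH : A ≤ H := Subgroup.centralizer_le_normalizer _
  have hodd : ¬ 2 ∣ p * q := by
    intro h
    rcases (Nat.Prime.dvd_mul Nat.prime_two).mp h with h | h
    · exact hp2 ((Nat.prime_dvd_prime_iff_eq Nat.prime_two hp.out).mp h).symm
    · exact hq2 ((Nat.prime_dvd_prime_iff_eq Nat.prime_two hq.out).mp h).symm
  have hidx : (A.subgroupOf H).index = 2 := by
    have h1 := Subgroup.card_mul_index (A.subgroupOf H)
    rw [Nat.card_congr (Subgroup.subgroupOfEquivOfLe hAH).toEquiv, hA, hH] at h1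
    have hpos : 0 < p * q := Nat.mul_pos hp.out.pos hq.out.pos
    apply Nat.eq_of_mul_eq_mul_left hpos
    rw [h1]; ring
  have hsq : ∀ h ∈ H, h * h ∈ A := by
    intro h hh
    have := Subgroup.mul_self_mem_of_index_two hidx (⟨h, hh⟩ : H)
    rw [Subgroup.mem_subgroupOf] at this
    exact this
  -- elements of `H` outside `A` are involutions
  have key : ∀ h ∈ H, h ∉ A → h * h = 1 := by
    intro h hh hhA
    by_contra hz1
    set z : G := h * h with hzdef
    have hzA : z ∈ A := hsq h hh
    have hzo : orderOf z ∣ p * q := by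
      rw [← hA]
      have := orderOf_dvd_natCard (⟨z, hzA⟩ : A)
      rwa [Subgroup.orderOf_mk] at this
    have hzo1 : orderOf z ≠ 1 := fun h1 => hz1 (orderOf_eq_one_iff.mp h1)
    -- a prime `r ∈ {p, q}` dividing the order of `z`, with `|C(R)| = p q`
    have hcase : ∃ y : G, Commute h y ∧ ∃ R : Subgroup G, R = Subgroup.zpowers y ∧
        Nat.card (Subgroup.centralizer (R : Set G)) = p * q := by
      obtain ⟨r, hr, hrz⟩ := Nat.exists_prime_and_dvd hzo1
      have hrpq : r ∣ p * q := hrz.trans hzo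
      have hcomm : Commute h (z ^ (orderOf z / r)) := by
        apply Commute.pow_right
        rw [hzdef]
        exact (Commute.refl h).mul_right (Commute.refl h)
      have hyo : orderOf (z ^ (orderOf z / r)) = r := by
        have hzpos : 0 < orderOf z := Nat.pos_of_ne_zero (fun h0 => by
          rw [h0] at hrz
          have := hzo
          rw [h0] at this
          have h00 := Nat.eq_zero_of_zero_dvd this
          have := Nat.mul_pos hp.out.pos hq.out.pos
          omega)
        rw [orderOf_pow' z (by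
          intro h0
          have := Nat.div_pos (Nat.le_of_dvd hzpos hrz) hr.pos
          omega)]
        rw [Nat.gcd_eq_right (Nat.div_dvd_of_dvd hrz)]
        exact Nat.div_div_self hrz hzpos.ne'
      refine ⟨z ^ (orderOf z / r), hcomm, ?_⟩
      rcases (Nat.Prime.dvd_mul hr).mp hrpq with h | h
      · have hrp : r = p := (Nat.prime_dvd_prime_iff_eq hr hp.out).mp h
        subst hrp
        obtain ⟨R, hR⟩ := hsdp.exists_sylow_eq_zpowers _ hyo
        exact ⟨R, hR, hsdp.card_C R⟩
      · have hrq : r = q := (Nat.prime_dvd_prime_iff_eq hr hq.out).mp h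
        subst hrq
        obtain ⟨R, hR⟩ := hsdq.exists_sylow_eq_zpowers _ hyo
        exact ⟨R, hR, by rw [hsdq.card_C R]; ring⟩
    obtain ⟨y, hcomm, R, hR, hRc⟩ := hcase
    have hhR : h ∈ Subgroup.centralizer (R : Set G) := by
      rw [Subgroup.mem_centralizer_iff]
      intro w hw
      rw [hR, SetLike.mem_coe, Subgroup.mem_zpowers_iff] at hw
      obtain ⟨i, rfl⟩ := hw
      exact ((hcomm.zpow_right i).eq).symm
    have hho : orderOf h ∣ p * q := by
      rw [← hRc]
      have := orderOf_dvd_natCard (⟨h, hhR⟩ : Subgroup.centralizer (R : Set G))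
      rwa [Subgroup.orderOf_mk] at this
    have hho2 : ¬ 2 ∣ orderOf h := fun h2 => hodd (h2.trans hho)
    exact hhA (mem_of_sq_mem_of_odd A h hzA hho2)
  have htA : t ∉ A := by
    intro h
    have := orderOf_dvd_natCard (⟨t, h⟩ : A)
    rw [Subgroup.orderOf_mk, ht, hA] at this
    exact hodd this
  have htt : t * t = 1 := by
    have := pow_orderOf_eq_one t
    rwa [ht, pow_two] at this
  intro x hx
  have htx : t * x ∉ A := by
    intro h
    apply htA
    have := A.mul_mem h (A.inv_mem hx)
    rwa [mul_assoc, mul_inv_cancel, mul_one] at this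
  have h1 := key (t * x) (H.mul_mem htN (hAH hx)) htx
  have hti : t⁻¹ = t := inv_eq_of_mul_eq_one_right htt
  rw [hti]
  apply eq_inv_of_mul_eq_one_left
  calc t * x * t * x = (t * x) * (t * x) := by group
    _ = 1 := h1

/-- a non-trivial element of a simple group moves some Sylow `p`-subgroup, unless they are
normal -/
theorem exists_smul_ne [IsSimpleGroup G] {p : ℕ} [Fact p.Prime] (P : Sylow p G)
    (hP : Subgroup.normalizer ((P : Subgroup G) : Set G) ≠ ⊤) (u : G) (hu1 : u ≠ 1) :
    ∃ Q : Sylow p G, u • Q ≠ Q := by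
  by_contra hcon
  push Not at hcon
  have hker : u ∈ (MulAction.toPermHom G (Sylow p G)).ker := by
    rw [MonoidHom.mem_ker]
    apply Equiv.ext
    intro Q
    exact hcon Q
  rcases (MonoidHom.normal_ker (MulAction.toPermHom G (Sylow p G))).eq_bot_or_eq_top with hk | hk
  · rw [hk, Subgroup.mem_bot] at hker
    exact hu1 hker
  · apply hP
    rw [eq_top_iff]
    intro g _
    have hg : g ∈ (MulAction.toPermHom G (Sylow p G)).ker := by rw [hk]; trivial
    rw [MonoidHom.mem_ker] at hg
    have : g • P = P := by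
      have := congrArg (fun σ : Equiv.Perm (Sylow p G) => σ P) hg
      exact this
    exact Sylow.smul_eq_iff_mem_normalizer.mp this

theorem card_normalizer_mul_card_sylow {p : ℕ} [Fact p.Prime] (Q : Sylow p G) :
    Nat.card (Subgroup.normalizer ((Q : Subgroup G) : Set G)) * Nat.card (Sylow p G) =
      Nat.card G := by
  have h1 : Nat.card (Sylow p G) =
      (Subgroup.normalizer ((Q : Subgroup G) : Set G)).index := Sylow.card_eq_index_normalizer Q
  rw [h1]
  exact Subgroup.card_mul_index _

/-- the case `n₇ = 15` -/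
theorem no_fifteen [IsSimpleGroup G] (hG : ¬ IsMulCommutative G) (hn : Nat.card G = 5880)
    [h7 : Fact (Nat.Prime 7)] (A : Subgroup G) (hA : Nat.card A = 15) (t : G)
    (ht : orderOf t = 2) (hinv : ∀ x ∈ A, t * x * t⁻¹ = x⁻¹)
    (h15 : Nat.card (Sylow 7 G) = 15) : False := by
  classical
  haveI : Fintype (Sylow 7 G) := Fintype.ofFinite _
  have hcard : Fintype.card (Sylow 7 G) = 15 := by
    rw [← Nat.card_eq_fintype_card, h15]
  have hNQ : ∀ Q : Sylow 7 G,
      Nat.card (Subgroup.normalizer ((Q : Subgroup G) : Set G)) = 392 := by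
    intro Q
    have h2 := card_normalizer_mul_card_sylow Q
    rw [h15, hn] at h2
    omega
  have hfree : ∀ x ∈ A, ∀ Q : Sylow 7 G, x • Q = Q → x = 1 := by
    intro x hx Q hQ
    have hxN := Sylow.smul_eq_iff_mem_normalizer.mp hQ
    have h1 : orderOf x ∣ 392 := by
      rw [← hNQ Q]
      have := orderOf_dvd_natCard
        (⟨x, hxN⟩ : Subgroup.normalizer ((Q : Subgroup G) : Set G))
      rwa [Subgroup.orderOf_mk] at this
    have h2 : orderOf x ∣ 15 := by
      rw [← hA]
      have := orderOf_dvd_natCard (⟨x, hx⟩ : A)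
      rwa [Subgroup.orderOf_mk] at this
    have : orderOf x = 1 :=
      Nat.eq_one_of_dvd_coprimes (by norm_num : Nat.Coprime 392 15) h1 h2
    exact orderOf_eq_one_iff.mp this
  have ht1 : t ≠ 1 := by
    intro h
    rw [h, orderOf_one] at ht
    omega
  have ht2 : t ^ 2 = 1 := by rw [← ht]; exact pow_orderOf_eq_one t
  obtain ⟨P7⟩ : Nonempty (Sylow 7 G) := inferInstance
  have hP7 : Subgroup.normalizer ((P7 : Subgroup G) : Set G) ≠ ⊤ := by
    intro h
    have := hNQ P7
    rw [h, Subgroup.card_top, hn] at this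
    omega
  obtain ⟨m, hm0, hm⟩ :=
    card_fixed_involution hG (α := Sylow 7 G) t ht2 (exists_smul_ne P7 hP7 t ht1)
  rw [hcard] at hm
  have hf2 : 1 < (Finset.univ.filter (fun Q : Sylow 7 G => t • Q = Q)).card := by omega
  obtain ⟨Q0, hQ0, Q1, hQ1, hne⟩ := Finset.one_lt_card.mp hf2
  rw [Finset.mem_filter] at hQ0 hQ1
  have hinj : Function.Injective (fun x : A => (x : G) • Q0) := by
    intro x y hxy
    have hxy' : (x : G) • Q0 = (y : G) • Q0 := hxy
    have h1 : ((y : G)⁻¹ * (x : G)) • Q0 = Q0 := by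
      rw [mul_smul, hxy', ← mul_smul, inv_mul_cancel, one_smul]
    have h2 := hfree _ (A.mul_mem (A.inv_mem y.2) x.2) Q0 h1
    apply Subtype.ext
    have : (x : G) = (y : G) := by
      calc (x : G) = (y : G) * ((y : G)⁻¹ * (x : G)) := by group
        _ = (y : G) := by rw [h2, mul_one]
    exact this
  have hbij : Function.Bijective (fun x : A => (x : G) • Q0) :=
    (Nat.bijective_iff_injective_and_card _).mpr ⟨hinj, by rw [hA, h15]⟩
  obtain ⟨x, hx⟩ := hbij.2 Q1
  have hx' : (x : G) • Q0 = Q1 := hx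
  have h1 : t • Q1 = ((x : G)⁻¹) • Q0 := by
    rw [← hx', ← mul_smul]
    have e1 : t * (x : G) = (t * (x : G) * t⁻¹) * t := by group
    rw [e1, hinv _ x.2, mul_smul, hQ0.2]
  rw [hQ1.2, ← hx'] at h1
  have h2 : ((x : G) * (x : G)) • Q0 = Q0 := by
    rw [mul_smul, h1, ← mul_smul, mul_inv_cancel, one_smul]
  have h3 := hfree _ (A.mul_mem x.2 x.2) Q0 h2
  have h4 : orderOf (x : G) ∣ 2 := by
    apply orderOf_dvd_of_pow_eq_one
    rw [pow_two]; exact h3
  have h5 : orderOf (x : G) ∣ 15 := by
    rw [← hA]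
    have := orderOf_dvd_natCard x
    rwa [Subgroup.orderOf_coe]
  have h6 : orderOf (x : G) = 1 :=
    Nat.eq_one_of_dvd_coprimes (by norm_num : Nat.Coprime 2 15) h4 h5
  have h7' : (x : G) = 1 := orderOf_eq_one_iff.mp h6
  rw [h7', one_smul] at hx'
  exact hne hx'

theorem no_5880 [IsSimpleGroup G] (hG : ¬ IsMulCommutative G) : Nat.card G ≠ 5880 := by
  intro hn
  classical
  haveI h7 : Fact (Nat.Prime 7) := ⟨by norm_num⟩
  haveI h5 : Fact (Nat.Prime 5) := ⟨by norm_num⟩
  haveI h3 : Fact (Nat.Prime 3) := ⟨by norm_num⟩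
  haveI h2 : Fact (Nat.Prime 2) := ⟨by norm_num⟩
  obtain ⟨t5, ht5, hsd5'⟩ :=
    exists_mem_ftriples hG 5880 5 hn (by norm_num) (by norm_num) (by norm_num) (by norm_num)
  obtain ⟨t3, ht3, hsd3'⟩ :=
    exists_mem_ftriples hG 5880 3 hn (by norm_num) (by norm_num) (by norm_num) (by norm_num)
  have hl5 : ftriples 5880 5 = [(196, 2, 3)] := by decide +kernel
  have hl3 : ftriples 5880 3 = [(28, 2, 35), (49, 2, 20), (70, 2, 14), (196, 2, 5), (490, 2, 2)] := by
    decide +kernel
  have hpair := pairOk_of hsd5' hsd3'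
  rw [hl5, List.mem_singleton] at ht5
  subst ht5
  have ht3' : t3 = (196, 2, 5) := by
    rw [hl3] at ht3
    simp only [List.mem_cons, List.not_mem_nil, or_false] at ht3
    rcases ht3 with rfl | rfl | rfl | rfl | rfl
    · exact absurd hpair (by decide)
    · exact absurd hpair (by decide)
    · exact absurd hpair (by decide)
    · rfl
    · exact absurd hpair (by decide)
  subst ht3'
  obtain ⟨_, hsd5⟩ := hsd5'
  obtain ⟨_, hsd3⟩ := hsd3'
  have hsd5 : IsSD G 5 196 2 3 := hsd5
  have hsd3 : IsSD G 3 196 2 5 := hsd3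
  -- the dihedral group N(P5)
  obtain ⟨P5⟩ : Nonempty (Sylow 5 G) := inferInstance
  have hH2 : 2 ∣ Nat.card (Subgroup.normalizer ((P5 : Subgroup G) : Set G)) := by
    rw [hsd5.card_N P5]; norm_num
  obtain ⟨t0, ht0⟩ := exists_prime_orderOf_dvd_card' 2 hH2
  have hto : orderOf (t0 : G) = 2 := by rw [Subgroup.orderOf_coe]; exact ht0
  have hinv := inverts_centralizer (by norm_num) (by norm_num) hsd5 hsd3 P5 (t0 : G) t0.2 hto
  have hA : Nat.card (Subgroup.centralizer ((P5 : Subgroup G) : Set G)) = 15 := by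
    rw [hsd5.card_C P5]
  -- the number of Sylow 7-subgroups
  obtain ⟨h71, h72, h73, h74⟩ := sylow_num hG 7 2 120 (by norm_num) (by norm_num) (by norm_num)
    (by rw [hn]; norm_num)
  rw [hn] at h74
  have hle : Nat.card (Sylow 7 G) ≤ 120 := Nat.le_of_dvd (by norm_num) h71
  have hcases : Nat.card (Sylow 7 G) = 8 ∨ Nat.card (Sylow 7 G) = 15 ∨
      Nat.card (Sylow 7 G) = 120 := by
    generalize Nat.card (Sylow 7 G) = k at h71 h72 h73 hle
    interval_cases k <;> omega
  rcases hcases with h8 | h15 | h120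
  · rw [h8] at h74
    revert h74
    decide
  · exact no_fifteen hG hn _ hA (t0 : G) hto hinv h15
  · -- Burnside
    obtain ⟨P7⟩ : Nonempty (Sylow 7 G) := inferInstance
    have hP7c : Nat.card (P7 : Subgroup G) = 7 ^ 2 :=
      sylow_card 7 2 120 (by norm_num) (by rw [hn]; norm_num) P7
    have hN7 : Nat.card (Subgroup.normalizer ((P7 : Subgroup G) : Set G)) = 49 := by
      have h2 := card_normalizer_mul_card_sylow P7
      rw [h120, hn] at h2
      omega
    have hNP : Subgroup.normalizer ((P7 : Subgroup G) : Set G) = (P7 : Subgroup G) := by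
      symm
      apply Subgroup.eq_of_le_of_card_ge Subgroup.le_normalizer
      rw [hN7, hP7c]; norm_num
    have hcomm : IsMulCommutative (P7 : Subgroup G) :=
      IsPGroup.isMulCommutative_of_card_eq_prime_sq (p := 7) hP7c
    have hle : Subgroup.normalizer ((P7 : Subgroup G) : Set G) ≤
        Subgroup.centralizer ((P7 : Subgroup G) : Set G) := by
      rw [hNP]
      intro x hx
      rw [Subgroup.mem_centralizer_iff]
      intro y hy
      have := hcomm.is_comm.comm (⟨y, hy⟩ : (P7 : Subgroup G)) ⟨x, hx⟩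
      exact congrArg Subtype.val this
    have := Cfsg.Agent.Lib.Helper7.card_eq_prime_of_simple_of_normalizer_le_centralizer P7
      (by rw [hn]; norm_num) hle
    rw [hn] at this
    omega

end Cfsg.Agent.Lib.Helper18.Ord5880
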