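import Mathlib
import Cfsg.Agent.Lib.Helper18.SylowRules

/-!
# No non-abelian simple groups of order 3780, 4212, 5148, 5460, 5940, 6160 (helper18, for S0983)

All six are instances of `SylowRules.strong_kill`: helper5's Sylow tuple search on the candidate
lists filtered by the parity rule, rule E4, `n_5 ≠ 21` and rule NX.
-/

set_option autoImplicit false
set_option maxRecDepth 100000

namespace Cfsg.Agent.Lib.Helper18

open Cfsg.H5.SylowTuple Cfsg.Agent.Lib.Helper18.SylowRules

variable {G : Type*} [Group G] [Finite G] [IsSimpleGroup G]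

theorem Ord3780.no_3780 (hG : ¬ IsMulCommutative G) : Nat.card G ≠ 3780 :=
  strong_kill hG 3780 [7, 5] (by decide +kernel) (by decide +kernel)

theorem Ord4212.no_4212 (hG : ¬ IsMulCommutative G) : Nat.card G ≠ 4212 :=
  strong_kill hG 4212 [13] (by decide +kernel) (by decide +kernel)

theorem Ord5148.no_5148 (hG : ¬ IsMulCommutative G) : Nat.card G ≠ 5148 :=
  strong_kill hG 5148 [11] (by decide +kernel) (by decide +kernel)

theorem Ord5460.no_5460 (hG : ¬ IsMulCommutative G) : Nat.card G ≠ 5460 :=
  strong_kill hG 5460 [13, 7, 5, 3] (by decide +kernel) (by decide +kernel)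

theorem Ord5940.no_5940 (hG : ¬ IsMulCommutative G) : Nat.card G ≠ 5940 :=
  strong_kill hG 5940 [11] (by decide +kernel) (by decide +kernel)

theorem Ord6160.no_6160 (hG : ¬ IsMulCommutative G) : Nat.card G ≠ 6160 :=
  strong_kill hG 6160 [7] (by decide +kernel) (by decide +kernel)

end Cfsg.Agent.Lib.Helper18
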