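import Mathlib.GroupTheory.PGroup
import Mathlib.Tactic.Group

set_option autoImplicit false

namespace Cfsg.Agent.Lib.Helper18

variable {X : Type*} [Group X]

/-- The conjugation action of a subgroup `C` on a subgroup `I` that it normalizes. -/
def conjMulAction (C I : Subgroup X) (h : C ≤ Subgroup.normalizer (I : Set X)) :
    MulAction ↥C ↥I where
  smul c z := ⟨(c : X) * (z : X) * (c : X)⁻¹, (Subgroup.mem_normalizer_iff.mp (h c.2) z).mp z.2⟩
  one_smul z := Subtype.ext (by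
    show ((1 : ↥C) : X) * (z : X) * ((1 : ↥C) : X)⁻¹ = z
    simp)
  mul_smul c d z := Subtype.ext (by
    show ((c * d : ↥C) : X) * (z : X) * ((c * d : ↥C) : X)⁻¹ =
      (c : X) * ((d : X) * (z : X) * (d : X)⁻¹) * (c : X)⁻¹
    rw [Subgroup.coe_mul]
    group)

/-- A `p`-group normalizing a nontrivial `p`-group centralizes a nontrivial element of it. -/
theorem exists_ne_one_centralized {p : ℕ} [Fact p.Prime] [Finite X] (C I : Subgroup X)
    (h : C ≤ Subgroup.normalizer (I : Set X)) (hC : IsPGroup p ↥C) (hI : IsPGroup p ↥I)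
    (hne : I ≠ ⊥) : ∃ w ∈ I, w ≠ 1 ∧ ∀ c ∈ C, c * w * c⁻¹ = w := by
  letI := conjMulAction C I h
  have hp : p ∣ Nat.card ↥I := by
    obtain ⟨k, hk⟩ := hI.exists_card_eq
    rw [hk]
    have hk0 : k ≠ 0 := by
      rintro rfl
      rw [pow_zero] at hk
      exact hne (Subgroup.card_eq_one.mp hk)
    exact dvd_pow_self p hk0
  have h1 : (1 : ↥I) ∈ MulAction.fixedPoints ↥C ↥I := by
    intro c
    apply Subtype.ext
    show (c : X) * ((1 : ↥I) : X) * (c : X)⁻¹ = ((1 : ↥I) : X)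
    simp
  obtain ⟨b, hb, hb1⟩ := hC.exists_fixed_point_of_prime_dvd_card_of_fixed_point ↥I hp h1
  refine ⟨(b : X), b.2, ?_, ?_⟩
  · intro hb'
    apply hb1
    apply Subtype.ext
    rw [hb']
    rfl
  · intro c hc
    have := hb ⟨c, hc⟩
    exact congrArg Subtype.val this

/-- The normalizer of `R` normalizes `Z(R) = R ∩ C(R)`. -/
theorem conj_mem_inf_centralizer (R : Subgroup X) (g : X)
    (hg : g ∈ Subgroup.normalizer (R : Set X)) (z : X)
    (hz : z ∈ R ⊓ Subgroup.centralizer (R : Set X)) :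
    g * z * g⁻¹ ∈ R ⊓ Subgroup.centralizer (R : Set X) := by
  refine ⟨(Subgroup.mem_normalizer_iff.mp hg z).mp hz.1, ?_⟩
  intro r hr
  have hr' : g⁻¹ * r * g ∈ R := by
    have hg' := Subgroup.inv_mem _ hg
    have := (Subgroup.mem_normalizer_iff.mp hg' r).mp hr
    simpa using this
  have hcomm : (g⁻¹ * r * g) * z = z * (g⁻¹ * r * g) := hz.2 _ hr'
  calc r * (g * z * g⁻¹) = g * ((g⁻¹ * r * g) * z) * g⁻¹ := by group
    _ = g * (z * (g⁻¹ * r * g)) * g⁻¹ := by rw [hcomm]
    _ = g * z * g⁻¹ * r := by group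

end Cfsg.Agent.Lib.Helper18
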