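import Mathlib
import Cfsg.Agent.Lib.Helper18.PermIdem

/-!
# Invariant matrices of a permutation group are combinations of the orbital matrices
(helper18; generic half of piece (B2) of S3670)
-/

set_option autoImplicit false
set_option linter.style.haveILetI false

namespace Cfsg.Agent.Lib.Helper18.PermIdem

open Cfsg

section Generic

variable {G : Type*} [Group G] {n r : ℕ}

/-- An invariant matrix is a function of the orbital colouring. -/
theorem invariant_eq_of_coloring (σ : G →* Equiv.Perm (Fin n)) (b : Fin n)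
    (C : Fin n → Fin n → Fin r) (hC : ∀ g i j, C (σ g i) (σ g j) = C i j)
    (htrans : ∀ x, ∃ g, σ g b = x)
    (hstab : ∀ y y', C b y = C b y' → ∃ g, σ g b = b ∧ σ g y = y')
    {R : Type*} (T : Matrix (Fin n) (Fin n) R) (hT : ∀ g i j, T (σ g i) (σ g j) = T i j) :
    ∃ f : Fin r → R, ∀ i j, T i j = f (C i j) := by
  classical
  refine ⟨fun k => if h : ∃ y, C b y = k then T b h.choose else T b b, ?_⟩
  intro i j
  obtain ⟨g, hg⟩ := htrans i
  set y := (σ g)⁻¹ j with hy
  have hj : σ g y = j := by simp [hy]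
  have h1 : T i j = T b y := by rw [← hg, ← hj, hT]
  have h2 : C i j = C b y := by rw [← hg, ← hj, hC]
  have hex : ∃ y', C b y' = C b y := ⟨y, rfl⟩
  rw [h1, h2]
  change T b y = if h : ∃ y', C b y' = C b y then T b h.choose else T b b
  rw [dif_pos hex]
  obtain ⟨g', hg'b, hg'y⟩ := hstab _ _ hex.choose_spec
  have := hT g' b hex.choose
  rw [hg'b, hg'y] at this
  exact this

theorem hmin_of_coloring (σ : G →* Equiv.Perm (Fin n)) (b : Fin n)
    (C : Fin n → Fin n → Fin r) (hC : ∀ g i j, C (σ g i) (σ g j) = C i j)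
    (htrans : ∀ x, ∃ g, σ g b = x)
    (hstab : ∀ y y', C b y = C b y' → ∃ g, σ g b = b ∧ σ g y = y')
    (E : Matrix (Fin n) (Fin n) ℂ) (lam : Fin r → ℂ)
    (hE : ∀ k, (Matrix.of fun i j => if C i j = k then (1 : ℂ) else 0) * E = lam k • E) :
    ∀ T : Matrix (Fin n) (Fin n) ℂ, (∀ g i j, T (σ g i) (σ g j) = T i j) →
      ∃ c : ℂ, T * E = c • E := by
  classical
  intro T hT
  obtain ⟨f, hf⟩ := invariant_eq_of_coloring σ b C hC htrans hstab T hT
  have hTsum : T = ∑ k : Fin r, f k • (Matrix.of fun i j => if C i j = k then (1 : ℂ) else 0) := by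
    ext i j
    rw [hf i j, Matrix.sum_apply]
    simp only [Matrix.smul_apply, Matrix.of_apply, smul_eq_mul, mul_ite, mul_one, mul_zero]
    rw [Finset.sum_ite_eq]
    simp
  refine ⟨∑ k : Fin r, f k * lam k, ?_⟩
  rw [hTsum, Finset.sum_mul, Finset.sum_smul]
  apply Finset.sum_congr rfl
  intro k _
  rw [Matrix.smul_mul, hE k, smul_smul]

/-- Transitivity from a spanning tree: `par x` is the parent of `x`, reached from it by the
generator `p (lab x)`; after `N` steps one is at the base point. -/
theorem reach_of_tree {ι : Type*} (σ : G →* Equiv.Perm (Fin n)) (p : ι → Equiv.Perm (Fin n))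
    (hp : ∀ i, ∃ g, σ g = p i) (b : Fin n) (par : Fin n → Fin n) (lab : Fin n → ι)
    (h1 : ∀ x, x ≠ b → p (lab x) (par x) = x) (N : ℕ) (h2 : ∀ x, par^[N] x = b) :
    ∀ x, ∃ g, σ g b = x := by
  have key : ∀ k x, (∃ g, σ g b = par^[k] x) → ∃ g, σ g b = x := by
    intro k
    induction k with
    | zero => intro x h; simpa using h
    | succ k ih =>
      intro x h
      rw [Function.iterate_succ_apply] at h
      obtain ⟨g1, hg1⟩ := ih (par x) h
      by_cases hx : x = b
      · exact ⟨1, by simp [hx]⟩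
      · obtain ⟨g0, hg0⟩ := hp (lab x)
        refine ⟨g0 * g1, ?_⟩
        rw [map_mul, Equiv.Perm.mul_apply, hg1, hg0, h1 x hx]
  intro x
  exact key N x ⟨1, by simp [h2 x]⟩

/-- Transitivity of the point stabiliser on the colour classes from a forest: roots are the class
representatives `rep k`, `par y` is the parent of a non-root `y`, reached by the stabiliser
element `t (lab y)`. -/
theorem stab_of_tree {κ : Type*} (σ : G →* Equiv.Perm (Fin n)) (b : Fin n)
    (C : Fin n → Fin n → Fin r) (hC : ∀ g i j, C (σ g i) (σ g j) = C i j)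
    (t : κ → Equiv.Perm (Fin n)) (ht : ∀ k, ∃ g, σ g = t k) (htb : ∀ k, t k b = b)
    (rep : Fin r → Fin n) (par : Fin n → Fin n) (lab : Fin n → κ)
    (h1 : ∀ y, y ≠ rep (C b y) → t (lab y) (par y) = y)
    (N : ℕ) (h2 : ∀ y, par^[N] y = rep (C b (par^[N] y))) :
    ∀ y y', C b y = C b y' → ∃ g, σ g b = b ∧ σ g y = y' := by
  have key : ∀ k y, (∃ g, σ g b = b ∧ σ g (rep (C b (par^[k] y))) = par^[k] y) →
      ∃ g, σ g b = b ∧ σ g (rep (C b y)) = y := by
    intro k
    induction k with
    | zero => intro y h; simpa using h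
    | succ k ih =>
      intro y h
      rw [Function.iterate_succ_apply] at h
      obtain ⟨g1, hg1b, hg1⟩ := ih (par y) h
      by_cases hy : y = rep (C b y)
      · exact ⟨1, by simp, by simpa using hy.symm⟩
      · obtain ⟨g0, hg0⟩ := ht (lab y)
        have hty := h1 y hy
        have hcol : C b (par y) = C b y := by
          have := hC g0 b (par y)
          rw [hg0, htb, hty] at this
          exact this.symm
        refine ⟨g0 * g1, ?_, ?_⟩
        · rw [map_mul, Equiv.Perm.mul_apply, hg1b, hg0, htb]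
        · rw [map_mul, Equiv.Perm.mul_apply, ← hcol, hg1, hg0, hty]
  have good : ∀ y, ∃ g, σ g b = b ∧ σ g (rep (C b y)) = y := by
    intro y
    refine key N y ⟨1, by simp, ?_⟩
    simpa using (h2 y).symm
  intro y y' hyy'
  obtain ⟨g, hgb, hg⟩ := good y
  obtain ⟨g', hg'b, hg'⟩ := good y'
  refine ⟨g' * g⁻¹, ?_, ?_⟩
  · rw [map_mul, Equiv.Perm.mul_apply, map_inv]
    have : (σ g)⁻¹ b = b := by
      rw [Equiv.Perm.inv_eq_iff_eq]; exact hgb.symm
    rw [this, hg'b]
  · rw [map_mul, Equiv.Perm.mul_apply, map_inv]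
    have : (σ g)⁻¹ y = rep (C b y) := by
      rw [Equiv.Perm.inv_eq_iff_eq]; exact hg.symm
    rw [this, hyy', hg']

end Generic

/-- Integer version: `F` an integer matrix which is a function of the orbital colouring, with
`F * F = s • F`, `trace F = s * d`, and `A_k * F = lam k • F` for every orbital matrix `A_k`.
Then `G` has an irreducible character of degree `d`. -/
theorem exists_irr_of_int {G : Type*} [Group G] [Finite G] {n r : ℕ}
    (σ : G →* Equiv.Perm (Fin n)) (b : Fin n)
    (C : Fin n → Fin n → Fin r) (hC : ∀ g i j, C (σ g i) (σ g j) = C i j)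
    (htrans : ∀ x, ∃ g, σ g b = x)
    (hstab : ∀ y y', C b y = C b y' → ∃ g, σ g b = b ∧ σ g y = y')
    (F : Matrix (Fin n) (Fin n) ℤ) (f : Fin r → ℤ) (hFc : ∀ i j, F i j = f (C i j))
    (s : ℤ) (hs : s ≠ 0) (d : ℕ) (hd : 0 < d)
    (hF2 : F * F = s • F) (htr : F.trace = s * d)
    (lam : Fin r → ℤ)
    (hF : ∀ k, (Matrix.of fun i j => if C i j = k then (1 : ℤ) else 0) * F = lam k • F) :
    ∃ χ : Cfsg.IrrCharacter G, Cfsg.charDegree (χ : G → ℂ) = d := by
  classical
  have hsC : (s : ℂ) ≠ 0 := by exact_mod_cast hs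
  set FC : Matrix (Fin n) (Fin n) ℂ := F.map (Int.castRingHom ℂ) with hFC
  set E : Matrix (Fin n) (Fin n) ℂ := (s : ℂ)⁻¹ • FC with hE
  have hFC2 : FC * FC = (s : ℂ) • FC := by
    rw [hFC, ← Matrix.map_mul, hF2]
    ext i j
    rw [Matrix.map_apply, Matrix.smul_apply, Matrix.smul_apply, Matrix.map_apply]
    simp
  have hE2 : E * E = E := by
    rw [hE, Matrix.smul_mul, Matrix.mul_smul, hFC2, smul_smul, smul_smul]
    congr 1
    field_simp
  have htrE : E.trace = d := by
    rw [hE, Matrix.trace_smul, hFC]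
    have : (F.map (Int.castRingHom ℂ)).trace = ((F.trace : ℤ) : ℂ) := by
      simp [Matrix.trace, Matrix.diag]
    rw [this, htr]
    push_cast
    rw [smul_eq_mul]
    field_simp
  have hEc : ∀ g i j, E (σ g i) (σ g j) = E i j := by
    intro g i j
    simp only [hE, hFC, Matrix.smul_apply, Matrix.map_apply]
    rw [hFc, hFc, hC]
  have hEk : ∀ k, (Matrix.of fun i j => if C i j = k then (1 : ℂ) else 0) * E
      = ((lam k : ℤ) : ℂ) • E := by
    intro k
    have h1 : (Matrix.of fun i j => if C i j = k then (1 : ℂ) else 0)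
        = (Matrix.of fun i j => if C i j = k then (1 : ℤ) else 0).map (Int.castRingHom ℂ) := by
      ext i j
      simp only [Matrix.of_apply, Matrix.map_apply]
      split_ifs <;> simp
    rw [hE, Matrix.mul_smul, h1, hFC, ← Matrix.map_mul, hF k, smul_comm]
    congr 1
    ext i j
    rw [Matrix.map_apply, Matrix.smul_apply, Matrix.smul_apply, Matrix.map_apply]
    simp
  exact exists_irr_of_idempotent σ E hE2 d htrE hd hEc
    (hmin_of_coloring σ b C hC htrans hstab E (fun k => ((lam k : ℤ) : ℂ)) hEk)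

end Cfsg.Agent.Lib.Helper18.PermIdem
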