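import Mathlib
import Cfsg.Agent.S0626
import Cfsg.Agent.S2795
import Cfsg.Agent.Lib.Helper20.QdNot
import Cfsg.Agent.H5.KInf7

/-!
# Groups with abelian Sylow `2`-subgroups are `Qd(p)`-free, hence stable (`p` odd)

* `TwoAb Γ`: all `2`-subgroups of `Γ` are abelian; closed under subgroups, quotients, isomorphisms.
* `not_involves_qd`: for odd `p`, a finite group with `TwoAb` does not involve `Qd(p)`.
* `stab_of_twoAb`: for odd `p`, a finite group with `TwoAb` satisfies `Cfsg.H5.KI.Stab p`.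
-/

set_option autoImplicit false
set_option linter.unusedSectionVars false
set_option linter.style.haveILetI false

namespace Cfsg.Agent.Lib.Helper18.PrimPair

open Cfsg Subgroup
open Cfsg.Agent.Lib.Helper16
open Cfsg.Agent.Lib.Helper20.QdN
open scoped commutatorElement

/-- all `2`-subgroups are abelian -/
def TwoAb (Γ : Type*) [Group Γ] : Prop :=
  ∀ P : Subgroup Γ, IsPGroup 2 P → ∀ x ∈ P, ∀ y ∈ P, x * y = y * x

theorem twoAb_of_sylow {Γ : Type*} [Group Γ] [Finite Γ]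
    (h : ∀ T : Sylow 2 Γ, IsMulCommutative (T : Subgroup Γ)) : TwoAb Γ := by
  obtain ⟨T⟩ : Nonempty (Sylow 2 Γ) := inferInstance
  exact fun P hP => Cfsg.Agent.S0595.comm_of_two_subgroup T (h T) P hP

theorem TwoAb.sylow {Γ : Type*} [Group Γ] (h : TwoAb Γ) (T : Sylow 2 Γ) :
    IsMulCommutative (T : Subgroup Γ) :=
  ⟨⟨fun a b => Subtype.ext (h _ T.2 a a.2 b b.2)⟩⟩

theorem TwoAb.of_injective {Γ Γ' : Type*} [Group Γ] [Group Γ'] (f : Γ' →* Γ)
    (hf : Function.Injective f) (h : TwoAb Γ) : TwoAb Γ' := by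
  intro P hP x hx y hy
  have hP' : IsPGroup 2 (P.map f) := hP.map _
  have h1 := h _ hP' (f x) ⟨x, hx, rfl⟩ (f y) ⟨y, hy, rfl⟩
  apply hf
  rw [map_mul, map_mul]
  exact h1

theorem TwoAb.subgroup {Γ : Type*} [Group Γ] (h : TwoAb Γ) (K : Subgroup Γ) : TwoAb K :=
  TwoAb.of_injective K.subtype K.subtype_injective h

theorem TwoAb.quotient {Γ : Type*} [Group Γ] [Finite Γ] (h : TwoAb Γ) (N : Subgroup Γ)
    [N.Normal] : TwoAb (Γ ⧸ N) := by
  obtain ⟨T⟩ : Nonempty (Sylow 2 Γ) := inferInstance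
  have hs : Function.Surjective (QuotientGroup.mk' N) := QuotientGroup.mk'_surjective N
  have hT' : IsMulCommutative ((T.mapSurjective hs : Sylow 2 (Γ ⧸ N)) : Subgroup (Γ ⧸ N)) := by
    refine ⟨⟨?_⟩⟩
    rintro ⟨a, ha⟩ ⟨b, hb⟩
    rw [Sylow.coe_mapSurjective] at ha hb
    obtain ⟨a', ha', rfl⟩ := ha
    obtain ⟨b', hb', rfl⟩ := hb
    apply Subtype.ext
    show (QuotientGroup.mk' N) a' * (QuotientGroup.mk' N) b' =
      (QuotientGroup.mk' N) b' * (QuotientGroup.mk' N) a'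
    rw [← map_mul, ← map_mul, h _ T.2 a' ha' b' hb']
  exact fun P hP => Cfsg.Agent.S0595.comm_of_two_subgroup _ hT' P hP

/-- `Qd(p)`, in its affine model, has non-abelian `2`-subgroups (`p` odd) -/
theorem not_twoAb_aff {p : ℕ} [Fact p.Prime] (hp : p ≠ 2) : ¬ TwoAb ↥(affSL3 (ZMod p)) := by
  intro h
  obtain ⟨T⟩ : Nonempty (Sylow 2 ↥(affSL3 (ZMod p))) := inferInstance
  have hA : Cfsg.H5.APS.AutStable p ↥(affSL3 (ZMod p)) :=
    Cfsg.Agent.S0626.autStable_of_comm hp T (h.sylow T)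
  have hV : Cfsg.IsElementaryAbelian p (affV (ZMod p)) := by
    refine ⟨⟨⟨?_⟩⟩, fun a ha => affV_pow_eq_one p ha⟩
    rintro ⟨a, ha⟩ ⟨b, hb⟩
    apply Subtype.ext
    show a * b = b * a
    rw [eq_affT_of_mem ha, eq_affT_of_mem hb, affT_mul, affT_mul, add_comm]
  have hst := Cfsg.H5.APS.isPStableOn_of_autStable hA (affV (ZMod p)) hV
  have h3 := hst (tv (ZMod p)) quad_aff
  rw [Cfsg.H5.PSt.mk_mem_pCore_iff'] at h3
  obtain ⟨L, hLn, hCL, hpow, haL⟩ := h3
  apply not_inOp_aff (p := p)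
  refine ⟨L, hCL, ?_, ?_, hpow, haL⟩
  · rw [normalizer_eq_top_iff.mpr affV_normal]
    exact le_top
  · rw [normalizer_eq_top_iff.mpr hLn]
    exact le_top

/-- for odd `p`, a finite group all of whose `2`-subgroups are abelian is `Qd(p)`-free -/
theorem not_involves_qd {G : Type*} [Group G] [Finite G] {p : ℕ} [Fact p.Prime] (hp : p ≠ 2)
    (h : TwoAb G) : ¬ Cfsg.Involves ↥(Cfsg.qd p) G := by
  rintro ⟨K, R, hR, ⟨e⟩⟩
  haveI := hR
  have h1 : TwoAb (↥K ⧸ R.subgroupOf K) := (h.subgroup K).quotient _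
  obtain ⟨e'⟩ : Nonempty ((↥K ⧸ R.subgroupOf K) ≃* ↥(affSL3 (ZMod p))) :=
    ⟨e.trans (MulEquiv.subgroupCongr (qd_eq_affSL3 p))⟩
  have h2 : TwoAb ↥(affSL3 (ZMod p)) :=
    TwoAb.of_injective e'.symm.toMonoidHom e'.symm.injective h1
  exact not_twoAb_aff hp h2

/-- for odd `p`, a finite group all of whose `2`-subgroups are abelian is stable in the sense
of the `K`-infinity machinery -/
theorem stab_of_twoAb {G : Type*} [Group G] [Finite G] {p : ℕ} [Fact p.Prime] (hp : p ≠ 2)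
    (h : TwoAb G) : Cfsg.H5.KI.Stab p G := by
  have h1 := (Cfsg.Agent.S2795.result (G := G) (p := p) hp).mp (not_involves_qd hp h)
  exact (Cfsg.H5.KI.stabS_of_sections h1).toStab

end Cfsg.Agent.Lib.Helper18.PrimPair
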