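import Mathlib
import Cfsg.Agent.H5.KInf14
import Cfsg.Agent.Lib.Helper18.PrimPairA

/-!
# `K`-infinity of an arbitrary subgroup containing `O_p(G)`

In a stable group `G` with `C_G(O_p(G)) ≤ O_p(G)`, every subgroup `R` containing `O_p(G)` satisfies
`K_∞(R) = K_∞(O_p(G))` (for both `K`-infinity functors).  This is the argument of
`Cfsg.H5.KI.kLow_eq_pCore` (there for Sylow subgroups), which never uses that `R` is a `p`-group.
-/

set_option autoImplicit false
set_option linter.unusedSectionVars false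
set_option linter.style.haveILetI false

namespace Cfsg.Agent.Lib.Helper18.PrimPair

open Cfsg Subgroup Cfsg.H5.KI
open scoped commutatorElement

section lemmaK

variable {G : Type*} [Group G] [Finite G] {p : ℕ} [Fact p.Prime]

/-- **`K`-infinity of a subgroup containing `O_p(G)` equals `K`-infinity of `O_p(G)`.** -/
theorem kLow_eq_pCore_of_le (hst : Stab p G) (R : Subgroup G) (hTS : pCore p G ≤ R)
    (hC : centralizer (pCore p G : Set G) ≤ pCore p G) :
    kLow R = kLow (pCore p G) ∧ kUp R = kUp (pCore p G) := by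
  have hTp : IsPGroup p ↥(pCore p G) := Cfsg.H5.pCore_isPGroup p G
  haveI hTn : (pCore p G).Normal := Cfsg.H5.pCore_normal p G
  obtain ⟨A, hAn, hAT, hA2, hTA, hCA⟩ := exists_critical (p := p) hC
  haveI := hAn
  have hAp : IsPGroup p A := hTp.to_le hAT
  have hnA : ∀ X : Subgroup G, X ≤ normalizer (A : Set G) := fun X => by
    rw [Subgroup.normalizer_eq_top_iff.mpr hAn]; exact le_top
  have hnZA : ∀ X : Subgroup G, X ≤ normalizer ((Zc A : Subgroup G) : Set G) := fun X =>
    le_normalizer_Zc_of_le (hnA X)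
  have hbot : ∀ X : Subgroup G, X ≤ normalizer (((⊥ : Subgroup G) : Subgroup G) : Set G) :=
    fun X => by
      rw [Subgroup.normalizer_eq_top_iff.mpr inferInstance]; exact le_top
  have quad2T : ∀ (Y : Subgroup G), Y ≤ A → (⊤ : Subgroup G) ≤ normalizer (Y : Set G) → ∀ g : G,
      ⁅⁅Y, zpowers g⁆, zpowers g⁆ = ⊥ → ⁅⁅A, zpowers g⁆, zpowers g⁆ ≤ Y → g ∈ pCore p G := by
    intro Y hYA hnY g hq1 hq2
    exact mem_of_quad2 hst (H := ⊤) (Y := Y) hTp (fun X => op_top) (inf_le_right.trans hCA) hAp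
      le_top (hnA _) hYA hnY (Subgroup.mem_top g) hq1 hq2
  apply core hTS hAT hA2 (hnA _) hTA
  · -- upper star members
    intro Q hAQ _ B hB g hg
    obtain ⟨-, -, hB3⟩ := hB
    have hgp : zpowers g ≤ B := Cfsg.H5.KI.zpowers_le_of_mem hg
    apply quad2T ⊥ bot_le (hbot _) g
    · rw [Subgroup.commutator_bot_left, Subgroup.commutator_bot_left]
    · calc ⁅⁅A, zpowers g⁆, zpowers g⁆ ≤ ⁅⁅A, B⁆, B⁆ :=
            Subgroup.commutator_mono (Subgroup.commutator_mono le_rfl hgp) hgp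
        _ ≤ ⁅Zc B, B⁆ := by
            rw [Subgroup.commutator_comm A B]
            exact Subgroup.commutator_mono
              ((Subgroup.commutator_mono le_rfl hAQ).trans hB3) le_rfl
        _ = ⊥ := commutator_self_Zc B
  · -- lower star members
    intro Q hAQ _ B hB
    obtain ⟨-, hB2, hQB, htest⟩ := hB
    exact lo_le_pCore hst hAT hA2 hTA hCA hB2 (hAQ.trans hQB)
      (fun A' hA'A hBA' e1 e2 => htest A' (cl2_of_le hA2 hA'A) (hA'A.trans hAQ) hBA' e1 e2)
  · -- the test subgroups for `A`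
    intro A' _ hA'2 hAA' e1 e2 g hg
    have hgp : zpowers g ≤ A' := Cfsg.H5.KI.zpowers_le_of_mem hg
    apply quad2T (Zc A) inf_le_left (hnZA _) g
    · apply le_bot_iff.mp
      rw [← e2]
      exact Subgroup.commutator_mono (Subgroup.commutator_mono le_rfl hgp) hgp
    · have h1 : ⁅A, A'⁆ ≤ A ⊓ A' :=
        le_inf (Subgroup.commutator_le_left A A') (commutator_le_of_le_normalizer hAA')
      have h2 : ⁅A', A'⁆ ≤ centralizer (A : Set G) := by
        rw [Subgroup.le_centralizer_iff, ← Subgroup.commutator_eq_bot_iff_le_centralizer]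
        exact e1
      calc ⁅⁅A, zpowers g⁆, zpowers g⁆ ≤ ⁅⁅A, A'⁆, A'⁆ :=
            Subgroup.commutator_mono (Subgroup.commutator_mono le_rfl hgp) hgp
        _ ≤ Zc A := by
            refine le_inf ?_ ?_
            · exact (Subgroup.commutator_mono (h1.trans inf_le_left) le_rfl).trans
                (Subgroup.commutator_le_left A A')
            · exact (Subgroup.commutator_mono (h1.trans inf_le_right) le_rfl).trans h2

/-- the centre of a non-trivial `p`-subgroup is non-trivial -/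
theorem Zc_ne_bot {Q : Subgroup G} (hQ : IsPGroup p Q) (hne : Q ≠ ⊥) : Zc Q ≠ ⊥ := by
  haveI : Nontrivial ↥Q := (Subgroup.nontrivial_iff_ne_bot Q).mpr hne
  haveI : Nontrivial (Subgroup.center ↥Q) := hQ.center_nontrivial
  obtain ⟨z, hz⟩ := exists_ne (1 : Subgroup.center ↥Q)
  intro hbot
  apply hz
  have h1 : ((z : ↥Q) : G) ∈ Zc Q := by
    refine Subgroup.mem_inf.mpr ⟨(z : ↥Q).2, ?_⟩
    rw [mem_centralizer_iff]
    intro y hy
    have h2 := Subgroup.mem_center_iff.mp z.2 ⟨y, hy⟩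
    exact congrArg Subtype.val h2
  rw [hbot, Subgroup.mem_bot] at h1
  exact Subtype.ext (Subtype.ext h1)

/-- `K`-infinity of a non-trivial `p`-subgroup is non-trivial -/
theorem kLow_ne_bot {Q : Subgroup G} (hQ : IsPGroup p Q) (hne : Q ≠ ⊥) : kLow Q ≠ ⊥ := by
  intro h
  apply Zc_ne_bot hQ hne
  apply le_bot_iff.mp
  rw [← h]
  exact Zc_le_kLow Q

end lemmaK

section locl

universe u

variable {G : Type u} [Group G] [Finite G] {p : ℕ} [Fact p.Prime]

/-- local version of `kLow_eq_pCore_of_le`: if `M` is stable with `C_M(O_p(M)) ≤ O_p(M)` and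
`O_p(M) ≤ R ≤ M`, then `K_∞(R) = K_∞(O_p(M))`, computed in `G`. -/
theorem kLow_eq_of_le_local (M : Subgroup G) (hst : Stab p ↥M)
    (hc : centralizer (pCore p ↥M : Set ↥M) ≤ pCore p ↥M) (R : Subgroup G)
    (hQR : (pCore p ↥M).map M.subtype ≤ R) (hRM : R ≤ M) :
    kLow R = kLow ((pCore p ↥M).map M.subtype) := by
  have h1 : pCore p ↥M ≤ R.subgroupOf M := by
    intro x hx
    rw [Subgroup.mem_subgroupOf]
    exact hQR ⟨x, hx, rfl⟩
  have h2 := (kLow_eq_pCore_of_le hst (R.subgroupOf M) h1 hc).1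
  have h3 : (R.subgroupOf M).map M.subtype = R := map_subtype_subgroupOf hRM
  rw [kLow_map_subtype, ← h2, ← kLow_map_subtype, h3]

/-- `K_∞(O_p(M))`, computed in `G`, is normalized by `M` -/
theorem le_normalizer_kLow_pCore (M : Subgroup G) :
    M ≤ normalizer ((kLow ((pCore p ↥M).map M.subtype) : Subgroup G) : Set G) := by
  rw [kLow_map_subtype]
  haveI hTn : (pCore p ↥M).Normal := Cfsg.H5.pCore_normal p ↥M
  haveI := kLow_normal (pCore p ↥M)
  exact le_normalizer_map_subtype M _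

/-- `O_p(M)`, seen in `G`, is normalized by `M` -/
theorem le_normalizer_pCore_map (M : Subgroup G) :
    M ≤ normalizer (((pCore p ↥M).map M.subtype : Subgroup G) : Set G) := by
  haveI hTn : (pCore p ↥M).Normal := Cfsg.H5.pCore_normal p ↥M
  exact le_normalizer_map_subtype M _

/-- if `C_M(O_p(M)) ≤ O_p(M)` and `O_p(M) = 1` then `M = 1` -/
theorem eq_bot_of_pCore_map_eq_bot (M : Subgroup G)
    (hc : centralizer (pCore p ↥M : Set ↥M) ≤ pCore p ↥M)
    (h : (pCore p ↥M).map M.subtype = ⊥) : M = ⊥ := by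
  have h1 : pCore p ↥M = ⊥ := (Subgroup.map_eq_bot_iff_of_injective _ M.subtype_injective).mp h
  rw [Subgroup.eq_bot_iff_forall]
  intro x hx
  have h2 : (⟨x, hx⟩ : ↥M) ∈ centralizer (pCore p ↥M : Set ↥M) := by
    rw [mem_centralizer_iff]
    intro y hy
    have hy' : y ∈ pCore p ↥M := hy
    rw [h1, Subgroup.mem_bot] at hy'
    rw [hy', one_mul, mul_one]
  have h3 := hc h2
  rw [h1, Subgroup.mem_bot] at h3
  exact congrArg Subtype.val h3

/-- if all `2`-subgroups of `M` are abelian and `C_M(O_2(M)) ≤ O_2(M)`, every `2`-subgroup of `G`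
contained in `M` lies in `O_2(M)` -/
theorem two_subgroup_le_pCore (M : Subgroup G) (hab : TwoAb ↥M)
    (hc : centralizer (pCore 2 ↥M : Set ↥M) ≤ pCore 2 ↥M) (P : Subgroup G) (hP : IsPGroup 2 P)
    (hPM : P ≤ M) : P ≤ (pCore 2 ↥M).map M.subtype := by
  have hTp : IsPGroup 2 ↥(pCore 2 ↥M) := Cfsg.H5.pCore_isPGroup 2 ↥M
  haveI hTn : (pCore 2 ↥M).Normal := Cfsg.H5.pCore_normal 2 ↥M
  have hP' : IsPGroup 2 ↥(P.subgroupOf M) := hP.comap_subtype
  obtain ⟨S, hPS⟩ := hP'.exists_le_sylow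
  have hTS : pCore 2 ↥M ≤ S := hTp.le_sylow_of_normal S
  intro x hx
  have hxS : (⟨x, hPM hx⟩ : ↥M) ∈ (S : Subgroup ↥M) := hPS (Subgroup.mem_subgroupOf.mpr hx)
  have hxc : (⟨x, hPM hx⟩ : ↥M) ∈ centralizer (pCore 2 ↥M : Set ↥M) := by
    rw [mem_centralizer_iff]
    intro y hy
    exact hab _ S.2 y (hTS hy) _ hxS
  exact ⟨⟨x, hPM hx⟩, hc hxc, rfl⟩

end locl

end Cfsg.Agent.Lib.Helper18.PrimPair
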