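import Mathlib
import Cfsg.Agent.Lib.Helper15.Dk12

/-!
# Ruiz–Viruel bounds, matrix part

`p'`-subgroups of `PSL₂(F)` (Dickson): either the elements of order `> 2` commute pairwise, or all
elements have order `≤ 5`.  Consequences for families of elements of `SL₂(F)` with prescribed
eigenvalues on pairwise independent eigenvectors.
-/

set_option autoImplicit false

namespace Cfsg.Agent.Lib.Helper18.RVMat

open Matrix
open Cfsg.Agent.Lib.Helper14
open Cfsg.Agent.Lib.Helper15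
open Cfsg.Agent.Lib.Helper15.Dk

section det2
variable {K : Type*} [Field K]

/-- the determinant of two plane vectors -/
def det2 (v u : Fin 2 → K) : K := v 0 * u 1 - v 1 * u 0

theorem det2_mulVec (A : Matrix (Fin 2) (Fin 2) K) (v u : Fin 2 → K) :
    det2 (A *ᵥ v) (A *ᵥ u) = A.det * det2 v u := by
  simp only [det2, Matrix.mulVec, dotProduct, Fin.sum_univ_two, Matrix.det_fin_two]
  ring

theorem det2_smul_smul (c d : K) (v u : Fin 2 → K) : det2 (c • v) (d • u) = c * d * det2 v u := by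
  simp only [det2, Pi.smul_apply, smul_eq_mul]
  ring

theorem det2_self (v : Fin 2 → K) : det2 v v = 0 := by
  simp only [det2]
  ring

theorem ne_zero_left_of_det2 {v u : Fin 2 → K} (h : det2 v u ≠ 0) : v ≠ 0 := by
  rintro rfl
  apply h
  simp [det2]

theorem ne_zero_right_of_det2 {v u : Fin 2 → K} (h : det2 v u ≠ 0) : u ≠ 0 := by
  rintro rfl
  apply h
  simp [det2]

theorem det2_swap (v u : Fin 2 → K) : det2 u v = - det2 v u := by
  simp only [det2]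
  ring

theorem exists_smul_of_det2_eq_zero {w v : Fin 2 → K} (h : det2 w v = 0) (hv : v ≠ 0) :
    ∃ β : K, w = β • v := by
  have hv' : v 0 ≠ 0 ∨ v 1 ≠ 0 := by
    by_contra hcon
    push Not at hcon
    apply hv
    funext i
    fin_cases i
    · exact hcon.1
    · exact hcon.2
  simp only [det2] at h
  rcases hv' with h0 | h1
  · refine ⟨w 0 / v 0, ?_⟩
    funext i
    fin_cases i
    · simp only [Fin.zero_eta, Pi.smul_apply, smul_eq_mul]
      field_simp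
    · simp only [Fin.mk_one, Pi.smul_apply, smul_eq_mul]
      field_simp
      linear_combination (-1 : K) * h
  · refine ⟨w 1 / v 1, ?_⟩
    funext i
    fin_cases i
    · simp only [Fin.zero_eta, Pi.smul_apply, smul_eq_mul]
      field_simp
      linear_combination h
    · simp only [Fin.mk_one, Pi.smul_apply, smul_eq_mul]
      field_simp

theorem eq_of_smul_eq_smul {c d : K} {v : Fin 2 → K} (hv : v ≠ 0) (h : c • v = d • v) : c = d := by
  obtain ⟨i, hi⟩ := Function.ne_iff.mp hv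
  have h1 := congrFun h i
  simp only [Pi.smul_apply, smul_eq_mul] at h1
  exact mul_right_cancel₀ hi h1

theorem pow_mulVec_eig (B : Matrix (Fin 2) (Fin 2) K) (v : Fin 2 → K) (α : K)
    (hB : B *ᵥ v = α • v) (k : ℕ) : (B ^ k) *ᵥ v = α ^ k • v := by
  induction k with
  | zero => simp
  | succ k ih =>
    rw [pow_succ, ← Matrix.mulVec_mulVec, hB, Matrix.mulVec_smul, ih, smul_smul, pow_succ,
      mul_comm]

end det2

section trichotomy

theorem a4_pow23 : ∀ σ : Equiv.Perm (Fin 4), Equiv.Perm.sign σ = 1 → σ ^ 2 = 1 ∨ σ ^ 3 = 1 := by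
  decide

theorem card_order_four :
    Fintype.card {σ : Equiv.Perm (Fin 4) // σ ^ 4 = 1 ∧ σ ^ 2 ≠ 1} = 6 := by
  decide

theorem dihedral_rot {k : ℕ} (g : DihedralGroup k) (hg : g ^ 2 ≠ 1) :
    ∃ i : ZMod k, g = DihedralGroup.r i := by
  rcases g with i | i
  · exact ⟨i, rfl⟩
  · exfalso
    apply hg
    rw [pow_two, DihedralGroup.sr_mul_self]

variable {F : Type*} [Field F] [Fintype F]

/-- Dickson for `p'`-subgroups of `PSL₂(F)`, in the form used here. -/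
theorem trichotomy (p : ℕ) [Fact p.Prime] [CharP F p]
    (H : Subgroup (ProjectiveSpecialLinearGroup (Fin 2) F)) (hH : ¬ p ∣ Nat.card ↥H) :
    (∀ x ∈ H, ∀ y ∈ H, x ^ 2 ≠ 1 → y ^ 2 ≠ 1 → x * y = y * x) ∨
    (∀ x ∈ H, x ^ 2 = 1 ∨ x ^ 3 = 1 ∨ x ^ 5 = 1) ∨
    Nonempty (↥H ≃* Equiv.Perm (Fin 4)) := by
  have hpp : p.Prime := Fact.out
  have pull : ∀ {M : Type} [Group M] (e : ↥H ≃* M) (x : ProjectiveSpecialLinearGroup (Fin 2) F)
      (hx : x ∈ H) (k : ℕ), (e ⟨x, hx⟩) ^ k = 1 → x ^ k = 1 := by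
    intro M _ e x hx k hk
    rw [← map_pow, e.map_eq_one_iff] at hk
    exact congrArg Subtype.val hk
  rcases dickson_coprime p H hH with
    ⟨k, -, h⟩ | ⟨P, K, hK, ⟨e⟩⟩ | ⟨⟨e⟩⟩ | ⟨⟨e⟩⟩ | ⟨⟨e⟩⟩ | ⟨K, i1, i2, m, hm, h⟩
  · left
    rcases h with ⟨hc, -⟩ | ⟨⟨e⟩⟩
    · intro x hx y hy _ _
      have := mul_comm_of_isCyclic (⟨x, hx⟩ : ↥H) ⟨y, hy⟩
      exact congrArg Subtype.val this
    · intro x hx y hy hx2 hy2
      have hx2' : (e ⟨x, hx⟩) ^ 2 ≠ 1 := by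
        intro h1
        apply hx2
        rw [← map_pow, e.map_eq_one_iff] at h1
        exact congrArg Subtype.val h1
      have hy2' : (e ⟨y, hy⟩) ^ 2 ≠ 1 := by
        intro h1
        apply hy2
        rw [← map_pow, e.map_eq_one_iff] at h1
        exact congrArg Subtype.val h1
      obtain ⟨i, hi⟩ := dihedral_rot _ hx2'
      obtain ⟨j, hj⟩ := dihedral_rot _ hy2'
      have h1 : e (⟨x, hx⟩ * ⟨y, hy⟩) = e (⟨y, hy⟩ * ⟨x, hx⟩) := by
        rw [map_mul, map_mul, hi, hj, DihedralGroup.r_mul_r, DihedralGroup.r_mul_r, add_comm]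
      exact congrArg Subtype.val (e.injective h1)
  · left
    intro x hx y hy _ _
    set x' := e ⟨x, hx⟩ with hx'
    set y' := e ⟨y, hy⟩ with hy'
    have hcP := commutator_mem_sylow p P (x' : ProjectiveSpecialLinearGroup (Fin 2) F)
      (y' : ProjectiveSpecialLinearGroup (Fin 2) F) (hK x'.2) (hK y'.2)
    have hcK : (x' * y' * x'⁻¹ * y'⁻¹ : ↥K) = 1 := by
      obtain ⟨n, hn⟩ := P.2 ⟨_, hcP⟩
      have hn' : ((x' * y' * x'⁻¹ * y'⁻¹ : ↥K) : ProjectiveSpecialLinearGroup (Fin 2) F) ^ p ^ n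
          = 1 := by
        have := congrArg Subtype.val hn
        simpa using this
      have h1 : (x' * y' * x'⁻¹ * y'⁻¹ : ↥K) ^ p ^ n = 1 := by
        apply Subtype.ext
        rw [Subgroup.coe_pow]
        exact hn'
      have h2 : (x' * y' * x'⁻¹ * y'⁻¹ : ↥K) ^ Nat.card ↥K = 1 := pow_card_eq_one'
      have hcop : Nat.Coprime (p ^ n) (Nat.card ↥K) := by
        apply Nat.Coprime.pow_left
        rw [Nat.Prime.coprime_iff_not_dvd hpp, ← Nat.card_congr e.toEquiv]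
        exact hH
      have h3 := orderOf_dvd_of_pow_eq_one h1
      have h4 := orderOf_dvd_of_pow_eq_one h2
      have h5 : orderOf (x' * y' * x'⁻¹ * y'⁻¹ : ↥K) = 1 :=
        Nat.eq_one_of_dvd_coprimes hcop h3 h4
      exact orderOf_eq_one_iff.mp h5
    have h6 : x' * y' = y' * x' := by
      calc x' * y' = (x' * y' * x'⁻¹ * y'⁻¹) * (y' * x') := by group
        _ = y' * x' := by rw [hcK, one_mul]
    have h7 : e (⟨x, hx⟩ * ⟨y, hy⟩) = e (⟨y, hy⟩ * ⟨x, hx⟩) := by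
      rw [map_mul, map_mul]
      exact h6
    exact congrArg Subtype.val (e.injective h7)
  · right; left
    intro x hx
    have hsgn : Equiv.Perm.sign ((e ⟨x, hx⟩ : alternatingGroup (Fin 4)) : Equiv.Perm (Fin 4)) = 1 :=
      Equiv.Perm.mem_alternatingGroup.mp (e ⟨x, hx⟩).2
    rcases a4_pow23 _ hsgn with h | h
    · left
      exact pull e x hx 2 (Subtype.ext h)
    · right; left
      exact pull e x hx 3 (Subtype.ext h)
  · right; right
    exact ⟨e⟩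
  · right; left
    intro x hx
    rcases a5_pow (e ⟨x, hx⟩) with h | h | h
    · left; exact pull e x hx 2 h
    · right; left; exact pull e x hx 3 h
    · right; right; exact pull e x hx 5 h
  · exfalso
    apply hH
    let _ := i1
    let _ := i2
    obtain ⟨n, -, hn⟩ := FiniteField.card F p
    have hpK : p ∣ Fintype.card K := by
      apply hpp.dvd_of_dvd_pow (n := m)
      rw [hm, hn]
      exact dvd_pow_self p n.ne_zero
    rcases h with ⟨⟨e⟩⟩ | ⟨⟨e⟩⟩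
    · rw [Nat.card_congr e.toEquiv]
      have h1 := card_PSL2_mul (F := K)
      have h2 := card_center_eq_gcd (F := K)
      have h3 : p ∣ Nat.card (ProjectiveSpecialLinearGroup (Fin 2) K) *
          Nat.card (Subgroup.center (SpecialLinearGroup (Fin 2) K)) := by
        rw [h1]
        exact Dvd.dvd.mul_right hpK _
      rcases (Nat.Prime.dvd_mul hpp).mp h3 with h4 | h4
      · exact h4
      · exfalso
        rw [h2] at h4
        have h5 : p ∣ Fintype.card K - 1 := h4.trans (Nat.gcd_dvd_right _ _)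
        have hq : 1 ≤ Fintype.card K := Fintype.card_pos
        have h6 : p ∣ 1 := by
          have := (Nat.dvd_sub hpK h5)
          rwa [Nat.sub_sub_self hq] at this
        exact hpp.one_lt.ne' (Nat.dvd_one.mp h6)
    · rw [Nat.card_congr e.toEquiv, card_PGL2]
      exact Dvd.dvd.mul_right hpK _

end trichotomy

section lines
variable {F : Type*} [Field F]

theorem mu_pow_of_pow (h2 : (2 : F) ≠ 0) (B : SpecialLinearGroup (Fin 2) F) (v : Fin 2 → F)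
    (α μ : F) (hv : v ≠ 0) (hB : (B : Matrix (Fin 2) (Fin 2) F) *ᵥ v = α • v) (hα : α ^ 2 = μ)
    (k : ℕ) (hk : toPSL2 F B ^ k = 1) : μ ^ k = 1 := by
  rw [← map_pow, toPSL2_eq_one_iff h2] at hk
  have h1 := pow_mulVec_eig _ v α hB k
  have h3 : α ^ k = 1 ∨ α ^ k = -1 := by
    rcases hk with hk | hk
    · left
      have h4 : (B : Matrix (Fin 2) (Fin 2) F) ^ k = 1 := congrArg Subtype.val hk
      rw [h4, Matrix.one_mulVec] at h1
      have h5 : (1 : F) • v = α ^ k • v := by rw [one_smul]; exact h1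
      exact (eq_of_smul_eq_smul hv h5).symm
    · right
      have h4 : (B : Matrix (Fin 2) (Fin 2) F) ^ k = -1 := congrArg Subtype.val hk
      rw [h4, Matrix.neg_mulVec, Matrix.one_mulVec] at h1
      have h5 : (-1 : F) • v = α ^ k • v := by rw [neg_smul, one_smul]; exact h1
      exact (eq_of_smul_eq_smul hv h5).symm
  rw [← hα, ← pow_mul, mul_comm, pow_mul]
  rcases h3 with h3 | h3
  · rw [h3, one_pow]
  · rw [h3]; ring

theorem eig_of_commute (h2 : (2 : F) ≠ 0) (B₁ B₂ : SpecialLinearGroup (Fin 2) F)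
    (v₁ v₂ : Fin 2 → F) (α₁ α₂ μ : F) (hμ1 : μ ≠ 1) (hμ2 : μ ≠ -1) (hα₁ : α₁ ^ 2 = μ)
    (hB₁ : (B₁ : Matrix (Fin 2) (Fin 2) F) *ᵥ v₁ = α₁ • v₁)
    (hB₂ : (B₂ : Matrix (Fin 2) (Fin 2) F) *ᵥ v₂ = α₂ • v₂)
    (hv : det2 v₁ v₂ ≠ 0)
    (hc : toPSL2 F B₁ * toPSL2 F B₂ = toPSL2 F B₂ * toPSL2 F B₁) :
    (B₂ : Matrix (Fin 2) (Fin 2) F) *ᵥ v₁ = α₂⁻¹ • v₁ := by
  rw [← map_mul, ← map_mul, toPSL2_eq_iff h2] at hc
  have hv₁ : v₁ ≠ 0 := ne_zero_left_of_det2 hv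
  obtain ⟨ε, hε, hcomm⟩ : ∃ ε : F, (ε = 1 ∨ ε = -1) ∧
      (B₁ : Matrix (Fin 2) (Fin 2) F) * (B₂ : Matrix (Fin 2) (Fin 2) F) =
        ε • ((B₂ : Matrix (Fin 2) (Fin 2) F) * (B₁ : Matrix (Fin 2) (Fin 2) F)) := by
    rcases hc with hc | hc
    · refine ⟨1, Or.inl rfl, ?_⟩
      have h0 : (B₂ : Matrix (Fin 2) (Fin 2) F) * (B₁ : Matrix (Fin 2) (Fin 2) F) =
          (B₁ : Matrix (Fin 2) (Fin 2) F) * (B₂ : Matrix (Fin 2) (Fin 2) F) :=
        congrArg Subtype.val hc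
      rw [one_smul, h0]
    · refine ⟨-1, Or.inr rfl, ?_⟩
      have h0 : (B₂ : Matrix (Fin 2) (Fin 2) F) * (B₁ : Matrix (Fin 2) (Fin 2) F) =
          -((B₁ : Matrix (Fin 2) (Fin 2) F) * (B₂ : Matrix (Fin 2) (Fin 2) F)) :=
        congrArg Subtype.val hc
      rw [neg_smul, one_smul, h0, neg_neg]
  set w := (B₂ : Matrix (Fin 2) (Fin 2) F) *ᵥ v₁ with hw
  have h1 : (B₁ : Matrix (Fin 2) (Fin 2) F) *ᵥ w = (ε * α₁) • w := by
    rw [hw, Matrix.mulVec_mulVec, hcomm, Matrix.smul_mulVec, ← Matrix.mulVec_mulVec, hB₁,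
      Matrix.mulVec_smul, smul_smul]
  have h3 : det2 ((B₁ : Matrix (Fin 2) (Fin 2) F) *ᵥ w) ((B₁ : Matrix (Fin 2) (Fin 2) F) *ᵥ v₁)
      = det2 w v₁ := by
    rw [det2_mulVec, B₁.2, one_mul]
  rw [h1, hB₁, det2_smul_smul] at h3
  have h4 : ε * α₁ * α₁ = ε * μ := by rw [← hα₁]; ring
  rw [h4] at h3
  have h5 : ε * μ ≠ 1 := by
    rcases hε with rfl | rfl
    · rwa [one_mul]
    · intro h6
      apply hμ2
      linear_combination (-1 : F) * h6
  have h6 : det2 w v₁ = 0 := by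
    have h7 : (ε * μ - 1) * det2 w v₁ = 0 := by linear_combination h3
    rcases mul_eq_zero.mp h7 with h8 | h8
    · exact absurd (sub_eq_zero.mp h8) h5
    · exact h8
  obtain ⟨β, hβ⟩ := exists_smul_of_det2_eq_zero h6 hv₁
  have h7 : det2 ((B₂ : Matrix (Fin 2) (Fin 2) F) *ᵥ v₁) ((B₂ : Matrix (Fin 2) (Fin 2) F) *ᵥ v₂)
      = det2 v₁ v₂ := by
    rw [det2_mulVec, B₂.2, one_mul]
  rw [← hw, hβ, hB₂, det2_smul_smul] at h7
  have h8 : β * α₂ = 1 := by
    have h9 : (β * α₂ - 1) * det2 v₁ v₂ = 0 := by linear_combination h7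
    rcases mul_eq_zero.mp h9 with h10 | h10
    · exact sub_eq_zero.mp h10
    · exact absurd h10 hv
  rw [hβ, eq_inv_of_mul_eq_one_left h8]

theorem false_of_two_eig (B : SpecialLinearGroup (Fin 2) F) (v₁ v₃ : Fin 2 → F) (α μ : F)
    (hv : det2 v₁ v₃ ≠ 0)
    (h1 : (B : Matrix (Fin 2) (Fin 2) F) *ᵥ v₁ = α⁻¹ • v₁)
    (h3 : (B : Matrix (Fin 2) (Fin 2) F) *ᵥ v₃ = α⁻¹ • v₃)
    (hα : α ^ 2 = μ) (hμ : μ ≠ 1) : False := by
  have h7 : det2 ((B : Matrix (Fin 2) (Fin 2) F) *ᵥ v₁) ((B : Matrix (Fin 2) (Fin 2) F) *ᵥ v₃)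
      = det2 v₁ v₃ := by
    rw [det2_mulVec, B.2, one_mul]
  rw [h1, h3, det2_smul_smul] at h7
  have h8 : α⁻¹ * α⁻¹ = 1 := by
    have h9 : (α⁻¹ * α⁻¹ - 1) * det2 v₁ v₃ = 0 := by linear_combination h7
    rcases mul_eq_zero.mp h9 with h10 | h10
    · exact sub_eq_zero.mp h10
    · exact absurd h10 hv
  have hα0 : α ≠ 0 := by
    rintro rfl
    simp at h8
  apply hμ
  rw [← hα]
  field_simp at h8
  rw [← h8]

theorem ne_of_lines (h2 : (2 : F) ≠ 0) (B₁ B₂ : SpecialLinearGroup (Fin 2) F)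
    (v₁ v₂ : Fin 2 → F) (α₁ α₂ μ : F) (hμ : μ ^ 2 ≠ 1) (hα₁ : α₁ ^ 2 = μ) (hα₂ : α₂ ^ 2 = μ)
    (hB₁ : (B₁ : Matrix (Fin 2) (Fin 2) F) *ᵥ v₁ = α₁ • v₁)
    (hB₂ : (B₂ : Matrix (Fin 2) (Fin 2) F) *ᵥ v₂ = α₂ • v₂)
    (hv : det2 v₁ v₂ ≠ 0) : toPSL2 F B₁ ≠ toPSL2 F B₂ := by
  intro hc
  rw [toPSL2_eq_iff h2] at hc
  obtain ⟨ε, hε, hB⟩ : ∃ ε : F, ε ^ 2 = 1 ∧
      (B₂ : Matrix (Fin 2) (Fin 2) F) = ε • (B₁ : Matrix (Fin 2) (Fin 2) F) := by
    rcases hc with hc | hc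
    · exact ⟨1, one_pow 2, by rw [hc, one_smul]⟩
    · refine ⟨-1, by ring, ?_⟩
      have h0 : (B₂ : Matrix (Fin 2) (Fin 2) F) = -(B₁ : Matrix (Fin 2) (Fin 2) F) :=
        congrArg Subtype.val hc
      rw [neg_smul, one_smul]
      exact h0
  have h7 : det2 ((B₂ : Matrix (Fin 2) (Fin 2) F) *ᵥ v₁) ((B₂ : Matrix (Fin 2) (Fin 2) F) *ᵥ v₂)
      = det2 v₁ v₂ := by
    rw [det2_mulVec, B₂.2, one_mul]
  rw [hB₂] at h7
  rw [hB, Matrix.smul_mulVec, hB₁, smul_smul, det2_smul_smul] at h7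
  have h8 : ε * α₁ * α₂ = 1 := by
    have h9 : (ε * α₁ * α₂ - 1) * det2 v₁ v₂ = 0 := by linear_combination h7
    rcases mul_eq_zero.mp h9 with h10 | h10
    · exact sub_eq_zero.mp h10
    · exact absurd h10 hv
  apply hμ
  have h9 : (ε * α₁ * α₂) ^ 2 = 1 := by rw [h8, one_pow]
  have h10 : (ε * α₁ * α₂) ^ 2 = ε ^ 2 * α₁ ^ 2 * α₂ ^ 2 := by ring
  rw [h10, hε, hα₁, hα₂, one_mul] at h9
  rw [pow_two]
  exact h9

variable [Fintype F]

/-- three lines: contradiction when `μ` has order `> 5`. -/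
theorem lines3 (p : ℕ) [Fact p.Prime] [CharP F p] (hp2 : p ≠ 2)
    (H : Subgroup (ProjectiveSpecialLinearGroup (Fin 2) F)) (hH : ¬ p ∣ Nat.card ↥H)
    (μ : F) (hμ : ∀ k, 0 < k → k ≤ 5 → μ ^ k ≠ 1)
    (B : Fin 3 → SpecialLinearGroup (Fin 2) F) (v : Fin 3 → Fin 2 → F) (α : Fin 3 → F)
    (hα : ∀ i, α i ^ 2 = μ)
    (hB : ∀ i, (B i : Matrix (Fin 2) (Fin 2) F) *ᵥ v i = α i • v i)
    (hv : ∀ i j, i ≠ j → det2 (v i) (v j) ≠ 0)
    (hmem : ∀ i, toPSL2 F (B i) ∈ H) : False := by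
  have hpp : p.Prime := Fact.out
  have h2 : (2 : F) ≠ 0 := by
    intro h
    have h1 : ((2 : ℕ) : F) = 0 := by exact_mod_cast h
    rw [CharP.cast_eq_zero_iff F p 2] at h1
    rcases (Nat.dvd_prime Nat.prime_two).mp h1 with h3 | h3
    · exact hpp.one_lt.ne' h3
    · exact hp2 h3
  have hv0 : ∀ i, v i ≠ 0 := by
    intro i
    obtain ⟨j, hj⟩ : ∃ j : Fin 3, i ≠ j := by
      fin_cases i
      · exact ⟨1, by decide⟩
      · exact ⟨0, by decide⟩
      · exact ⟨0, by decide⟩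
    exact ne_zero_left_of_det2 (hv i j hj)
  have hpow : ∀ i k, 0 < k → k ≤ 5 → toPSL2 F (B i) ^ k ≠ 1 := by
    intro i k hk0 hk5 hk
    exact hμ k hk0 hk5 (mu_pow_of_pow h2 (B i) (v i) (α i) μ (hv0 i) (hB i) (hα i) k hk)
  have hμ1 : μ ≠ 1 := by
    have := hμ 1 (by norm_num) (by norm_num)
    rwa [pow_one] at this
  have hμ2 : μ ≠ -1 := by
    intro h
    apply hμ 2 (by norm_num) (by norm_num)
    rw [h]; ring
  rcases trichotomy p H hH with h | h | ⟨⟨e⟩⟩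
  · have h01 := h _ (hmem 0) _ (hmem 1) (hpow 0 2 (by norm_num) (by norm_num))
      (hpow 1 2 (by norm_num) (by norm_num))
    have h21 := h _ (hmem 2) _ (hmem 1) (hpow 2 2 (by norm_num) (by norm_num))
      (hpow 1 2 (by norm_num) (by norm_num))
    have e1 := eig_of_commute h2 (B 0) (B 1) (v 0) (v 1) (α 0) (α 1) μ hμ1 hμ2 (hα 0) (hB 0) (hB 1)
      (hv 0 1 (by decide)) h01
    have e3 := eig_of_commute h2 (B 2) (B 1) (v 2) (v 1) (α 2) (α 1) μ hμ1 hμ2 (hα 2) (hB 2) (hB 1)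
      (hv 2 1 (by decide)) h21
    exact false_of_two_eig (B 1) (v 0) (v 2) (α 1) μ (hv 0 2 (by decide)) e1 e3 (hα 1) hμ1
  · rcases h _ (hmem 0) with h | h | h
    · exact hpow 0 2 (by norm_num) (by norm_num) h
    · exact hpow 0 3 (by norm_num) (by norm_num) h
    · exact hpow 0 5 (by norm_num) (by norm_num) h
  · have hk : ∀ k, (e ⟨_, hmem 0⟩) ^ k = 1 → toPSL2 F (B 0) ^ k = 1 := by
      intro k hk
      rw [← map_pow, e.map_eq_one_iff] at hk
      exact congrArg Subtype.val hk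
    rcases perm4_pow (e ⟨_, hmem 0⟩) with h | h | h
    · exact hpow 0 2 (by norm_num) (by norm_num) (hk 2 h)
    · exact hpow 0 3 (by norm_num) (by norm_num) (hk 3 h)
    · exact hpow 0 4 (by norm_num) (by norm_num) (hk 4 h)

/-- seven lines: contradiction when `μ` has order not dividing `2`, `3`, `5`. -/
theorem lines7 (p : ℕ) [Fact p.Prime] [CharP F p] (hp2 : p ≠ 2)
    (H : Subgroup (ProjectiveSpecialLinearGroup (Fin 2) F)) (hH : ¬ p ∣ Nat.card ↥H)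
    (μ : F) (hμ2' : μ ^ 2 ≠ 1) (hμ3 : μ ^ 3 ≠ 1) (hμ5 : μ ^ 5 ≠ 1)
    (B : Fin 7 → SpecialLinearGroup (Fin 2) F) (v : Fin 7 → Fin 2 → F) (α : Fin 7 → F)
    (hα : ∀ i, α i ^ 2 = μ)
    (hB : ∀ i, (B i : Matrix (Fin 2) (Fin 2) F) *ᵥ v i = α i • v i)
    (hv : ∀ i j, i ≠ j → det2 (v i) (v j) ≠ 0)
    (hmem : ∀ i, toPSL2 F (B i) ∈ H) : False := by
  have hpp : p.Prime := Fact.out
  have h2 : (2 : F) ≠ 0 := by
    intro h
    have h1 : ((2 : ℕ) : F) = 0 := by exact_mod_cast h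
    rw [CharP.cast_eq_zero_iff F p 2] at h1
    rcases (Nat.dvd_prime Nat.prime_two).mp h1 with h3 | h3
    · exact hpp.one_lt.ne' h3
    · exact hp2 h3
  have hv0 : ∀ i, v i ≠ 0 := by
    intro i
    by_cases hi : i = 0
    · subst hi
      exact ne_zero_left_of_det2 (hv 0 1 (by decide))
    · exact ne_zero_left_of_det2 (hv i 0 hi)
  have hpow : ∀ i k, μ ^ k ≠ 1 → toPSL2 F (B i) ^ k ≠ 1 := by
    intro i k hk0 hk
    exact hk0 (mu_pow_of_pow h2 (B i) (v i) (α i) μ (hv0 i) (hB i) (hα i) k hk)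
  have hμ1 : μ ≠ 1 := by
    intro h
    apply hμ2'
    rw [h, one_pow]
  have hμ2 : μ ≠ -1 := by
    intro h
    apply hμ2'
    rw [h]; ring
  rcases trichotomy p H hH with h | h | ⟨⟨e⟩⟩
  · have h01 := h _ (hmem 0) _ (hmem 1) (hpow 0 2 hμ2') (hpow 1 2 hμ2')
    have h21 := h _ (hmem 2) _ (hmem 1) (hpow 2 2 hμ2') (hpow 1 2 hμ2')
    have e1 := eig_of_commute h2 (B 0) (B 1) (v 0) (v 1) (α 0) (α 1) μ hμ1 hμ2 (hα 0) (hB 0) (hB 1)
      (hv 0 1 (by decide)) h01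
    have e3 := eig_of_commute h2 (B 2) (B 1) (v 2) (v 1) (α 2) (α 1) μ hμ1 hμ2 (hα 2) (hB 2) (hB 1)
      (hv 2 1 (by decide)) h21
    exact false_of_two_eig (B 1) (v 0) (v 2) (α 1) μ (hv 0 2 (by decide)) e1 e3 (hα 1) hμ1
  · rcases h _ (hmem 0) with h | h | h
    · exact hpow 0 2 hμ2' h
    · exact hpow 0 3 hμ3 h
    · exact hpow 0 5 hμ5 h
  · have hk : ∀ i k, (e ⟨_, hmem i⟩) ^ k = 1 → toPSL2 F (B i) ^ k = 1 := by
      intro i k hk
      rw [← map_pow, e.map_eq_one_iff] at hk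
      exact congrArg Subtype.val hk
    have hf : ∀ i, (e ⟨_, hmem i⟩) ^ 4 = 1 ∧ (e ⟨_, hmem i⟩) ^ 2 ≠ 1 := by
      intro i
      have hn2 : (e ⟨_, hmem i⟩) ^ 2 ≠ 1 := fun h => hpow i 2 hμ2' (hk i 2 h)
      refine ⟨?_, hn2⟩
      rcases perm4_pow (e ⟨_, hmem i⟩) with h | h | h
      · exact absurd h hn2
      · exact absurd (hk i 3 h) (hpow i 3 hμ3)
      · exact h
    let f : Fin 7 → {σ : Equiv.Perm (Fin 4) // σ ^ 4 = 1 ∧ σ ^ 2 ≠ 1} :=
      fun i => ⟨e ⟨_, hmem i⟩, hf i⟩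
    have hfinj : Function.Injective f := by
      intro i j hij
      by_contra hne
      have h1 : e ⟨_, hmem i⟩ = e ⟨_, hmem j⟩ := congrArg Subtype.val hij
      have h3 : toPSL2 F (B i) = toPSL2 F (B j) := congrArg Subtype.val (e.injective h1)
      exact ne_of_lines h2 (B i) (B j) (v i) (v j) (α i) (α j) μ hμ2' (hα i) (hα j) (hB i) (hB j)
        (hv i j hne) h3
    have hcard := Fintype.card_le_of_injective f hfinj
    rw [card_order_four, Fintype.card_fin] at hcard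
    omega

end lines

end Cfsg.Agent.Lib.Helper18.RVMat
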