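import Mathlib
import Cfsg.Agent.Lib.Helper18.RVMat

/-!
# Ruiz–Viruel bounds: from `GL₂(p)` to `PSL₂(p²)`

A matrix representation `N → GL₂(ZMod p)` of `p'`-image is pushed to `PSL₂(GF(p²))` by dividing by
square roots of determinants.
-/

set_option autoImplicit false

namespace Cfsg.Agent.Lib.Helper18.RVEmb

open Matrix
open Cfsg.Agent.Lib.Helper14
open Cfsg.Agent.Lib.Helper15
open Cfsg.Agent.Lib.Helper15.Dk
open Cfsg.Agent.Lib.Helper18.RVMat

section scale
variable {K F : Type*} [Field K] [Field F] [Algebra K F]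

/-- the matrix `s⁻¹ • M`, over the bigger field -/
noncomputable def scMat (M : Matrix (Fin 2) (Fin 2) K) (s : F) : Matrix (Fin 2) (Fin 2) F :=
  s⁻¹ • M.map (algebraMap K F)

theorem scMat_det (M : Matrix (Fin 2) (Fin 2) K) (s : F) (hs : s ^ 2 = algebraMap K F M.det)
    (h0 : M.det ≠ 0) : (scMat M s).det = 1 := by
  have hs0 : s ≠ 0 := by
    rintro rfl
    rw [zero_pow two_ne_zero] at hs
    exact h0 ((map_eq_zero (algebraMap K F)).mp hs.symm)
  rw [scMat, Matrix.det_smul, Fintype.card_fin]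
  have h1 : (M.map (algebraMap K F)).det = algebraMap K F M.det := by
    rw [Matrix.det_fin_two, Matrix.det_fin_two]
    simp only [Matrix.map_apply, map_sub, map_mul]
  rw [h1, ← hs]
  field_simp

/-- `s⁻¹ • M` as an element of `SL₂` -/
noncomputable def scSL (M : Matrix (Fin 2) (Fin 2) K) (s : F)
    (hs : s ^ 2 = algebraMap K F M.det) (h0 : M.det ≠ 0) : SpecialLinearGroup (Fin 2) F :=
  ⟨scMat M s, scMat_det M s hs h0⟩

theorem toPSL2_scSL_congr (M : Matrix (Fin 2) (Fin 2) K) (s s' : F)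
    (hs : s ^ 2 = algebraMap K F M.det) (hs' : s' ^ 2 = algebraMap K F M.det) (h0 : M.det ≠ 0) :
    toPSL2 F (scSL M s hs h0) = toPSL2 F (scSL M s' hs' h0) := by
  have h1 : s' ^ 2 = s ^ 2 := by rw [hs, hs']
  rcases sq_eq_sq_iff_eq_or_eq_neg.mp h1 with h | h
  · subst h; rfl
  · subst h
    have h2 : scSL M (-s) hs' h0 = -scSL M s hs h0 := by
      apply Subtype.ext
      show scMat M (-s) = -scMat M s
      simp [scMat, inv_neg]
    rw [h2, toPSL2_neg]

theorem toPSL2_scSL_congr' (M M' : Matrix (Fin 2) (Fin 2) K) (hM : M = M') (s s' : F)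
    (hs : s ^ 2 = algebraMap K F M.det) (hs' : s' ^ 2 = algebraMap K F M'.det) (h0 : M.det ≠ 0)
    (h0' : M'.det ≠ 0) :
    toPSL2 F (scSL M s hs h0) = toPSL2 F (scSL M' s' hs' h0') := by
  subst hM
  exact toPSL2_scSL_congr M s s' hs hs' h0

theorem scSL_mul (M M' : Matrix (Fin 2) (Fin 2) K) (s s' : F)
    (hs : s ^ 2 = algebraMap K F M.det) (hs' : s' ^ 2 = algebraMap K F M'.det) (h0 : M.det ≠ 0)
    (h0' : M'.det ≠ 0) (hss : (s * s') ^ 2 = algebraMap K F (M * M').det)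
    (h00 : (M * M').det ≠ 0) :
    scSL (M * M') (s * s') hss h00 = scSL M s hs h0 * scSL M' s' hs' h0' := by
  apply Subtype.ext
  show scMat (M * M') (s * s') = scMat M s * scMat M' s'
  rw [scMat, scMat, scMat, Matrix.map_mul, smul_mul_smul_comm, mul_inv]

theorem scMat_mulVec (M : Matrix (Fin 2) (Fin 2) K) (v : Fin 2 → K) (c : K) (s : F)
    (h : M *ᵥ v = c • v) :
    scMat M s *ᵥ (fun i => algebraMap K F (v i)) =
      (s⁻¹ * algebraMap K F c) • (fun i => algebraMap K F (v i)) := by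
  funext i
  have hi := congrFun h i
  simp only [Matrix.mulVec, dotProduct, Fin.sum_univ_two, Pi.smul_apply, smul_eq_mul] at hi
  simp only [scMat, Matrix.mulVec, dotProduct, Fin.sum_univ_two, Pi.smul_apply, smul_eq_mul,
    Matrix.smul_apply, Matrix.map_apply]
  have hi' := congrArg (algebraMap K F) hi
  simp only [map_add, map_mul] at hi'
  linear_combination s⁻¹ * hi'

theorem det2_map (v u : Fin 2 → K) :
    det2 (fun i => algebraMap K F (v i)) (fun i => algebraMap K F (u i)) =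
      algebraMap K F (det2 v u) := by
  simp only [det2, map_sub, map_mul]

variable (hsq : ∀ d : K, ∃ s : F, s ^ 2 = algebraMap K F d)

/-- a chosen square root -/
noncomputable def sqrtOf (d : K) : F := Classical.choose (hsq d)

theorem sqrtOf_sq (d : K) : sqrtOf hsq d ^ 2 = algebraMap K F d := Classical.choose_spec (hsq d)

variable {N : Type*} [Group N]

theorem det_mat_ne_zero (mat : N →* Matrix (Fin 2) (Fin 2) K) (x : N) : (mat x).det ≠ 0 := by
  intro h
  have h1 : mat x * mat x⁻¹ = 1 := by rw [← map_mul, mul_inv_cancel, map_one]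
  have h2 := congrArg Matrix.det h1
  rw [Matrix.det_mul, h, zero_mul, Matrix.det_one] at h2
  exact zero_ne_one h2

/-- the induced homomorphism to `PSL₂` of the bigger field -/
noncomputable def Phi (mat : N →* Matrix (Fin 2) (Fin 2) K) :
    N →* ProjectiveSpecialLinearGroup (Fin 2) F :=
  MonoidHom.mk' (fun x => toPSL2 F (scSL (mat x) (sqrtOf hsq (mat x).det) (sqrtOf_sq hsq _)
    (det_mat_ne_zero mat x))) (by
    intro x y
    have hss : (sqrtOf hsq (mat x).det * sqrtOf hsq (mat y).det) ^ 2 =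
        algebraMap K F (mat x * mat y).det := by
      rw [mul_pow, sqrtOf_sq, sqrtOf_sq, Matrix.det_mul, map_mul]
    have h00 : (mat x * mat y).det ≠ 0 := by
      rw [← map_mul]; exact det_mat_ne_zero mat (x * y)
    rw [← map_mul, ← scSL_mul (mat x) (mat y) _ _ (sqrtOf_sq hsq _) (sqrtOf_sq hsq _)
      (det_mat_ne_zero mat x) (det_mat_ne_zero mat y) hss h00]
    exact toPSL2_scSL_congr' _ _ (map_mul mat x y) _ _ _ _ _ _)

theorem Phi_apply (mat : N →* Matrix (Fin 2) (Fin 2) K) (x : N) (s : F)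
    (hs : s ^ 2 = algebraMap K F (mat x).det) :
    Phi hsq mat x = toPSL2 F (scSL (mat x) s hs (det_mat_ne_zero mat x)) :=
  toPSL2_scSL_congr _ _ _ _ _ _

theorem Phi_eq_one (mat : N →* Matrix (Fin 2) (Fin 2) K) (x : N) (hx : mat x = 1) :
    Phi hsq mat x = 1 := by
  have hs : (1 : F) ^ 2 = algebraMap K F (mat x).det := by
    rw [hx, Matrix.det_one, map_one, one_pow]
  rw [Phi_apply hsq mat x 1 hs]
  have h1 : scSL (mat x) (1 : F) hs (det_mat_ne_zero mat x) = 1 := by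
    apply Subtype.ext
    show scMat (mat x) (1 : F) = 1
    rw [scMat, hx, inv_one, one_smul, Matrix.map_one _ (map_zero _) (map_one _)]
  rw [h1, map_one]

end scale

section galois

theorem half_sq (p t : ℕ) (h : p = 2 * t + 1) : p ^ 2 / 2 = (p - 1) * ((p + 1) / 2) := by
  subst h
  have h1 : (2 * t + 1) ^ 2 = 2 * (2 * t * (t + 1)) + 1 := by ring
  have h2 : (2 * t + 1 - 1) = 2 * t := by omega
  have h3 : (2 * t + 1 + 1) / 2 = t + 1 := by omega
  rw [h1, h2, h3]
  omega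

theorem exists_sqrt_galois (p : ℕ) [Fact p.Prime] (hp2 : p ≠ 2) (d : ZMod p) :
    ∃ s : GaloisField p 2, s ^ 2 = algebraMap (ZMod p) (GaloisField p 2) d := by
  classical
  let _ : Fintype (GaloisField p 2) := Fintype.ofFinite _
  by_cases hd : d = 0
  · exact ⟨0, by rw [hd, map_zero, zero_pow two_ne_zero]⟩
  · have hpp : p.Prime := Fact.out
    have hcard : Fintype.card (GaloisField p 2) = p ^ 2 := by
      rw [← Nat.card_eq_fintype_card, GaloisField.card p 2 two_ne_zero]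
    have hchar : ringChar (GaloisField p 2) ≠ 2 := by
      rw [ringChar.eq (GaloisField p 2) p]; exact hp2
    have ha : algebraMap (ZMod p) (GaloisField p 2) d ≠ 0 := by
      rw [Ne, map_eq_zero]; exact hd
    have hsq : IsSquare (algebraMap (ZMod p) (GaloisField p 2) d) := by
      rw [FiniteField.isSquare_iff hchar ha]
      obtain ⟨t, ht⟩ : ∃ t, p = 2 * t + 1 := by
        rcases hpp.eq_two_or_odd' with h | h
        · exact absurd h hp2
        · obtain ⟨t, ht⟩ := h; exact ⟨t, ht⟩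
      rw [hcard, half_sq p t ht, ← map_pow, pow_mul, ZMod.pow_card_sub_one_eq_one hd, one_pow,
        map_one]
    obtain ⟨r, hr⟩ := hsq
    exact ⟨r, by rw [hr, pow_two]⟩

end galois

section main

theorem gl_lines_aux (p : ℕ) [Fact p.Prime] (hp2 : p ≠ 2) (F : Type*) [Field F] [Fintype F]
    [CharP F p] [Algebra (ZMod p) F]
    (hsq : ∀ d : ZMod p, ∃ s : F, s ^ 2 = algebraMap (ZMod p) F d)
    {N : Type*} [Group N] [Finite N]
    (mat : N →* Matrix (Fin 2) (Fin 2) (ZMod p)) (Q : Subgroup N) (hQ : ∀ x ∈ Q, mat x = 1)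
    (hQi : ¬ p ∣ Q.index) (lam : ZMod p) (hlam : lam ≠ 0) (m : ℕ) (n : Fin m → N)
    (v : Fin m → Fin 2 → ZMod p)
    (heig : ∀ i, mat (n i) *ᵥ v i = lam⁻¹ • v i) (hdet : ∀ i, (mat (n i)).det = lam)
    (hv : ∀ i j, i ≠ j → det2 (v i) (v j) ≠ 0)
    (hcase : (m = 3 ∧ ∀ k, 0 < k → k ≤ 5 → lam ^ (3 * k) ≠ 1) ∨
      (m = 7 ∧ lam ^ 6 ≠ 1 ∧ lam ^ 9 ≠ 1 ∧ lam ^ 15 ≠ 1)) : False := by
  classical
  have hH : ¬ p ∣ Nat.card (Phi hsq mat).range := by
    intro h
    apply hQi
    have h1 : Q ≤ (Phi hsq mat).ker := by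
      intro x hx
      rw [MonoidHom.mem_ker]
      exact Phi_eq_one hsq mat x (hQ x hx)
    have h2 : (Phi hsq mat).ker.index ∣ Q.index := Subgroup.index_dvd_of_le h1
    rw [Subgroup.index_ker] at h2
    exact h.trans h2
  obtain ⟨s, hs⟩ := hsq lam
  have hsi : ∀ i, s ^ 2 = algebraMap (ZMod p) F (mat (n i)).det := fun i => by
    rw [hdet i]; exact hs
  have hflam : algebraMap (ZMod p) F lam ≠ 0 := by
    rw [Ne, map_eq_zero]; exact hlam
  have hs0 : s ≠ 0 := by
    rintro rfl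
    rw [zero_pow two_ne_zero] at hs
    exact hflam hs.symm
  have hμk : ∀ k, ((s⁻¹ * algebraMap (ZMod p) F lam⁻¹) ^ 2) ^ k = 1 → lam ^ (3 * k) = 1 := by
    intro k hk
    have h1 : (s⁻¹ * algebraMap (ZMod p) F lam⁻¹) ^ 2 = algebraMap (ZMod p) F (lam⁻¹ ^ 3) := by
      rw [mul_pow, inv_pow, hs, map_pow, map_inv₀]
      ring
    rw [h1, ← map_pow, ← pow_mul] at hk
    have h2 : lam⁻¹ ^ (3 * k) = 1 := by
      apply (algebraMap (ZMod p) F).injective
      rw [hk, map_one]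
    rw [inv_pow, inv_eq_one] at h2
    exact h2
  have hB : ∀ i, ((scSL (mat (n i)) s (hsi i) (det_mat_ne_zero mat (n i)) :
      SpecialLinearGroup (Fin 2) F) : Matrix (Fin 2) (Fin 2) F) *ᵥ
        (fun j => algebraMap (ZMod p) F (v i j)) =
      (s⁻¹ * algebraMap (ZMod p) F lam⁻¹) • (fun j => algebraMap (ZMod p) F (v i j)) :=
    fun i => scMat_mulVec (mat (n i)) (v i) lam⁻¹ s (heig i)
  have hv' : ∀ i j, i ≠ j → det2 (fun k => algebraMap (ZMod p) F (v i k))
      (fun k => algebraMap (ZMod p) F (v j k)) ≠ 0 := by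
    intro i j hij
    rw [det2_map, Ne, map_eq_zero]
    exact hv i j hij
  have hmem : ∀ i, toPSL2 F (scSL (mat (n i)) s (hsi i) (det_mat_ne_zero mat (n i))) ∈
      (Phi hsq mat).range := fun i => ⟨n i, Phi_apply hsq mat (n i) s (hsi i)⟩
  rcases hcase with ⟨rfl, h⟩ | ⟨rfl, h6, h9, h15⟩
  · exact lines3 p hp2 (Phi hsq mat).range hH _ (fun k hk0 hk5 hk => h k hk0 hk5 (hμk k hk))
      (fun i => scSL (mat (n i)) s (hsi i) (det_mat_ne_zero mat (n i)))
      (fun i j => algebraMap (ZMod p) F (v i j)) (fun _ => s⁻¹ * algebraMap (ZMod p) F lam⁻¹)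
      (fun _ => rfl) hB hv' hmem
  · exact lines7 p hp2 (Phi hsq mat).range hH _ (fun hk => h6 (hμk 2 hk))
      (fun hk => h9 (hμk 3 hk)) (fun hk => h15 (hμk 5 hk))
      (fun i => scSL (mat (n i)) s (hsi i) (det_mat_ne_zero mat (n i)))
      (fun i j => algebraMap (ZMod p) F (v i j)) (fun _ => s⁻¹ * algebraMap (ZMod p) F lam⁻¹)
      (fun _ => rfl) hB hv' hmem

/-- **Bound from lines**: a `p'`-representation in `GL₂(p)` containing, for `3` (resp. `7`)
pairwise independent vectors `v i`, an element with eigenvalue `lam⁻¹` on `v i` and determinant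
`lam`, forces `lam` to have small order. -/
theorem gl_lines (p : ℕ) [Fact p.Prime] (hp2 : p ≠ 2)
    {N : Type*} [Group N] [Finite N]
    (mat : N →* Matrix (Fin 2) (Fin 2) (ZMod p)) (Q : Subgroup N) (hQ : ∀ x ∈ Q, mat x = 1)
    (hQi : ¬ p ∣ Q.index) (lam : ZMod p) (hlam : lam ≠ 0) (m : ℕ) (n : Fin m → N)
    (v : Fin m → Fin 2 → ZMod p)
    (heig : ∀ i, mat (n i) *ᵥ v i = lam⁻¹ • v i) (hdet : ∀ i, (mat (n i)).det = lam)
    (hv : ∀ i j, i ≠ j → det2 (v i) (v j) ≠ 0)
    (hcase : (m = 3 ∧ ∀ k, 0 < k → k ≤ 5 → lam ^ (3 * k) ≠ 1) ∨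
      (m = 7 ∧ lam ^ 6 ≠ 1 ∧ lam ^ 9 ≠ 1 ∧ lam ^ 15 ≠ 1)) : False := by
  classical
  let _ : Fintype (GaloisField p 2) := Fintype.ofFinite _
  exact gl_lines_aux p hp2 (GaloisField p 2) (exists_sqrt_galois p hp2) mat Q hQ hQi lam hlam m n v
    heig hdet hv hcase

end main

end Cfsg.Agent.Lib.Helper18.RVEmb
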