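import Mathlib
import Cfsg.Agent.Lib.Helper18.RVEmb
import Cfsg.Agent.Lib.Helper18.ClassTwo
import Cfsg.Agent.Lib.Helper27.RankTwoSL
import Cfsg.Agent.Lib.Helper11.CubeSub

/-!
# Ruiz–Viruel bounds: the representation on `Q / Z(Q)`

For `Q` nonabelian of order `p ^ 3` and exponent `p`, a group `Γ` acting on `Q` acts on
`Q / Z(Q) ≅ (ZMod p)²` by matrices whose determinant is the action on `Z(Q)`.
-/

set_option autoImplicit false

namespace Cfsg.Agent.Lib.Helper18.RVRep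

open Matrix
open scoped commutatorElement
open Cfsg.Agent.Lib.Helper18.RVMat
open Cfsg.Agent.Lib.Helper18.RVEmb
open Cfsg.Agent.Lib.Helper27 (coordHom coordHom_apply coordHom_bijective zp_add zp_mul zp_natCast)

section classtwo
variable {Q : Type*} [Group Q]

theorem commute_of_mem_center {c : Q} (hc : c ∈ Subgroup.center Q) (x : Q) : Commute x c :=
  Subgroup.mem_center_iff.mp hc x

theorem cm_central_right (x : Q) {c : Q} (hc : c ∈ Subgroup.center Q) : ⁅x, c⁆ = 1 :=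
  commutatorElement_eq_one_iff_mul_comm.mpr (Subgroup.mem_center_iff.mp hc x)

theorem cm_central_left {c : Q} (hc : c ∈ Subgroup.center Q) (y : Q) : ⁅c, y⁆ = 1 :=
  commutatorElement_eq_one_iff_mul_comm.mpr (Subgroup.mem_center_iff.mp hc y).symm

theorem zp_neg {p : ℕ} [Fact p.Prime] {c : Q} (hc : c ^ p = 1) (t : ZMod p) :
    c ^ (-t).val = (c ^ t.val)⁻¹ := by
  have h := zp_add hc (-t) t
  rw [neg_add_cancel, ZMod.val_zero, pow_zero] at h
  exact eq_inv_of_mul_eq_one_left h.symm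

variable (hcen : ∀ x y : Q, ⁅x, y⁆ ∈ Subgroup.center Q)
include hcen

theorem cm_mul_right (x y y' : Q) : ⁅x, y * y'⁆ = ⁅x, y⁆ * ⁅x, y'⁆ :=
  comm_mul_right_of_commute x y y' (commute_of_mem_center (hcen x y') y)

theorem cm_mul_left (x x' y : Q) : ⁅x * x', y⁆ = ⁅x, y⁆ * ⁅x', y⁆ := by
  rw [comm_mul_left_of_commute x x' y (commute_of_mem_center (hcen x' y) x)]
  exact (commute_of_mem_center (hcen x y) _).eq

theorem cm_pow_right (x y : Q) (n : ℕ) : ⁅x, y ^ n⁆ = ⁅x, y⁆ ^ n := by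
  induction n with
  | zero => simp
  | succ n ih => rw [pow_succ, cm_mul_right hcen, ih, pow_succ]

theorem cm_pow_left (x y : Q) (n : ℕ) : ⁅x ^ n, y⁆ = ⁅x, y⁆ ^ n := by
  induction n with
  | zero => simp
  | succ n ih => rw [pow_succ, cm_mul_left hcen, ih, pow_succ]

theorem pairing_std {p : ℕ} [Fact p.Prime] (a₀ b₀ : Q) (hc : ⁅a₀, b₀⁆ ^ p = 1)
    (v w : Fin 2 → ZMod p) :
    ⁅a₀ ^ (v 0).val * b₀ ^ (v 1).val, a₀ ^ (w 0).val * b₀ ^ (w 1).val⁆ =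
      ⁅a₀, b₀⁆ ^ (det2 v w).val := by
  rw [cm_mul_left hcen, cm_mul_right hcen, cm_mul_right hcen]
  have h1 : ⁅a₀ ^ (v 0).val, a₀ ^ (w 0).val⁆ = 1 :=
    commutatorElement_eq_one_iff_commute.mpr (Commute.pow_pow_self a₀ _ _)
  have h2 : ⁅b₀ ^ (v 1).val, b₀ ^ (w 1).val⁆ = 1 :=
    commutatorElement_eq_one_iff_commute.mpr (Commute.pow_pow_self b₀ _ _)
  have h3 : ⁅a₀ ^ (v 0).val, b₀ ^ (w 1).val⁆ = (⁅a₀, b₀⁆ ^ (v 0).val) ^ (w 1).val := by
    rw [cm_pow_right hcen, cm_pow_left hcen]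
  have h4 : ⁅b₀ ^ (v 1).val, a₀ ^ (w 0).val⁆ = ((⁅a₀, b₀⁆ ^ (v 1).val) ^ (w 0).val)⁻¹ := by
    rw [cm_pow_right hcen, cm_pow_left hcen, ← commutatorElement_inv a₀ b₀, inv_pow, inv_pow]
  rw [h1, h2, h3, h4, one_mul, mul_one]
  have h5 : det2 v w = v 0 * w 1 + -(v 1 * w 0) := by
    simp only [det2]; ring
  rw [h5, zp_add hc, zp_neg hc, zp_mul hc, zp_mul hc]

end classtwo

section coord
variable {Q : Type*} [Group Q] {p : ℕ} [Fact p.Prime]

/-- coordinates on `Q / Z(Q)` -/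
structure Coord (a₀ b₀ : Q) (π : Q →* Multiplicative (Fin 2 → ZMod p)) : Prop where
  surj : Function.Surjective π
  ker : π.ker = Subgroup.center Q
  ha : π a₀ = Multiplicative.ofAdd ![1, 0]
  hb : π b₀ = Multiplicative.ofAdd ![0, 1]

/-- the coordinate vector -/
def vec (π : Q →* Multiplicative (Fin 2 → ZMod p)) (x : Q) : Fin 2 → ZMod p :=
  Multiplicative.toAdd (π x)

theorem vec_mul (π : Q →* Multiplicative (Fin 2 → ZMod p)) (x y : Q) :
    vec π (x * y) = vec π x + vec π y := by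
  rw [vec, map_mul]; rfl

theorem vec_pow (π : Q →* Multiplicative (Fin 2 → ZMod p)) (x : Q) (n : ℕ) :
    vec π (x ^ n) = (n : ZMod p) • vec π x := by
  rw [vec, map_pow, toAdd_pow]
  funext r
  simp [vec, nsmul_eq_mul]

theorem vec_eq_zero_iff {a₀ b₀ : Q} {π : Q →* Multiplicative (Fin 2 → ZMod p)}
    (hC : Coord a₀ b₀ π) (x : Q) : vec π x = 0 ↔ x ∈ Subgroup.center Q := by
  rw [← hC.ker, MonoidHom.mem_ker]
  constructor
  · intro h
    exact Multiplicative.toAdd.injective h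
  · intro h
    rw [vec, h]; rfl

theorem vec_std {a₀ b₀ : Q} {π : Q →* Multiplicative (Fin 2 → ZMod p)}
    (hC : Coord a₀ b₀ π) (v : Fin 2 → ZMod p) :
    vec π (a₀ ^ (v 0).val * b₀ ^ (v 1).val) = v := by
  rw [vec_mul, vec_pow, vec_pow, vec, vec, hC.ha, hC.hb]
  funext r
  fin_cases r <;> simp

theorem std_decomp {a₀ b₀ : Q} {π : Q →* Multiplicative (Fin 2 → ZMod p)}
    (hC : Coord a₀ b₀ π) (x : Q) :
    ∃ c ∈ Subgroup.center Q, x = a₀ ^ (vec π x 0).val * b₀ ^ (vec π x 1).val * c := by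
  refine ⟨(a₀ ^ (vec π x 0).val * b₀ ^ (vec π x 1).val)⁻¹ * x, ?_, ?_⟩
  · rw [← vec_eq_zero_iff hC, vec_mul, vec, map_inv, toAdd_inv]
    have h1 := vec_std hC (vec π x)
    rw [vec] at h1
    rw [h1]
    simp [vec]
  · rw [mul_inv_cancel_left]

theorem pairing {a₀ b₀ : Q} {π : Q →* Multiplicative (Fin 2 → ZMod p)}
    (hcen : ∀ x y : Q, ⁅x, y⁆ ∈ Subgroup.center Q) (hC : Coord a₀ b₀ π)
    (hc : ⁅a₀, b₀⁆ ^ p = 1) (x y : Q) :
    ⁅x, y⁆ = ⁅a₀, b₀⁆ ^ (det2 (vec π x) (vec π y)).val := by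
  obtain ⟨c, hcc, hx⟩ := std_decomp hC x
  obtain ⟨c', hcc', hy⟩ := std_decomp hC y
  calc ⁅x, y⁆ = ⁅a₀ ^ (vec π x 0).val * b₀ ^ (vec π x 1).val * c,
        a₀ ^ (vec π y 0).val * b₀ ^ (vec π y 1).val * c'⁆ := by rw [← hx, ← hy]
    _ = ⁅a₀ ^ (vec π x 0).val * b₀ ^ (vec π x 1).val,
        a₀ ^ (vec π y 0).val * b₀ ^ (vec π y 1).val⁆ := by
      rw [cm_mul_left hcen, cm_central_left hcc, mul_one, cm_mul_right hcen,
        cm_central_right _ hcc', mul_one]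
    _ = _ := pairing_std hcen a₀ b₀ hc _ _

end coord


section exists_coord
variable {Q : Type*} [Group Q] [Finite Q] {p : ℕ} [Fact p.Prime]

theorem exists_coord (hcard : Nat.card Q = p ^ 3) (hexp : ∀ x : Q, x ^ p = 1) (a₀ b₀ : Q)
    (hab : a₀ * b₀ ≠ b₀ * a₀) :
    ∃ π : Q →* Multiplicative (Fin 2 → ZMod p), Coord a₀ b₀ π := by
  have hpp : p.Prime := Fact.out
  haveI : Fact (1 < p) := ⟨hpp.one_lt⟩
  have hnc : ¬ ∀ x y : Q, x * y = y * x := fun h => hab (h _ _)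
  have hZ := Cfsg.Agent.Lib.Helper11.Cube.card_center_of_card_cube hcard hnc
  have hcomm : ∀ x y : Q ⧸ Subgroup.center Q, x * y = y * x := by
    intro x y
    obtain ⟨x, rfl⟩ := QuotientGroup.mk_surjective x
    obtain ⟨y, rfl⟩ := QuotientGroup.mk_surjective y
    rw [← QuotientGroup.mk_mul, ← QuotientGroup.mk_mul, QuotientGroup.eq]
    have h1 := Cfsg.Agent.Lib.Helper11.Cube.comm_mem_center_of_card_cube hcard hnc y x
    have h2 : (x * y)⁻¹ * (y * x) = y⁻¹ * x⁻¹ * y * x := by group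
    rw [h2]; exact h1
  have hexp' : ∀ x : Q ⧸ Subgroup.center Q, x ^ p = 1 := by
    intro x
    obtain ⟨x, rfl⟩ := QuotientGroup.mk_surjective x
    rw [← QuotientGroup.mk_pow, hexp, QuotientGroup.mk_one]
  have hcard' : Nat.card (Q ⧸ Subgroup.center Q) = p ^ 2 := by
    have h1 := Subgroup.card_eq_card_quotient_mul_card_subgroup (Subgroup.center Q)
    rw [hcard, hZ] at h1
    have h2 : p * p ^ 2 = p * Nat.card (Q ⧸ Subgroup.center Q) := by
      rw [mul_comm p (Nat.card _), ← h1]; ring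
    exact (Nat.eq_of_mul_eq_mul_left hpp.pos h2).symm
  obtain ⟨e1, he1⟩ : ∃ e1 : Q ⧸ Subgroup.center Q, e1 = QuotientGroup.mk a₀ := ⟨_, rfl⟩
  obtain ⟨e2, he2⟩ : ∃ e2 : Q ⧸ Subgroup.center Q, e2 = QuotientGroup.mk b₀ := ⟨_, rfl⟩
  have he1ne : e1 ≠ 1 := by
    intro h
    rw [he1, QuotientGroup.eq_one_iff] at h
    exact hab (Subgroup.mem_center_iff.mp h b₀).symm
  have he2L : e2 ∉ Subgroup.zpowers e1 := by
    intro h
    obtain ⟨k, hk⟩ := Subgroup.mem_zpowers_iff.mp h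
    rw [he1, he2, ← QuotientGroup.mk_zpow, QuotientGroup.eq] at hk
    obtain ⟨c, hc⟩ : ∃ c, c = (a₀ ^ k)⁻¹ * b₀ := ⟨_, rfl⟩
    rw [← hc] at hk
    have hb : b₀ = a₀ ^ k * c := by rw [hc]; group
    have h2 := Subgroup.mem_center_iff.mp hk a₀
    apply hab
    rw [hb]
    calc a₀ * (a₀ ^ k * c) = a₀ ^ k * (a₀ * c) := by
          rw [← mul_assoc, ← mul_assoc, (Commute.self_zpow a₀ k).eq]
      _ = a₀ ^ k * (c * a₀) := by rw [h2]
      _ = a₀ ^ k * c * a₀ := by rw [mul_assoc]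
  have hbij := coordHom_bijective hcomm hexp' hcard' e1 e2 (Subgroup.zpowers e1)
    (Subgroup.mem_zpowers e1) he1ne he2L
  refine ⟨(MulEquiv.ofBijective (coordHom hcomm hexp' e1 e2) hbij).symm.toMonoidHom.comp
    (QuotientGroup.mk' (Subgroup.center Q)), ?_, ?_, ?_, ?_⟩
  · exact (MulEquiv.ofBijective (coordHom hcomm hexp' e1 e2) hbij).symm.surjective.comp
      (QuotientGroup.mk'_surjective _)
  · ext x
    rw [MonoidHom.mem_ker, MonoidHom.comp_apply, MulEquiv.coe_toMonoidHom,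
      MulEquiv.map_eq_one_iff, QuotientGroup.mk'_apply, QuotientGroup.eq_one_iff]
  · show (MulEquiv.ofBijective (coordHom hcomm hexp' e1 e2) hbij).symm (QuotientGroup.mk a₀) = _
    rw [MulEquiv.symm_apply_eq]
    show (QuotientGroup.mk a₀ : Q ⧸ Subgroup.center Q) =
      coordHom hcomm hexp' e1 e2 (Multiplicative.ofAdd ![1, 0])
    rw [coordHom_apply, ← he1]
    simp [ZMod.val_one]
  · show (MulEquiv.ofBijective (coordHom hcomm hexp' e1 e2) hbij).symm (QuotientGroup.mk b₀) = _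
    rw [MulEquiv.symm_apply_eq]
    show (QuotientGroup.mk b₀ : Q ⧸ Subgroup.center Q) =
      coordHom hcomm hexp' e1 e2 (Multiplicative.ofAdd ![0, 1])
    rw [coordHom_apply, ← he2]
    simp [ZMod.val_one]

end exists_coord

section rep
variable {Q : Type*} [Group Q] {p : ℕ} [Fact p.Prime] {Γ : Type*} [Group Γ]

theorem map_mem_center (φ : MulAut Q) {c : Q} (hc : c ∈ Subgroup.center Q) :
    φ c ∈ Subgroup.center Q := by
  rw [Subgroup.mem_center_iff] at hc ⊢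
  intro y
  obtain ⟨y', rfl⟩ := φ.surjective y
  rw [← map_mul, ← map_mul, hc y']

theorem vec_inv (π : Q →* Multiplicative (Fin 2 → ZMod p)) (x : Q) :
    vec π x⁻¹ = - vec π x := by
  rw [vec, map_inv]; rfl

/-- the matrix of an automorphism -/
def matOf (π : Q →* Multiplicative (Fin 2 → ZMod p)) (a₀ b₀ : Q) (φ : MulAut Q) :
    Matrix (Fin 2) (Fin 2) (ZMod p) :=
  Matrix.of fun r s => vec π (φ (if s = 0 then a₀ else b₀)) r

theorem matOf_mulVec {a₀ b₀ : Q} {π : Q →* Multiplicative (Fin 2 → ZMod p)}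
    (hC : Coord a₀ b₀ π) (φ : MulAut Q) (x : Q) :
    vec π (φ x) = matOf π a₀ b₀ φ *ᵥ vec π x := by
  obtain ⟨c, hcc, hx⟩ := std_decomp hC x
  have h1 : φ x = (φ a₀) ^ (vec π x 0).val * (φ b₀) ^ (vec π x 1).val * φ c := by
    conv_lhs => rw [hx]
    rw [map_mul, map_mul, map_pow, map_pow]
  have h2 : vec π (φ c) = 0 := (vec_eq_zero_iff hC _).mpr (map_mem_center φ hcc)
  rw [h1, vec_mul, vec_mul, vec_pow, vec_pow, h2, add_zero]
  funext r
  simp only [Pi.add_apply, Pi.smul_apply, smul_eq_mul, ZMod.natCast_zmod_val, Matrix.mulVec,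
    dotProduct, Fin.sum_univ_two, matOf, Matrix.of_apply]
  rw [if_pos trivial, if_neg (by decide)]
  ring

theorem mat_ext {M M' : Matrix (Fin 2) (Fin 2) (ZMod p)} (h : ∀ v, M *ᵥ v = M' *ᵥ v) : M = M' :=
  Matrix.ext_of_mulVec_single (fun _ => h _)

theorem exists_vec {a₀ b₀ : Q} {π : Q →* Multiplicative (Fin 2 → ZMod p)}
    (hC : Coord a₀ b₀ π) (v : Fin 2 → ZMod p) : ∃ x, vec π x = v := by
  obtain ⟨x, hx⟩ := hC.surj (Multiplicative.ofAdd v)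
  exact ⟨x, by rw [vec, hx]; rfl⟩

/-- the matrix representation of a group acting on `Q` -/
def matHom {a₀ b₀ : Q} {π : Q →* Multiplicative (Fin 2 → ZMod p)} (hC : Coord a₀ b₀ π)
    (θ : Γ →* MulAut Q) : Γ →* Matrix (Fin 2) (Fin 2) (ZMod p) where
  toFun g := matOf π a₀ b₀ (θ g)
  map_one' := by
    apply mat_ext
    intro v
    obtain ⟨x, rfl⟩ := exists_vec hC v
    rw [← matOf_mulVec hC, map_one, MulAut.one_apply, Matrix.one_mulVec]
  map_mul' g h := by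
    apply mat_ext
    intro v
    obtain ⟨x, rfl⟩ := exists_vec hC v
    rw [← Matrix.mulVec_mulVec, ← matOf_mulVec hC, ← matOf_mulVec hC, ← matOf_mulVec hC, map_mul,
      MulAut.mul_apply]

theorem matHom_apply {a₀ b₀ : Q} {π : Q →* Multiplicative (Fin 2 → ZMod p)} (hC : Coord a₀ b₀ π)
    (θ : Γ →* MulAut Q) (g : Γ) : matHom hC θ g = matOf π a₀ b₀ (θ g) := rfl

theorem matHom_inner {a₀ b₀ : Q} {π : Q →* Multiplicative (Fin 2 → ZMod p)} (hC : Coord a₀ b₀ π)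
    (θ : Γ →* MulAut Q) (g : Γ) (b : Q) (hg : θ g = MulAut.conj b) : matHom hC θ g = 1 := by
  apply mat_ext
  intro v
  obtain ⟨x, rfl⟩ := exists_vec hC v
  rw [matHom_apply, ← matOf_mulVec hC, Matrix.one_mulVec, hg, MulAut.conj_apply, vec_mul, vec_mul,
    vec_inv]
  abel

theorem matHom_eig {a₀ b₀ : Q} {π : Q →* Multiplicative (Fin 2 → ZMod p)} (hC : Coord a₀ b₀ π)
    (θ : Γ →* MulAut Q) (g : Γ) (a : Q) (j : ℕ) (h : θ g a = a ^ j) :
    matHom hC θ g *ᵥ vec π a = (j : ZMod p) • vec π a := by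
  rw [matHom_apply, ← matOf_mulVec hC, h, vec_pow]

theorem matHom_det {a₀ b₀ : Q} {π : Q →* Multiplicative (Fin 2 → ZMod p)}
    (hcen : ∀ x y : Q, ⁅x, y⁆ ∈ Subgroup.center Q) (hC : Coord a₀ b₀ π)
    (hexp : ∀ x : Q, x ^ p = 1) (hab : a₀ * b₀ ≠ b₀ * a₀)
    (θ : Γ →* MulAut Q) (g : Γ) (i : ℕ) (hz : θ g ⁅a₀, b₀⁆ = ⁅a₀, b₀⁆ ^ i) :
    (matHom hC θ g).det = (i : ZMod p) := by
  have hpp : p.Prime := Fact.out
  have hc : ⁅a₀, b₀⁆ ^ p = 1 := hexp _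
  have hne : ⁅a₀, b₀⁆ ≠ 1 := by
    intro h
    exact hab (commutatorElement_eq_one_iff_mul_comm.mp h)
  have hord : orderOf ⁅a₀, b₀⁆ = p := orderOf_eq_prime hc hne
  have h1 : θ g ⁅a₀, b₀⁆ = ⁅θ g a₀, θ g b₀⁆ := map_commutatorElement (θ g) a₀ b₀
  rw [pairing hcen hC hc (θ g a₀) (θ g b₀), matOf_mulVec hC, matOf_mulVec hC, det2_mulVec] at h1
  have h2 : det2 (vec π a₀) (vec π b₀) = 1 := by
    rw [vec, vec, hC.ha, hC.hb]
    simp [det2]
  rw [h2, mul_one, hz, pow_eq_pow_iff_modEq, hord] at h1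
  have h3 := (ZMod.natCast_eq_natCast_iff _ _ _).mpr h1
  rw [ZMod.natCast_zmod_val] at h3
  rw [matHom_apply]
  exact h3.symm

theorem det2_ne_zero_of_not_commute {a₀ b₀ : Q} {π : Q →* Multiplicative (Fin 2 → ZMod p)}
    (hcen : ∀ x y : Q, ⁅x, y⁆ ∈ Subgroup.center Q) (hC : Coord a₀ b₀ π)
    (hc : ⁅a₀, b₀⁆ ^ p = 1) (x y : Q) (h : x * y ≠ y * x) :
    det2 (vec π x) (vec π y) ≠ 0 := by
  intro h0
  apply h
  rw [← commutatorElement_eq_one_iff_mul_comm, pairing hcen hC hc, h0, ZMod.val_zero, pow_zero]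

theorem center_pow [Finite Q] (hZcard : Nat.card (Subgroup.center Q) = p)
    (hexp : ∀ x : Q, x ^ p = 1) (z : Q) (hz : z ∈ Subgroup.center Q) (hz1 : z ≠ 1)
    (φ : MulAut Q) (i : ℕ) (hφ : φ z = z ^ i) (c : Q) (hc : c ∈ Subgroup.center Q) :
    φ c = c ^ i := by
  have hord : orderOf z = p := orderOf_eq_prime (hexp z) hz1
  have hle : Subgroup.zpowers z ≤ Subgroup.center Q := Subgroup.zpowers_le.mpr hz
  have heq : Subgroup.zpowers z = Subgroup.center Q := by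
    apply Subgroup.eq_of_le_of_card_ge hle
    rw [hZcard, Nat.card_zpowers, hord]
  rw [← heq] at hc
  obtain ⟨k, rfl⟩ := Subgroup.mem_zpowers_iff.mp hc
  rw [map_zpow, hφ, ← zpow_natCast, ← _root_.zpow_mul, mul_comm, _root_.zpow_mul, zpow_natCast]

/-- **The abstract bound.** -/
theorem rep_bound [Finite Q] (hp2 : p ≠ 2) (hcard : Nat.card Q = p ^ 3)
    (hexp : ∀ x : Q, x ^ p = 1) [Finite Γ] (θ : Γ →* MulAut Q) (Q₀ : Subgroup Γ)
    (hQ₀ : ∀ x ∈ Q₀, ∃ b : Q, θ x = MulAut.conj b) (hQi : ¬ p ∣ Q₀.index)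
    (lam : ZMod p) (hlam : lam ≠ 0) (z : Q) (hz : z ∈ Subgroup.center Q) (hz1 : z ≠ 1)
    (m : ℕ) (a : Fin m → Q) (ha : ∀ i j, i ≠ j → a i * a j ≠ a j * a i)
    (n : Fin m → Γ) (hnz : ∀ i, θ (n i) z = z ^ lam.val)
    (hna : ∀ i, θ (n i) (a i) = a i ^ (lam⁻¹).val)
    (hcase : (m = 3 ∧ ∀ k, 0 < k → k ≤ 5 → lam ^ (3 * k) ≠ 1) ∨
      (m = 7 ∧ lam ^ 6 ≠ 1 ∧ lam ^ 9 ≠ 1 ∧ lam ^ 15 ≠ 1)) : False := by
  have hm : 2 ≤ m := by
    rcases hcase with ⟨rfl, -⟩ | ⟨rfl, -⟩ <;> norm_num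
  obtain ⟨a₀, ha₀⟩ : ∃ a₀, a₀ = a ⟨0, by omega⟩ := ⟨_, rfl⟩
  obtain ⟨b₀, hb₀⟩ : ∃ b₀, b₀ = a ⟨1, by omega⟩ := ⟨_, rfl⟩
  have hab : a₀ * b₀ ≠ b₀ * a₀ := by
    rw [ha₀, hb₀]
    exact ha _ _ (by simp [Fin.ext_iff])
  have hnc : ¬ ∀ x y : Q, x * y = y * x := fun h => hab (h _ _)
  have hcen : ∀ x y : Q, ⁅x, y⁆ ∈ Subgroup.center Q := by
    intro x y
    have := Cfsg.Agent.Lib.Helper11.Cube.comm_mem_center_of_card_cube hcard hnc x⁻¹ y⁻¹
    rw [commutatorElement_def]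
    simpa using this
  obtain ⟨π, hC⟩ := exists_coord hcard hexp a₀ b₀ hab
  have hc : ⁅a₀, b₀⁆ ^ p = 1 := hexp _
  have hZcard := Cfsg.Agent.Lib.Helper11.Cube.card_center_of_card_cube hcard hnc
  apply gl_lines p hp2 (matHom hC θ) Q₀ ?_ hQi lam hlam m n (fun i => vec π (a i)) ?_ ?_ ?_ hcase
  · intro x hx
    obtain ⟨b, hb⟩ := hQ₀ x hx
    exact matHom_inner hC θ x b hb
  · intro i
    have := matHom_eig hC θ (n i) (a i) _ (hna i)
    rwa [ZMod.natCast_zmod_val] at this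
  · intro i
    have h1 : θ (n i) ⁅a₀, b₀⁆ = ⁅a₀, b₀⁆ ^ lam.val :=
      center_pow hZcard hexp z hz hz1 (θ (n i)) _ (hnz i) _ (hcen a₀ b₀)
    have := matHom_det hcen hC hexp hab θ (n i) _ h1
    rwa [ZMod.natCast_zmod_val] at this
  · intro i j hij
    exact det2_ne_zero_of_not_commute hcen hC hc _ _ (ha i j hij)

end rep

end Cfsg.Agent.Lib.Helper18.RVRep
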