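import Mathlib
import Cfsg.Agent.Lib.Helper18.RVRep
import Cfsg.Agent.Lib.Helper18.Basic
import Cfsg.Agent.Lib.Helper18.Conj

/-!
# Ruiz–Viruel bounds: the group-theoretic part

`P` a Sylow `p`-subgroup of `G`, nonabelian of order `p ^ 3` and exponent `p`, `Z = Z(P) = ⟨z⟩`.
If for noncentral `a ∈ P` both transvections of `⟨z, a⟩` are induced by `G`, then some element of
`N_G(P)` acts on `⟨z, a⟩` as `diag(λ, λ⁻¹)`; with three (seven) such lines, `p ≤ 13` (`p ≤ 7`).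
-/

set_option autoImplicit false

namespace Cfsg.Agent.Lib.Helper18.RVGroup

open Matrix
open Cfsg.Agent.Lib.Helper18
open Cfsg.Agent.Lib.Helper18.RVRep
open Cfsg.Agent.Lib.Helper27 (zp_add zp_mul zp_natCast)
open Cfsg.Agent.Lib.Helper11.Cube

section ind
variable {G : Type*} [Group G] {p : ℕ} [Fact p.Prime]

/-- `z ^ v₀ * a ^ v₁` -/
def Ev (z a : G) (v : Fin 2 → ZMod p) : G := z ^ (v 0).val * a ^ (v 1).val

/-- the matrix `M` is induced, on `⟨z, a⟩`, by conjugation in `G` -/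
def Ind (z a : G) (M : Matrix (Fin 2) (Fin 2) (ZMod p)) : Prop :=
  ∃ g : G, ∀ v : Fin 2 → ZMod p, g * Ev z a v * g⁻¹ = Ev z a (M *ᵥ v)

theorem ind_one (z a : G) : Ind (p := p) z a 1 := ⟨1, fun v => by simp⟩

theorem ind_mul {z a : G} {M M' : Matrix (Fin 2) (Fin 2) (ZMod p)} (h : Ind z a M)
    (h' : Ind z a M') : Ind z a (M * M') := by
  obtain ⟨g, hg⟩ := h
  obtain ⟨g', hg'⟩ := h'
  refine ⟨g * g', fun v => ?_⟩
  rw [← Matrix.mulVec_mulVec, ← hg, ← hg']
  group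

theorem ind_pow {z a : G} {M : Matrix (Fin 2) (Fin 2) (ZMod p)} (h : Ind z a M) (n : ℕ) :
    Ind z a (M ^ n) := by
  induction n with
  | zero => rw [pow_zero]; exact ind_one z a
  | succ n ih => rw [pow_succ]; exact ind_mul ih h

theorem conj_Ev (g z a z' a' : G) (hz : g * z * g⁻¹ = z') (ha : g * a * g⁻¹ = a')
    (v : Fin 2 → ZMod p) :
    g * Ev z a v * g⁻¹ = z' ^ (v 0).val * a' ^ (v 1).val := by
  rw [← hz, ← ha, conj_pow, conj_pow, Ev]
  group

/-- upper unitriangular -/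
def Um (t : ZMod p) : Matrix (Fin 2) (Fin 2) (ZMod p) := !![1, t; 0, 1]
/-- lower unitriangular -/
def Lm (t : ZMod p) : Matrix (Fin 2) (Fin 2) (ZMod p) := !![1, 0; t, 1]
/-- diagonal -/
def Dm (t : ZMod p) : Matrix (Fin 2) (Fin 2) (ZMod p) := !![t, 0; 0, t⁻¹]

theorem Um_mulVec (t : ZMod p) (v : Fin 2 → ZMod p) : Um t *ᵥ v = ![v 0 + t * v 1, v 1] := by
  funext i
  fin_cases i <;> simp [Um, Matrix.mulVec, dotProduct, Fin.sum_univ_two]

theorem Lm_mulVec (t : ZMod p) (v : Fin 2 → ZMod p) : Lm t *ᵥ v = ![v 0, t * v 0 + v 1] := by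
  funext i
  fin_cases i <;> simp [Lm, Matrix.mulVec, dotProduct, Fin.sum_univ_two]

theorem Dm_mulVec (t : ZMod p) (v : Fin 2 → ZMod p) : Dm t *ᵥ v = ![t * v 0, t⁻¹ * v 1] := by
  funext i
  fin_cases i <;> simp [Dm, Matrix.mulVec, dotProduct, Fin.sum_univ_two]

theorem Um_mul (s t : ZMod p) : Um s * Um t = Um (s + t) := by
  ext i j
  fin_cases i <;> fin_cases j <;> simp [Um, Matrix.mul_apply, Fin.sum_univ_two, add_comm]

theorem Lm_mul (s t : ZMod p) : Lm s * Lm t = Lm (s + t) := by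
  ext i j
  fin_cases i <;> fin_cases j <;> simp [Lm, Matrix.mul_apply, Fin.sum_univ_two, add_comm]

theorem Um_zero : Um (0 : ZMod p) = 1 := by
  ext i j
  fin_cases i <;> fin_cases j <;> simp [Um]

theorem Lm_zero : Lm (0 : ZMod p) = 1 := by
  ext i j
  fin_cases i <;> fin_cases j <;> simp [Lm]

theorem Um_pow (n : ℕ) : Um (1 : ZMod p) ^ n = Um (n : ZMod p) := by
  induction n with
  | zero => rw [pow_zero, Nat.cast_zero, Um_zero]
  | succ n ih => rw [pow_succ, ih, Um_mul, Nat.cast_succ]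

theorem Lm_pow (n : ℕ) : Lm (1 : ZMod p) ^ n = Lm (n : ZMod p) := by
  induction n with
  | zero => rw [pow_zero, Nat.cast_zero, Lm_zero]
  | succ n ih => rw [pow_succ, ih, Lm_mul, Nat.cast_succ]

theorem Dm_eq (t : ZMod p) (ht : t ≠ 0) :
    Dm t = Lm (-1) * (Um ((t - 1) / t) * Lm t * Um ((t⁻¹ - 1) / t)) := by
  ext i j
  fin_cases i <;> fin_cases j <;>
    simp [Dm, Um, Lm, Matrix.mul_apply, Fin.sum_univ_two] <;> field_simp <;> ring

theorem ind_U {z a : G} (hza : z * a = a * z) (hzp : z ^ p = 1) (b : G)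
    (hbz : b * z * b⁻¹ = z) (hba : b * a * b⁻¹ = a * z) : Ind z a (Um (1 : ZMod p)) := by
  refine ⟨b, fun v => ?_⟩
  rw [conj_Ev b z a z (a * z) hbz hba, Um_mulVec, Ev]
  simp only [Matrix.cons_val_zero, Matrix.cons_val_one, one_mul]
  have hc : Commute a z := hza.symm
  calc z ^ (v 0).val * (a * z) ^ (v 1).val
      = z ^ (v 0).val * (a ^ (v 1).val * z ^ (v 1).val) := by rw [hc.mul_pow]
    _ = z ^ (v 0).val * (z ^ (v 1).val * a ^ (v 1).val) := by rw [(hc.pow_pow _ _).eq]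
    _ = z ^ (v 0 + v 1).val * a ^ (v 1).val := by rw [zp_add hzp, mul_assoc]

theorem ind_L {z a : G} (hza : z * a = a * z) (hap : a ^ p = 1) (g : G)
    (hgz : g * z * g⁻¹ = z * a) (hga : g * a * g⁻¹ = a) : Ind z a (Lm (1 : ZMod p)) := by
  refine ⟨g, fun v => ?_⟩
  rw [conj_Ev g z a (z * a) a hgz hga, Lm_mulVec, Ev]
  simp only [Matrix.cons_val_zero, Matrix.cons_val_one, one_mul]
  have hc : Commute z a := hza
  calc (z * a) ^ (v 0).val * a ^ (v 1).val
      = z ^ (v 0).val * a ^ (v 0).val * a ^ (v 1).val := by rw [hc.mul_pow]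
    _ = z ^ (v 0).val * a ^ (v 0 + v 1).val := by rw [zp_add hap, mul_assoc]

theorem ind_Um {z a : G} (hU : Ind z a (Um (1 : ZMod p))) (t : ZMod p) : Ind z a (Um t) := by
  have h := ind_pow hU t.val
  rwa [Um_pow, ZMod.natCast_zmod_val] at h

theorem ind_Lm {z a : G} (hL : Ind z a (Lm (1 : ZMod p))) (t : ZMod p) : Ind z a (Lm t) := by
  have h := ind_pow hL t.val
  rwa [Lm_pow, ZMod.natCast_zmod_val] at h

theorem exists_diag {z a : G} (hU : Ind z a (Um (1 : ZMod p))) (hL : Ind z a (Lm (1 : ZMod p)))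
    (lam : ZMod p) (hlam : lam ≠ 0) :
    ∃ g : G, g * z * g⁻¹ = z ^ lam.val ∧ g * a * g⁻¹ = a ^ (lam⁻¹).val := by
  haveI : Fact (1 < p) := ⟨(Fact.out : p.Prime).one_lt⟩
  have hD : Ind z a (Dm lam) := by
    rw [Dm_eq lam hlam]
    exact ind_mul (ind_Lm hL _) (ind_mul (ind_mul (ind_Um hU _) (ind_Lm hL _)) (ind_Um hU _))
  obtain ⟨g, hg⟩ := hD
  refine ⟨g, ?_, ?_⟩
  · have h := hg ![1, 0]
    rw [Dm_mulVec] at h
    simpa [Ev, ZMod.val_one] using h
  · have h := hg ![0, 1]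
    rw [Dm_mulVec] at h
    simpa [Ev, ZMod.val_one] using h

end ind

section normalizer
variable {G : Type*} [Group G]

/-- the stabiliser of `z` and of the coset `a Z` -/
def XSub (Z : Subgroup G) (z a : G)
    (hcomZ : ∀ x : G, x * z = z * x → ∀ w ∈ Z, x * w = w * x) : Subgroup G where
  carrier := {x | x * z = z * x ∧ x * a * x⁻¹ * a⁻¹ ∈ Z}
  one_mem' := ⟨by simp, by simp [Subgroup.one_mem]⟩
  mul_mem' := by
    rintro x y ⟨hx1, hx2⟩ ⟨hy1, hy2⟩
    refine ⟨?_, ?_⟩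
    · calc x * y * z = x * (y * z) := mul_assoc _ _ _
        _ = x * (z * y) := by rw [hy1]
        _ = (x * z) * y := (mul_assoc _ _ _).symm
        _ = z * x * y := by rw [hx1]
        _ = z * (x * y) := mul_assoc _ _ _
    · have h1 : x * y * a * (x * y)⁻¹ * a⁻¹ =
          x * (y * a * y⁻¹ * a⁻¹) * x⁻¹ * (x * a * x⁻¹ * a⁻¹) := by group
      rw [h1]
      have h2 : x * (y * a * y⁻¹ * a⁻¹) * x⁻¹ = y * a * y⁻¹ * a⁻¹ := by
        rw [hcomZ x hx1 _ hy2, mul_inv_cancel_right]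
      rw [h2]
      exact Subgroup.mul_mem _ hy2 hx2
  inv_mem' := by
    rintro x ⟨hx1, hx2⟩
    have hx1' : x⁻¹ * z = z * x⁻¹ := (Commute.inv_left (show Commute x z from hx1)).eq
    refine ⟨hx1', ?_⟩
    have h1 : x⁻¹ * a * x⁻¹⁻¹ * a⁻¹ = x⁻¹ * (x * a * x⁻¹ * a⁻¹)⁻¹ * x := by group
    rw [h1, hcomZ x⁻¹ hx1' _ (Subgroup.inv_mem _ hx2), inv_mul_cancel_right]
    exact Subgroup.inv_mem _ hx2

theorem mem_XSub (Z : Subgroup G) (z a : G)
    (hcomZ : ∀ x : G, x * z = z * x → ∀ w ∈ Z, x * w = w * x) (x : G) :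
    x ∈ XSub Z z a hcomZ ↔ x * z = z * x ∧ x * a * x⁻¹ * a⁻¹ ∈ Z := Iff.rfl

variable [Finite G] {p : ℕ} [Fact p.Prime]

theorem exists_normalizer_elt (P : Sylow p G) (hC : CubeData p (P : Subgroup G)) {z a : G}
    (hz : z ∈ cen (P : Subgroup G)) (hz1 : z ≠ 1) (ha : a ∈ (P : Subgroup G))
    (haZ : a ∉ cen (P : Subgroup G))
    (g : G) (i j i' j' : ℕ) (hgz : g * z * g⁻¹ = z ^ i) (hga : g * a * g⁻¹ = a ^ j)
    (hgz' : g⁻¹ * z * g = z ^ i') (hga' : g⁻¹ * a * g = a ^ j') :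
    ∃ n ∈ Subgroup.normalizer ((P : Subgroup G) : Set G),
      n * z * n⁻¹ = z ^ i ∧ n * a * n⁻¹ = a ^ j := by
  have hZ : cen (P : Subgroup G) = Subgroup.zpowers z := hC.cen_eq_zpowers hz hz1
  have hzc : ∀ b ∈ (P : Subgroup G), b * z = z * b := (mem_cen.mp hz).2
  have hcomZ : ∀ x : G, x * z = z * x → ∀ w ∈ cen (P : Subgroup G), x * w = w * x := by
    intro x hx w hw
    rw [hZ] at hw
    obtain ⟨k, rfl⟩ := Subgroup.mem_zpowers_iff.mp hw
    exact (Commute.zpow_right (show Commute x z from hx) k).eq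
  have hPX : (P : Subgroup G) ≤ XSub (cen (P : Subgroup G)) z a hcomZ := by
    intro b hb
    rw [mem_XSub]
    refine ⟨hzc b hb, ?_⟩
    have := hC.comm b⁻¹ (Subgroup.inv_mem _ hb) a⁻¹ (Subgroup.inv_mem _ ha)
    simpa using this
  have hgZ : ∀ w ∈ cen (P : Subgroup G), g * w * g⁻¹ ∈ cen (P : Subgroup G) := by
    intro w hw
    rw [hZ] at hw ⊢
    obtain ⟨k, rfl⟩ := Subgroup.mem_zpowers_iff.mp hw
    rw [← conj_zpow, hgz]
    exact Subgroup.zpow_mem _ (Subgroup.pow_mem _ (Subgroup.mem_zpowers z) i) k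
  have hgPX : cj g (P : Subgroup G) ≤ XSub (cen (P : Subgroup G)) z a hcomZ := by
    rintro _ ⟨b, hb, rfl⟩
    simp only [MulEquiv.coe_toMonoidHom, MulAut.conj_apply]
    rw [mem_XSub]
    have hbz' : b * z ^ i' = z ^ i' * b :=
      (Commute.pow_right (show Commute b z from hzc b hb) i').eq
    refine ⟨?_, ?_⟩
    · calc g * b * g⁻¹ * z = g * b * (g⁻¹ * z * g) * g⁻¹ := by group
        _ = g * b * z ^ i' * g⁻¹ := by rw [hgz']
        _ = g * (b * z ^ i') * g⁻¹ := by rw [mul_assoc g b]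
        _ = g * (z ^ i' * b) * g⁻¹ := by rw [hbz']
        _ = g * ((g⁻¹ * z * g) * b) * g⁻¹ := by rw [hgz']
        _ = z * (g * b * g⁻¹) := by group
    · have h1 : g * b * g⁻¹ * a * (g * b * g⁻¹)⁻¹ * a⁻¹ =
          g * (b * (g⁻¹ * a * g) * b⁻¹ * (g⁻¹ * a * g)⁻¹) * g⁻¹ := by group
      rw [h1, hga']
      apply hgZ
      have := hC.comm b⁻¹ (Subgroup.inv_mem _ hb) (a ^ j')⁻¹
        (Subgroup.inv_mem _ (Subgroup.pow_mem _ ha j'))
      simpa using this
  obtain ⟨k, hkX, hk⟩ := exists_conj_le_sylow_of_le P _ hPX (cj g (P : Subgroup G))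
    (isPGroup_cj g _ P.2) hgPX
  have hkg : k * g ∈ Subgroup.normalizer ((P : Subgroup G) : Set G) := by
    rw [mem_normalizer_iff_cj]
    apply cj_eq_of_le
    rw [← cj_cj]
    exact hk
  rw [mem_XSub] at hkX
  obtain ⟨hk1, hk2⟩ := hkX
  obtain ⟨g', hg'P, hg'⟩ := hC.exists_conj_mul ha haZ hk2
  refine ⟨g' * (k * g), Subgroup.mul_mem _ (Subgroup.le_normalizer hg'P) hkg, ?_, ?_⟩
  · have e : g' * (k * g) * z * (g' * (k * g))⁻¹ = g' * (k * (g * z * g⁻¹) * k⁻¹) * g'⁻¹ := by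
      group
    rw [e, hgz]
    have h1 : k * z ^ i * k⁻¹ = z ^ i := by
      rw [(Commute.pow_right (show Commute k z from hk1) i).eq, mul_inv_cancel_right]
    rw [h1]
    have h2 := (Commute.pow_right (show Commute g' z from hzc g' hg'P) i).eq
    rw [h2, mul_inv_cancel_right]
  · have e : g' * (k * g) * a * (g' * (k * g))⁻¹ = g' * (k * (g * a * g⁻¹) * k⁻¹) * g'⁻¹ := by
      group
    rw [e, hga, ← conj_pow, ← conj_pow]
    congr 1
    have hw : a * (k * a * k⁻¹ * a⁻¹) = k * a * k⁻¹ := by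
      have := (mem_cen.mp hk2).2 a ha
      rw [this]
      group
    rw [← hw, ← hg']
    group

end normalizer

section main

theorem exists_primitive_root (p : ℕ) [Fact p.Prime] :
    ∃ lam : ZMod p, lam ≠ 0 ∧ ∀ k : ℕ, lam ^ k = 1 → (p - 1) ∣ k := by
  obtain ⟨g, hg⟩ := IsCyclic.exists_generator (α := (ZMod p)ˣ)
  have hord : orderOf g = p - 1 := by
    rw [orderOf_eq_card_of_forall_mem_zpowers hg, Nat.card_eq_fintype_card, ZMod.card_units]
  refine ⟨(g : ZMod p), g.ne_zero, fun k hk => ?_⟩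
  rw [← hord]
  apply orderOf_dvd_of_pow_eq_one
  apply Units.ext
  rw [Units.val_pow_eq_pow_val, hk, Units.val_one]

theorem arith3 (p : ℕ) (hpp : p.Prime) (h13 : 13 < p) (k : ℕ) (hk0 : 0 < k) (hk5 : k ≤ 5)
    (hd : (p - 1) ∣ 3 * k) : False := by
  have h1 : p - 1 ≤ 3 * k := Nat.le_of_dvd (by omega) hd
  have h2 : p ≤ 16 := by omega
  interval_cases p <;> norm_num at hpp

theorem arith7 (p : ℕ) (hpp : p.Prime) (h7 : 7 < p) (d : ℕ) (hd : d = 6 ∨ d = 9 ∨ d = 15)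
    (hdvd : (p - 1) ∣ d) : False := by
  have hd15 : d ≤ 15 := by rcases hd with rfl | rfl | rfl <;> norm_num
  have hdpos : 0 < d := by rcases hd with rfl | rfl | rfl <;> norm_num
  have h1 : p - 1 ≤ d := Nat.le_of_dvd hdpos hdvd
  have h2 : p ≤ 16 := by omega
  interval_cases p <;> rcases hd with rfl | rfl | rfl <;>
    first
    | (exfalso; revert hpp; norm_num; done)
    | (exfalso; revert hdvd; norm_num; done)

variable {G : Type*} [Group G] [Finite G] {p : ℕ} [Fact p.Prime]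

/-- **Group-theoretic bound.** -/
theorem group_bound (hp2 : p ≠ 2) (P : Sylow p G) (hC : CubeData p (P : Subgroup G))
    (z : G) (hz : z ∈ cen (P : Subgroup G)) (hz1 : z ≠ 1)
    (m : ℕ) (a : Fin m → G) (haP : ∀ i, a i ∈ (P : Subgroup G))
    (hanc : ∀ i j, i ≠ j → a i * a j ≠ a j * a i)
    (hH : ∀ i, ∃ g : G, g * a i * g⁻¹ = a i ∧ g * z * g⁻¹ = z * a i)
    (hcase : (m = 3 ∧ 13 < p) ∨ (m = 7 ∧ 7 < p)) : False := by
  have hpp : p.Prime := Fact.out
  haveI : Fact (1 < p) := ⟨hpp.one_lt⟩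
  have hm : 2 ≤ m := by
    rcases hcase with ⟨rfl, -⟩ | ⟨rfl, -⟩ <;> norm_num
  have hzP : z ∈ (P : Subgroup G) := cen_le _ hz
  have hzc : ∀ b ∈ (P : Subgroup G), b * z = z * b := (mem_cen.mp hz).2
  have hzp : z ^ p = 1 := hC.exp z hzP
  have haZ : ∀ i, a i ∉ cen (P : Subgroup G) := by
    intro i hi
    obtain ⟨j, hj⟩ : ∃ j : Fin m, i ≠ j := by
      by_cases h0 : i.val = 0
      · exact ⟨⟨1, by omega⟩, fun h => by rw [h] at h0; simp at h0⟩
      · exact ⟨⟨0, by omega⟩, fun h => by rw [h] at h0; simp at h0⟩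
    exact hanc i j hj ((mem_cen.mp hi).2 (a j) (haP j)).symm
  obtain ⟨lam, hlam0, hlam⟩ := exists_primitive_root p
  have key : ∀ i, ∃ n ∈ Subgroup.normalizer ((P : Subgroup G) : Set G),
      n * z * n⁻¹ = z ^ lam.val ∧ n * a i * n⁻¹ = a i ^ (lam⁻¹).val := by
    intro i
    have hza : z * a i = a i * z := (hzc (a i) (haP i)).symm
    have hap : a i ^ p = 1 := hC.exp _ (haP i)
    have hU : Ind z (a i) (Um (1 : ZMod p)) := by
      obtain ⟨g₁, hg₁P, hg₁⟩ := hC.exists_conj_mul (haP i) (haZ i) hz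
      refine ind_U hza hzp g₁⁻¹ ?_ ?_
      · rw [inv_inv, hzc g₁⁻¹ (Subgroup.inv_mem _ hg₁P), inv_mul_cancel_right]
      · rw [inv_inv]; exact hg₁
    have hL : Ind z (a i) (Lm (1 : ZMod p)) := by
      obtain ⟨g, hga, hgz⟩ := hH i
      exact ind_L hza hap g hgz hga
    obtain ⟨g, hgz, hga⟩ := exists_diag hU hL lam hlam0
    have hgz' : g⁻¹ * z * g = z ^ (lam⁻¹).val := by
      have h1 : g * z ^ (lam⁻¹).val * g⁻¹ = z := by
        rw [← conj_pow, hgz, ← zp_mul hzp, mul_inv_cancel₀ hlam0, ZMod.val_one, pow_one]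
      calc g⁻¹ * z * g = g⁻¹ * (g * z ^ (lam⁻¹).val * g⁻¹) * g := by rw [h1]
        _ = z ^ (lam⁻¹).val := by group
    have hga' : g⁻¹ * a i * g = a i ^ lam.val := by
      have h1 : g * a i ^ lam.val * g⁻¹ = a i := by
        rw [← conj_pow, hga, ← zp_mul hap, inv_mul_cancel₀ hlam0, ZMod.val_one, pow_one]
      calc g⁻¹ * a i * g = g⁻¹ * (g * a i ^ lam.val * g⁻¹) * g := by rw [h1]
        _ = a i ^ lam.val := by group
    exact exists_normalizer_elt P hC hz hz1 (haP i) (haZ i) g _ _ _ _ hgz hga hgz' hga'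
  choose n hn hnz hna using key
  have hexp : ∀ x : ↥(P : Subgroup G), x ^ p = 1 := by
    intro x
    apply Subtype.ext
    rw [Subgroup.coe_pow]
    exact hC.exp x x.2
  refine rep_bound (Q := ↥(P : Subgroup G))
    (Γ := ↥(Subgroup.normalizer ((P : Subgroup G) : Set G))) hp2 hC.card hexp
    (Subgroup.normalizerMonoidHom (P : Subgroup G))
    ((P : Subgroup G).subgroupOf (Subgroup.normalizer ((P : Subgroup G) : Set G))) ?_ ?_
    lam hlam0 ⟨z, hzP⟩ ?_ ?_ m (fun i => ⟨a i, haP i⟩) ?_ (fun i => ⟨n i, hn i⟩) ?_ ?_ ?_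
  · intro x hx
    rw [Subgroup.mem_subgroupOf] at hx
    refine ⟨⟨x, hx⟩, MulEquiv.ext (fun y => Subtype.ext ?_)⟩
    rw [Subgroup.normalizerMonoidHom_apply_apply_coe, MulAut.conj_apply]
    rfl
  · intro h
    apply P.not_dvd_index
    exact h.trans (Subgroup.relIndex_dvd_index_of_le Subgroup.le_normalizer)
  · rw [Subgroup.mem_center_iff]
    intro g
    exact Subtype.ext (hzc g g.2)
  · intro h
    exact hz1 (congrArg Subtype.val h)
  · intro i j hij h
    exact hanc i j hij (congrArg Subtype.val h)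
  · intro i
    apply Subtype.ext
    rw [Subgroup.normalizerMonoidHom_apply_apply_coe, Subgroup.coe_pow]
    exact hnz i
  · intro i
    apply Subtype.ext
    rw [Subgroup.normalizerMonoidHom_apply_apply_coe, Subgroup.coe_pow]
    exact hna i
  · rcases hcase with ⟨rfl, h13⟩ | ⟨rfl, h7⟩
    · left
      exact ⟨rfl, fun k hk0 hk5 h => arith3 p hpp h13 k hk0 hk5 (hlam _ h)⟩
    · right
      exact ⟨rfl, fun h => arith7 p hpp h7 6 (Or.inl rfl) (hlam 6 h),
        fun h => arith7 p hpp h7 9 (Or.inr (Or.inl rfl)) (hlam 9 h),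
        fun h => arith7 p hpp h7 15 (Or.inr (Or.inr rfl)) (hlam 15 h)⟩

end main

end Cfsg.Agent.Lib.Helper18.RVGroup
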