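import Mathlib
import Cfsg.Agent.Lib.Helper11.S3282Defs

/-!
# S3282 FO-G4 (helper18, farm-out of helper11): a subgroup of order `k - 1` consisting of "odd real" elements is a torus

Pure group theory: the counting core `torus_of_malnormal` with the three facts about the tori (`G2_odd`/`hRO`, `G2_cent`,
`G3_torus`) as explicit hypotheses.
-/

set_option autoImplicit false

namespace Cfsg.Agent.Lib.Helper18.S3282G4

universe u

theorem arith_two (n a b m m' : ℕ) (hpos : 0 < n) (hA1 : 2 ≤ a) (hB1 : 2 ≤ b) (hA' : m * a = n)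
    (hB' : m' * b = n) (h4 : m * (a - 1) + m' * (b - 1) ≤ n - 1) : False := by
  obtain ⟨a', rfl⟩ : ∃ a', a = a' + 2 := ⟨a - 2, by omega⟩
  obtain ⟨b', rfl⟩ : ∃ b', b = b' + 2 := ⟨b - 2, by omega⟩
  have e1 : a' + 2 - 1 = a' + 1 := by omega
  have e2 : b' + 2 - 1 = b' + 1 := by omega
  rw [e1, e2] at h4
  obtain ⟨n', rfl⟩ : ∃ n', n = n' + 1 := ⟨n - 1, by omega⟩
  rw [Nat.add_sub_cancel] at h4
  have hA'' : m * a' + 2 * m = n' + 1 := by rw [← hA']; ring
  have hB'' : m' * b' + 2 * m' = n' + 1 := by rw [← hB']; ring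
  have h4' : m * a' + m + (m' * b' + m') ≤ n' := by
    have : m * (a' + 1) + m' * (b' + 1) = m * a' + m + (m' * b' + m') := by ring
    rw [← this]; exact h4
  generalize m * a' = X at *
  generalize m' * b' = Y at *
  omega

theorem arith_one (n a m : ℕ) (hA1 : 2 ≤ a) (hidx : m ≠ 1) (hidx0 : m ≠ 0) (hA' : m * a = n)
    (h4 : n - 1 ≤ m * (a - 1)) : False := by
  obtain ⟨a', rfl⟩ : ∃ a', a = a' + 2 := ⟨a - 2, by omega⟩
  obtain ⟨m'', rfl⟩ : ∃ m'', m = m'' + 2 := ⟨m - 2, by omega⟩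
  have e1 : a' + 2 - 1 = a' + 1 := by omega
  rw [e1] at h4
  have hA'' : m'' * a' + 2 * m'' + 2 * a' + 4 = n := by rw [← hA']; ring
  have h4' : n - 1 ≤ m'' * a' + m'' + 2 * a' + 2 := by
    have : (m'' + 2) * (a' + 1) = m'' * a' + m'' + 2 * a' + 2 := by ring
    rw [← this]; exact h4
  generalize m'' * a' = X at *
  omega

section count

variable {H : Type u} [Group H] [Finite H]

/-- the non-identity elements conjugate into `A` -/
def conjNon (A : Subgroup H) : Set H := {x | ∃ g : H, ∃ a ∈ A, a ≠ 1 ∧ x = g * a * g⁻¹}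

theorem card_ne_one (A : Subgroup H) : Nat.card {a : A // a ≠ 1} = Nat.card A - 1 := by
  classical
  haveI : Fintype A := Fintype.ofFinite A
  rw [Nat.card_eq_fintype_card, Nat.card_eq_fintype_card, Fintype.card_subtype_compl,
    Fintype.card_subtype_eq]

/-- for a malnormal subgroup, the conjugates of `A#` cover exactly `|H : A| (|A| - 1)` elements -/
theorem card_conjNon (A : Subgroup H)
    (hA : ∀ g : H, ∀ a ∈ A, a ≠ 1 → g * a * g⁻¹ ∈ A → g ∈ A) :
    Nat.card (conjNon A) = A.index * (Nat.card A - 1) := by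
  classical
  let f : (H ⧸ A) × {a : A // a ≠ 1} → conjNon A := fun p =>
    ⟨p.1.out * (p.2.1 : H) * p.1.out⁻¹, p.1.out, (p.2.1 : H), p.2.1.2,
      fun h => p.2.2 (Subtype.ext h), rfl⟩
  have hinj : Function.Injective f := by
    rintro ⟨q, a, ha⟩ ⟨q', a', ha'⟩ h
    have h1 : q.out * (a : H) * q.out⁻¹ = q'.out * (a' : H) * q'.out⁻¹ := congrArg Subtype.val h
    have h2 : (q'.out⁻¹ * q.out) * (a : H) * (q'.out⁻¹ * q.out)⁻¹ = (a' : H) := by
      have : (a : H) = q.out⁻¹ * (q'.out * (a' : H) * q'.out⁻¹) * q.out := by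
        rw [← h1]; group
      rw [this]; group
    have h3 : q'.out⁻¹ * q.out ∈ A :=
      hA _ (a : H) a.2 (fun h => ha (Subtype.ext h)) (by rw [h2]; exact a'.2)
    have h4 : q' = q := by
      have := (QuotientGroup.eq (s := A) (a := q'.out) (b := q.out)).mpr h3
      rwa [QuotientGroup.out_eq', QuotientGroup.out_eq'] at this
    subst h4
    have h5 : (a : H) = (a' : H) := by
      have := h1
      exact mul_left_cancel (mul_right_cancel this)
    have h6 : a = a' := Subtype.ext h5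
    subst h6
    rfl
  have hsurj : Function.Surjective f := by
    rintro ⟨x, g, a, haA, ha1, rfl⟩
    obtain ⟨α, hα⟩ := QuotientGroup.mk_out_eq_mul A g
    have hmem : (α : H)⁻¹ * a * (α : H) ∈ A := A.mul_mem (A.mul_mem (A.inv_mem α.2) haA) α.2
    have hne : (⟨(α : H)⁻¹ * a * (α : H), hmem⟩ : A) ≠ 1 := by
      intro h
      have h' : (α : H)⁻¹ * a * (α : H) = 1 := congrArg Subtype.val h
      apply ha1
      have : a = (α : H) * ((α : H)⁻¹ * a * (α : H)) * (α : H)⁻¹ := by group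
      rw [this, h']; group
    refine ⟨((g : H ⧸ A), ⟨⟨(α : H)⁻¹ * a * (α : H), hmem⟩, hne⟩), ?_⟩
    apply Subtype.ext
    show ((g : H ⧸ A)).out * ((α : H)⁻¹ * a * (α : H)) * ((g : H ⧸ A)).out⁻¹ = g * a * g⁻¹
    rw [hα]
    group
  rw [← Nat.card_congr (Equiv.ofBijective f ⟨hinj, hsurj⟩), Nat.card_prod, card_ne_one]
  rfl

theorem conjNon_subset (A : Subgroup H) : conjNon A ⊆ {x : H | x ≠ 1} := by
  rintro x ⟨g, a, _, ha1, rfl⟩ h
  apply ha1
  have : a = g⁻¹ * (g * a * g⁻¹) * g := by group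
  rw [this, h]; group

theorem ncard_ne_one : ({x : H | x ≠ 1} : Set H).ncard = Nat.card H - 1 := by
  have h : ({x : H | x ≠ 1} : Set H) = ({1} : Set H)ᶜ := by
    ext x; simp
  rw [h, Set.ncard_compl, Set.ncard_singleton]

/-- two malnormal non-trivial subgroups with disjoint conjugate sets cannot exist -/
theorem false_of_two (A B : Subgroup H)
    (hA : ∀ g : H, ∀ a ∈ A, a ≠ 1 → g * a * g⁻¹ ∈ A → g ∈ A)
    (hB : ∀ g : H, ∀ a ∈ B, a ≠ 1 → g * a * g⁻¹ ∈ B → g ∈ B)
    (hA1 : 2 ≤ Nat.card A) (hB1 : 2 ≤ Nat.card B)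
    (hdisj : Disjoint (conjNon A) (conjNon B)) : False := by
  have h1 := card_conjNon A hA
  have h2 := card_conjNon B hB
  rw [Nat.card_coe_set_eq] at h1 h2
  have h3 : (conjNon A ∪ conjNon B).ncard = (conjNon A).ncard + (conjNon B).ncard :=
    Set.ncard_union_eq hdisj (Set.toFinite _) (Set.toFinite _)
  have h4 : (conjNon A ∪ conjNon B).ncard ≤ ({x : H | x ≠ 1} : Set H).ncard :=
    Set.ncard_le_ncard (Set.union_subset (conjNon_subset A) (conjNon_subset B)) (Set.toFinite _)
  rw [ncard_ne_one, h3, h1, h2] at h4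
  have hA' := A.index_mul_card
  have hB' := B.index_mul_card
  have hpos : 0 < Nat.card H := Nat.card_pos
  exact arith_two _ _ _ _ _ hpos hA1 hB1 hA' hB' h4

/-- a malnormal proper non-trivial subgroup misses a non-identity conjugacy class -/
theorem exists_not_mem_conjNon (A : Subgroup H)
    (hA : ∀ g : H, ∀ a ∈ A, a ≠ 1 → g * a * g⁻¹ ∈ A → g ∈ A)
    (hA1 : 2 ≤ Nat.card A) (hAtop : A ≠ ⊤) : ∃ x : H, x ≠ 1 ∧ x ∉ conjNon A := by
  by_contra hcon
  push Not at hcon
  have hsub : ({x : H | x ≠ 1} : Set H) ⊆ conjNon A := fun x hx => hcon x hx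
  have h1 := card_conjNon A hA
  rw [Nat.card_coe_set_eq] at h1
  have h4 := Set.ncard_le_ncard hsub (Set.toFinite _)
  rw [ncard_ne_one, h1] at h4
  have hA' := A.index_mul_card
  have hidx : A.index ≠ 1 := fun h => hAtop (Subgroup.index_eq_one.mp h)
  have hidx0 : A.index ≠ 0 := Subgroup.index_ne_zero_of_finite
  exact arith_one _ _ _ hA1 hidx hidx0 hA' h4

end count

section main

variable {G : Type u} [Group G] [Finite G]

theorem mem_centralizer_singleton {x y : G} :
    y ∈ Subgroup.centralizer ({x} : Set G) ↔ x * y = y * x := by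
  rw [Subgroup.mem_centralizer_iff]
  constructor
  · intro h; exact h x rfl
  · rintro h z rfl; exact h

/-- `C(g a g⁻¹) = g C(a) g⁻¹` -/
theorem mem_centralizer_conj (g a y : G) :
    y ∈ Subgroup.centralizer ({g * a * g⁻¹} : Set G) ↔
      g⁻¹ * y * g ∈ Subgroup.centralizer ({a} : Set G) := by
  rw [mem_centralizer_singleton, mem_centralizer_singleton]
  constructor
  · intro h
    have : a * (g⁻¹ * y * g) = g⁻¹ * (g * a * g⁻¹ * y) * g := by group
    rw [this, h]; group
  · intro h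
    have : g * a * g⁻¹ * y = g * (a * (g⁻¹ * y * g)) * g⁻¹ := by group
    rw [this, h]; group

/-- **core of G4**: with the torus facts as hypotheses. -/
theorem torus_of_facts (R : Set G) (n : ℕ)
    (hcard : ∀ x ∈ R, Nat.card (Subgroup.centralizer ({x} : Set G)) = n)
    (hcent : ∀ x ∈ R, ∀ y ∈ Subgroup.centralizer ({x} : Set G), y ≠ 1 →
      y ∈ R ∧ Subgroup.centralizer ({y} : Set G) = Subgroup.centralizer ({x} : Set G))
    (hnorm : ∀ x ∈ R, ∀ g ∈ Subgroup.normalizer ((Subgroup.centralizer ({x} : Set G) : Subgroup G) : Set G),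
      Odd (orderOf g) → g ∈ Subgroup.centralizer ({x} : Set G))
    (hn : Odd n)
    (D : Subgroup G) (hD : Nat.card D = n) (hDR : ∀ d ∈ D, d ≠ 1 → d ∈ R)
    {d : G} (hd : d ∈ D) (hd1 : d ≠ 1) : D = Subgroup.centralizer ({d} : Set G) := by
  -- the centralizers inside `D`
  let A : ∀ d0 : D, Subgroup D := fun d0 => Subgroup.centralizer ({d0} : Set D)
  have hAmem : ∀ (d0 x : D), x ∈ A d0 ↔ (x : G) ∈ Subgroup.centralizer ({(d0 : G)} : Set G) := by
    intro d0 x
    rw [mem_centralizer_singleton, mem_centralizer_singleton]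
    constructor
    · intro h
      have := congrArg Subtype.val h
      simpa using this
    · intro h
      apply Subtype.ext
      simpa using h
  have hodd : ∀ g : D, Odd (orderOf (g : G)) := by
    intro g
    have h1 : orderOf (g : G) ∣ n := by
      rw [← hD, Subgroup.orderOf_coe]
      exact orderOf_dvd_natCard g
    exact Odd.of_dvd_nat hn h1
  have hne : ∀ x : D, x ≠ 1 → (x : G) ≠ 1 := fun x hx h => hx (Subtype.ext h)
  -- malnormality
  have hmal : ∀ d0 : D, d0 ≠ 1 → ∀ g : D, ∀ a ∈ A d0, a ≠ 1 → g * a * g⁻¹ ∈ A d0 → g ∈ A d0 := by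
    intro d0 hd0 g a ha ha1 hga
    have hR0 : (d0 : G) ∈ R := hDR _ d0.2 (hne d0 hd0)
    have h1 := (hcent _ hR0 (a : G) ((hAmem d0 a).mp ha) (hne a ha1)).2
    have hga1 : g * a * g⁻¹ ≠ 1 := by
      intro h
      apply ha1
      have : a = g⁻¹ * (g * a * g⁻¹) * g := by group
      rw [this, h]; group
    have h2 := (hcent _ hR0 ((g * a * g⁻¹ : D) : G) ((hAmem d0 _).mp hga) (hne _ hga1)).2
    have hginv : (g : G)⁻¹ ∈ Subgroup.normalizer
        ((Subgroup.centralizer ({(d0 : G)} : Set G) : Subgroup G) : Set G) := by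
      rw [Subgroup.mem_normalizer_iff]
      intro y
      rw [inv_inv, ← h1, ← mem_centralizer_conj, h1]
      have : ((g * a * g⁻¹ : D) : G) = (g : G) * (a : G) * (g : G)⁻¹ := by simp
      rw [← this, h2]
    have hgn := (Subgroup.normalizer _).inv_mem hginv
    rw [inv_inv] at hgn
    exact (hAmem d0 g).mpr (hnorm _ hR0 _ hgn (hodd g))
  have hA2 : ∀ d0 : D, d0 ≠ 1 → 2 ≤ Nat.card (A d0) := by
    intro d0 hd0
    have hmem : d0 ∈ A d0 := by
      rw [hAmem, mem_centralizer_singleton]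
    by_contra hlt
    have h1 : Nat.card (A d0) = 1 := by
      have : 0 < Nat.card (A d0) := Nat.card_pos
      omega
    have h2 : A d0 = ⊥ := Subgroup.card_eq_one.mp h1
    rw [h2, Subgroup.mem_bot] at hmem
    exact hd0 hmem
  -- main
  have hle : D ≤ Subgroup.centralizer ({d} : Set G) := by
    by_contra hnle
    set d0 : D := ⟨d, hd⟩ with hd0def
    have hd0 : d0 ≠ 1 := fun h => hd1 (congrArg Subtype.val h)
    have hAtop : A d0 ≠ ⊤ := by
      intro h
      apply hnle
      intro x hx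
      have : (⟨x, hx⟩ : D) ∈ A d0 := by rw [h]; exact Subgroup.mem_top _
      exact (hAmem d0 _).mp this
    obtain ⟨d1, hd11, hd1n⟩ := exists_not_mem_conjNon (A d0) (hmal d0 hd0) (hA2 d0 hd0) hAtop
    apply false_of_two (A d0) (A d1) (hmal d0 hd0) (hmal d1 hd11) (hA2 d0 hd0) (hA2 d1 hd11)
    rw [Set.disjoint_left]
    rintro x ⟨g, a, ha, ha1, rfl⟩ ⟨g', b, hb, hb1, hx⟩
    apply hd1n
    have hR0 : (d0 : G) ∈ R := hDR _ d0.2 (hne d0 hd0)
    have hR1 : (d1 : G) ∈ R := hDR _ d1.2 (hne d1 hd11)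
    have hCa := (hcent _ hR0 (a : G) ((hAmem d0 a).mp ha) (hne a ha1)).2
    have hCb := (hcent _ hR1 (b : G) ((hAmem d1 b).mp hb) (hne b hb1)).2
    -- `b = h a h⁻¹`, `h = g'⁻¹ g`
    set h := g'⁻¹ * g with hh
    have hb' : b = h * a * h⁻¹ := by
      have : b = g'⁻¹ * (g' * b * g'⁻¹) * g' := by group
      rw [this, ← hx, hh]; group
    have hd1C : (d1 : G) ∈ Subgroup.centralizer ({(b : G)} : Set G) := by
      rw [hCb, mem_centralizer_singleton]
    have hbG : (b : G) = (h : G) * (a : G) * (h : G)⁻¹ := by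
      rw [hb']; simp
    rw [hbG, mem_centralizer_conj, hCa] at hd1C
    refine ⟨h, h⁻¹ * d1 * h, ?_, ?_, by group⟩
    · rw [hAmem]
      simpa using hd1C
    · intro h0
      apply hd11
      have : d1 = h * (h⁻¹ * d1 * h) * h⁻¹ := by group
      rw [this, h0]; group
  apply Subgroup.eq_of_le_of_card_ge hle
  rw [hD, hcard d (hDR d hd hd1)]

/-- from `N(F) = F ⊔ ⟨u⟩` (`u` an involution): elements of odd order of `N(F)` lie in `F` -/
theorem mem_of_odd_of_normalizer_eq (F : Subgroup G) (u : G) (hu : orderOf u = 2)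
    (hN : Subgroup.normalizer (F : Set G) = F ⊔ Subgroup.zpowers u) (g : G)
    (hg : g ∈ Subgroup.normalizer (F : Set G)) (hodd : Odd (orderOf g)) : g ∈ F := by
  set N := Subgroup.normalizer (F : Set G) with hNdef
  have hFN : F ≤ N := Subgroup.le_normalizer
  have hZN : Subgroup.zpowers u ≤ N := by rw [hN]; exact le_sup_right
  haveI : (F.subgroupOf N).Normal := Subgroup.normal_subgroupOf_of_le_normalizer le_rfl
  -- the index of `F` in `N` divides 2
  have hidx : (F.subgroupOf N).index ∣ 2 := by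
    have h1 : F.subgroupOf N ⊔ (Subgroup.zpowers u).subgroupOf N = ⊤ := by
      rw [← Subgroup.subgroupOf_sup hFN hZN, ← hN]
      exact Subgroup.subgroupOf_self N
    have h2 : (F.subgroupOf N).index =
        (F.subgroupOf N).relIndex ((Subgroup.zpowers u).subgroupOf N) := by
      rw [← Subgroup.relIndex_top_right, ← h1, Subgroup.relIndex_sup_left]
    have h3 : Nat.card ((Subgroup.zpowers u).subgroupOf N) = 2 := by
      rw [Nat.card_congr (Subgroup.subgroupOfEquivOfLe hZN).toEquiv, Nat.card_zpowers, hu]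
    rw [h2, ← h3]
    exact Subgroup.relIndex_dvd_card _ _
  have hsq : g ^ 2 ∈ F := by
    have h1 := Subgroup.pow_index_mem (F.subgroupOf N) ⟨g, hg⟩
    have h2 : (F.subgroupOf N).index = 1 ∨ (F.subgroupOf N).index = 2 :=
      (Nat.dvd_prime Nat.prime_two).mp hidx
    rcases h2 with h2 | h2
    · rw [h2, pow_one] at h1
      have : g ∈ F := h1
      exact F.pow_mem this 2
    · rw [h2] at h1
      exact h1
  obtain ⟨k, hk⟩ := hodd
  have h1 : g = (g ^ 2) ^ (k + 1) := by
    rw [← pow_mul]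
    have : 2 * (k + 1) = orderOf g + 1 := by omega
    rw [this, pow_succ, pow_orderOf_eq_one, one_mul]
  rw [h1]
  exact F.pow_mem hsq _

end main

section wrapper

open Cfsg.Agent.Lib.Helper11 Cfsg.Agent.Lib.Helper11.S3282

variable {G : Type u} [Group G] [Finite G] {t s : G} {K : Subgroup G}

/-- **FO-G4** with the pieces `G2_odd`, `G2_cent`, `G3_torus` (exact skeleton shapes, already applied to `h`/`hRO`) as
hypotheses: `G4_torus h hRO D hD hDRO hd hd1 := G4_torus_of (fun hx => G2_odd h hx)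
(fun hx hy hy1 => G2_cent h hx hy hy1) (fun hx hu hux => G3_torus h hRO hx hu hux) hRO D hD hDRO hd hd1`. -/
theorem G4_torus_of
    (G2_odd : ∀ {x : G}, x ∈ RO K → Odd (Nat.card (Subgroup.centralizer ({x} : Set G))))
    (G2_cent : ∀ {x y : G}, x ∈ RO K → y ∈ Subgroup.centralizer ({x} : Set G) → y ≠ 1 →
      y ∈ RO K ∧ Subgroup.centralizer ({y} : Set G) = Subgroup.centralizer ({x} : Set G))
    (G3_torus : ∀ {x u : G}, x ∈ RO K → orderOf u = 2 → u * x * u⁻¹ = x⁻¹ →
      Subgroup.normalizer ((Subgroup.centralizer ({x} : Set G) : Subgroup G) : Set G)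
        = Subgroup.centralizer ({x} : Set G) ⊔ Subgroup.zpowers u)
    (hRO : ∀ x ∈ RO K, Nat.card (Subgroup.centralizer ({x} : Set G)) = Nat.card K - 1)
    (D : Subgroup G) (hD : Nat.card D = Nat.card K - 1) (hDRO : ∀ d ∈ D, d ≠ 1 → d ∈ RO K)
    {d : G} (hd : d ∈ D) (hd1 : d ≠ 1) : D = Subgroup.centralizer ({d} : Set G) := by
  have hdR : d ∈ RO K := hDRO d hd hd1
  have hn : Odd (Nat.card K - 1) := by
    rw [← hRO d hdR]
    exact G2_odd hdR
  refine torus_of_facts (RO K) (Nat.card K - 1) hRO (fun x hx y hy hy1 => G2_cent hx hy hy1) ?_ hn D hD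
    hDRO hd hd1
  intro x hx g hg hodd
  obtain ⟨u, hu, hux⟩ := hx.2.2
  exact mem_of_odd_of_normalizer_eq _ u hu (G3_torus hx hu hux) g hg hodd

end wrapper

end Cfsg.Agent.Lib.Helper18.S3282G4
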