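import Mathlib

set_option autoImplicit false

namespace Cfsg.Agent.Lib.Helper18.S4067B

section
variable {G : Type*} [Group G]

/-- the cocycle `D i = s⁻ⁱ (s y)ⁱ`. -/
def dd (s y : G) (i : ℕ) : G := (s ^ i)⁻¹ * (s * y) ^ i

theorem dd_zero (s y : G) : dd s y 0 = 1 := by simp [dd]

theorem dd_succ (s y : G) (i : ℕ) : dd s y (i + 1) = s⁻¹ * dd s y i * s * y := by
  unfold dd
  rw [pow_succ, pow_succ]
  group

theorem dd_add (s y : G) (i j : ℕ) :
    dd s y (i + j) = (s ^ j)⁻¹ * dd s y i * s ^ j * dd s y j := by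
  unfold dd
  rw [pow_add, pow_add]
  group

theorem dd_one (s y : G) : dd s y 1 = y := by
  unfold dd
  rw [pow_one, pow_one]
  group

theorem dd_mem (N : Subgroup G) [N.Normal] (s y : G) (hyN : y ∈ N)
    (hyc : ∀ n ∈ N, n * y = y * n) (i : ℕ) :
    dd s y i ∈ N ⊓ Subgroup.centralizer (N : Set G) := by
  have hy : y ∈ N ⊓ Subgroup.centralizer (N : Set G) := by
    refine Subgroup.mem_inf.mpr ⟨hyN, ?_⟩
    rw [Subgroup.mem_centralizer_iff]
    intro n hn
    exact hyc n hn
  induction i with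
  | zero => rw [dd_zero]; exact one_mem _
  | succ i ih =>
    rw [dd_succ]
    have hnorm : (N ⊓ Subgroup.centralizer (N : Set G)).Normal := inferInstance
    have h1 : s⁻¹ * dd s y i * s⁻¹⁻¹ ∈ N ⊓ Subgroup.centralizer (N : Set G) :=
      hnorm.conj_mem _ ih s⁻¹
    rw [inv_inv] at h1
    exact mul_mem h1 hy

theorem dd_add_period (s y : G) (p : ℕ) (hpow : (s * y) ^ p = s ^ p) (i : ℕ) :
    dd s y (p + i) = dd s y i := by
  rw [dd_add]
  have : dd s y p = 1 := by
    unfold dd
    rw [hpow]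
    group
  rw [this]
  group

theorem dd_add_mul_period (s y : G) (p : ℕ) (hpow : (s * y) ^ p = s ^ p) (i k : ℕ) :
    dd s y (k * p + i) = dd s y i := by
  induction k with
  | zero => simp
  | succ k ih =>
    rw [show (k + 1) * p + i = p + (k * p + i) by ring, dd_add_period s y p hpow, ih]

theorem dd_congr (s y : G) (p : ℕ) (hpow : (s * y) ^ p = s ^ p) {i j : ℕ}
    (h : i ≡ j [MOD p]) : dd s y i = dd s y j := by
  have hi : dd s y i = dd s y (i % p) := by
    conv_lhs => rw [← Nat.div_add_mod' i p]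
    exact dd_add_mul_period s y p hpow _ _
  have hj : dd s y j = dd s y (j % p) := by
    conv_lhs => rw [← Nat.div_add_mod' j p]
    exact dd_add_mul_period s y p hpow _ _
  rw [hi, hj]
  congr 1

end

theorem FOB_exists_aut {G : Type*} [Group G] (N : Subgroup G) [N.Normal] (p : ℕ) (hp : p.Prime)
    (hidx : N.index = p) (s y : G) (hs : s ∉ N) (hyN : y ∈ N) (hyc : ∀ n ∈ N, n * y = y * n)
    (hpow : (s * y) ^ p = s ^ p) :
    ∃ τ : MulAut G, τ s = s * y ∧ ∀ n ∈ N, τ n = n := by
  classical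
  let π : G →* G ⧸ N := QuotientGroup.mk' N
  have hπ : ∀ a : G, π a = 1 ↔ a ∈ N := fun a => QuotientGroup.eq_one_iff a
  have hcard : Nat.card (G ⧸ N) = p := by rw [← hidx]; rfl
  have : Finite (G ⧸ N) := Nat.finite_of_card_ne_zero (by rw [hcard]; exact hp.ne_zero)
  have hs1 : π s ≠ 1 := fun h => hs ((hπ s).mp h)
  have hord : orderOf (π s) = p := by
    have hdvd : orderOf (π s) ∣ p := by rw [← hcard]; exact orderOf_dvd_natCard _
    rcases (Nat.dvd_prime hp).mp hdvd with h | h
    · exact absurd (orderOf_eq_one_iff.mp h) hs1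
    · exact h
  have htop : Subgroup.zpowers (π s) = ⊤ := by
    apply Subgroup.eq_top_of_card_eq
    rw [Nat.card_zpowers, hord, hcard]
  -- exponent function
  have hex : ∀ a : G, ∃ i : ℕ, π a = π s ^ i := by
    intro a
    have ha : π a ∈ Subgroup.zpowers (π s) := by rw [htop]; exact Subgroup.mem_top _
    obtain ⟨k, hk⟩ := Subgroup.mem_zpowers_iff.mp ha
    refine ⟨(k % (p : ℤ)).toNat, ?_⟩
    have hnn : 0 ≤ k % (p : ℤ) := Int.emod_nonneg _ (by exact_mod_cast hp.ne_zero)
    rw [← hk, ← zpow_natCast, Int.toNat_of_nonneg hnn, ← hord, zpow_mod_orderOf]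
  choose e he using hex
  have hmod : ∀ i j : ℕ, π s ^ i = π s ^ j → i ≡ j [MOD p] := by
    intro i j h
    rw [← hord]
    exact pow_eq_pow_iff_modEq.mp h
  let D := dd s y
  have hDmem : ∀ i, D i ∈ N ⊓ Subgroup.centralizer (N : Set G) := dd_mem N s y hyN hyc
  have hDN : ∀ i, π (D i) = 1 := fun i => (hπ _).mpr (Subgroup.mem_inf.mp (hDmem i)).1
  have hDc : ∀ i, ∀ n ∈ N, n * D i = D i * n := by
    intro i n hn
    have := (Subgroup.mem_inf.mp (hDmem i)).2
    rw [Subgroup.mem_centralizer_iff] at this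
    exact this n hn
  have hDcongr : ∀ {i j : ℕ}, i ≡ j [MOD p] → D i = D j := fun h => dd_congr s y p hpow h
  -- multiplicativity
  have hmul : ∀ a b : G, a * b * D (e (a * b)) = a * D (e a) * (b * D (e b)) := by
    intro a b
    have h1 : e (a * b) ≡ e a + e b [MOD p] := by
      apply hmod
      rw [← he, map_mul, he a, he b, pow_add]
    rw [hDcongr h1]
    change a * b * dd s y (e a + e b) = _
    rw [dd_add]
    -- n := b * (s ^ e b)⁻¹ ∈ N
    have hn : b * (s ^ e b)⁻¹ ∈ N := by
      rw [← hπ, map_mul, map_inv, map_pow, he b]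
      group
    have hc := hDc (e a) _ hn
    calc a * b * ((s ^ e b)⁻¹ * dd s y (e a) * s ^ e b * dd s y (e b))
        = a * ((b * (s ^ e b)⁻¹) * D (e a)) * s ^ e b * D (e b) := by simp only [D]; group
      _ = a * (D (e a) * (b * (s ^ e b)⁻¹)) * s ^ e b * D (e b) := by rw [hc]
      _ = a * D (e a) * (b * D (e b)) := by group
  let f : G →* G := MonoidHom.mk' (fun a => a * D (e a)) hmul
  have hf : ∀ a, f a = a * D (e a) := fun a => rfl
  have he_f : ∀ a, e (f a) ≡ e a [MOD p] := by
    intro a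
    apply hmod
    rw [← he, hf, map_mul, hDN, mul_one, he a]
  have he_g : ∀ b, e (b * (D (e b))⁻¹) ≡ e b [MOD p] := by
    intro b
    apply hmod
    rw [← he, map_mul, map_inv, hDN, inv_one, mul_one, he b]
  have hbij : Function.Bijective f := by
    rw [Function.bijective_iff_has_inverse]
    refine ⟨fun b => b * (D (e b))⁻¹, ?_, ?_⟩
    · intro a
      change f a * (D (e (f a)))⁻¹ = a
      rw [hDcongr (he_f a), hf]
      group
    · intro b
      change f (b * (D (e b))⁻¹) = b
      rw [hf, hDcongr (he_g b)]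
      group
  refine ⟨MulEquiv.ofBijective f hbij, ?_, ?_⟩
  · change f s = s * y
    rw [hf]
    have h1 : e s ≡ 1 [MOD p] := by
      apply hmod
      rw [← he, pow_one]
    rw [hDcongr h1]
    change s * dd s y 1 = s * y
    rw [dd_one]
  · intro n hn
    change f n = n
    rw [hf]
    have h0 : e n ≡ 0 [MOD p] := by
      apply hmod
      rw [← he, pow_zero, (hπ n).mpr hn]
    rw [hDcongr h0]
    change n * dd s y 0 = n
    rw [dd_zero, mul_one]

end Cfsg.Agent.Lib.Helper18.S4067B
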