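import Mathlib

set_option autoImplicit false

namespace Cfsg.Agent.Lib.Helper18.S4067E

/-- Weighted orbit count: if every orbit has total weight `≥ m`, then
`m * #orbits ≤ total weight`. -/
theorem FOE_weights {A X : Type*} [Group A] [MulAction A X] [Fintype X] (W : X → ℕ) (m : ℕ)
    (h : ∀ x : X, ∃ S : Finset X, (∀ y ∈ S, y ∈ MulAction.orbit A x) ∧ m ≤ ∑ y ∈ S, W y) :
    m * Nat.card (MulAction.orbitRel.Quotient A X) ≤ ∑ x, W x := by
  classical
  let _ : Fintype (MulAction.orbitRel.Quotient A X) := Fintype.ofFinite _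
  let f : X → MulAction.orbitRel.Quotient A X := fun x => Quotient.mk'' x
  have hsum : ∑ x, W x = ∑ q : MulAction.orbitRel.Quotient A X, ∑ x with f x = q, W x :=
    (Finset.sum_fiberwise Finset.univ f W).symm
  rw [hsum, Nat.card_eq_fintype_card, ← Finset.card_univ, mul_comm, ← smul_eq_mul, ← Finset.sum_const]
  apply Finset.sum_le_sum
  intro q _
  induction q using Quotient.inductionOn with
  | h x =>
    obtain ⟨S, hS, hm⟩ := h x
    refine hm.trans ?_
    apply Finset.sum_le_sum_of_subset
    intro y hy
    rw [Finset.mem_filter]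
    refine ⟨Finset.mem_univ _, ?_⟩
    exact Quotient.sound (hS y hy)

end Cfsg.Agent.Lib.Helper18.S4067E
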