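import Mathlib
import Cfsg.Prelude.Def_GeometricClasses
import Cfsg.Agent.Lib.Helper7.AschDefs
import Cfsg.Agent.Lib.Helper16.SpADefs
import Cfsg.Agent.Lib.Helper18.FormFieldSp

/-!
# S5662 (symplectic hub): blocks KT `sp_field` and SpI2 `sp_not_absIrr` (helper18)

Exact signatures of `Lib/Helper16/SpATop.lean`; from the generic `Lib/Helper18/FormField.lean` / `FormFieldSp.lean`.
-/

set_option autoImplicit false

namespace Cfsg.Agent.Lib.Helper18.S5662Field

open Matrix Cfsg.Geo Cfsg.Agent.Lib.Helper7.Asch Cfsg.Agent.Lib.Helper16.SpA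
open Cfsg.Agent.Lib.Helper18.FormField Cfsg.Agent.Lib.Helper18.FormFieldSp

variable {F : Type*} [Field F] [Fintype F] {n : ℕ} {f : (Fin n → F) → (Fin n → F) → F}

theorem fixesForm_of_le_Iso (H : Subgroup (GL (Fin n) F)) (hHI : H ≤ Iso f) : FixesForm (matrixSet H) f := by
  rintro s ⟨g, hg, rfl⟩ u v
  exact hHI hg u v

/-- **KT** a field subalgebra of prime degree, closed under adjoints, normalised by `H`: class 3 or class 8 -/
theorem sp_field (hf : IsSymplecticForm f) (hn : 4 ≤ n) (H : Subgroup (GL (Fin n) F)) (hHI : H ≤ Iso f) (hirr : Irr H)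
    (r : ℕ) (K : Subalgebra F (Matrix (Fin n) (Fin n) F)) (hr : r.Prime) (hK : IsFieldSubalgebra r K)
    (hac : IsAdjointClosedFor f K) (hnorm : H ≤ subalgebraNormalizer K) : InSp f H := by
  haveI : Nonempty (Fin n) := ⟨⟨0, by omega⟩⟩
  rcases symplectic_field hf hr K hK hac H (fixesForm_of_le_Iso H hHI) hnorm with ⟨hsa, halt⟩ | ⟨h2, hnsa, hQ⟩
  · exact .fieldSA r K hr hK hsa halt hnorm
  · subst h2
    by_cases hq : Odd (Fintype.card F)
    · exact .fieldU K hq hK hac hnsa hnorm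
    · obtain ⟨Q, hQ1, hpolar, hfixQ⟩ := hQ.resolve_left hq
      refine .quadratic Q hq hQ1 hpolar ?_
      intro g hg
      refine ⟨1, fun v => ?_⟩
      rw [Units.val_one, one_mul]
      exact hfixQ _ ⟨g, hg, rfl⟩ v

/-- **SpI2** irreducible, not absolutely irreducible -/
theorem sp_not_absIrr (hf : IsSymplecticForm f) (hn : 4 ≤ n) (H : Subgroup (GL (Fin n) F)) (hHI : H ≤ Iso f)
    (h1 : Irr H) (h2 : ¬ AbsIrr H) : InSp f H := by
  haveI : Nonempty (Fin n) := ⟨⟨0, by omega⟩⟩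
  obtain ⟨r, K, hr, hK, hadj, _, hnorm⟩ :=
    exists_field_of_not_absIrr (adjForm_of_symplectic hf) H (fixesForm_of_le_Iso H hHI) h1 h2
  exact sp_field hf hn H hHI h1 r K hr hK hadj hnorm

end Cfsg.Agent.Lib.Helper18.S5662Field
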