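import Mathlib
import Cfsg.Agent.Lib.Helper7.SpExtDefs

/-!
# S5664 FO-ALG: the pure algebra of the Siegel-element calculus on `End_F(L)`
-/

set_option autoImplicit false

namespace Cfsg.Agent.Lib.Helper18.S5664FOALG

open Matrix Module Cfsg.Agent.Lib.Helper7.SpExt

variable {F : Type*} [Field F] {L : Type*} [Field L] [Algebra F L]

/-- `s_d ∘ (b·) ∘ s_d* − (b·)` evaluated -/
lemma N_apply (τ : L →ₗ[F] F) (z d b x : L) :
    (addRk (τ ∘ₗ LinearMap.mulLeft F z) d ∘ₗ LinearMap.mulLeft F b ∘ₗ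
        addRk (τ ∘ₗ LinearMap.mulLeft F d) z + -LinearMap.mulLeft F b) x =
      τ (d * x) • (b * z) + τ (z * (b * x)) • d + (τ (d * x) * τ (z * (b * z))) • d := by
  simp only [LinearMap.add_apply, LinearMap.neg_apply, LinearMap.comp_apply, addRk_apply,
    LinearMap.mulLeft_apply, map_add, map_smul, mul_smul, smul_add]
  abel

/-- the normalised version `(1/d) N_{d, X d / z} (1/d)` -/
lemma cNc_apply (τ : L →ₗ[F] F) (z d X x : L) (hz : z ≠ 0) (hd : d ≠ 0) :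
    (LinearMap.mulLeft F d⁻¹ ∘ₗ
        (addRk (τ ∘ₗ LinearMap.mulLeft F z) d ∘ₗ LinearMap.mulLeft F (X * d * z⁻¹) ∘ₗ
          addRk (τ ∘ₗ LinearMap.mulLeft F d) z + -LinearMap.mulLeft F (X * d * z⁻¹)) ∘ₗ
        LinearMap.mulLeft F d⁻¹) x =
      τ x • X + τ (X * x) • (1 : L) + (τ x * τ (X * z * d)) • (1 : L) := by
  rw [LinearMap.comp_apply, LinearMap.comp_apply, N_apply]
  simp only [LinearMap.mulLeft_apply]
  have e1 : d * (d⁻¹ * x) = x := by field_simp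
  have e2 : z * (X * d * z⁻¹ * (d⁻¹ * x)) = X * x := by field_simp
  have e3 : z * (X * d * z⁻¹ * z) = X * z * d := by field_simp
  rw [e1, e2, e3, mul_add, mul_add, mul_smul_comm, mul_smul_comm, mul_smul_comm]
  have e4 : d⁻¹ * (X * d * z⁻¹ * z) = X := by field_simp
  have e5 : d⁻¹ * d = 1 := inv_mul_cancel₀ hd
  rw [e4, e5]

theorem alg_rank_one (τ : L →ₗ[F] F) (hτ : τ ≠ 0) (z : L) (hz : z ≠ 0) (D₂ : Submodule F L)
    (d d' : L) (hd : d ∈ D₂) (hd' : d' ∈ D₂) (hd0 : d ≠ 0) (hd'0 : d' ≠ 0) (hne : d ≠ d')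
    (P : (L →ₗ[F] L) → Prop) (hadd : ∀ M M', P M → P M' → P (M + M')) (hneg : ∀ M, P M → P (-M))
    (h1 : ∀ b : L, P (LinearMap.mulLeft F b))
    (h2 : ∀ M, P M → ∀ c : L, c ≠ 0 → P (LinearMap.mulLeft F c ∘ₗ M ∘ₗ LinearMap.mulLeft F c))
    (h3 : ∀ M, P M → ∀ d ∈ D₂, P (addRk (τ ∘ₗ LinearMap.mulLeft F z) d ∘ₗ M ∘ₗ
          addRk (τ ∘ₗ LinearMap.mulLeft F d) z)) :
    ∃ κ₀ : F, κ₀ ≠ 0 ∧ P (κ₀ • (LinearMap.toSpanSingleton F L 1 ∘ₗ τ)) := by
  obtain ⟨x₀, hx₀⟩ : ∃ x₀, τ x₀ ≠ 0 := by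
    by_contra hcon
    push Not at hcon
    exact hτ (LinearMap.ext hcon)
  have hdd : d - d' ≠ 0 := sub_ne_zero.mpr hne
  have hzd : z * (d - d') ≠ 0 := mul_ne_zero hz hdd
  set X : L := x₀ * (z * (d - d'))⁻¹ with hX
  have hκ : τ (X * z * (d - d')) = τ x₀ := by
    congr 1
    rw [hX]
    field_simp
  -- the two normalised elements
  have hP : ∀ e ∈ D₂, e ≠ 0 → P (LinearMap.mulLeft F e⁻¹ ∘ₗ
        (addRk (τ ∘ₗ LinearMap.mulLeft F z) e ∘ₗ LinearMap.mulLeft F (X * e * z⁻¹) ∘ₗ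
          addRk (τ ∘ₗ LinearMap.mulLeft F e) z + -LinearMap.mulLeft F (X * e * z⁻¹)) ∘ₗ
        LinearMap.mulLeft F e⁻¹) := by
    intro e he he0
    apply h2 _ _ _ (inv_ne_zero he0)
    apply hadd
    · exact h3 _ (h1 _) e he
    · exact hneg _ (h1 _)
  refine ⟨τ x₀, hx₀, ?_⟩
  have hfin := hadd _ _ (hP d hd hd0) (hneg _ (hP d' hd' hd'0))
  have heq : (LinearMap.mulLeft F d⁻¹ ∘ₗ
        (addRk (τ ∘ₗ LinearMap.mulLeft F z) d ∘ₗ LinearMap.mulLeft F (X * d * z⁻¹) ∘ₗ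
          addRk (τ ∘ₗ LinearMap.mulLeft F d) z + -LinearMap.mulLeft F (X * d * z⁻¹)) ∘ₗ
        LinearMap.mulLeft F d⁻¹) +
      -(LinearMap.mulLeft F d'⁻¹ ∘ₗ
        (addRk (τ ∘ₗ LinearMap.mulLeft F z) d' ∘ₗ LinearMap.mulLeft F (X * d' * z⁻¹) ∘ₗ
          addRk (τ ∘ₗ LinearMap.mulLeft F d') z + -LinearMap.mulLeft F (X * d' * z⁻¹)) ∘ₗ
        LinearMap.mulLeft F d'⁻¹) = τ x₀ • (LinearMap.toSpanSingleton F L 1 ∘ₗ τ) := by
    apply LinearMap.ext
    intro x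
    rw [LinearMap.add_apply, LinearMap.neg_apply, cNc_apply τ z d X x hz hd0,
      cNc_apply τ z d' X x hz hd'0, ← hκ]
    simp only [LinearMap.smul_apply, LinearMap.comp_apply, LinearMap.toSpanSingleton_apply,
      mul_sub, map_sub, sub_smul, mul_smul]
    rw [smul_comm (τ (X * z * d)) (τ x) (1 : L), smul_comm (τ (X * z * d')) (τ x) (1 : L)]
    abel
  rw [heq] at hfin
  exact hfin

theorem exists_two [Fintype F] {r : ℕ} (hr : r.Prime)
    (hq : ¬ (r = 2 ∧ Fintype.card F = 2)) (D₂ : Submodule F L)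
    (hD : finrank F ↥D₂ + 1 = r) :
    ∃ d ∈ D₂, ∃ d' ∈ D₂, d ≠ 0 ∧ d' ≠ 0 ∧ d ≠ d' := by
  classical
  have hr2 := hr.two_le
  have hpos : 0 < finrank F ↥D₂ := by omega
  haveI : Module.Finite F ↥D₂ := Module.finite_of_finrank_pos hpos
  have hne : D₂ ≠ ⊥ := by
    intro h0
    rw [h0, finrank_bot] at hpos
    exact lt_irrefl _ hpos
  obtain ⟨d₀, hd₀, hd₀0⟩ := (Submodule.ne_bot_iff D₂).mp hne
  by_cases h2 : 2 ≤ finrank F ↥D₂
  · -- some element outside the span of `d₀`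
    have hnle : ¬ D₂ ≤ Submodule.span F {d₀} := by
      intro hle
      have h3 := Submodule.finrank_mono hle
      have h4 : finrank F ↥(Submodule.span F {d₀}) = 1 := finrank_span_singleton hd₀0
      omega
    obtain ⟨d', hd', hd'n⟩ := Set.not_subset.mp hnle
    refine ⟨d₀, hd₀, d', hd', hd₀0, ?_, ?_⟩
    · intro h0
      apply hd'n
      rw [h0]
      exact Submodule.zero_mem _
    · intro h0
      apply hd'n
      rw [← h0]
      exact Submodule.mem_span_singleton_self d₀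
  · have hr2' : r = 2 := by omega
    have hc : Fintype.card F ≠ 2 := fun hc => hq ⟨hr2', hc⟩
    obtain ⟨t, ht0, ht1⟩ : ∃ t : F, t ≠ 0 ∧ t ≠ 1 := by
      by_contra hcon
      push Not at hcon
      have hsub : (Finset.univ : Finset F) ⊆ {0, 1} := by
        intro t _
        by_cases ht : t = 0
        · simp [ht]
        · simp [hcon t ht]
      have h5 := Finset.card_le_card hsub
      have h6 : ({0, 1} : Finset F).card ≤ 2 := Finset.card_le_two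
      have h7 : 1 < Fintype.card F := Fintype.one_lt_card
      rw [Finset.card_univ] at h5
      omega
    refine ⟨d₀, hd₀, t • d₀, D₂.smul_mem t hd₀, hd₀0, smul_ne_zero ht0 hd₀0, ?_⟩
    intro h0
    have h8 : (1 - t) • d₀ = 0 := by
      rw [sub_smul, one_smul, ← h0, sub_self]
    rcases smul_eq_zero.mp h8 with h9 | h9
    · exact ht1 (sub_eq_zero.mp h9).symm
    · exact hd₀0 h9

end Cfsg.Agent.Lib.Helper18.S5664FOALG
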