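import Mathlib

/-!
# S5664 FO-IIalg: the pure field lemma of the maximal-intersection argument
-/

set_option autoImplicit false

namespace Cfsg.Agent.Lib.Helper18.S5664FOIIalg

open Module

variable {F : Type*} [Field F] {L : Type*} [Field L] [Algebra F L]

/-- the trace-like bilinear form `(x, y) ↦ τ (x * y)` -/
noncomputable def trF (τ : L →ₗ[F] F) : LinearMap.BilinForm F L :=
  (LinearMap.mul F L).compr₂ τ

@[simp] lemma trF_apply (τ : L →ₗ[F] F) (x y : L) : trF τ x y = τ (x * y) := by
  simp [trF]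

lemma trF_nondeg (τ : L →ₗ[F] F) (hτ : τ ≠ 0) : (trF τ).Nondegenerate := by
  obtain ⟨x₀, hx₀⟩ : ∃ x₀, τ x₀ ≠ 0 := by
    by_contra hcon
    push Not at hcon
    exact hτ (LinearMap.ext hcon)
  have key : ∀ x : L, (∀ y, τ (x * y) = 0) → x = 0 := by
    intro x hx
    by_contra hx0
    apply hx₀
    have := hx (x⁻¹ * x₀)
    rwa [← mul_assoc, mul_inv_cancel₀ hx0, one_mul] at this
  refine ⟨?_, ?_⟩
  · intro x hx
    apply key
    intro y
    simpa using hx y
  · intro y hy
    apply key
    intro x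
    have := hy x
    simpa [mul_comm] using this

theorem finrank_eq_one_of_tau (hr : (finrank F L).Prime) (τ : L →ₗ[F] F) (hτ : τ ≠ 0)
    (Y D : Submodule F L) (hY : Y ≠ ⊥) (hD : D ≠ ⊥)
    (hsum : finrank F Y + finrank F D = finrank F L)
    (hperp : ∀ y ∈ Y, ∀ d ∈ D, τ (d * y) = 0)
    (h : ∀ a : L, a ≠ 0 → (∃ y ∈ Y, y ≠ 0 ∧ a * y ∈ D) →
      ∀ y' ∈ Y, ∀ y'' ∈ Y, τ (a * y' * y'') = 0) :
    finrank F Y = 1 := by
  classical
  haveI hfin : Module.Finite F L := Module.finite_of_finrank_pos hr.pos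
  -- `Y = D^⊥`
  have hYle : Y ≤ (trF τ).orthogonal D := by
    intro y hy
    rw [LinearMap.BilinForm.mem_orthogonal_iff]
    intro d hd
    simpa using hperp y hy d hd
  have hdim : finrank F ((trF τ).orthogonal D) = finrank F Y := by
    rw [LinearMap.BilinForm.finrank_orthogonal (trF_nondeg τ hτ) D]
    omega
  have hYeq : Y = (trF τ).orthogonal D :=
    Submodule.eq_of_le_of_finrank_eq hYle hdim.symm
  -- a nonzero element of `Y`
  obtain ⟨y, hyY, hy0⟩ := (Submodule.ne_bot_iff Y).mp hY
  -- closure property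
  have hclos : ∀ y' ∈ Y, ∀ y'' ∈ Y, y⁻¹ * (y' * y'') ∈ Y := by
    intro y' hy' y'' hy''
    rw [hYeq, LinearMap.BilinForm.mem_orthogonal_iff]
    intro d hd
    rw [trF_apply]
    by_cases hd0 : d = 0
    · rw [hd0, zero_mul, map_zero]
    · have ha : d * y⁻¹ ≠ 0 := mul_ne_zero hd0 (inv_ne_zero hy0)
      have hex : ∃ y₁ ∈ Y, y₁ ≠ 0 ∧ d * y⁻¹ * y₁ ∈ D :=
        ⟨y, hyY, hy0, by rw [mul_assoc, inv_mul_cancel₀ hy0, mul_one]; exact hd⟩
      have := h (d * y⁻¹) ha hex y' hy' y'' hy''
      rw [show d * (y⁻¹ * (y' * y'')) = d * y⁻¹ * y' * y'' by ring]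
      exact this
  -- the subalgebra `y⁻¹ Y`
  let S : Subalgebra F L :=
    { carrier := {x | y * x ∈ Y}
      mul_mem' := by
        intro a b ha hb
        have := hclos _ ha _ hb
        have e : y⁻¹ * (y * a * (y * b)) = y * (a * b) := by
          field_simp
        rw [e] at this
        exact this
      one_mem' := by
        change y * 1 ∈ Y
        rw [mul_one]; exact hyY
      add_mem' := by
        intro a b ha hb
        change y * (a + b) ∈ Y
        rw [mul_add]
        exact Y.add_mem ha hb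
      zero_mem' := by
        change y * 0 ∈ Y
        rw [mul_zero]; exact Y.zero_mem
      algebraMap_mem' := by
        intro c
        change y * algebraMap F L c ∈ Y
        rw [mul_comm, ← Algebra.smul_def]
        exact Y.smul_mem c hyY }
  have hSmem : ∀ x, x ∈ S ↔ y * x ∈ Y := fun x => Iff.rfl
  -- the linear equivalence `x ↦ y * x`
  let e : L ≃ₗ[F] L :=
    LinearEquiv.ofLinearMap (LinearMap.mulLeft F y) (LinearMap.mulLeft F y⁻¹)
      (by ext x; simp only [LinearMap.comp_apply, LinearMap.mulLeft_apply, LinearMap.id_apply];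
          rw [← mul_assoc, mul_inv_cancel₀ hy0, one_mul])
      (by ext x; simp only [LinearMap.comp_apply, LinearMap.mulLeft_apply, LinearMap.id_apply];
          rw [← mul_assoc, inv_mul_cancel₀ hy0, one_mul])
  have hmap : (Subalgebra.toSubmodule S).map (e : L →ₗ[F] L) = Y := by
    ext x
    constructor
    · rintro ⟨a, ha, rfl⟩
      exact ha
    · intro hx
      refine ⟨y⁻¹ * x, ?_, ?_⟩
      · change y * (y⁻¹ * x) ∈ Y
        rw [← mul_assoc, mul_inv_cancel₀ hy0, one_mul]; exact hx
      · change y * (y⁻¹ * x) = x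
        rw [← mul_assoc, mul_inv_cancel₀ hy0, one_mul]
  have hfr : finrank F Y = finrank F S := by
    rw [← hmap, LinearEquiv.finrank_map_eq]
    rfl
  haveI := Subalgebra.isSimpleOrder_of_finrank_prime F L hr
  rcases eq_bot_or_eq_top S with hS | hS
  · rw [hfr, hS]
    exact Subalgebra.finrank_bot
  · exfalso
    have h1 : finrank F S = finrank F L := by
      rw [hS]; exact (Subalgebra.topEquiv (R := F) (A := L)).toLinearEquiv.finrank_eq
    have h2 : finrank F D = 0 := by omega
    exact hD (Submodule.finrank_eq_zero.mp h2)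

end Cfsg.Agent.Lib.Helper18.S5664FOIIalg
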