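import Mathlib
import Cfsg.Prelude.Def_GeometricClasses
import Cfsg.Agent.H5.HubCorP4

/-!
# S5673 O-T33, part (a): tensor-coordinate lemmas on helper5's normal form `wm` (helper18)
-/

set_option autoImplicit false

namespace Cfsg.Agent.Lib.Helper18.S5673OT33

open Matrix Cfsg Cfsg.Geo Cfsg.H5.HubCor

variable {F : Type*} [Field F] {m t : ℕ}

/-- the transpose of a `wm` -/
theorem wm_transpose (σ : Equiv.Perm (Fin t)) (gs : Fin t → Matrix (Fin m) (Fin m) F) :
    (wm m t σ gs)ᵀ = wm m t σ⁻¹ (fun j => (gs (σ⁻¹ j))ᵀ) := by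
  funext x y
  rw [Matrix.transpose_apply, wm_apply, wm_apply]
  rw [← Equiv.prod_comp σ (fun j => (gs (σ⁻¹ j))ᵀ (x j) (y (σ⁻¹ j)))]
  refine Finset.prod_congr rfl (fun i _ => ?_)
  simp [Matrix.transpose_apply]

/-- the pure tensor power of one matrix -/
def pt (t : ℕ) (V : Matrix (Fin m) (Fin m) F) : Matrix (Fin t → Fin m) (Fin t → Fin m) F :=
  wm m t 1 (fun _ => V)

theorem pt_apply (V : Matrix (Fin m) (Fin m) F) (a b : Fin t → Fin m) : pt t V a b = ∏ i, V (a i) (b i) := by
  unfold pt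
  rw [wm_apply]
  rfl

theorem pt_transpose (V : Matrix (Fin m) (Fin m) F) : (pt t V)ᵀ = pt t Vᵀ := by
  unfold pt
  rw [wm_transpose]
  simp

theorem pt_mul (A B : Matrix (Fin m) (Fin m) F) : pt t A * pt t B = pt t (A * B) := by
  unfold pt
  rw [wm_mul]
  simp

theorem pt_one : pt t (1 : Matrix (Fin m) (Fin m) F) = 1 := by
  unfold pt
  exact wm_one

theorem pt_smul_one (ε : F) (a b : Fin t → Fin m) :
    pt t (ε • (1 : Matrix (Fin m) (Fin m) F)) a b = if a = b then ε ^ t else 0 := by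
  rw [pt_apply]
  by_cases h : a = b
  · subst h
    simp
  · rw [if_neg h]
    obtain ⟨i, hi⟩ : ∃ i, a i ≠ b i := by
      by_contra hcon
      push Not at hcon
      exact h (funext hcon)
    apply Finset.prod_eq_zero (Finset.mem_univ i)
    simp [Matrix.one_apply_ne hi]

/-- conjugating the form `pt G` by a `wm`: the twisted factors -/
theorem wm_transpose_mul_pt_mul_wm (τ : Equiv.Perm (Fin t)) (gs : Fin t → Matrix (Fin m) (Fin m) F)
    (G : Matrix (Fin m) (Fin m) F) :
    (wm m t τ gs)ᵀ * pt t G * wm m t τ gs =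
      wm m t 1 (fun j => (gs (τ⁻¹ j))ᵀ * G * gs (τ⁻¹ j)) := by
  unfold pt
  rw [wm_transpose, wm_mul, wm_mul]
  have h1 : τ * (1 * τ⁻¹) = 1 := by simp
  rw [h1]
  congr 1

/-- uniqueness of tensor factors up to scalars -/
theorem factor_eq_smul (A : Fin t → Matrix (Fin m) (Fin m) F) (G : Matrix (Fin m) (Fin m) F) (p q : Fin m)
    (hpq : G p q ≠ 0) (h : wm m t 1 A = pt t G) (j₀ : Fin t) : ∃ c : F, c ≠ 0 ∧ A j₀ = c • G := by
  have hval : ∀ x y : Fin t → Fin m, ∏ j, A j (x j) (y j) = ∏ j, G (x j) (y j) := by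
    intro x y
    have := congrFun (congrFun h x) y
    rw [wm_apply, pt_apply] at this
    exact this
  have hne : ∀ j, A j p q ≠ 0 := by
    have h1 := hval (fun _ => p) (fun _ => q)
    have h2 : ∏ _j : Fin t, G p q ≠ 0 := Finset.prod_ne_zero_iff.2 (fun _ _ => hpq)
    rw [← h1] at h2
    exact fun j => Finset.prod_ne_zero_iff.1 h2 j (Finset.mem_univ j)
  set Pa : F := ∏ j ∈ Finset.univ.erase j₀, A j p q with hPa
  set Pg : F := ∏ _j ∈ Finset.univ.erase j₀, G p q with hPg
  have hPa0 : Pa ≠ 0 := Finset.prod_ne_zero_iff.2 (fun j _ => hne j)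
  have hPg0 : Pg ≠ 0 := Finset.prod_ne_zero_iff.2 (fun _ _ => hpq)
  refine ⟨Pg / Pa, div_ne_zero hPg0 hPa0, ?_⟩
  ext u v
  have h1 := hval (Function.update (fun _ => p) j₀ u) (Function.update (fun _ => q) j₀ v)
  rw [← Finset.mul_prod_erase Finset.univ _ (Finset.mem_univ j₀),
    ← Finset.mul_prod_erase Finset.univ _ (Finset.mem_univ j₀)] at h1
  simp only [Function.update_self] at h1
  have e1 : ∏ j ∈ Finset.univ.erase j₀, A j (Function.update (fun _ => p) j₀ u j)
      (Function.update (fun _ => q) j₀ v j) = Pa := by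
    refine Finset.prod_congr rfl (fun j hj => ?_)
    have hjne : j ≠ j₀ := Finset.ne_of_mem_erase hj
    rw [Function.update_of_ne hjne, Function.update_of_ne hjne]
  have e2 : ∏ j ∈ Finset.univ.erase j₀, G (Function.update (fun _ => p) j₀ u j)
      (Function.update (fun _ => q) j₀ v j) = Pg := by
    refine Finset.prod_congr rfl (fun j hj => ?_)
    have hjne : j ≠ j₀ := Finset.ne_of_mem_erase hj
    rw [Function.update_of_ne hjne, Function.update_of_ne hjne]
  rw [e1, e2] at h1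
  rw [Matrix.smul_apply, smul_eq_mul]
  field_simp
  linear_combination h1

end Cfsg.Agent.Lib.Helper18.S5673OT33
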