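import Mathlib
import Cfsg.Prelude.Def_GeometricClasses
import Cfsg.Agent.H5.HubCorP4
import Cfsg.Agent.Lib.Helper18.S5673OT33a

/-!
# S5673 O-T33, part (b): orthogonal similitudes of `ε • 1` over `F₃` are signed permutations; the action of a `wm` on the
tensor frame (helper18)
-/

set_option autoImplicit false

namespace Cfsg.Agent.Lib.Helper18.S5673OT33

open Matrix Cfsg Cfsg.Geo Cfsg.H5.HubCor

section three
variable {F : Type*} [Field F] [Fintype F]

theorem sq_eq_one_of_ne_zero (hq : Fintype.card F = 3) {x : F} (hx : x ≠ 0) : x * x = 1 := by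
  have := FiniteField.pow_card_sub_one_eq_one x hx
  rw [hq] at this
  rw [← sq]
  exact this

theorem cube_eq_self (hq : Fintype.card F = 3) (x : F) : x ^ 3 = x := by
  have := FiniteField.pow_card x
  rw [hq] at this
  exact this

theorem charP_three (hq : Fintype.card F = 3) : CharP F 3 := by
  have h3 : ((3 : ℕ) : F) = 0 := by
    have := FiniteField.cast_card_eq_zero F
    rw [hq] at this
    exact this
  have hd : ringChar F ∣ 3 := ringChar.dvd h3
  have h1 : ringChar F ≠ 1 := CharP.ringChar_ne_one
  rcases (Nat.dvd_prime Nat.prime_three).1 hd with h | h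
  · exact absurd h h1
  · exact ringChar.of_eq h

/-- over `F₃`, a `3 × 3` matrix with `Mᵀ M = c • 1`, `c ≠ 0`, is a signed permutation matrix -/
theorem signedPerm_of_orth (hq : Fintype.card F = 3) (M : Matrix (Fin 3) (Fin 3) F) (c : F) (hc : c ≠ 0)
    (h : Mᵀ * M = c • (1 : Matrix (Fin 3) (Fin 3) F)) :
    ∃ π : Equiv.Perm (Fin 3), ∀ q p, M p q ≠ 0 ↔ p = π q := by
  classical
  haveI := charP_three hq
  -- `c = 1`
  have hdet : M.det * M.det = c ^ 3 := by
    have := congrArg Matrix.det h
    rw [Matrix.det_mul, Matrix.det_transpose, Matrix.det_smul, Matrix.det_one, Fintype.card_fin, mul_one] at this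
    exact this
  have hd0 : M.det ≠ 0 := by
    intro h0
    rw [h0, mul_zero] at hdet
    exact hc (pow_eq_zero_iff (by norm_num) |>.1 hdet.symm)
  have hc1 : c = 1 := by
    rw [cube_eq_self hq, sq_eq_one_of_ne_zero hq hd0] at hdet
    exact hdet.symm
  subst hc1
  rw [one_smul] at h
  -- each column has exactly one non-zero entry
  have hcol : ∀ q : Fin 3, ∃ p : Fin 3, ∀ p', M p' q ≠ 0 ↔ p' = p := by
    intro q
    have h1 := congrFun (congrFun h q) q
    rw [Matrix.mul_apply, Matrix.one_apply_eq] at h1
    have h2 : ∀ p : Fin 3, Mᵀ q p * M p q = if M p q ≠ 0 then (1 : F) else 0 := by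
      intro p
      rw [Matrix.transpose_apply]
      by_cases hp : M p q = 0
      · rw [hp, mul_zero, if_neg (not_not.2 rfl)]
      · rw [if_pos hp, sq_eq_one_of_ne_zero hq hp]
    simp only [h2] at h1
    rw [Finset.sum_boole] at h1
    set S := Finset.filter (fun p : Fin 3 => M p q ≠ 0) Finset.univ with hS
    have h3 : S.card ≡ 1 [MOD 3] := by
      rw [← CharP.natCast_eq_natCast F 3]
      simpa using h1
    have h4 : S.card ≤ 3 := by
      have := Finset.card_le_univ S
      simpa using this
    have h5 : S.card = 1 := by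
      unfold Nat.ModEq at h3
      omega
    obtain ⟨p, hp⟩ := Finset.card_eq_one.1 h5
    refine ⟨p, fun p' => ?_⟩
    have : p' ∈ S ↔ p' = p := by rw [hp, Finset.mem_singleton]
    rw [← this, hS, Finset.mem_filter]
    simp
  choose πf hπf using hcol
  have hinj : Function.Injective πf := by
    intro q q' hqq
    by_contra hne
    have h1 := congrFun (congrFun h q) q'
    rw [Matrix.mul_apply, Matrix.one_apply_ne hne] at h1
    rw [Finset.sum_eq_single (πf q)] at h1
    · rw [Matrix.transpose_apply] at h1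
      rcases mul_eq_zero.1 h1 with h2 | h2
      · exact ((hπf q (πf q)).2 rfl) h2
      · exact ((hπf q' (πf q)).2 hqq) h2
    · intro p _ hp
      rw [Matrix.transpose_apply]
      have : M p q = 0 := by
        by_contra h0
        exact hp ((hπf q p).1 h0)
      rw [this, zero_mul]
    · intro h0
      exact absurd (Finset.mem_univ _) h0
  exact ⟨Equiv.ofBijective πf (Finite.injective_iff_bijective.1 hinj), fun q p => hπf q p⟩

end three

section action
variable {F : Type*} [Field F] {m t : ℕ}

/-- the frame vector `⊗ v_{a_i}`: the column `a` of `pt t V` -/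
def wv (V : Matrix (Fin m) (Fin m) F) (a : Fin t → Fin m) : (Fin t → Fin m) → F := fun b => pt t V b a

theorem wv_apply (V : Matrix (Fin m) (Fin m) F) (a b : Fin t → Fin m) : wv V a b = ∏ i, V (b i) (a i) := by
  unfold wv
  rw [pt_apply]

/-- a `wm` whose factors are monomial in the basis `V` permutes the frame vectors up to scalars -/
theorem wm_mulVec_wv (τ : Equiv.Perm (Fin t)) (gs : Fin t → Matrix (Fin m) (Fin m) F)
    (V : Matrix (Fin m) (Fin m) F) (M : Fin t → Matrix (Fin m) (Fin m) F) (π : Fin t → Equiv.Perm (Fin m))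
    (hgV : ∀ i, gs i * V = V * M i) (hM : ∀ i q p, M i p q ≠ 0 ↔ p = π i q) (a : Fin t → Fin m) :
    wm m t τ gs *ᵥ wv V a =
      (∏ i, M i (π i (a (τ i))) (a (τ i))) • wv V (fun i => π i (a (τ i))) := by
  funext b
  have h1 : (wm m t τ gs *ᵥ wv V a) b = (wm m t τ gs * pt t V) b a := by
    rw [Matrix.mulVec, dotProduct, Matrix.mul_apply]
    rfl
  rw [h1]
  unfold pt
  rw [wm_mul, wm_apply, Pi.smul_apply, smul_eq_mul, wv_apply, ← Finset.prod_mul_distrib]
  refine Finset.prod_congr rfl (fun i _ => ?_)
  rw [hgV i, Matrix.mul_apply]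
  have e : ((1 : Equiv.Perm (Fin t)) * τ) i = τ i := by simp
  rw [e, Finset.sum_eq_single (π i (a (τ i)))]
  · ring
  · intro p _ hp
    have : M i p (a (τ i)) = 0 := by
      by_contra h0
      exact hp ((hM i (a (τ i)) p).1 h0)
    rw [this, mul_zero]
  · intro h0
    exact absurd (Finset.mem_univ _) h0

/-- the tensor form on the frame vectors -/
theorem form_wv (V G : Matrix (Fin m) (Fin m) F) (ε : F) (hV : Vᵀ * G * V = ε • (1 : Matrix (Fin m) (Fin m) F))
    (a b : Fin t → Fin m) :
    (∑ x, ∑ y, wv V a x * (∏ i, G (x i) (y i)) * wv V b y) = if a = b then ε ^ t else 0 := by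
  rw [← pt_smul_one, ← hV, ← pt_mul, ← pt_mul, ← pt_transpose, Matrix.mul_apply, Finset.sum_comm]
  refine Finset.sum_congr rfl (fun y _ => ?_)
  rw [Matrix.mul_apply, Finset.sum_mul]
  refine Finset.sum_congr rfl (fun x _ => ?_)
  rw [Matrix.transpose_apply, pt_apply (t := t) G]
  rfl

end action

end Cfsg.Agent.Lib.Helper18.S5673OT33
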