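import Mathlib
import Cfsg.Prelude.Def_GeometricClasses
import Cfsg.Agent.Lib.Helper7.AschDefs
import Cfsg.Agent.Lib.Helper17.AschODefs
import Cfsg.Agent.Lib.Helper16.GeoTRDefs
import Cfsg.Agent.H5.HubCorP4
import Cfsg.Agent.Lib.Helper18.S5673OT33b

/-!
# S5673 O-T33, part (c): an orthogonal frame permuted up to scalars puts `H` into class 2 (frame over a prime field)
(helper18)
-/

set_option autoImplicit false

namespace Cfsg.Agent.Lib.Helper18.S5673OT33

open Matrix Module Cfsg Cfsg.Geo Cfsg.H5.HubCor Cfsg.Agent.Lib.Helper17.AschO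

variable {F : Type*} [Field F] [Fintype F] {n : ℕ} {Q : (Fin n → F) → F}

theorem two_ne_zero_of_odd_card' (hq : Odd (Fintype.card F)) : (2 : F) ≠ 0 := by
  intro h2
  have hc : ringChar F = 2 := CharP.ringChar_of_prime_eq_zero Nat.prime_two (by exact_mod_cast h2)
  have := FiniteField.even_card_of_char_two hc
  rcases hq with ⟨k, hk⟩
  omega

theorem polar_self' (hQ : IsNondegenerateQuadraticForm Q) (x : Fin n → F) :
    QuadraticMap.polar Q x x = 2 * Q x := by
  have h1 : x + x = (2 : F) • x := (two_smul F x).symm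
  unfold QuadraticMap.polar
  rw [h1, hQ.smul]
  ring

/-- an orthogonal frame of vectors of equal norm, permuted up to scalars by `H`, over a prime field -/
theorem inClassO_of_orth_frame (S : OSetup Q) (hqp : (Fintype.card F).Prime) (hn2 : 2 ≤ n)
    (H : Subgroup (GL (Fin n) F)) (hHI : H ≤ isometryGroup F Q) (v : Fin n → (Fin n → F)) (κ : F) (hκ : κ ≠ 0)
    (hv : ∀ i j, QuadraticMap.polar Q (v i) (v j) = if i = j then κ else 0)
    (hperm : ∀ h ∈ H, ∃ σ : Equiv.Perm (Fin n), ∀ i, ∃ s : F, s ≠ 0 ∧
      (h : Matrix (Fin n) (Fin n) F) *ᵥ v i = s • v (σ i)) : InClassO n Q H := by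
  have hB : IsBilinearForm (QuadraticMap.polar Q) := S.quad.polar_bilinear
  have hB0 : ∀ y, QuadraticMap.polar Q 0 y = 0 := by
    intro y
    have := hB.smul_left 0 0 y
    rw [zero_smul, zero_mul] at this
    exact this
  have hv0 : ∀ i, v i ≠ 0 := by
    intro i h0
    have := hv i i
    rw [if_pos rfl, h0, hB0] at this
    exact hκ this.symm
  -- linear independence
  have hli : LinearIndependent F v := by
    rw [linearIndependent_iff']
    intro s g hsum i hi
    let L : (Fin n → F) →ₗ[F] F :=
      { toFun := fun x => QuadraticMap.polar Q x (v i)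
        map_add' := fun a b => hB.add_left a b (v i)
        map_smul' := fun c a => by
          simp only [RingHom.id_apply, smul_eq_mul]
          exact hB.smul_left c a (v i) }
    have h1 := congrArg L hsum
    rw [map_sum, map_zero] at h1
    have h2 : ∀ j ∈ s, L (g j • v j) = if j = i then g i * κ else 0 := by
      intro j _
      change QuadraticMap.polar Q (g j • v j) (v i) = _
      rw [hB.smul_left, hv]
      by_cases hji : j = i
      · subst hji
        simp
      · simp [hji]
    rw [Finset.sum_congr rfl h2, Finset.sum_ite_eq' s i, if_pos hi] at h1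
    exact (mul_eq_zero.1 h1).resolve_right hκ
  set D : Fin n → Submodule F (Fin n → F) := fun i => F ∙ v i with hD
  have hQv : ∀ i j, Q (v i) = Q (v j) := by
    intro i j
    have h2 := two_ne_zero_of_odd_card' S.odd_card
    have hi := polar_self' S.quad (v i)
    have hj := polar_self' S.quad (v j)
    rw [hv, if_pos rfl] at hi hj
    have : (2 : F) * Q (v i) = 2 * Q (v j) := by rw [← hi, ← hj]
    exact mul_left_cancel₀ h2 this
  have hdec : IsOrthogonalMDecomposition Q 1 D := by
    refine ⟨⟨⟨hn2, one_pos, fun i => finrank_span_singleton (hv0 i), hli.iSupIndep_span_singleton, ?_⟩, ?_, ?_⟩, ?_⟩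
    · rw [hD, ← Submodule.span_range_eq_iSup]
      exact hli.span_eq_top_of_card_eq_finrank' (by simp)
    · intro i w hw hw0
      obtain ⟨r, rfl⟩ := Submodule.mem_span_singleton.1 hw
      have hr : r ≠ 0 := by
        rintro rfl
        exact hw0 (zero_smul _ _)
      refine ⟨⟨v i, Submodule.mem_span_singleton_self _, ?_⟩, ⟨v i, Submodule.mem_span_singleton_self _, ?_⟩⟩
      · rw [hB.smul_right, hv, if_pos rfl]
        exact mul_ne_zero hr hκ
      · rw [hB.smul_left, hv, if_pos rfl]
        exact mul_ne_zero hr hκ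
    · intro i j hij u hu w hw
      obtain ⟨r, rfl⟩ := Submodule.mem_span_singleton.1 hu
      obtain ⟨s, rfl⟩ := Submodule.mem_span_singleton.1 hw
      rw [hB.smul_left, hB.smul_right, hv, if_neg hij]
      ring
    · intro i j
      refine ⟨(LinearEquiv.toSpanNonzeroSingleton F _ (v i) (hv0 i)).symm.trans
        (LinearEquiv.toSpanNonzeroSingleton F _ (v j) (hv0 j)), fun w => ?_⟩
      set r : F := (LinearEquiv.toSpanNonzeroSingleton F _ (v i) (hv0 i)).symm w with hr
      have hw : (w : Fin n → F) = r • v i :=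
        (LinearEquiv.toSpanNonzeroSingleton_symm_apply_smul F _ (v i) (hv0 i) w).symm
      have he : ((((LinearEquiv.toSpanNonzeroSingleton F _ (v i) (hv0 i)).symm.trans
          (LinearEquiv.toSpanNonzeroSingleton F _ (v j) (hv0 j))) w : D j) : Fin n → F) = r • v j := by
        rw [LinearEquiv.trans_apply, LinearEquiv.toSpanNonzeroSingleton_apply]
      rw [he, hw, S.quad.smul, S.quad.smul, hQv i j]
  have hH : H ≤ decompositionStabilizer D := by
    intro h hh
    obtain ⟨σ, hσ⟩ := hperm h hh
    refine ⟨σ, fun i => ?_⟩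
    obtain ⟨s, hs, hsv⟩ := hσ i
    change (F ∙ v i).map (Matrix.toLin' (h : Matrix (Fin n) (Fin n) F)) = F ∙ v (σ i)
    rw [Submodule.map_span, Set.image_singleton, Matrix.toLin'_apply, hsv]
    exact Submodule.span_singleton_smul_eq (IsUnit.mk0 s hs) _
  exact InClassO.of_frame H hHI D hqp hdec hH

end Cfsg.Agent.Lib.Helper18.S5673OT33
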