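import Mathlib
import Cfsg.Prelude.Def_GeometricClasses
import Cfsg.Agent.Lib.Helper7.AschDefs
import Cfsg.Agent.Lib.Helper17.AschODefs
import Cfsg.Agent.H5.HubCorP4
import Cfsg.Agent.Lib.Helper18.S5673OT33c

/-!
# S5673 O-T33, part (d): the corner `(q, k) = (3, 3)` of class 7 is an orthogonal frame (helper18)

`inClassO_of_tensorWreath_33_of` : the statement of helper17's stub with the normal form `Vᵀ G₁ V = ε • 1` as a hypothesis.
-/

set_option autoImplicit false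

namespace Cfsg.Agent.Lib.Helper18.S5673OT33

open Matrix Module Cfsg Cfsg.Geo Cfsg.H5.HubCor Cfsg.Agent.Lib.Helper17.AschO

variable {F : Type*} [Field F] [Fintype F] {n : ℕ} {Q : (Fin n → F) → F}

theorem mat_eq_of_forall_dot {κ : Type} [Fintype κ] [DecidableEq κ] (A B : Matrix κ κ F)
    (h : ∀ x y : κ → F, x ⬝ᵥ A *ᵥ y = x ⬝ᵥ B *ᵥ y) : A = B := by
  ext a b
  have := h (Pi.single a 1) (Pi.single b 1)
  simpa [Matrix.mulVec_single_one, single_one_dotProduct] using this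

theorem sum_sum_eq_dot {κ : Type} [Fintype κ] (A : Matrix κ κ F) (x y : κ → F) :
    (∑ a, ∑ b, x a * A a b * y b) = x ⬝ᵥ A *ᵥ y := by
  rw [dotProduct]
  refine Finset.sum_congr rfl (fun a _ => ?_)
  rw [Matrix.mulVec, dotProduct, Finset.mul_sum]
  refine Finset.sum_congr rfl (fun b _ => ?_)
  ring

theorem polar_of_isometry (g : GL (Fin n) F) (hg : g ∈ isometryGroup F Q) (u v : Fin n → F) :
    QuadraticMap.polar Q ((g : Matrix (Fin n) (Fin n) F) *ᵥ u) ((g : Matrix (Fin n) (Fin n) F) *ᵥ v) =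
      QuadraticMap.polar Q u v := by
  have h1 : ∀ x, Q ((g : Matrix (Fin n) (Fin n) F) *ᵥ x) = Q x := fun x => hg x x
  unfold QuadraticMap.polar
  rw [← Matrix.mulVec_add, h1, h1, h1]

/-- **O-T33** with the normal form of `G₁` as a hypothesis -/
theorem inClassO_of_tensorWreath_33_of (S : OSetup Q) (hq : Fintype.card F = 3) (H : Subgroup (GL (Fin n) F))
    (hHI : H ≤ isometryGroup F Q) (t : ℕ) (ht : 2 ≤ t) (e : Fin n ≃ (Fin t → Fin 3)) (P : GL (Fin n) F)
    (G₁ : Matrix (Fin 3) (Fin 3) F) (hG₁ : IsUnit G₁)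
    (hH : H ≤ tensorWreathSubgroup 3 t e P) (c : F) (hc : c ≠ 0)
    (hform : ∀ x y : (Fin t → Fin 3) → F,
      QuadraticMap.polar Q ((P : Matrix (Fin n) (Fin n) F) *ᵥ (x ∘ e)) ((P : Matrix (Fin n) (Fin n) F) *ᵥ (y ∘ e)) =
        c * ∑ a, ∑ b, x a * (∏ i, G₁ (a i) (b i)) * y b)
    (hstd : ∃ (V : Matrix (Fin 3) (Fin 3) F) (ε : F), ε ≠ 0 ∧
      Vᵀ * G₁ * V = ε • (1 : Matrix (Fin 3) (Fin 3) F)) : InClassO n Q H := by
  classical
  obtain ⟨V, ε, hε, hV⟩ := hstd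
  have hVdet : IsUnit V.det := by
    have h1 := congrArg Matrix.det hV
    rw [Matrix.det_mul, Matrix.det_mul, Matrix.det_transpose, Matrix.det_smul, Matrix.det_one, mul_one,
      Fintype.card_fin] at h1
    rw [isUnit_iff_ne_zero]
    intro h0
    rw [h0, zero_mul, zero_mul] at h1
    exact hε (pow_eq_zero_iff (by norm_num) |>.1 h1.symm)
  set φ : ((Fin t → Fin 3) → F) → (Fin n → F) := fun x => (P : Matrix (Fin n) (Fin n) F) *ᵥ (x ∘ e) with hφ
  have hφsmul : ∀ (s : F) (x : (Fin t → Fin 3) → F), φ (s • x) = s • φ x := by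
    intro s x
    change (P : Matrix (Fin n) (Fin n) F) *ᵥ ((s • x) ∘ e) = s • ((P : Matrix (Fin n) (Fin n) F) *ᵥ (x ∘ e))
    rw [← Matrix.mulVec_smul]
    rfl
  set v : Fin n → (Fin n → F) := fun i => φ (wv V (e i)) with hv
  have hvv : ∀ i j, QuadraticMap.polar Q (v i) (v j) = if i = j then c * ε ^ t else 0 := by
    intro i j
    change QuadraticMap.polar Q ((P : Matrix (Fin n) (Fin n) F) *ᵥ (wv V (e i) ∘ e))
      ((P : Matrix (Fin n) (Fin n) F) *ᵥ (wv V (e j) ∘ e)) = _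
    rw [hform, form_wv V G₁ ε hV]
    by_cases hij : i = j
    · subst hij
      simp
    · have : e i ≠ e j := fun h => hij (e.injective h)
      simp [hij, this]
  have hn : n = 3 ^ t := by
    have := Fintype.card_congr e
    simpa using this
  have hn2 : 2 ≤ n := by
    rw [hn]
    calc 2 ≤ 3 ^ 2 := by norm_num
      _ ≤ 3 ^ t := Nat.pow_le_pow_right (by norm_num) ht
  have hqp : (Fintype.card F).Prime := by
    rw [hq]
    exact Nat.prime_three
  apply inClassO_of_orth_frame S hqp hn2 H hHI v (c * ε ^ t) (mul_ne_zero hc (pow_ne_zero _ hε)) hvv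
  intro h hh
  -- the normal form of `h`
  obtain ⟨y, ⟨w, hw, rfl⟩, hy⟩ := hH hh
  have hval : (h : Matrix (Fin n) (Fin n) F) = (P : Matrix (Fin n) (Fin n) F) *
      ((glReindex e.symm w : GL (Fin n) F) : Matrix (Fin n) (Fin n) F) *
      ((P⁻¹ : GL (Fin n) F) : Matrix (Fin n) (Fin n) F) := by
    rw [← hy]
    rfl
  have hre : ∀ x : (Fin t → Fin 3) → F,
      ((glReindex e.symm w : GL (Fin n) F) : Matrix (Fin n) (Fin n) F) *ᵥ (x ∘ e) =
        ((w : Matrix (Fin t → Fin 3) (Fin t → Fin 3) F) *ᵥ x) ∘ e := by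
    intro x
    ext i
    rw [Function.comp_apply, Matrix.mulVec, Matrix.mulVec, dotProduct, dotProduct, ← Equiv.sum_comp e]
    rfl
  have hact : ∀ x : (Fin t → Fin 3) → F, (h : Matrix (Fin n) (Fin n) F) *ᵥ φ x =
      φ ((w : Matrix (Fin t → Fin 3) (Fin t → Fin 3) F) *ᵥ x) := by
    intro x
    change (h : Matrix (Fin n) (Fin n) F) *ᵥ ((P : Matrix (Fin n) (Fin n) F) *ᵥ (x ∘ e)) =
      (P : Matrix (Fin n) (Fin n) F) *ᵥ (((w : Matrix (Fin t → Fin 3) (Fin t → Fin 3) F) *ᵥ x) ∘ e)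
    rw [← hre, hval, Matrix.mulVec_mulVec, Matrix.mulVec_mulVec]
    congr 1
    rw [mul_assoc, Units.inv_mul, mul_one]
  obtain ⟨τ, gs, hW⟩ := exists_wm_of_mem w hw
  -- invariance of the tensor form
  have hinv : (wm 3 t τ gs)ᵀ * pt t G₁ * wm 3 t τ gs = pt t G₁ := by
    apply mat_eq_of_forall_dot
    intro x y
    have h1 := polar_of_isometry h (hHI hh) (φ x) (φ y)
    rw [hact, hact] at h1
    change QuadraticMap.polar Q
      ((P : Matrix (Fin n) (Fin n) F) *ᵥ (((w : Matrix (Fin t → Fin 3) (Fin t → Fin 3) F) *ᵥ x) ∘ e))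
      ((P : Matrix (Fin n) (Fin n) F) *ᵥ (((w : Matrix (Fin t → Fin 3) (Fin t → Fin 3) F) *ᵥ y) ∘ e)) =
      QuadraticMap.polar Q ((P : Matrix (Fin n) (Fin n) F) *ᵥ (x ∘ e))
        ((P : Matrix (Fin n) (Fin n) F) *ᵥ (y ∘ e)) at h1
    rw [hform, hform] at h1
    have h2 := mul_left_cancel₀ hc h1
    have e1 : ∀ a b : Fin t → Fin 3, (∏ i, G₁ (a i) (b i)) = pt t G₁ a b := fun a b => (pt_apply G₁ a b).symm
    simp only [e1] at h2
    rw [sum_sum_eq_dot, sum_sum_eq_dot, hW] at h2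
    have hdl : ∀ (k : Matrix (Fin t → Fin 3) (Fin t → Fin 3) F) (u z : (Fin t → Fin 3) → F),
        (k *ᵥ u) ⬝ᵥ z = u ⬝ᵥ (kᵀ *ᵥ z) := by
      intro k u z
      rw [dotProduct_comm, Matrix.dotProduct_mulVec, ← Matrix.mulVec_transpose, dotProduct_comm]
    rw [← h2, hdl, Matrix.mulVec_mulVec, Matrix.mulVec_mulVec]
  rw [wm_transpose_mul_pt_mul_wm] at hinv
  -- the factors are similitudes of `G₁`
  obtain ⟨p, q, hpq⟩ : ∃ p q, G₁ p q ≠ 0 := by
    by_contra hcon
    push Not at hcon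
    have : G₁ = 0 := by
      ext a b
      exact hcon a b
    rw [this] at hG₁
    exact not_isUnit_zero hG₁
  have hsim : ∀ i, ∃ l : F, l ≠ 0 ∧ (gs i)ᵀ * G₁ * gs i = l • G₁ := by
    intro i
    obtain ⟨l, hl, h1⟩ := factor_eq_smul _ G₁ p q hpq hinv (τ i)
    refine ⟨l, hl, ?_⟩
    simpa using h1
  choose l hl hlG using hsim
  -- the monomial matrices
  obtain ⟨M, hM⟩ : ∃ M : Fin t → Matrix (Fin 3) (Fin 3) F, M = fun i => V⁻¹ * gs i * V := ⟨_, rfl⟩
  have hgV : ∀ i, gs i * V = V * M i := by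
    intro i
    rw [hM]
    simp only
    rw [← mul_assoc, ← mul_assoc, Matrix.mul_nonsing_inv V hVdet, one_mul]
  have hMM : ∀ i, (M i)ᵀ * M i = l i • (1 : Matrix (Fin 3) (Fin 3) F) := by
    intro i
    apply smul_right_injective _ hε
    change ε • ((M i)ᵀ * M i) = ε • (l i • (1 : Matrix (Fin 3) (Fin 3) F))
    calc ε • ((M i)ᵀ * M i) = (M i)ᵀ * (ε • (1 : Matrix (Fin 3) (Fin 3) F)) * M i := by
          rw [Matrix.mul_smul, Matrix.smul_mul, mul_one]
      _ = (V * M i)ᵀ * G₁ * (V * M i) := by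
          rw [← hV, Matrix.transpose_mul]
          simp only [mul_assoc]
      _ = Vᵀ * ((gs i)ᵀ * G₁ * gs i) * V := by
          rw [← hgV, Matrix.transpose_mul]
          simp only [mul_assoc]
      _ = ε • (l i • (1 : Matrix (Fin 3) (Fin 3) F)) := by
          rw [hlG, Matrix.mul_smul, Matrix.smul_mul, hV, smul_comm]
  have hperm : ∀ i, ∃ π : Equiv.Perm (Fin 3), ∀ q p, M i p q ≠ 0 ↔ p = π q :=
    fun i => signedPerm_of_orth hq (M i) (l i) (hl i) (hMM i)
  choose π hπ using hperm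
  -- the permutation of the frame
  let σT : Equiv.Perm (Fin t → Fin 3) :=
    (Equiv.arrowCongr τ.symm (Equiv.refl (Fin 3))).trans (Equiv.piCongrRight π)
  have hσT : ∀ a : Fin t → Fin 3, σT a = fun i => π i (a (τ i)) := by
    intro a
    funext i
    simp [σT, Equiv.arrowCongr]
  refine ⟨e.trans (σT.trans e.symm), fun i => ?_⟩
  refine ⟨∏ i', M i' (π i' (e i (τ i'))) (e i (τ i')), ?_, ?_⟩
  · exact Finset.prod_ne_zero_iff.2 (fun i' _ => (hπ i' _ _).2 rfl)
  · change (h : Matrix (Fin n) (Fin n) F) *ᵥ φ (wv V (e i)) = _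
    rw [hact, hW, wm_mulVec_wv τ gs V M π hgV hπ (e i), hφsmul]
    congr 2
    change wv V (fun i' => π i' (e i (τ i'))) = wv V (e ((e.trans (σT.trans e.symm)) i))
    rw [Equiv.trans_apply, Equiv.trans_apply, Equiv.apply_symm_apply, hσT]

end Cfsg.Agent.Lib.Helper18.S5673OT33
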