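import Mathlib
import Cfsg.Prelude.Def_GeometricClasses
import Cfsg.Agent.Lib.Helper7.AschDefs
import Cfsg.Agent.Lib.Helper17.AschODefs
import Cfsg.Agent.Lib.Helper20.S5673O4d3
import Cfsg.Agent.Lib.Helper18.S5673OT33d

/-!
# S5673 O-T33 `inClassO_of_tensorWreath_33` (helper18): exact signature of `Lib/Helper17/AschOTop.lean`
-/

set_option autoImplicit false

namespace Cfsg.Agent.Lib.Helper18.S5673OT33

open Matrix Cfsg Cfsg.Geo Cfsg.Agent.Lib.Helper7.Asch Cfsg.Agent.Lib.Helper17.AschO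

variable {F : Type*} [Field F] [Fintype F] {n : ℕ} {Q : (Fin n → F) → F}

/-- **O-T33** the corner `(q, k) = (3, 3)` of class 7: an orthogonal frame -/
theorem inClassO_of_tensorWreath_33 (S : OSetup Q) (hq : Fintype.card F = 3) (H : Subgroup (GL (Fin n) F))
    (hHI : H ≤ isometryGroup F Q) (t : ℕ) (ht : 2 ≤ t) (e : Fin n ≃ (Fin t → Fin 3)) (P : GL (Fin n) F)
    (G₁ : Matrix (Fin 3) (Fin 3) F) (hG₁ : IsUnit G₁) (hsym : G₁ᵀ = G₁)
    (hH : H ≤ tensorWreathSubgroup 3 t e P) (c : F) (hc : c ≠ 0)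
    (hform : ∀ x y : (Fin t → Fin 3) → F,
      QuadraticMap.polar Q ((P : Matrix (Fin n) (Fin n) F) *ᵥ (x ∘ e)) ((P : Matrix (Fin n) (Fin n) F) *ᵥ (y ∘ e)) =
        c * ∑ a, ∑ b, x a * (∏ i, G₁ (a i) (b i)) * y b) : InClassO n Q H := by
  refine inClassO_of_tensorWreath_33_of S hq H hHI t ht e P G₁ hG₁ hH c hc hform ?_
  obtain ⟨μ, a, hμ, ha⟩ := Cfsg.Agent.Lib.Helper20.S5673O4d3.exists_similar_of_odd S.odd_card
    (by decide : Odd 3) G₁ (1 : Matrix (Fin 3) (Fin 3) F) hG₁ isUnit_one hsym Matrix.transpose_one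
  refine ⟨(a : Matrix (Fin 3) (Fin 3) F), μ⁻¹, inv_ne_zero hμ, ?_⟩
  rw [ha, smul_smul, inv_mul_cancel₀ hμ, one_smul]

end Cfsg.Agent.Lib.Helper18.S5673OT33
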