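import Mathlib
import Cfsg.Prelude.Def_GeometricClasses
import Cfsg.Prelude.Def_Solvable
import Cfsg.Agent.Lib.Helper24.S5876Defs
import Cfsg.Agent.Lib.Helper1.Fitting

/-!
# S5876 FO-P3: the Fitting subgroup of a soluble matrix group
-/

set_option autoImplicit false

namespace Cfsg.Agent.Lib.Helper18.S5876FOP3

open Matrix Module Cfsg.Agent.Lib.Helper24.S5876

variable {F : Type*} [Field F] {n : ℕ}

/-- FO-P3: the Fitting subgroup of a soluble matrix group -/
theorem exists_fitting [Fintype F] (G : Subgroup (GL (Fin n) F)) (hsol : IsSolvable G) :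
    ∃ N : Subgroup (GL (Fin n) F), N ≤ G ∧ NormBy G N ∧ Group.IsNilpotent N ∧
      ∀ g ∈ G, (∀ x ∈ N, g * x = x * g) → g ∈ N := by
  classical
  haveI : Finite (GL (Fin n) F) := inferInstance
  haveI : Finite G := inferInstance
  haveI : Group.IsSolvable G := hsol
  have hnorm : (Cfsg.fittingSubgroup G).Normal := Cfsg.Agent.Lib.Helper1.fittingSubgroup_normal
  have hnil : Group.IsNilpotent (Cfsg.fittingSubgroup G) :=
    Cfsg.Agent.Lib.Helper1.fittingSubgroup_isNilpotent
  have hcent := Cfsg.Agent.Lib.Helper1.centralizer_fittingSubgroup_le (G := G)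
  refine ⟨(Cfsg.fittingSubgroup G).map G.subtype, ?_, ?_, ?_, ?_⟩
  · intro x hx
    obtain ⟨y, -, rfl⟩ := Subgroup.mem_map.mp hx
    exact y.2
  · intro g hg x hx
    obtain ⟨y, hy, rfl⟩ := Subgroup.mem_map.mp hx
    refine Subgroup.mem_map.mpr ⟨(⟨g, hg⟩ : G) * y * (⟨g, hg⟩ : G)⁻¹, hnorm.conj_mem y hy _, ?_⟩
    simp
  · have e : (Cfsg.fittingSubgroup G) ≃* ((Cfsg.fittingSubgroup G).map G.subtype) :=
      (Cfsg.fittingSubgroup G).equivMapOfInjective G.subtype G.subtype_injective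
    haveI := hnil
    exact (Group.isNilpotent_congr e).mp hnil
  · intro g hg hc
    refine Subgroup.mem_map.mpr ⟨⟨g, hg⟩, ?_, rfl⟩
    apply hcent
    rw [Subgroup.mem_centralizer_iff]
    intro y hy
    have h1 := hc (y : GL (Fin n) F) (Subgroup.mem_map.mpr ⟨y, hy, rfl⟩)
    apply Subtype.ext
    simpa using h1.symm

end Cfsg.Agent.Lib.Helper18.S5876FOP3
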