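import Cfsg.Agent.Lib.Helper14.SL2

/-!
# Abstract properties of `SL₂(q)`, `q` odd

`SL2Like L` collects the group-theoretic properties of `SL₂(q)` (`q` odd) used in the analysis of
a central product of two such groups: generation by squares, indecomposability as a central
product, a centre with at most one nonidentity element, and more than two elements.
-/

set_option autoImplicit false

namespace Cfsg.Agent.Lib.Helper18.SL2Dec

open Matrix

/-- abstract properties of `SL₂(q)`, `q` odd. -/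
structure SL2Like (L : Type*) [Group L] : Prop where
  sq_gen : ∀ K : Subgroup L, (∀ g : L, g ^ 2 ∈ K) → K = ⊤
  indec : ∀ M₁ M₂ : Subgroup L, (∀ x ∈ M₁, ∀ y ∈ M₂, x * y = y * x) →
    (∀ a : L, ∃ x ∈ M₁, ∃ y ∈ M₂, a = x * y) →
    M₁ ≤ Subgroup.center L ∨ M₂ ≤ Subgroup.center L
  center_uniq : ∀ z ∈ Subgroup.center L, ∀ z' ∈ Subgroup.center L, z ≠ 1 → z' ≠ 1 → z = z'
  two_lt : 2 < Nat.card L

theorem SL2Like.of_equiv {L M : Type*} [Group L] [Group M] (e : L ≃* M) (h : SL2Like M) :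
    SL2Like L where
  sq_gen := by
    intro K hK
    have h1 := h.sq_gen (K.comap e.symm.toMonoidHom) (by
      intro g
      show e.symm (g ^ 2) ∈ K
      rw [map_pow]
      exact hK _)
    rw [eq_top_iff]
    intro x _
    have h3 : e x ∈ K.comap e.symm.toMonoidHom := by rw [h1]; trivial
    have h2 : e.symm (e x) ∈ K := h3
    rwa [e.symm_apply_apply] at h2
  indec := by
    intro M₁ M₂ hcomm hprod
    have h1 := h.indec (M₁.comap e.symm.toMonoidHom) (M₂.comap e.symm.toMonoidHom) (by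
      intro x hx y hy
      have hx' : e.symm x ∈ M₁ := hx
      have hy' : e.symm y ∈ M₂ := hy
      apply e.symm.injective
      rw [map_mul, map_mul]
      exact hcomm _ hx' _ hy') (by
      intro a
      obtain ⟨x, hx, y, hy, hxy⟩ := hprod (e.symm a)
      refine ⟨e x, ?_, e y, ?_, ?_⟩
      · show e.symm (e x) ∈ M₁
        rwa [e.symm_apply_apply]
      · show e.symm (e y) ∈ M₂
        rwa [e.symm_apply_apply]
      · rw [← map_mul, ← hxy, e.apply_symm_apply])
    have key : ∀ (N : Subgroup L), N.comap e.symm.toMonoidHom ≤ Subgroup.center M →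
        N ≤ Subgroup.center L := by
      intro N hN x hx
      have h2 : e x ∈ Subgroup.center M :=
        hN (by show e.symm (e x) ∈ N; rwa [e.symm_apply_apply])
      rw [Subgroup.mem_center_iff] at h2 ⊢
      intro g
      apply e.injective
      rw [map_mul, map_mul]
      exact h2 (e g)
    rcases h1 with h1 | h1
    · exact Or.inl (key _ h1)
    · exact Or.inr (key _ h1)
  center_uniq := by
    intro z hz z' hz' h1 h1'
    have tr : ∀ w ∈ Subgroup.center L, e w ∈ Subgroup.center M := by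
      intro w hw
      rw [Subgroup.mem_center_iff] at hw ⊢
      intro g
      have h3 := congrArg e (hw (e.symm g))
      rwa [map_mul, map_mul, e.apply_symm_apply] at h3
    have h4 := h.center_uniq (e z) (tr z hz) (e z') (tr z' hz')
      (by intro h0; exact h1 (e.map_eq_one_iff.mp h0))
      (by intro h0; exact h1' (e.map_eq_one_iff.mp h0))
    exact e.injective h4
  two_lt := by
    rw [Nat.card_congr e.toEquiv]; exact h.two_lt

variable {F : Type*} [Field F]

/-- upper unitriangular element -/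
def uu (x : F) : SpecialLinearGroup (Fin 2) F := ⟨!![1, x; 0, 1], by simp [det_fin_two]⟩

/-- lower unitriangular element -/
def ll (x : F) : SpecialLinearGroup (Fin 2) F := ⟨!![1, 0; x, 1], by simp [det_fin_two]⟩

@[simp] theorem uu_coe (x : F) :
    ((uu x : SpecialLinearGroup (Fin 2) F) : Matrix (Fin 2) (Fin 2) F) = !![1, x; 0, 1] := rfl

@[simp] theorem ll_coe (x : F) :
    ((ll x : SpecialLinearGroup (Fin 2) F) : Matrix (Fin 2) (Fin 2) F) = !![1, 0; x, 1] := rfl

theorem uu_sq (h2 : (2 : F) ≠ 0) (x : F) : uu (x / 2) ^ 2 = uu x := by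
  ext i j
  fin_cases i <;> fin_cases j <;> simp [pow_two]
  field_simp
  ring

theorem ll_sq (h2 : (2 : F) ≠ 0) (x : F) : ll (x / 2) ^ 2 = ll x := by
  ext i j
  fin_cases i <;> fin_cases j <;> simp [pow_two]
  field_simp
  ring

theorem det_eq (g : SpecialLinearGroup (Fin 2) F) :
    (g : Matrix (Fin 2) (Fin 2) F) 0 0 * (g : Matrix (Fin 2) (Fin 2) F) 1 1 -
      (g : Matrix (Fin 2) (Fin 2) F) 0 1 * (g : Matrix (Fin 2) (Fin 2) F) 1 0 = 1 := by
  have := g.2
  rwa [det_fin_two] at this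

theorem decomp (g : SpecialLinearGroup (Fin 2) F)
    (hc : (g : Matrix (Fin 2) (Fin 2) F) 1 0 ≠ 0) :
    g = uu (((g : Matrix (Fin 2) (Fin 2) F) 0 0 - 1) / (g : Matrix (Fin 2) (Fin 2) F) 1 0) *
      ll ((g : Matrix (Fin 2) (Fin 2) F) 1 0) *
      uu (((g : Matrix (Fin 2) (Fin 2) F) 1 1 - 1) / (g : Matrix (Fin 2) (Fin 2) F) 1 0) := by
  have hdet := det_eq g
  ext i j
  fin_cases i <;> fin_cases j <;> simp
  · field_simp
    ring
  · field_simp
    linear_combination (-1 : F) * hdet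
  · field_simp
    ring

/-- `SL₂(F)`, `char F ≠ 2`, is generated by squares. -/
theorem sl2_sq_gen (h2 : (2 : F) ≠ 0) (K : Subgroup (SpecialLinearGroup (Fin 2) F))
    (hK : ∀ g : SpecialLinearGroup (Fin 2) F, g ^ 2 ∈ K) : K = ⊤ := by
  have hu : ∀ x : F, uu x ∈ K := fun x => by rw [← uu_sq h2 x]; exact hK _
  have hl : ∀ x : F, ll x ∈ K := fun x => by rw [← ll_sq h2 x]; exact hK _
  have hgen : ∀ g : SpecialLinearGroup (Fin 2) F,
      (g : Matrix (Fin 2) (Fin 2) F) 1 0 ≠ 0 → g ∈ K := by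
    intro g hg
    rw [decomp g hg]
    exact K.mul_mem (K.mul_mem (hu _) (hl _)) (hu _)
  rw [eq_top_iff]
  intro g _
  by_cases hg : (g : Matrix (Fin 2) (Fin 2) F) 1 0 = 0
  · have hdet := det_eq g
    rw [hg, mul_zero, sub_zero] at hdet
    have h00 : (g : Matrix (Fin 2) (Fin 2) F) 0 0 ≠ 0 := left_ne_zero_of_mul_eq_one hdet
    have h1 : ll 1 * g ∈ K := by
      apply hgen
      have : ((ll (1 : F) * g : SpecialLinearGroup (Fin 2) F) : Matrix (Fin 2) (Fin 2) F) 1 0 =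
          (g : Matrix (Fin 2) (Fin 2) F) 0 0 + (g : Matrix (Fin 2) (Fin 2) F) 1 0 := by
        simp [Matrix.mul_apply, Fin.sum_univ_two]
      rw [this, hg, add_zero]
      exact h00
    have h3 : g = (ll 1)⁻¹ * (ll 1 * g) := by group
    rw [h3]
    exact K.mul_mem (K.inv_mem (hl 1)) h1
  · exact hgen g hg

/-- scalar-looking elements are central. -/
theorem mem_center_of_entries (g : SpecialLinearGroup (Fin 2) F)
    (h01 : (g : Matrix (Fin 2) (Fin 2) F) 0 1 = 0) (h10 : (g : Matrix (Fin 2) (Fin 2) F) 1 0 = 0)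
    (hd : (g : Matrix (Fin 2) (Fin 2) F) 0 0 = (g : Matrix (Fin 2) (Fin 2) F) 1 1) :
    g ∈ Subgroup.center (SpecialLinearGroup (Fin 2) F) := by
  rw [Subgroup.mem_center_iff]
  intro k
  ext i j
  fin_cases i <;> fin_cases j <;>
    simp [Matrix.mul_apply, Fin.sum_univ_two, h01, h10, hd, mul_comm]

/-- central elements are `±1`, entrywise. -/
theorem entries_of_mem_center (g : SpecialLinearGroup (Fin 2) F)
    (hg : g ∈ Subgroup.center (SpecialLinearGroup (Fin 2) F)) :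
    (g : Matrix (Fin 2) (Fin 2) F) 0 1 = 0 ∧ (g : Matrix (Fin 2) (Fin 2) F) 1 0 = 0 ∧
      (g : Matrix (Fin 2) (Fin 2) F) 0 0 = (g : Matrix (Fin 2) (Fin 2) F) 1 1 := by
  rw [Subgroup.mem_center_iff] at hg
  have h1 := hg (uu 1)
  have h2 := hg (ll 1)
  have e1 := congrArg (fun m : SpecialLinearGroup (Fin 2) F => (m : Matrix (Fin 2) (Fin 2) F) 0 0) h1
  have e2 := congrArg (fun m : SpecialLinearGroup (Fin 2) F => (m : Matrix (Fin 2) (Fin 2) F) 0 1) h1
  have e3 := congrArg (fun m : SpecialLinearGroup (Fin 2) F => (m : Matrix (Fin 2) (Fin 2) F) 0 0) h2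
  simp [Matrix.mul_apply, Fin.sum_univ_two] at e1 e2 e3
  refine ⟨?_, ?_, ?_⟩
  · linear_combination e3
  · linear_combination e1
  · linear_combination (-1 : F) * e2

/-- the predicate "upper triangular with equal diagonal entries" (`= ±U`). -/
def IsPU (g : SpecialLinearGroup (Fin 2) F) : Prop :=
  (g : Matrix (Fin 2) (Fin 2) F) 1 0 = 0 ∧
    (g : Matrix (Fin 2) (Fin 2) F) 0 0 = (g : Matrix (Fin 2) (Fin 2) F) 1 1

/-- the centralizer of a noncentral element of `±U` is inside `±U`. -/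
theorem isPU_of_commute (a g : SpecialLinearGroup (Fin 2) F) (ha : IsPU a)
    (ht : (a : Matrix (Fin 2) (Fin 2) F) 0 1 ≠ 0) (hc : g * a = a * g) : IsPU g := by
  obtain ⟨ha1, ha2⟩ := ha
  have e1 := congrArg (fun m : SpecialLinearGroup (Fin 2) F => (m : Matrix (Fin 2) (Fin 2) F) 0 0) hc
  have e2 := congrArg (fun m : SpecialLinearGroup (Fin 2) F => (m : Matrix (Fin 2) (Fin 2) F) 0 1) hc
  simp [Matrix.mul_apply, Fin.sum_univ_two, ha1] at e1 e2
  have h10 : (g : Matrix (Fin 2) (Fin 2) F) 1 0 = 0 := by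
    have : (a : Matrix (Fin 2) (Fin 2) F) 0 1 * (g : Matrix (Fin 2) (Fin 2) F) 1 0 = 0 := by
      linear_combination (-1 : F) * e1
    exact (mul_eq_zero.mp this).resolve_left ht
  refine ⟨h10, ?_⟩
  have : (a : Matrix (Fin 2) (Fin 2) F) 0 1 *
      ((g : Matrix (Fin 2) (Fin 2) F) 0 0 - (g : Matrix (Fin 2) (Fin 2) F) 1 1) = 0 := by
    linear_combination e2 + ((g : Matrix (Fin 2) (Fin 2) F) 0 1) * ha2
  have h3 := (mul_eq_zero.mp this).resolve_left ht
  exact sub_eq_zero.mp h3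

/-- the Weyl element -/
def ww : SpecialLinearGroup (Fin 2) F := ⟨!![0, 1; -1, 0], by simp [det_fin_two]⟩

@[simp] theorem ww_coe :
    ((ww : SpecialLinearGroup (Fin 2) F) : Matrix (Fin 2) (Fin 2) F) = !![0, 1; -1, 0] := rfl

/-- `±U ∩ (±U)^w` is central. -/
theorem mem_center_of_isPU_conj (g : SpecialLinearGroup (Fin 2) F) (hg : IsPU g)
    (hg' : IsPU (ww * g * ww⁻¹)) : g ∈ Subgroup.center (SpecialLinearGroup (Fin 2) F) := by
  obtain ⟨h1, h2⟩ := hg
  obtain ⟨h3, -⟩ := hg'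
  have e : ((ww * g * ww⁻¹ : SpecialLinearGroup (Fin 2) F) : Matrix (Fin 2) (Fin 2) F) 1 0 =
      -(g : Matrix (Fin 2) (Fin 2) F) 0 1 := by
    simp [Matrix.mul_apply, Fin.sum_univ_two, Matrix.adjugate_fin_two, Matrix.vecMul, dotProduct]
  rw [e, neg_eq_zero] at h3
  exact mem_center_of_entries g h3 h1 h2

/-- `SL₂(F)` is not a central product of two noncentral subgroups. -/
theorem sl2_indec (M₁ M₂ : Subgroup (SpecialLinearGroup (Fin 2) F))
    (hcomm : ∀ x ∈ M₁, ∀ y ∈ M₂, x * y = y * x)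
    (hprod : ∀ a : SpecialLinearGroup (Fin 2) F, ∃ x ∈ M₁, ∃ y ∈ M₂, a = x * y) :
    M₁ ≤ Subgroup.center (SpecialLinearGroup (Fin 2) F) ∨
      M₂ ≤ Subgroup.center (SpecialLinearGroup (Fin 2) F) := by
  have hn2 : ∀ g : SpecialLinearGroup (Fin 2) F, ∀ y ∈ M₂, g * y * g⁻¹ ∈ M₂ := by
    intro g y hy
    obtain ⟨x', hx', y', hy', rfl⟩ := hprod g
    have hmem : y' * y * y'⁻¹ ∈ M₂ := M₂.mul_mem (M₂.mul_mem hy' hy) (M₂.inv_mem hy')
    have h1 := hcomm x' hx' (y' * y * y'⁻¹) hmem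
    have h2 : x' * y' * y * (x' * y')⁻¹ = x' * (y' * y * y'⁻¹) * x'⁻¹ := by group
    rw [h2, h1, mul_inv_cancel_right]
    exact hmem
  have hn1 : ∀ g : SpecialLinearGroup (Fin 2) F, ∀ x ∈ M₁, g * x * g⁻¹ ∈ M₁ := by
    intro g x hx
    obtain ⟨x', hx', y', hy', rfl⟩ := hprod g
    have h1 := hcomm x hx y' hy'
    have h2 : x' * y' * x * (x' * y')⁻¹ = x' * (y' * x) * y'⁻¹ * x'⁻¹ := by group
    rw [h2, ← h1]
    have h3 : x' * (x * y') * y'⁻¹ * x'⁻¹ = x' * x * x'⁻¹ := by group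
    rw [h3]
    exact M₁.mul_mem (M₁.mul_mem hx' hx) (M₁.inv_mem hx')
  obtain ⟨α, hα, β, hβ, hu⟩ := hprod (uu 1)
  have hPu : IsPU (uu (1 : F)) := by simp [IsPU]
  have hu01 : ((uu (1 : F) : SpecialLinearGroup (Fin 2) F) : Matrix (Fin 2) (Fin 2) F) 0 1 ≠ 0 := by
    simp
  have hαβ := hcomm α hα β hβ
  have hαu : α * uu 1 = uu 1 * α := by
    rw [hu, mul_assoc α β α, ← hαβ]
  have hβu : β * uu 1 = uu 1 * β := by
    rw [hu, ← mul_assoc, ← hαβ]
  have hPα : IsPU α := isPU_of_commute (uu 1) α hPu hu01 hαu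
  have hPβ : IsPU β := isPU_of_commute (uu 1) β hPu hu01 hβu
  have h01 : (α : Matrix (Fin 2) (Fin 2) F) 0 0 * (β : Matrix (Fin 2) (Fin 2) F) 0 1 +
      (α : Matrix (Fin 2) (Fin 2) F) 0 1 * (β : Matrix (Fin 2) (Fin 2) F) 1 1 = 1 := by
    have := congrArg
      (fun m : SpecialLinearGroup (Fin 2) F => (m : Matrix (Fin 2) (Fin 2) F) 0 1) hu
    simp [Matrix.mul_apply, Fin.sum_univ_two] at this
    exact this.symm
  by_cases hα01 : (α : Matrix (Fin 2) (Fin 2) F) 0 1 = 0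
  · have hβ01 : (β : Matrix (Fin 2) (Fin 2) F) 0 1 ≠ 0 := by
      intro h
      rw [hα01, h] at h01
      simp at h01
    left
    intro x hx
    have hPx : IsPU x := isPU_of_commute β x hPβ hβ01 (hcomm x hx β hβ)
    have hPx' : IsPU (ww * x * ww⁻¹) :=
      isPU_of_commute β _ hPβ hβ01 (hcomm _ (hn1 ww x hx) β hβ)
    exact mem_center_of_isPU_conj x hPx hPx'
  · right
    intro y hy
    have hPy : IsPU y := isPU_of_commute α y hPα hα01 (hcomm α hα y hy).symm
    have hPy' : IsPU (ww * y * ww⁻¹) :=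
      isPU_of_commute α _ hPα hα01 (hcomm α hα _ (hn2 ww y hy)).symm
    exact mem_center_of_isPU_conj y hPy hPy'

/-- the centre of `SL₂(F)` has at most one nonidentity element. -/
theorem sl2_center_uniq (z : SpecialLinearGroup (Fin 2) F)
    (hz : z ∈ Subgroup.center (SpecialLinearGroup (Fin 2) F))
    (z' : SpecialLinearGroup (Fin 2) F)
    (hz' : z' ∈ Subgroup.center (SpecialLinearGroup (Fin 2) F)) (h1 : z ≠ 1) (h1' : z' ≠ 1) :
    z = z' := by
  have key : ∀ w ∈ Subgroup.center (SpecialLinearGroup (Fin 2) F), w ≠ 1 →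
      ((w : Matrix (Fin 2) (Fin 2) F) 0 1 = 0 ∧ (w : Matrix (Fin 2) (Fin 2) F) 1 0 = 0 ∧
        (w : Matrix (Fin 2) (Fin 2) F) 0 0 = -1 ∧ (w : Matrix (Fin 2) (Fin 2) F) 1 1 = -1) := by
    intro w hw hw1
    obtain ⟨a, b, c⟩ := entries_of_mem_center w hw
    have hdet := det_eq w
    have h3 : ((w : Matrix (Fin 2) (Fin 2) F) 0 0 - 1) *
        ((w : Matrix (Fin 2) (Fin 2) F) 0 0 + 1) = 0 := by
      rw [a, ← c] at hdet
      linear_combination hdet
    rcases mul_eq_zero.mp h3 with h | h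
    · exfalso
      apply hw1
      have h00 : (w : Matrix (Fin 2) (Fin 2) F) 0 0 = 1 := sub_eq_zero.mp h
      have h11 : (w : Matrix (Fin 2) (Fin 2) F) 1 1 = 1 := by rw [← c]; exact h00
      ext i j
      fin_cases i <;> fin_cases j <;> simp [a, b, h00, h11]
    · have h00 : (w : Matrix (Fin 2) (Fin 2) F) 0 0 = -1 := eq_neg_of_add_eq_zero_left h
      exact ⟨a, b, h00, by rw [← c]; exact h00⟩
  obtain ⟨a, b, c, d⟩ := key z hz h1
  obtain ⟨a', b', c', d'⟩ := key z' hz' h1'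
  ext i j
  fin_cases i <;> fin_cases j <;> simp [a, b, c, d, a', b', c', d']

/-- `SL₂(F)` for `F` finite of odd order is `SL2Like`. -/
theorem sl2Like_SL2 [Fintype F] (hodd : Odd (Fintype.card F)) :
    SL2Like (SpecialLinearGroup (Fin 2) F) := by
  have h2 : (2 : F) ≠ 0 := by
    apply Ring.two_ne_zero
    intro h
    have := FiniteField.even_card_of_char_two h
    rw [← Nat.not_even_iff_odd] at hodd
    exact hodd (Nat.even_iff.mpr this)
  refine ⟨sl2_sq_gen h2, sl2_indec, sl2_center_uniq, ?_⟩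
  rw [Cfsg.Agent.Lib.Helper14.card_SL2]
  have h1 : 1 < Fintype.card F := Fintype.one_lt_card
  have h3 : 3 ≤ Fintype.card F := by
    obtain ⟨k, hk⟩ := hodd
    omega
  have h4 : 3 ^ 2 - 1 ≤ Fintype.card F ^ 2 - 1 :=
    Nat.sub_le_sub_right (Nat.pow_le_pow_left h3 2) 1
  calc 2 < 3 * (3 ^ 2 - 1) := by norm_num
    _ ≤ Fintype.card F * (Fintype.card F ^ 2 - 1) := Nat.mul_le_mul h3 h4

/-- `|SL₂(F₁)| = |SL₂(F₂)|` forces `|F₁| = |F₂|`. -/
theorem card_eq_of_card_SL2_eq {F₁ F₂ : Type*} [Field F₁] [Fintype F₁] [Field F₂] [Fintype F₂]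
    (h : Nat.card (SpecialLinearGroup (Fin 2) F₁) = Nat.card (SpecialLinearGroup (Fin 2) F₂)) :
    Fintype.card F₁ = Fintype.card F₂ := by
  rw [Cfsg.Agent.Lib.Helper14.card_SL2, Cfsg.Agent.Lib.Helper14.card_SL2] at h
  have mono : ∀ a b : ℕ, 1 < a → a < b → a * (a ^ 2 - 1) < b * (b ^ 2 - 1) := by
    intro a b ha hab
    have h1 : a ^ 2 - 1 ≤ b ^ 2 - 1 :=
      Nat.sub_le_sub_right (Nat.pow_le_pow_left hab.le 2) 1
    have h2 : 0 < a ^ 2 - 1 := by
      have : 2 ^ 2 ≤ a ^ 2 := Nat.pow_le_pow_left ha 2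
      omega
    calc a * (a ^ 2 - 1) < b * (a ^ 2 - 1) := Nat.mul_lt_mul_of_pos_right hab h2
      _ ≤ b * (b ^ 2 - 1) := Nat.mul_le_mul_left b h1
  have h1 : 1 < Fintype.card F₁ := Fintype.one_lt_card
  have h2 : 1 < Fintype.card F₂ := Fintype.one_lt_card
  rcases Nat.lt_trichotomy (Fintype.card F₁) (Fintype.card F₂) with hlt | heq | hgt
  · exact absurd h (mono _ _ h1 hlt).ne
  · exact heq
  · exact absurd h.symm (mono _ _ h2 hgt).ne

end Cfsg.Agent.Lib.Helper18.SL2Dec
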