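import Cfsg.Agent.Lib.Helper18.SL2Dec

/-!
# Two commuting `SL₂`-like subgroups: uniqueness of the central decomposition
-/

set_option autoImplicit false

namespace Cfsg.Agent.Lib.Helper18.SL2Dec

variable {G : Type*} [Group G]

/-- the join of two elementwise commuting subgroups is their setwise product. -/
theorem mem_sup_of_comm (A B : Subgroup G) (h : ∀ x ∈ A, ∀ y ∈ B, x * y = y * x) (y : G) :
    y ∈ A ⊔ B ↔ ∃ a ∈ A, ∃ b ∈ B, y = a * b := by
  constructor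
  · intro hy
    let T : Subgroup G :=
      { carrier := {y | ∃ a ∈ A, ∃ b ∈ B, y = a * b}
        one_mem' := ⟨1, A.one_mem, 1, B.one_mem, by rw [mul_one]⟩
        mul_mem' := by
          rintro _ _ ⟨a, ha, b, hb, rfl⟩ ⟨a', ha', b', hb', rfl⟩
          refine ⟨a * a', A.mul_mem ha ha', b * b', B.mul_mem hb hb', ?_⟩
          have := h a' ha' b hb
          calc a * b * (a' * b') = a * (b * a') * b' := by group
            _ = a * (a' * b) * b' := by rw [this]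
            _ = a * a' * (b * b') := by group
        inv_mem' := by
          rintro _ ⟨a, ha, b, hb, rfl⟩
          refine ⟨a⁻¹, A.inv_mem ha, b⁻¹, B.inv_mem hb, ?_⟩
          have := h a⁻¹ (A.inv_mem ha) b⁻¹ (B.inv_mem hb)
          rw [this, mul_inv_rev] }
    have hle : A ⊔ B ≤ T := by
      apply sup_le
      · intro a ha
        exact ⟨a, ha, 1, B.one_mem, by rw [mul_one]⟩
      · intro b hb
        exact ⟨1, A.one_mem, b, hb, by rw [one_mul]⟩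
    exact hle hy
  · rintro ⟨a, ha, b, hb, rfl⟩
    exact (A ⊔ B).mul_mem (Subgroup.mem_sup_left ha) (Subgroup.mem_sup_right hb)

/-- a commutator of an element of `A` with an element of the central product `AB` lies in `A`. -/
theorem comm_mem (A B : Subgroup G) (hAB : ∀ x ∈ A, ∀ y ∈ B, x * y = y * x) (x : G) (hx : x ∈ A)
    (b : G) (hb : b ∈ A ⊔ B) : x * b * x⁻¹ * b⁻¹ ∈ A := by
  obtain ⟨k₁, hk₁, k₂, hk₂, rfl⟩ := (mem_sup_of_comm A B hAB b).mp hb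
  have c1 := hAB x⁻¹ (A.inv_mem hx) k₂ hk₂
  have e1 : x * (k₁ * k₂) * x⁻¹ * (k₁ * k₂)⁻¹ = x * k₁ * x⁻¹ * k₁⁻¹ := by
    calc x * (k₁ * k₂) * x⁻¹ * (k₁ * k₂)⁻¹ = x * k₁ * (k₂ * x⁻¹) * k₂⁻¹ * k₁⁻¹ := by group
      _ = x * k₁ * (x⁻¹ * k₂) * k₂⁻¹ * k₁⁻¹ := by rw [c1]
      _ = x * k₁ * x⁻¹ * k₁⁻¹ := by group
  rw [e1]
  exact A.mul_mem (A.mul_mem (A.mul_mem hx hk₁) (A.inv_mem hx)) (A.inv_mem hk₁)

theorem eq_one_or_of_mem_zpowers {j z : G} (hj : j ^ 2 = 1) (hz : z ∈ Subgroup.zpowers j) :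
    z = 1 ∨ z = j := by
  obtain ⟨k, rfl⟩ := Subgroup.mem_zpowers_iff.mp hz
  have hj' : j ^ (2 : ℤ) = 1 := by rw [zpow_two, ← pow_two]; exact hj
  rcases Int.even_or_odd' k with ⟨m, rfl | rfl⟩
  · left
    rw [zpow_mul, hj', one_zpow]
  · right
    rw [zpow_add, zpow_mul, hj', one_zpow, one_mul, zpow_one]

/-- central elements of an `SL2Like` subgroup with a given central involution. -/
theorem central_eq (L : Subgroup G) (S : SL2Like L) (j : G) (hjL : j ∈ L) (hj1 : j ≠ 1)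
    (hjc : ∀ y ∈ L, j * y = y * j) (b : G) (hbL : b ∈ L) (hbc : ∀ y ∈ L, b * y = y * b) :
    b = 1 ∨ b = j := by
  by_cases hb1 : b = 1
  · exact Or.inl hb1
  · right
    have h1 : (⟨b, hbL⟩ : L) ∈ Subgroup.center L := by
      rw [Subgroup.mem_center_iff]
      rintro ⟨y, hy⟩
      apply Subtype.ext
      exact (hbc y hy).symm
    have h2 : (⟨j, hjL⟩ : L) ∈ Subgroup.center L := by
      rw [Subgroup.mem_center_iff]
      rintro ⟨y, hy⟩
      apply Subtype.ext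
      exact (hjc y hy).symm
    have h3 := S.center_uniq _ h1 _ h2
      (by intro h; exact hb1 (congrArg Subtype.val h))
      (by intro h; exact hj1 (congrArg Subtype.val h))
    exact congrArg Subtype.val h3

/-- **Key lemma**: if `L₁L₂ = H₁H₂` are two central decompositions (same intersection `⟨j⟩`) and
the `L_i` are `SL2Like`, then `L₁` lies in one of the `H_i`. -/
theorem le_or_le (L₁ L₂ H₁ H₂ : Subgroup G) (j : G)
    (S₁ : SL2Like L₁) (S₂ : SL2Like L₂)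
    (hc : ∀ x ∈ L₁, ∀ y ∈ L₂, x * y = y * x)
    (hc' : ∀ x ∈ H₁, ∀ y ∈ H₂, x * y = y * x)
    (hY : L₁ ⊔ L₂ = H₁ ⊔ H₂) (hj1 : j ≠ 1) (hjsq : j ^ 2 = 1)
    (hmL : L₁ ⊓ L₂ = Subgroup.zpowers j) (hmH : H₁ ⊓ H₂ = Subgroup.zpowers j) :
    L₁ ≤ H₁ ∨ L₁ ≤ H₂ := by
  have hjL : j ∈ L₁ ⊓ L₂ := by rw [hmL]; exact Subgroup.mem_zpowers j
  have hjH : j ∈ H₁ ⊓ H₂ := by rw [hmH]; exact Subgroup.mem_zpowers j
  have hjL1 : j ∈ L₁ := hjL.1
  have hjL2 : j ∈ L₂ := hjL.2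
  have hjH1 : j ∈ H₁ := hjH.1
  have hjH2 : j ∈ H₂ := hjH.2
  have hc'' : ∀ x ∈ H₂, ∀ y ∈ H₁, x * y = y * x := fun x hx y hy => (hc' y hy x hx).symm
  -- Step 2: the `H₁`-component of an element of `L₁` centralizes `L₂`
  have step2 : ∀ h₁ ∈ H₁, ∀ h₂ ∈ H₂, h₁ * h₂ ∈ L₁ → ∀ b ∈ L₂, h₁ * b = b * h₁ := by
    intro h₁ hh₁ h₂ hh₂ ha
    have hz : ∀ b ∈ L₂, h₁ * b * h₁⁻¹ * b⁻¹ = 1 ∨ h₁ * b * h₁⁻¹ * b⁻¹ = j := by
      intro b hb
      have hbY : b ∈ H₁ ⊔ H₂ := by rw [← hY]; exact Subgroup.mem_sup_right hb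
      have hab : h₁ * h₂ * b = b * (h₁ * h₂) := hc _ ha b hb
      have m1 : h₁ * b * h₁⁻¹ * b⁻¹ ∈ H₁ := comm_mem H₁ H₂ hc' h₁ hh₁ b hbY
      have e2 : h₁ * b * h₁⁻¹ = h₂⁻¹ * b * h₂ := by
        have c := hc' h₁ hh₁ h₂ hh₂
        calc h₁ * b * h₁⁻¹ = h₂⁻¹ * (h₂ * h₁ * b) * h₁⁻¹ := by group
          _ = h₂⁻¹ * (h₁ * h₂ * b) * h₁⁻¹ := by rw [c]
          _ = h₂⁻¹ * (b * (h₁ * h₂)) * h₁⁻¹ := by rw [hab]
          _ = h₂⁻¹ * (b * (h₂ * h₁)) * h₁⁻¹ := by rw [c]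
          _ = h₂⁻¹ * b * h₂ := by group
      have m2 : h₁ * b * h₁⁻¹ * b⁻¹ ∈ H₂ := by
        rw [e2]
        have := comm_mem H₂ H₁ hc'' h₂⁻¹ (H₂.inv_mem hh₂) b (by rw [sup_comm]; exact hbY)
        rwa [inv_inv] at this
      have m3 : h₁ * b * h₁⁻¹ * b⁻¹ ∈ Subgroup.zpowers j := by
        rw [← hmH]; exact ⟨m1, m2⟩
      exact eq_one_or_of_mem_zpowers hjsq m3
    -- `h₁` commutes with all squares of `L₂`
    have hsq : ∀ b ∈ L₂, h₁ * b ^ 2 = b ^ 2 * h₁ := by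
      intro b hb
      rcases hz b hb with h | h
      · have e : h₁ * b = b * h₁ := by
          have : h₁ * b = (h₁ * b * h₁⁻¹ * b⁻¹) * (b * h₁) := by group
          rw [this, h, one_mul]
        rw [pow_two, ← mul_assoc, e, mul_assoc, e, ← mul_assoc]
      · have e : h₁ * b = j * b * h₁ := by
          have : h₁ * b = (h₁ * b * h₁⁻¹ * b⁻¹) * b * h₁ := by group
          rw [this, h]
        have hjb : j * b = b * j := hc j hjL1 b hb
        have hjj : j * j = 1 := by rw [← pow_two]; exact hjsq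
        calc h₁ * b ^ 2 = (h₁ * b) * b := by rw [pow_two, mul_assoc]
          _ = (j * b * h₁) * b := by rw [e]
          _ = j * b * (h₁ * b) := by rw [mul_assoc]
          _ = j * b * (j * b * h₁) := by rw [e]
          _ = (j * b) * (b * j) * h₁ := by rw [hjb]; group
          _ = (b * j) * (b * j) * h₁ := by rw [hjb]
          _ = b * (j * b) * j * h₁ := by group
          _ = b * (b * j) * j * h₁ := by rw [hjb]
          _ = b * b * (j * j) * h₁ := by group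
          _ = b ^ 2 * h₁ := by rw [hjj, mul_one, pow_two]
    have hK := S₂.sq_gen ((Subgroup.centralizer ({h₁} : Set G)).subgroupOf L₂) (by
      rintro ⟨b, hb⟩
      rw [Subgroup.mem_subgroupOf, Subgroup.mem_centralizer_iff]
      intro x hx
      rw [Set.mem_singleton_iff] at hx
      subst hx
      exact hsq b hb)
    intro b hb
    have : (⟨b, hb⟩ : L₂) ∈ (Subgroup.centralizer ({h₁} : Set G)).subgroupOf L₂ := by
      rw [hK]; trivial
    rw [Subgroup.mem_subgroupOf, Subgroup.mem_centralizer_iff] at this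
    exact this h₁ rfl
  -- Step 3: such an `h₁` lies in `L₁`
  have step3 : ∀ h₁ ∈ H₁, ∀ h₂ ∈ H₂, h₁ * h₂ ∈ L₁ → h₁ ∈ L₁ := by
    intro h₁ hh₁ h₂ hh₂ ha
    have hcent := step2 h₁ hh₁ h₂ hh₂ ha
    have hY1 : h₁ ∈ L₁ ⊔ L₂ := by rw [hY]; exact Subgroup.mem_sup_left hh₁
    obtain ⟨a', ha', b', hb', rfl⟩ := (mem_sup_of_comm L₁ L₂ hc h₁).mp hY1
    have hb'c : ∀ y ∈ L₂, b' * y = y * b' := by
      intro y hy
      have c1 := hc a'⁻¹ (L₁.inv_mem ha') y hy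
      have c2 := hcent y hy
      calc b' * y = a'⁻¹ * (a' * b' * y) := by group
        _ = a'⁻¹ * (y * (a' * b')) := by rw [c2]
        _ = (a'⁻¹ * y) * (a' * b') := by group
        _ = (y * a'⁻¹) * (a' * b') := by rw [c1]
        _ = y * b' := by group
    have hjc : ∀ y ∈ L₂, j * y = y * j := fun y hy => hc j hjL1 y hy
    rcases central_eq L₂ S₂ j hjL2 hj1 hjc b' hb' hb'c with h | h
    · rw [h, mul_one]; exact ha'
    · rw [h]; exact L₁.mul_mem ha' hjL1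
  -- Step 4: decomposition of `L₁`
  have hdec : ∀ a : L₁, ∃ x ∈ H₁.subgroupOf L₁, ∃ y ∈ H₂.subgroupOf L₁, a = x * y := by
    rintro ⟨a, ha⟩
    have haY : a ∈ H₁ ⊔ H₂ := by rw [← hY]; exact Subgroup.mem_sup_left ha
    obtain ⟨h₁, hh₁, h₂, hh₂, rfl⟩ := (mem_sup_of_comm H₁ H₂ hc' a).mp haY
    have m1 : h₁ ∈ L₁ := step3 h₁ hh₁ h₂ hh₂ ha
    have m2 : h₂ ∈ L₁ := by
      have : h₂ = h₁⁻¹ * (h₁ * h₂) := by group
      rw [this]
      exact L₁.mul_mem (L₁.inv_mem m1) ha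
    refine ⟨⟨h₁, m1⟩, ?_, ⟨h₂, m2⟩, ?_, ?_⟩
    · rw [Subgroup.mem_subgroupOf]; exact hh₁
    · rw [Subgroup.mem_subgroupOf]; exact hh₂
    · rfl
  have hcm : ∀ x ∈ H₁.subgroupOf L₁, ∀ y ∈ H₂.subgroupOf L₁, x * y = y * x := by
    rintro ⟨x, hx⟩ hx' ⟨y, hy⟩ hy'
    rw [Subgroup.mem_subgroupOf] at hx' hy'
    apply Subtype.ext
    exact hc' x hx' y hy'
  have hjc1 : ∀ y ∈ L₁, j * y = y * j := fun y hy => (hc y hy j hjL2).symm
  rcases S₁.indec _ _ hcm hdec with hcen | hcen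
  · -- `L₁ ∩ H₁` central: `L₁ ≤ H₂`
    right
    intro a ha
    obtain ⟨⟨x, hx⟩, hx', ⟨y, hy⟩, hy', hxy⟩ := hdec ⟨a, ha⟩
    have hxc := hcen hx'
    rw [Subgroup.mem_center_iff] at hxc
    have hxc' : ∀ w ∈ L₁, x * w = w * x := fun w hw =>
      (congrArg Subtype.val (hxc ⟨w, hw⟩)).symm
    rw [Subgroup.mem_subgroupOf] at hx' hy'
    have hxy' : a = x * y := congrArg Subtype.val hxy
    rw [hxy']
    rcases central_eq L₁ S₁ j hjL1 hj1 hjc1 x hx hxc' with h | h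
    · rw [h, one_mul]; exact hy'
    · rw [h]; exact H₂.mul_mem hjH2 hy'
  · left
    intro a ha
    obtain ⟨⟨x, hx⟩, hx', ⟨y, hy⟩, hy', hxy⟩ := hdec ⟨a, ha⟩
    have hyc := hcen hy'
    rw [Subgroup.mem_center_iff] at hyc
    have hyc' : ∀ w ∈ L₁, y * w = w * y := fun w hw =>
      (congrArg Subtype.val (hyc ⟨w, hw⟩)).symm
    rw [Subgroup.mem_subgroupOf] at hx' hy'
    have hxy' : a = x * y := congrArg Subtype.val hxy
    rw [hxy']
    rcases central_eq L₁ S₁ j hjL1 hj1 hjc1 y hy hyc' with h | h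
    · rw [h, mul_one]; exact hx'
    · rw [h]; exact H₁.mul_mem hx' hjH1

/-- In the two-commuting-`SL₂` setting, an element of `C(j)` normalizes both factors or swaps
them. -/
theorem normalizes_or_swaps [Finite G] (L₁ L₂ : Subgroup G) (S₁ : SL2Like L₁) (S₂ : SL2Like L₂)
    (hc : ∀ x ∈ L₁, ∀ y ∈ L₂, x * y = y * x) (j : G) (hj : orderOf j = 2)
    (hm : L₁ ⊓ L₂ = Subgroup.zpowers j)
    (hle : L₁ ⊔ L₂ ≤ Subgroup.centralizer ({j} : Set G))
    (hi : (L₁ ⊔ L₂).relIndex (Subgroup.centralizer ({j} : Set G)) = 2) (n : G)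
    (hn : n ∈ Subgroup.centralizer ({j} : Set G)) :
    (L₁.map (MulAut.conj n).toMonoidHom = L₁ ∧ L₂.map (MulAut.conj n).toMonoidHom = L₂) ∨
      (L₁.map (MulAut.conj n).toMonoidHom = L₂ ∧ L₂.map (MulAut.conj n).toMonoidHom = L₁) := by
  set C := Subgroup.centralizer ({j} : Set G) with hC
  set c : G →* G := (MulAut.conj n).toMonoidHom with hcdef
  have hcapp : ∀ x, c x = n * x * n⁻¹ := fun x => by simp [hcdef, MulAut.conj_apply]
  have hcinj : Function.Injective c := (MulAut.conj n).injective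
  have hj1 : j ≠ 1 := by
    intro h
    rw [h, orderOf_one] at hj
    exact absurd hj (by norm_num)
  have hjsq : j ^ 2 = 1 := by rw [← hj]; exact pow_orderOf_eq_one j
  -- normality of `Y` in `C`
  have hN : ((L₁ ⊔ L₂).subgroupOf C).Normal := Subgroup.normal_of_index_eq_two hi
  have hYn : ∀ g ∈ C, ∀ y ∈ L₁ ⊔ L₂, g * y * g⁻¹ ∈ L₁ ⊔ L₂ := by
    intro g hg y hy
    have h1 : (⟨y, hle hy⟩ : C) ∈ (L₁ ⊔ L₂).subgroupOf C := by
      rw [Subgroup.mem_subgroupOf]; exact hy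
    have h2 := hN.conj_mem _ h1 ⟨g, hg⟩
    rw [Subgroup.mem_subgroupOf] at h2
    exact h2
  have hYmap : (L₁ ⊔ L₂).map c = L₁ ⊔ L₂ := by
    apply le_antisymm
    · rintro _ ⟨y, hy, rfl⟩
      rw [hcapp]
      exact hYn n hn y hy
    · intro y hy
      refine ⟨n⁻¹ * y * n, ?_, ?_⟩
      · have := hYn n⁻¹ (C.inv_mem hn) y hy
        rwa [inv_inv] at this
      · rw [hcapp]; group
  have hcj : c j = j := by
    rw [hcapp]
    have : j * n = n * j := (Subgroup.mem_centralizer_iff.mp hn) j rfl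
    rw [← this, mul_inv_cancel_right]
  have hc' : ∀ x ∈ L₁.map c, ∀ y ∈ L₂.map c, x * y = y * x := by
    rintro _ ⟨x, hx, rfl⟩ _ ⟨y, hy, rfl⟩
    rw [← map_mul, ← map_mul, hc x hx y hy]
  have hY : L₁ ⊔ L₂ = L₁.map c ⊔ L₂.map c := by
    rw [← Subgroup.map_sup, hYmap]
  have hmH : L₁.map c ⊓ L₂.map c = Subgroup.zpowers j := by
    rw [← Subgroup.map_inf L₁ L₂ c hcinj, hm, MonoidHom.map_zpowers, hcj]
  have hcard1 : Nat.card (L₁.map c) = Nat.card L₁ := Subgroup.card_map_of_injective hcinj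
  have hcard2 : Nat.card (L₂.map c) = Nat.card L₂ := Subgroup.card_map_of_injective hcinj
  have r1 := le_or_le L₁ L₂ (L₁.map c) (L₂.map c) j S₁ S₂ hc hc' hY hj1 hjsq hm hmH
  have r2 := le_or_le L₂ L₁ (L₁.map c) (L₂.map c) j S₂ S₁
    (fun x hx y hy => (hc y hy x hx).symm) hc' (by rw [sup_comm]; exact hY) hj1 hjsq
    (by rw [inf_comm]; exact hm) hmH
  have hcz : Nat.card (Subgroup.zpowers j) = 2 := by rw [Nat.card_zpowers, hj]
  -- both factors cannot lie in the same `H_i`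
  have excl1 : ¬ (L₁ ≤ L₁.map c ∧ L₂ ≤ L₁.map c) := by
    rintro ⟨h1, h2⟩
    have h3 : L₂.map c ≤ L₁.map c := by
      calc L₂.map c ≤ L₁.map c ⊔ L₂.map c := le_sup_right
        _ = L₁ ⊔ L₂ := hY.symm
        _ ≤ L₁.map c := sup_le h1 h2
    have h4 : L₁.map c ⊓ L₂.map c = L₂.map c := inf_eq_right.mpr h3
    rw [hmH] at h4
    have h5 := S₂.two_lt
    rw [← hcard2, ← h4, hcz] at h5
    exact absurd h5 (lt_irrefl 2)
  have excl2 : ¬ (L₁ ≤ L₂.map c ∧ L₂ ≤ L₂.map c) := by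
    rintro ⟨h1, h2⟩
    have h3 : L₁.map c ≤ L₂.map c := by
      calc L₁.map c ≤ L₁.map c ⊔ L₂.map c := le_sup_left
        _ = L₁ ⊔ L₂ := hY.symm
        _ ≤ L₂.map c := sup_le h1 h2
    have h4 : L₁.map c ⊓ L₂.map c = L₁.map c := inf_eq_left.mpr h3
    rw [hmH] at h4
    have h5 := S₁.two_lt
    rw [← hcard1, ← h4, hcz] at h5
    exact absurd h5 (lt_irrefl 2)
  rcases r1 with h1 | h1
  · rcases r2 with h2 | h2
    · exact absurd ⟨h1, h2⟩ excl1
    · left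
      exact ⟨(Subgroup.eq_of_le_of_card_ge h1 hcard1.le).symm,
        (Subgroup.eq_of_le_of_card_ge h2 hcard2.le).symm⟩
  · rcases r2 with h2 | h2
    · right
      have k1 : Nat.card L₁ ≤ Nat.card L₂ := by
        rw [← hcard2]; exact Subgroup.card_le_of_le h1
      have k2 : Nat.card L₂ ≤ Nat.card L₁ := by
        rw [← hcard1]; exact Subgroup.card_le_of_le h2
      have k3 : Nat.card L₁ = Nat.card L₂ := le_antisymm k1 k2
      exact ⟨(Subgroup.eq_of_le_of_card_ge h2 (by rw [hcard1, k3])).symm,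
        (Subgroup.eq_of_le_of_card_ge h1 (by rw [hcard2, k3])).symm⟩
    · exact absurd ⟨h1, h2⟩ excl2

end Cfsg.Agent.Lib.Helper18.SL2Dec
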