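import Mathlib

/-!
# P. Hall's theorem on `r`-groups of symplectic type, the easy case (helper18)

Part A of the farm-out piece SUCor C6EXACT of helper9: a finite `r`-group all of whose characteristic abelian
subgroups are cyclic, of exponent `e₀ = r gcd(2, r)` and with centre of order `e₀`, has class at most two.

Proof (after helper9's notes): `U = Z₂(G)`; `U ⊓ C(U)` is a characteristic abelian subgroup, hence cyclic of order
dividing `e₀`, hence equal to `Z(G)`.  Commutators `[u, g]`, `u ∈ U`, are central of order dividing `r`, so each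
centraliser `C(u)` has index at most `r` in any subgroup; adding the elements of `U` one at a time gives
`|G| |Z| ≤ |C(U)| |U|`.  The normal subgroup `C(U)` meets `U` in `Z`, so it is `Z` (a normal subgroup of an
`r`-group not inside the centre contains a non-central element of `Z₂`).  Hence `U = G`.
-/

set_option autoImplicit false

namespace Cfsg.Agent.Lib.Helper18.SUCorC6

section groupA

variable {G : Type*} [Group G]

theorem mem_Z2 {u : G} :
    u ∈ Subgroup.upperCentralSeries G 2 ↔ ∀ g : G, u * g * u⁻¹ * g⁻¹ ∈ Subgroup.center G := by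
  rw [show (2 : ℕ) = 1 + 1 from rfl, Subgroup.mem_upperCentralSeries_succ_iff, Subgroup.upperCentralSeries_one]
  simp only [commutatorElement_def]

theorem center_le_Z2 : Subgroup.center G ≤ Subgroup.upperCentralSeries G 2 := by
  intro z hz
  rw [mem_Z2]
  intro g
  have h := (Subgroup.mem_center_iff.1 hz) g
  have : z * g * z⁻¹ * g⁻¹ = 1 := by
    rw [← h]
    group
  rw [this]
  exact one_mem _

/-- the commutator map is multiplicative in the second variable -/
theorem kap_mul_right {u : G} (hu : u ∈ Subgroup.upperCentralSeries G 2) (g h : G) :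
    u * (g * h) * u⁻¹ * (g * h)⁻¹ = (u * g * u⁻¹ * g⁻¹) * (u * h * u⁻¹ * h⁻¹) := by
  have hc := Subgroup.mem_center_iff.1 ((mem_Z2.1 hu) h)
  calc u * (g * h) * u⁻¹ * (g * h)⁻¹ = (u * g * u⁻¹) * ((u * h * u⁻¹ * h⁻¹) * g⁻¹) := by group
    _ = (u * g * u⁻¹) * (g⁻¹ * (u * h * u⁻¹ * h⁻¹)) := by rw [hc g⁻¹]
    _ = (u * g * u⁻¹ * g⁻¹) * (u * h * u⁻¹ * h⁻¹) := by group

/-- the commutator map is multiplicative in the first variable -/
theorem kap_mul_left {u v : G} (hv : v ∈ Subgroup.upperCentralSeries G 2) (g : G) :
    (u * v) * g * (u * v)⁻¹ * g⁻¹ = (u * g * u⁻¹ * g⁻¹) * (v * g * v⁻¹ * g⁻¹) := by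
  have hc := Subgroup.mem_center_iff.1 ((mem_Z2.1 hv) g)
  calc (u * v) * g * (u * v)⁻¹ * g⁻¹ = u * ((v * g * v⁻¹ * g⁻¹) * (g * u⁻¹ * g⁻¹)) := by group
    _ = u * ((g * u⁻¹ * g⁻¹) * (v * g * v⁻¹ * g⁻¹)) := by rw [hc (g * u⁻¹ * g⁻¹)]
    _ = (u * g * u⁻¹ * g⁻¹) * (v * g * v⁻¹ * g⁻¹) := by group

theorem kap_pow_left {u : G} (hu : u ∈ Subgroup.upperCentralSeries G 2) (g : G) (m : ℕ) :
    (u ^ m) * g * (u ^ m)⁻¹ * g⁻¹ = (u * g * u⁻¹ * g⁻¹) ^ m := by
  induction m with
  | zero => simp
  | succ k ih =>
    rw [pow_succ, kap_mul_left hu, ih, pow_succ]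

/-- class two power formula in the case needed: exponent four forces commutators of order two -/
theorem kap_sq_eq_one {a b : G} (hz : ∀ x : G, x * (a * b * a⁻¹ * b⁻¹) = (a * b * a⁻¹ * b⁻¹) * x)
    (ha : a ^ 4 = 1) (hb : b ^ 4 = 1) (hab : (a * b) ^ 4 = 1) (hz4 : (a * b * a⁻¹ * b⁻¹) ^ 4 = 1) :
    (a * b * a⁻¹ * b⁻¹) ^ 2 = 1 := by
  obtain ⟨c, hcdef⟩ : ∃ c : G, c = (a * b * a⁻¹ * b⁻¹)⁻¹ := ⟨_, rfl⟩
  -- `c = z⁻¹` is central and `b a = a b c`
  have hc : ∀ x : G, x * c = c * x := by
    intro x
    have := hz x⁻¹
    calc x * c = ((a * b * a⁻¹ * b⁻¹) * x⁻¹)⁻¹ := by rw [hcdef]; group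
      _ = (x⁻¹ * (a * b * a⁻¹ * b⁻¹))⁻¹ := by rw [this]
      _ = c * x := by rw [hcdef]; group
  have h1 : b * a = a * b * c := by
    calc b * a = c * (a * b) := by rw [hcdef]; group
      _ = a * b * c := (hc (a * b)).symm
  have h2 : b * (a * a) = (a * a) * b * (c * c) := by
    calc b * (a * a) = (b * a) * a := by group
      _ = a * b * c * a := by rw [h1]
      _ = a * (b * (c * a)) := by group
      _ = a * (b * (a * c)) := by rw [hc a]
      _ = a * ((b * a) * c) := by group
      _ = a * ((a * b * c) * c) := by rw [h1]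
      _ = (a * a) * b * (c * c) := by group
  have h3 : (b * b) * (a * a) = (a * a) * (b * b) * (c * c * c * c) := by
    calc (b * b) * (a * a) = b * (b * (a * a)) := by group
      _ = b * ((a * a) * b * (c * c)) := by rw [h2]
      _ = (b * (a * a)) * b * (c * c) := by group
      _ = ((a * a) * b * (c * c)) * b * (c * c) := by rw [h2]
      _ = (a * a) * b * (c * (c * b)) * (c * c) := by group
      _ = (a * a) * b * (c * (b * c)) * (c * c) := by rw [hc b]
      _ = (a * a) * b * ((c * b) * c) * (c * c) := by group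
      _ = (a * a) * b * ((b * c) * c) * (c * c) := by rw [hc b]
      _ = (a * a) * (b * b) * (c * c * c * c) := by group
  have h4 : (a * b) * (a * b) = (a * a) * (b * b) * c := by
    calc (a * b) * (a * b) = a * (b * a) * b := by group
      _ = a * (a * b * c) * b := by rw [h1]
      _ = a * a * b * (c * b) := by group
      _ = a * a * b * (b * c) := by rw [hc b]
      _ = (a * a) * (b * b) * c := by group
  have hc2 : ∀ x : G, x * (c * c) = (c * c) * x := by
    intro x
    calc x * (c * c) = (x * c) * c := by group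
      _ = (c * x) * c := by rw [hc x]
      _ = c * (x * c) := by group
      _ = c * (c * x) := by rw [hc x]
      _ = (c * c) * x := by group
  have hc4 : ∀ x : G, x * (c * c * c * c) = (c * c * c * c) * x := by
    intro x
    calc x * (c * c * c * c) = (x * (c * c)) * (c * c) := by group
      _ = ((c * c) * x) * (c * c) := by rw [hc2 x]
      _ = (c * c) * (x * (c * c)) := by group
      _ = (c * c) * ((c * c) * x) := by rw [hc2 x]
      _ = (c * c * c * c) * x := by group
  have h5 : ((a * b) * (a * b)) * ((a * b) * (a * b))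
      = (a * a * a * a) * (b * b * b * b) * (c * c * c * c * c * c) := by
    calc ((a * b) * (a * b)) * ((a * b) * (a * b))
        = ((a * a) * (b * b) * c) * ((a * a) * (b * b) * c) := by rw [h4]
      _ = (a * a) * (b * b) * (c * ((a * a) * (b * b))) * c := by group
      _ = (a * a) * (b * b) * (((a * a) * (b * b)) * c) * c := by rw [hc ((a * a) * (b * b))]
      _ = (a * a) * ((b * b) * (a * a)) * (b * b) * (c * c) := by group
      _ = (a * a) * ((a * a) * (b * b) * (c * c * c * c)) * (b * b) * (c * c) := by rw [h3]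
      _ = (a * a * a * a) * (b * b) * ((c * c * c * c) * (b * b)) * (c * c) := by group
      _ = (a * a * a * a) * (b * b) * ((b * b) * (c * c * c * c)) * (c * c) := by rw [hc4 (b * b)]
      _ = (a * a * a * a) * (b * b * b * b) * (c * c * c * c * c * c) := by group
  have e4 : ∀ x : G, x ^ 4 = x * x * x * x := by
    intro x
    simp [pow_succ]
  have e4' : ∀ x : G, x ^ 4 = (x * x) * (x * x) := by
    intro x
    rw [e4]; group
  rw [e4' (a * b), h5, ← e4 a, ← e4 b, ha, hb, one_mul, one_mul] at hab
  -- `c ^ 6 = 1` and `c ^ 4 = 1`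
  have hz4' : c * c * c * c = 1 := by
    have : c ^ 4 = 1 := by
      rw [hcdef, inv_pow, hz4, inv_one]
    rwa [e4] at this
  have hcc : c * c = 1 := by
    rw [hz4', one_mul] at hab
    exact hab
  have : ((a * b * a⁻¹ * b⁻¹) ^ 2)⁻¹ = 1 := by
    rw [← inv_pow, ← hcdef, pow_two, hcc]
  rwa [inv_eq_one] at this

end groupA

section finite

variable {G : Type*} [Group G] [Finite G]

/-- in a finite `p`-group a non-trivial normal subgroup meets the centre -/
theorem normal_inf_center_ne_bot {p : ℕ} [Fact p.Prime] (hG : IsPGroup p G) (N : Subgroup G) [N.Normal]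
    (hN : N ≠ ⊥) : ∃ x ∈ N, x ∈ Subgroup.center G ∧ x ≠ 1 := by
  have hGc : IsPGroup p (ConjAct G) := hG.of_equiv ConjAct.toConjAct
  have hNp : IsPGroup p N := hG.to_subgroup N
  have hdvd : p ∣ Nat.card N := by
    rcases hNp.card_eq_or_dvd with h | h
    · exact absurd (Subgroup.card_eq_one.mp h) hN
    · exact h
  have h1 : (1 : N) ∈ MulAction.fixedPoints (ConjAct G) N := fun g => smul_one g
  obtain ⟨b, hb, hb1⟩ := hGc.exists_fixed_point_of_prime_dvd_card_of_fixed_point N hdvd h1
  refine ⟨(b : G), b.2, ?_, ?_⟩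
  · rw [Subgroup.mem_center_iff]
    intro g
    have := hb (ConjAct.toConjAct g)
    have h2 := congrArg Subtype.val this
    rw [ConjAct.Subgroup.val_conj_smul, ConjAct.toConjAct_smul] at h2
    calc g * (b : G) = (g * (b : G) * g⁻¹) * g := by group
      _ = (b : G) * g := by rw [h2]
  · intro h
    apply hb1
    exact (Subtype.ext h).symm

/-- a normal subgroup of a finite `p`-group not contained in the centre contains a non-central element of `Z₂` -/
theorem exists_mem_Z2_of_normal {p : ℕ} [Fact p.Prime] (hG : IsPGroup p G) (N : Subgroup G) [hNn : N.Normal]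
    (hN : ¬ N ≤ Subgroup.center G) :
    ∃ x ∈ N, x ∉ Subgroup.center G ∧ x ∈ Subgroup.upperCentralSeries G 2 := by
  classical
  have hπs : Function.Surjective (QuotientGroup.mk' (Subgroup.center G)) := QuotientGroup.mk'_surjective _
  have : (N.map (QuotientGroup.mk' (Subgroup.center G))).Normal := Subgroup.Normal.map hNn _ hπs
  have hne : N.map (QuotientGroup.mk' (Subgroup.center G)) ≠ ⊥ := by
    intro h
    apply hN
    intro x hx
    have : (QuotientGroup.mk' (Subgroup.center G)) x ∈ N.map (QuotientGroup.mk' (Subgroup.center G)) :=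
      Subgroup.mem_map_of_mem _ hx
    rw [h, Subgroup.mem_bot] at this
    exact (QuotientGroup.eq_one_iff x).1 this
  have hQ : IsPGroup p (G ⧸ Subgroup.center G) := hG.to_quotient _
  obtain ⟨y, hyN, hyc, hy1⟩ := normal_inf_center_ne_bot hQ _ hne
  obtain ⟨x, hxN, rfl⟩ := Subgroup.mem_map.1 hyN
  refine ⟨x, hxN, ?_, ?_⟩
  · intro hx
    apply hy1
    exact (QuotientGroup.eq_one_iff x).2 hx
  · rw [mem_Z2]
    intro g
    rw [← QuotientGroup.eq_one_iff]
    have hc := Subgroup.mem_center_iff.1 hyc ((QuotientGroup.mk' (Subgroup.center G)) g)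
    have : ((x * g * x⁻¹ * g⁻¹ : G) : G ⧸ Subgroup.center G)
        = (QuotientGroup.mk' (Subgroup.center G)) x * (QuotientGroup.mk' (Subgroup.center G)) g
          * ((QuotientGroup.mk' (Subgroup.center G)) x)⁻¹ * ((QuotientGroup.mk' (Subgroup.center G)) g)⁻¹ := rfl
    rw [this, ← hc]
    group

/-- the centraliser of one more element of `Z₂` has index at most `r` -/
theorem card_le_mul_card_inf_centralizer {r : ℕ} (hcyc : IsCyclic (Subgroup.center G)) {u : G}
    (hu : u ∈ Subgroup.upperCentralSeries G 2) (hur : ∀ g : G, (u * g * u⁻¹ * g⁻¹) ^ r = 1) (hr : 0 < r)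
    (K : Subgroup G) :
    Nat.card K ≤ r * Nat.card (K ⊓ Subgroup.centralizer ({u} : Set G) : Subgroup G) := by
  classical
  let φ : K →* G := MonoidHom.mk' (fun g => u * (g : G) * u⁻¹ * (g : G)⁻¹)
    (fun a b => by
      have := kap_mul_right hu (a : G) (b : G)
      simpa using this)
  have hφ : ∀ g : K, φ g = u * (g : G) * u⁻¹ * (g : G)⁻¹ := fun g => rfl
  have hrange : φ.range ≤ Subgroup.center G := by
    rintro _ ⟨g, rfl⟩
    rw [hφ]
    exact (mem_Z2.1 hu) g
  have : IsCyclic φ.range := Subgroup.isCyclic_of_le hrange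
  have hcard : Nat.card φ.range ∣ r := by
    rw [← IsCyclic.exponent_eq_card]
    apply Monoid.exponent_dvd_of_forall_pow_eq_one
    rintro ⟨_, ⟨g, rfl⟩⟩
    apply Subtype.ext
    show (φ g) ^ r = 1
    rw [hφ]
    exact hur g
  have h1 : Nat.card φ.ker * Nat.card φ.range = Nat.card K := by
    rw [← Subgroup.index_ker]
    exact Subgroup.card_mul_index _
  have h2 : Nat.card φ.ker ≤ Nat.card (K ⊓ Subgroup.centralizer ({u} : Set G) : Subgroup G) := by
    have hmem : ∀ x : φ.ker, ((x : K) : G) ∈ K ⊓ Subgroup.centralizer ({u} : Set G) := by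
      intro x
      refine Subgroup.mem_inf.2 ⟨(x : K).2, ?_⟩
      rw [Subgroup.mem_centralizer_iff]
      intro h hh
      rw [Set.mem_singleton_iff] at hh
      subst hh
      have hx : φ (x : K) = 1 := x.2
      rw [hφ] at hx
      calc h * ((x : K) : G) = (h * ((x : K) : G) * h⁻¹ * ((x : K) : G)⁻¹) * (((x : K) : G) * h) := by group
        _ = ((x : K) : G) * h := by rw [hx, one_mul]
    apply Nat.card_le_card_of_injective (fun x : φ.ker => (⟨((x : K) : G), hmem x⟩ :
      (K ⊓ Subgroup.centralizer ({u} : Set G) : Subgroup G)))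
    intro x y hxy
    apply Subtype.ext
    apply Subtype.ext
    have := congrArg Subtype.val hxy
    exact this
  have h3 : Nat.card φ.range ≤ r := Nat.le_of_dvd hr hcard
  calc Nat.card K = Nat.card φ.ker * Nat.card φ.range := h1.symm
    _ ≤ Nat.card (K ⊓ Subgroup.centralizer ({u} : Set G) : Subgroup G) * r := Nat.mul_le_mul h2 h3
    _ = r * Nat.card (K ⊓ Subgroup.centralizer ({u} : Set G) : Subgroup G) := Nat.mul_comm _ _

/-- adding the elements of `Z₂` one at a time: `|G| |Z| ≤ |C(Z₂)| |Z₂|` -/
theorem index_bound {r : ℕ} (hr : r.Prime) (hG : IsPGroup r G) (hcyc : IsCyclic (Subgroup.center G))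
    (hur : ∀ u ∈ Subgroup.upperCentralSeries G 2, ∀ g : G, (u * g * u⁻¹ * g⁻¹) ^ r = 1) :
    ∀ (d : ℕ) (W : Subgroup G), W ≤ Subgroup.upperCentralSeries G 2 →
      Nat.card (Subgroup.upperCentralSeries G 2) - Nat.card W = d →
      Nat.card G * Nat.card (Subgroup.center G) ≤ Nat.card (Subgroup.centralizer (W : Set G)) * Nat.card W →
      Nat.card G * Nat.card (Subgroup.center G) ≤
        Nat.card (Subgroup.centralizer (Subgroup.upperCentralSeries G 2 : Set G)) *
          Nat.card (Subgroup.upperCentralSeries G 2) := by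
  haveI : Fact r.Prime := ⟨hr⟩
  intro d
  induction d using Nat.strong_induction_on with
  | _ d ih =>
    intro W hWU hd hP
    by_cases hWeq : W = Subgroup.upperCentralSeries G 2
    · rw [hWeq] at hP
      exact hP
    · obtain ⟨u, huU, huW⟩ : ∃ u ∈ Subgroup.upperCentralSeries G 2, u ∉ W := by
        by_contra hcon
        push Not at hcon
        exact hWeq (le_antisymm hWU hcon)
      obtain ⟨W', hW'def⟩ : ∃ W' : Subgroup G, W' = W ⊔ Subgroup.zpowers u := ⟨_, rfl⟩
      have hWW' : W ≤ W' := by rw [hW'def]; exact le_sup_left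
      have huW' : u ∈ W' := by
        rw [hW'def]
        exact (le_sup_right : Subgroup.zpowers u ≤ W ⊔ Subgroup.zpowers u) (Subgroup.mem_zpowers u)
      have hW'U : W' ≤ Subgroup.upperCentralSeries G 2 := by
        rw [hW'def]
        exact sup_le hWU ((Subgroup.zpowers_le).2 huU)
      have hlt : Nat.card W < Nat.card W' := by
        by_contra hcon
        push Not at hcon
        have : W = W' := Subgroup.eq_of_le_of_card_ge hWW' hcon
        apply huW
        rw [this]
        exact huW'
      have hmul : r * Nat.card W ≤ Nat.card W' := by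
        obtain ⟨a, ha⟩ := (hG.to_subgroup W).exists_card_eq
        obtain ⟨b, hb⟩ := (hG.to_subgroup W').exists_card_eq
        rw [ha, hb] at hlt
        rw [ha, hb]
        have hab : a < b := (Nat.pow_lt_pow_iff_right hr.one_lt).1 hlt
        calc r * r ^ a = r ^ (a + 1) := by ring
          _ ≤ r ^ b := Nat.pow_le_pow_right hr.pos hab
      have hcen : Subgroup.centralizer (W : Set G) ⊓ Subgroup.centralizer ({u} : Set G)
          ≤ Subgroup.centralizer (W' : Set G) := by
        intro g hg
        obtain ⟨hg1, hg2⟩ := Subgroup.mem_inf.1 hg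
        rw [Subgroup.mem_centralizer_iff] at hg1 hg2
        have hle : W' ≤ Subgroup.centralizer ({g} : Set G) := by
          rw [hW'def]
          apply sup_le
          · intro w hw
            rw [Subgroup.mem_centralizer_iff]
            intro h hh
            rw [Set.mem_singleton_iff] at hh
            subst hh
            exact (hg1 w hw).symm
          · rw [Subgroup.zpowers_le, Subgroup.mem_centralizer_iff]
            intro h hh
            rw [Set.mem_singleton_iff] at hh
            subst hh
            exact (hg2 u rfl).symm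
        rw [Subgroup.mem_centralizer_iff]
        intro w hw
        have := hle hw
        rw [Subgroup.mem_centralizer_iff] at this
        exact (this g rfl).symm
      have h1 := card_le_mul_card_inf_centralizer hcyc huU (hur u huU) hr.pos (Subgroup.centralizer (W : Set G))
      have h2 : Nat.card (Subgroup.centralizer (W : Set G) ⊓ Subgroup.centralizer ({u} : Set G) : Subgroup G)
          ≤ Nat.card (Subgroup.centralizer (W' : Set G)) := Subgroup.card_le_of_le hcen
      have hP' : Nat.card G * Nat.card (Subgroup.center G)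
          ≤ Nat.card (Subgroup.centralizer (W' : Set G)) * Nat.card W' := by
        calc Nat.card G * Nat.card (Subgroup.center G)
            ≤ Nat.card (Subgroup.centralizer (W : Set G)) * Nat.card W := hP
          _ ≤ (r * Nat.card (Subgroup.centralizer (W : Set G) ⊓ Subgroup.centralizer ({u} : Set G) : Subgroup G))
                * Nat.card W := Nat.mul_le_mul_right _ h1
          _ ≤ (r * Nat.card (Subgroup.centralizer (W' : Set G))) * Nat.card W :=
              Nat.mul_le_mul_right _ (Nat.mul_le_mul_left _ h2)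
          _ = Nat.card (Subgroup.centralizer (W' : Set G)) * (r * Nat.card W) := by ring
          _ ≤ Nat.card (Subgroup.centralizer (W' : Set G)) * Nat.card W' := Nat.mul_le_mul_left _ hmul
      have hW'le : Nat.card W' ≤ Nat.card (Subgroup.upperCentralSeries G 2) := Subgroup.card_le_of_le hW'U
      exact ih (Nat.card (Subgroup.upperCentralSeries G 2) - Nat.card W') (by omega) W' hW'U rfl hP'

/-- **P. Hall, easy case**: class at most two -/
theorem class_two {r : ℕ} (hr : r.Prime) (hG : IsPGroup r G)
    (hcyc : ∀ A : Subgroup G, A.Characteristic → IsMulCommutative A → IsCyclic A)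
    (hexp : Monoid.exponent G = r * Nat.gcd 2 r)
    (hZ : Nat.card (Subgroup.center G) = r * Nat.gcd 2 r) :
    ∀ x g : G, x * g * x⁻¹ * g⁻¹ ∈ Subgroup.center G := by
  classical
  haveI : Fact r.Prime := ⟨hr⟩
  have hcycZ : IsCyclic (Subgroup.center G) := hcyc _ inferInstance inferInstance
  have hpow : ∀ g : G, g ^ (r * Nat.gcd 2 r) = 1 := by
    intro g
    rw [← hexp]
    exact Monoid.pow_exponent_eq_one g
  -- `Z₂ ⊓ C(Z₂) = Z`
  have hA : Subgroup.upperCentralSeries G 2 ⊓ Subgroup.centralizer (Subgroup.upperCentralSeries G 2 : Set G)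
      ≤ Subgroup.center G := by
    obtain ⟨A, hAdef⟩ : ∃ A : Subgroup G, A = Subgroup.upperCentralSeries G 2 ⊓
        Subgroup.centralizer (Subgroup.upperCentralSeries G 2 : Set G) := ⟨_, rfl⟩
    have hAchar : A.Characteristic := by
      rw [hAdef]
      infer_instance
    have hAcomm : IsMulCommutative A := by
      refine ⟨⟨fun a b => ?_⟩⟩
      apply Subtype.ext
      have ha : (a : G) ∈ Subgroup.upperCentralSeries G 2 ⊓
          Subgroup.centralizer (Subgroup.upperCentralSeries G 2 : Set G) := by
        rw [← hAdef]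
        exact a.2
      have hb : (b : G) ∈ Subgroup.upperCentralSeries G 2 ⊓
          Subgroup.centralizer (Subgroup.upperCentralSeries G 2 : Set G) := by
        rw [← hAdef]
        exact b.2
      have h1 := (Subgroup.mem_inf.1 ha).2
      have h2 := (Subgroup.mem_inf.1 hb).1
      rw [Subgroup.mem_centralizer_iff] at h1
      exact (h1 (b : G) h2).symm
    have hAcyc : IsCyclic A := hcyc A hAchar hAcomm
    have hZA : Subgroup.center G ≤ A := by
      rw [hAdef]
      apply le_inf center_le_Z2
      exact Subgroup.center_le_centralizer _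
    have hcardA : Nat.card A ∣ r * Nat.gcd 2 r := by
      rw [← IsCyclic.exponent_eq_card]
      apply Monoid.exponent_dvd_of_forall_pow_eq_one
      intro a
      apply Subtype.ext
      rw [Subgroup.coe_pow, Subgroup.coe_one]
      exact hpow a
    have hle : Nat.card A ≤ Nat.card (Subgroup.center G) := by
      rw [hZ]
      apply Nat.le_of_dvd _ hcardA
      exact Nat.mul_pos hr.pos (Nat.gcd_pos_of_pos_left _ (by norm_num))
    have := Subgroup.eq_of_le_of_card_ge hZA hle
    rw [← hAdef, ← this]
  -- commutators with `Z₂` have order dividing `r`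
  have hur : ∀ u ∈ Subgroup.upperCentralSeries G 2, ∀ g : G, (u * g * u⁻¹ * g⁻¹) ^ r = 1 := by
    intro u hu g
    rcases hr.eq_two_or_odd' with h2 | hodd
    · subst h2
      have h4 : ∀ x : G, x ^ 4 = 1 := by
        intro x
        have := hpow x
        norm_num at this
        exact this
      exact kap_sq_eq_one (Subgroup.mem_center_iff.1 ((mem_Z2.1 hu) g)) (h4 u) (h4 g) (h4 _) (h4 _)
    · have hgcd : Nat.gcd 2 r = 1 := Nat.coprime_two_left.2 hodd
      have := hpow u
      rw [hgcd, mul_one] at this
      rw [← kap_pow_left hu, this]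
      simp
  -- the counting
  have hcount := index_bound hr hG hcycZ hur _ (Subgroup.center G) center_le_Z2 rfl (by
    have : Subgroup.centralizer ((Subgroup.center G : Subgroup G) : Set G) = ⊤ := by
      rw [Subgroup.centralizer_eq_top_iff_subset]
    rw [this, Subgroup.card_top])
  -- `C(Z₂) ≤ Z`
  have hC : Subgroup.centralizer (Subgroup.upperCentralSeries G 2 : Set G) ≤ Subgroup.center G := by
    by_contra hcon
    obtain ⟨x, hxN, hxZ, hxU⟩ := exists_mem_Z2_of_normal hG _ hcon
    exact hxZ (hA (Subgroup.mem_inf.2 ⟨hxU, hxN⟩))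
  have hCcard : Nat.card (Subgroup.centralizer (Subgroup.upperCentralSeries G 2 : Set G))
      ≤ Nat.card (Subgroup.center G) := Subgroup.card_le_of_le hC
  have hZpos : 0 < Nat.card (Subgroup.center G) := Nat.card_pos
  have hfin : Nat.card G ≤ Nat.card (Subgroup.upperCentralSeries G 2) := by
    have h1 : Nat.card G * Nat.card (Subgroup.center G)
        ≤ Nat.card (Subgroup.upperCentralSeries G 2) * Nat.card (Subgroup.center G) := by
      calc Nat.card G * Nat.card (Subgroup.center G)
          ≤ Nat.card (Subgroup.centralizer (Subgroup.upperCentralSeries G 2 : Set G)) *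
              Nat.card (Subgroup.upperCentralSeries G 2) := hcount
        _ ≤ Nat.card (Subgroup.center G) * Nat.card (Subgroup.upperCentralSeries G 2) :=
            Nat.mul_le_mul_right _ hCcard
        _ = Nat.card (Subgroup.upperCentralSeries G 2) * Nat.card (Subgroup.center G) := Nat.mul_comm _ _
    exact Nat.le_of_mul_le_mul_right h1 hZpos
  have htop : Subgroup.upperCentralSeries G 2 = ⊤ := Subgroup.eq_top_of_le_card _ hfin
  intro x g
  have hx : x ∈ Subgroup.upperCentralSeries G 2 := by
    rw [htop]
    exact Subgroup.mem_top x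
  exact (mem_Z2.1 hx) g

end finite

end Cfsg.Agent.Lib.Helper18.SUCorC6
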