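import Mathlib
import Cfsg.Prelude.Def_GeometricClasses
import Cfsg.Agent.Lib.Helper12.AschG1
import Cfsg.Agent.Lib.Helper24.HubCorA3
import Cfsg.Agent.Lib.Helper18.SUCorC6A

/-!
# SUCor C6POW and C6EXACT (helper18, for helper9's SU corollary family)

`exists_pow_of_symplecticType` (C6POW) and `dim_eq_pow_of_symplecticType` (C6EXACT, P. Hall's theorem in the easy
case): an absolutely irreducible `r`-group of symplectic type, exponent `r gcd(2, r)` and centre of that order, of
order `r ^ (1 + 2 k)` (`r` odd) or `2 ^ (2 + 2 k)`, lives in dimension exactly `r ^ k`.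

Proof: by `SUCorC6A.class_two` the group has class two, so every non-central element `y` is conjugate to `ζ y` with a
scalar `ζ ≠ 1`, hence has trace zero; coset representatives of the centre are therefore linearly independent (the
dimension is a power of `r`, invertible in `F`), and they span the matrix algebra (Burnside).
-/

set_option autoImplicit false

namespace Cfsg.Agent.Lib.Helper18.SUCorC6

open Cfsg Cfsg.Geo
open scoped MatrixGroups Matrix

variable {F : Type*} [Field F] {n : ℕ}

/-- the matrix of an element of a matrix group -/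
def mat {R : Subgroup (GL (Fin n) F)} (x : R) : Matrix (Fin n) (Fin n) F :=
  ((x : GL (Fin n) F) : Matrix (Fin n) (Fin n) F)

theorem mat_mul {R : Subgroup (GL (Fin n) F)} (x y : R) : mat (x * y) = mat x * mat y := rfl

theorem mat_one {R : Subgroup (GL (Fin n) F)} : mat (1 : R) = 1 := rfl

theorem mat_inv_mul {R : Subgroup (GL (Fin n) F)} (x : R) : mat x⁻¹ * mat x = 1 := by
  rw [← mat_mul, inv_mul_cancel, mat_one]

theorem mat_mul_inv {R : Subgroup (GL (Fin n) F)} (x : R) : mat x * mat x⁻¹ = 1 := by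
  rw [← mat_mul, mul_inv_cancel, mat_one]

theorem mat_injective {R : Subgroup (GL (Fin n) F)} : Function.Injective (mat (R := R)) := by
  intro x y h
  apply Subtype.ext
  apply Units.ext
  exact h

theorem mat_mem {R : Subgroup (GL (Fin n) F)} (x : R) : mat x ∈ matrixSet R :=
  ⟨(x : GL (Fin n) F), x.2, rfl⟩

/-- central elements of an absolutely irreducible group are scalar -/
theorem exists_scalar_of_mem_center {R : Subgroup (GL (Fin n) F)}
    (habs : ActsAbsolutelyIrreducibly (matrixSet R)) {z : R} (hz : z ∈ Subgroup.center R) :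
    ∃ c : F, mat z = c • (1 : Matrix (Fin n) (Fin n) F) := by
  apply habs.2
  rintro s ⟨g, hg, rfl⟩
  have := (Subgroup.mem_center_iff.1 hz) ⟨g, hg⟩
  have h2 := congrArg mat this
  rw [mat_mul, mat_mul] at h2
  exact h2.symm

/-- in a class two absolutely irreducible group the non-central elements have trace zero -/
theorem trace_eq_zero {R : Subgroup (GL (Fin n) F)} (habs : ActsAbsolutelyIrreducibly (matrixSet R))
    (hcl : ∀ x g : R, x * g * x⁻¹ * g⁻¹ ∈ Subgroup.center R) {y : R} (hy : y ∉ Subgroup.center R) :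
    Matrix.trace (mat y) = 0 := by
  rw [Subgroup.mem_center_iff] at hy
  push Not at hy
  obtain ⟨g, hg⟩ := hy
  obtain ⟨ζ, hζ⟩ := exists_scalar_of_mem_center habs (hcl g y)
  have hζ1 : ζ ≠ 1 := by
    rintro rfl
    rw [one_smul, ← mat_one (R := R)] at hζ
    have := mat_injective hζ
    apply hg
    calc g * y = (g * y * g⁻¹ * y⁻¹) * (y * g) := by group
      _ = y * g := by rw [this, one_mul]
  have h1 : mat g * mat y * mat g⁻¹ = ζ • mat y := by
    have : g * y * g⁻¹ = (g * y * g⁻¹ * y⁻¹) * y := by group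
    have h2 := congrArg mat this
    rw [mat_mul (g * y * g⁻¹ * y⁻¹) y, hζ, mat_mul, mat_mul] at h2
    rw [h2, Matrix.smul_mul, Matrix.one_mul]
  have h3 : Matrix.trace (mat g * mat y * mat g⁻¹) = Matrix.trace (mat y) := by
    rw [Matrix.trace_mul_cycle, mat_inv_mul, Matrix.one_mul]
  rw [h1, Matrix.trace_smul, smul_eq_mul] at h3
  have h4 : (ζ - 1) * Matrix.trace (mat y) = 0 := by
    rw [sub_mul, h3, one_mul, sub_self]
  rcases mul_eq_zero.1 h4 with h | h
  · exact absurd (sub_eq_zero.1 h) hζ1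
  · exact h

/-- Burnside: the matrices of an absolutely irreducible group span the matrix algebra -/
theorem span_matrixSet_eq_top (hn : 0 < n) (R : Subgroup (GL (Fin n) F))
    (habs : ActsAbsolutelyIrreducibly (matrixSet R)) :
    Submodule.span F (matrixSet R) = ⊤ := by
  haveI : Nonempty (Fin n) := ⟨⟨0, hn⟩⟩
  rw [eq_top_iff]
  intro M _
  have hM := Cfsg.Agent.Lib.Helper12.AschG1.mem_adjoin_of_absIrred (matrixSet R) habs M
  rw [← Subalgebra.mem_toSubmodule, Algebra.adjoin_eq_span] at hM
  have hcl : (Submonoid.closure (matrixSet R) : Set (Matrix (Fin n) (Fin n) F)) = matrixSet R := by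
    apply le_antisymm
    · intro x hx
      induction hx using Submonoid.closure_induction with
      | mem y hy => exact hy
      | one => exact ⟨1, R.one_mem, rfl⟩
      | mul a b _ _ ha hb =>
        obtain ⟨g, hg, rfl⟩ := ha
        obtain ⟨h, hh, rfl⟩ := hb
        exact ⟨g * h, R.mul_mem hg hh, rfl⟩
    · exact Submonoid.subset_closure
  rwa [hcl] at hM

/-- the counting: `|R| = n² |Z(R)|` -/
theorem card_eq_of_class_two (hn : 0 < n) (R : Subgroup (GL (Fin n) F)) [Finite R]
    (habs : ActsAbsolutelyIrreducibly (matrixSet R))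
    (hcl : ∀ x g : R, x * g * x⁻¹ * g⁻¹ ∈ Subgroup.center R) (hnF : (n : F) ≠ 0) :
    Nat.card R = n * n * Nat.card (Subgroup.center R) := by
  classical
  -- coset representatives
  let v : (R ⧸ Subgroup.center R) → Matrix (Fin n) (Fin n) F := fun q => mat q.out
  have hli : LinearIndependent F v := by
    rw [linearIndependent_iff']
    intro s a hsum q₀ hq₀
    have h1 := congrArg (fun M => Matrix.trace (mat (q₀.out)⁻¹ * M)) hsum
    simp only [Matrix.mul_zero, Matrix.trace_zero, Finset.mul_sum, Matrix.trace_sum, Matrix.mul_smul,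
      Matrix.trace_smul, smul_eq_mul] at h1
    rw [Finset.sum_eq_single q₀] at h1
    · have h2 : mat (q₀.out)⁻¹ * v q₀ = 1 := mat_inv_mul _
      rw [h2, Matrix.trace_one, Fintype.card_fin] at h1
      rcases mul_eq_zero.1 h1 with h | h
      · exact h
      · exact absurd h hnF
    · intro q _ hq
      have hnc : (q₀.out)⁻¹ * q.out ∉ Subgroup.center R := by
        intro hc
        apply hq
        have := (QuotientGroup.eq (s := Subgroup.center R)).2 hc
        rw [QuotientGroup.out_eq', QuotientGroup.out_eq'] at this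
        exact this.symm
      have : mat (q₀.out)⁻¹ * v q = mat ((q₀.out)⁻¹ * q.out) := (mat_mul _ _).symm
      rw [this, trace_eq_zero habs hcl hnc, mul_zero]
    · intro h
      exact absurd hq₀ h
  have hsp : ⊤ ≤ Submodule.span F (Set.range v) := by
    rw [← span_matrixSet_eq_top hn R habs]
    apply Submodule.span_le.2
    rintro _ ⟨g, hg, rfl⟩
    obtain ⟨q, hq⟩ : ∃ q : R ⧸ Subgroup.center R, q = ((⟨g, hg⟩ : R) : R ⧸ Subgroup.center R) := ⟨_, rfl⟩
    have hz : (q.out)⁻¹ * ⟨g, hg⟩ ∈ Subgroup.center R := by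
      apply (QuotientGroup.eq (s := Subgroup.center R)).1
      rw [QuotientGroup.out_eq', hq]
    obtain ⟨c, hc⟩ := exists_scalar_of_mem_center habs hz
    have : ((g : GL (Fin n) F) : Matrix (Fin n) (Fin n) F) = c • v q := by
      have h1 : (⟨g, hg⟩ : R) = q.out * ((q.out)⁻¹ * ⟨g, hg⟩) := by group
      have h2 := congrArg mat h1
      rw [mat_mul, hc, Matrix.mul_smul, Matrix.mul_one] at h2
      exact h2
    show ((g : GL (Fin n) F) : Matrix (Fin n) (Fin n) F) ∈ Submodule.span F (Set.range v)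
    rw [this]
    exact Submodule.smul_mem _ _ (Submodule.subset_span ⟨q, rfl⟩)
  have hb := Module.finrank_eq_nat_card_basis (Module.Basis.mk hli hsp)
  rw [Module.finrank_matrix, Module.finrank_self, mul_one, Fintype.card_fin] at hb
  rw [hb, ← Subgroup.card_eq_card_quotient_mul_card_subgroup]

section final

variable [Fintype F]

theorem exists_exp_pow {r : ℕ} (hr : r.Prime) : ∃ j : ℕ, r * Nat.gcd 2 r = r ^ j := by
  rcases hr.eq_two_or_odd' with h2 | hodd
  · subst h2
    exact ⟨2, by norm_num⟩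
  · have hgcd : Nat.gcd 2 r = 1 := Nat.coprime_two_left.2 hodd
    exact ⟨1, by rw [hgcd, mul_one, pow_one]⟩

/-- **C6POW** the dimension of an absolutely irreducible `r`-group of exponent `r gcd(2, r)` over a field with
the `r gcd(2, r)`-th roots of unity is a power of `r` -/
theorem exists_pow_of_symplecticType (hn : 0 < n) (r : ℕ) (R : Subgroup (GL (Fin n) F)) (p e : ℕ)
    (hR : IsSymplecticTypeGroup r R) (habs : ActsAbsolutelyIrreducibly (matrixSet R))
    (hmin : IsMinimalFieldFor (Nat.card (Subgroup.center R)) p e F)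
    (hZ : Nat.card (Subgroup.center R) = r * Nat.gcd 2 r) : ∃ j : ℕ, n = r ^ j := by
  have hprime := hR.prime
  have hexp := hR.exponent_eq
  obtain ⟨hp, _, hcard, hdvd, _⟩ := hmin
  haveI : Nontrivial (Fin n → F) := by
    haveI : Nonempty (Fin n) := ⟨⟨0, hn⟩⟩
    infer_instance
  have hirr : ∀ W : Submodule F (Fin n → F),
      (∀ g, W.map (Cfsg.Agent.Lib.Helper24.HubCor.matRep R g) ≤ W) → W = ⊥ ∨ W = ⊤ := by
    intro W hW
    apply habs.1 W
    rintro s ⟨g, hg, rfl⟩
    exact hW ⟨g, hg⟩
  obtain ⟨j, hj⟩ := exists_exp_pow hprime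
  have hdvdj : r ^ j ∣ Fintype.card F - 1 := by
    rw [← hj, ← hZ, hcard]
    exact hdvd
  obtain ⟨ζ, hζ⟩ := Cfsg.Agent.Lib.Helper24.HubCor.exists_isPrimitiveRoot_of_dvd
    (pow_ne_zero j hprime.ne_zero) hdvdj
  have hpow : ∀ g : ↥R, g ^ (r ^ j) = 1 := by
    intro g
    rw [← hj, ← hexp]
    exact Monoid.pow_exponent_eq_one g
  obtain ⟨k, hk⟩ := Cfsg.Agent.Lib.Helper18.HubCorRPOW.exists_finrank_eq_pow hprime j hζ
    (Cfsg.Agent.Lib.Helper24.HubCor.matRep R) hpow hirr
  rw [Module.finrank_fin_fun] at hk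
  exact ⟨k, hk⟩

/-- **C6EXACT** (P. Hall's theorem, the case of exponent `r gcd(2, r)`): `n = r ^ k` -/
theorem dim_eq_pow_of_symplecticType (hn : 0 < n) (r : ℕ) (R : Subgroup (GL (Fin n) F)) (p e k : ℕ)
    (hR : IsSymplecticTypeGroup r R) (habs : ActsAbsolutelyIrreducibly (matrixSet R)) (hrp : r ≠ p)
    (hmin : IsMinimalFieldFor (Nat.card (Subgroup.center R)) p e F)
    (hcase : (Odd r ∧ Nat.card (Subgroup.center R) = r ∧ 1 ≤ k ∧ Nat.card R = r ^ (1 + 2 * k)) ∨
      (r = 2 ∧ e = 2 ∧ Nat.card (Subgroup.center R) = 4 ∧ Nat.card R = 2 ^ (2 + 2 * k))) :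
    n = r ^ k := by
  have hprime := hR.prime
  have hZ : Nat.card (Subgroup.center R) = r * Nat.gcd 2 r := by
    rcases hcase with ⟨hodd, hZ, _, _⟩ | ⟨h2, _, hZ, _⟩
    · have hgcd : Nat.gcd 2 r = 1 := Nat.coprime_two_left.2 hodd
      rw [hZ, hgcd, mul_one]
    · subst h2
      rw [hZ]
      norm_num
  obtain ⟨j, hj⟩ := exists_pow_of_symplecticType hn r R p e hR habs hmin hZ
  have hcl := class_two hprime hR.pGroup hR.cyclic_of_characteristic hR.exponent_eq hZ
  obtain ⟨hp, hchar, _, _, _⟩ := hmin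
  have hrF : (r : F) ≠ 0 := by
    intro h
    rw [CharP.cast_eq_zero_iff F p] at h
    exact hrp ((Nat.prime_dvd_prime_iff_eq hp hprime).1 h).symm
  have hnF : (n : F) ≠ 0 := by
    rw [hj, Nat.cast_pow]
    exact pow_ne_zero j hrF
  have hcard := card_eq_of_class_two hn R habs hcl hnF
  have hpowinj : ∀ a b : ℕ, r ^ a = r ^ b → a = b := fun a b h => Nat.pow_right_injective hprime.two_le h
  rcases hcase with ⟨_, hZr, _, hRc⟩ | ⟨h2, _, hZ4, hRc⟩
  · rw [hRc, hZr, hj] at hcard
    have h1 : r ^ (1 + 2 * k) = r ^ (j + j + 1) := by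
      rw [hcard]
      ring
    have := hpowinj _ _ h1
    have hjk : j = k := by omega
    rw [hj, hjk]
  · subst h2
    rw [hRc, hZ4, hj] at hcard
    have h1 : 2 ^ (2 + 2 * k) = 2 ^ (j + j + 2) := by
      rw [hcard]
      ring
    have := hpowinj _ _ h1
    have hjk : j = k := by omega
    rw [hj, hjk]

end final

end Cfsg.Agent.Lib.Helper18.SUCorC6
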