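import Mathlib
import Cfsg.Prelude.Def_SubgroupEmbedding
import Cfsg.Prelude.Def_Transfer
import Cfsg.Prelude.Def_Solvable
import Cfsg.Agent.Lib.Helper1.Cores

set_option autoImplicit false

/-!
Elementary lemmas for the minimal-counterexample reduction of the Sidki pair theorem.
-/

namespace Cfsg.Agent.Lib.Helper18.Sidki

open Cfsg Cfsg.Agent.Lib.Helper1

universe u

section basic

variable {G : Type*} [Group G]

/-- An element of odd order is a power of any of its `2`-power powers. -/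
theorem exists_pow_two_pow_pow_eq {h : G} (hodd : Odd (orderOf h)) (k : ℕ) :
    ∃ m : ℕ, (h ^ (2 ^ k)) ^ m = h := by
  apply exists_pow_eq_self_of_coprime
  exact Nat.Coprime.pow_left k (Nat.coprime_two_left.mpr hodd)

/-- The odd part of an element. -/
theorem exists_odd_orderOf_pow [Finite G] (k : G) : ∃ a : ℕ, Odd (orderOf (k ^ (2 ^ a))) := by
  have h0 : orderOf k ≠ 0 := (orderOf_pos k).ne'
  obtain ⟨a, b, hb, hab⟩ := Nat.exists_eq_two_pow_mul_odd h0
  refine ⟨a, ?_⟩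
  have hdvd : 2 ^ a ∣ orderOf k := ⟨b, hab⟩
  rw [orderOf_pow_of_dvd (by positivity) hdvd, hab, Nat.mul_div_cancel_left _ (by positivity)]
  exact hb

theorem eq_one_of_sq_eq_one_of_odd {h : G} (hodd : Odd (orderOf h)) (h2 : h ^ 2 = 1) : h = 1 := by
  obtain ⟨m, hm⟩ := exists_pow_two_pow_pow_eq hodd 1
  rw [pow_one, h2, one_pow] at hm
  exact hm.symm

/-- In `L ⊔ B` with `B` of exponent two normalizing `L`, the elements of odd order lie in `L`. -/
theorem mem_of_odd_of_mem_sup {L B : Subgroup G} (hB : B ≤ Subgroup.normalizer (L : Set G))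
    (hB2 : ∀ b ∈ B, b ^ 2 = 1) {h : G} (hh : h ∈ L ⊔ B) (hodd : Odd (orderOf h)) : h ∈ L := by
  have hh' : h ∈ ((L ⊔ B : Subgroup G) : Set G) := hh
  rw [Subgroup.coe_mul_of_right_le_normalizer_left L B hB] at hh'
  obtain ⟨l, hl, b, hb, rfl⟩ := hh'
  have hbb : b * b = 1 := by rw [← sq]; exact hB2 b hb
  have hbinv : b⁻¹ = b := inv_eq_of_mul_eq_one_right hbb
  have hconj : b * l * b⁻¹ ∈ L := (Subgroup.mem_normalizer_iff.mp (hB hb) l).mp hl
  have hsq : (l * b) ^ 2 = l * (b * l * b⁻¹) := by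
    rw [sq, hbinv]
    group
  have hsqL : (l * b) ^ 2 ∈ L := by rw [hsq]; exact L.mul_mem hl hconj
  obtain ⟨m, hm⟩ := exists_pow_two_pow_pow_eq hodd 1
  rw [pow_one] at hm
  rw [← hm]
  exact L.pow_mem hsqL m

/-- The product of two commuting elements of odd order has odd order. -/
theorem odd_orderOf_mul {a b : G} (hab : Commute a b) (ha : Odd (orderOf a))
    (hb : Odd (orderOf b)) : Odd (orderOf (a * b)) := by
  have h1 := hab.orderOf_mul_dvd_lcm
  have h2 : Nat.lcm (orderOf a) (orderOf b) ∣ orderOf a * orderOf b := Nat.lcm_dvd_mul _ _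
  exact Odd.of_dvd_nat (ha.mul hb) (h1.trans h2)

theorem orderOf_conj_eq (v x : G) : orderOf (v * x * v⁻¹) = orderOf x := by
  have := orderOf_injective (MulAut.conj v).toMonoidHom (MulAut.conj v).injective x
  simpa [MulAut.conj_apply] using this

/-- An involution inverts `h⁻¹ h^v`. -/
theorem conj_inv_mul_conj {v h : G} (hvv : v * v = 1) :
    v * (h⁻¹ * (v * h * v⁻¹)) * v⁻¹ = (h⁻¹ * (v * h * v⁻¹))⁻¹ := by
  calc v * (h⁻¹ * (v * h * v⁻¹)) * v⁻¹ = (v * h⁻¹ * v⁻¹) * ((v * v) * h * (v * v)⁻¹) := by group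
    _ = (v * h⁻¹ * v⁻¹) * h := by rw [hvv]; group
    _ = (h⁻¹ * (v * h * v⁻¹))⁻¹ := by group

theorem conj_pow_inv {v k : G} (h : v * k * v⁻¹ = k⁻¹) (n : ℕ) :
    v * k ^ n * v⁻¹ = (k ^ n)⁻¹ := by
  rw [← conj_pow, h, inv_pow]

end basic

section quotient

variable {G : Type*} [Group G] [Finite G]

/-- The Sidki condition passes to quotients (without control on the centralizing element). -/
theorem quotient_sidki {V : Subgroup G} (hV2 : ∀ a ∈ V, a ^ 2 = 1) (hS : IsSidkiPair V)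
    (N : Subgroup G) [N.Normal] (v : G) (hv : v ∈ V) (h' : G ⧸ N) (hodd : Odd (orderOf h'))
    (hinv : QuotientGroup.mk' N v * h' * (QuotientGroup.mk' N v)⁻¹ = h'⁻¹) :
    ∃ w ∈ V, w ≠ 1 ∧ QuotientGroup.mk' N w * h' = h' * QuotientGroup.mk' N w := by
  obtain ⟨h, rfl⟩ := QuotientGroup.mk'_surjective N h'
  set π := QuotientGroup.mk' N with hπ
  have hvv : v * v = 1 := by rw [← sq]; exact hV2 v hv
  set k := h⁻¹ * (v * h * v⁻¹) with hk
  have hkinv : v * k * v⁻¹ = k⁻¹ := conj_inv_mul_conj hvv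
  obtain ⟨a, ha⟩ := exists_odd_orderOf_pow k
  have hk'inv : v * k ^ (2 ^ a) * v⁻¹ = (k ^ (2 ^ a))⁻¹ := conj_pow_inv hkinv _
  obtain ⟨w, hwV, hw1, hwc⟩ := hS (k ^ (2 ^ a)) v hv ha hk'inv
  refine ⟨w, hwV, hw1, ?_⟩
  have hπk : π k = ((π h) ^ 2)⁻¹ := by
    rw [hk, map_mul, map_inv, map_mul, map_mul, map_inv, hinv, sq, mul_inv_rev]
  have hπk' : π (k ^ (2 ^ a)) = ((π h) ^ (2 ^ (a + 1)))⁻¹ := by
    rw [map_pow, hπk, inv_pow, ← pow_mul, pow_succ']
  have hc : Commute (π w) (π (k ^ (2 ^ a))) := by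
    show π w * π (k ^ (2 ^ a)) = π (k ^ (2 ^ a)) * π w
    rw [← map_mul, ← map_mul, hwc]
  rw [hπk'] at hc
  have hc2 : Commute (π w) ((π h) ^ (2 ^ (a + 1))) := by
    have := hc.inv_right
    rwa [inv_inv] at this
  obtain ⟨m, hm⟩ := exists_pow_two_pow_pow_eq hodd (a + 1)
  have hc3 := hc2.pow_right m
  rw [hm] at hc3
  exact hc3

end quotient

section minimality

variable {G : Type u} [Group G] [Finite G]

theorem comm_of_isElementaryAbelian {V : Subgroup G} (hV : IsElementaryAbelian 2 V) :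
    ∀ a ∈ V, ∀ b ∈ V, a * b = b * a := by
  intro a ha b hb
  have h1 : V ≤ Subgroup.centralizer (V : Set G) :=
    Subgroup.le_centralizer_iff_isMulCommutative.mpr hV.1
  exact ((Subgroup.mem_centralizer_iff.mp (h1 hb)) a ha)

theorem isElementaryAbelian_of_comm {H : Type*} [Group H] {W : Subgroup H}
    (hc : ∀ a ∈ W, ∀ b ∈ W, a * b = b * a) (h2 : ∀ a ∈ W, a ^ 2 = 1) :
    IsElementaryAbelian 2 W := by
  refine ⟨?_, h2⟩
  rw [← Subgroup.le_centralizer_iff_isMulCommutative]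
  intro a ha
  rw [Subgroup.mem_centralizer_iff]
  intro b hb
  exact hc b hb a ha

/-- Minimality applied to a quotient. -/
theorem exists_mem_pCore_quotient {V : Subgroup G}
    (hV : IsElementaryAbelian 2 V) (hV1 : V ≠ ⊥) (hS : IsSidkiPair V)
    (hminG : ∀ (H : Type u) [Group H] [Finite H] (W : Subgroup H), Nat.card H < Nat.card G →
      IsElementaryAbelian 2 W → W ≠ ⊥ → IsSidkiPair W → W ⊓ pCore 2 H ≠ ⊥)
    (N : Subgroup G) [N.Normal] (hN : N ≠ ⊥) (hVN : V ⊓ N = ⊥) :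
    ∃ v ∈ V, v ≠ 1 ∧ QuotientGroup.mk' N v ∈ pCore 2 (G ⧸ N) := by
  set π := QuotientGroup.mk' N with hπ
  have hVc := comm_of_isElementaryAbelian hV
  have hker : ∀ w ∈ V, π w = 1 → w = 1 := by
    intro w hw h1
    have hwN : w ∈ N := by
      rw [← QuotientGroup.ker_mk' N]; exact h1
    have : w ∈ V ⊓ N := ⟨hw, hwN⟩
    rw [hVN] at this
    exact this
  have hcard : Nat.card (G ⧸ N) < Nat.card G := by
    rw [Subgroup.card_eq_card_quotient_mul_card_subgroup N]
    have h1 : 1 < Nat.card N := N.one_lt_card_iff_ne_bot.mpr hN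
    have h2 : 0 < Nat.card (G ⧸ N) := Nat.card_pos
    nlinarith
  have hW : IsElementaryAbelian 2 (V.map π) := by
    apply isElementaryAbelian_of_comm
    · rintro _ ⟨a, ha, rfl⟩ _ ⟨b, hb, rfl⟩
      rw [← map_mul, ← map_mul, hVc a ha b hb]
    · rintro _ ⟨a, ha, rfl⟩
      rw [← map_pow, hV.2 a ha, map_one]
  have hW1 : V.map π ≠ ⊥ := by
    intro h
    apply hV1
    rw [Subgroup.eq_bot_iff_forall]
    intro v hv
    apply hker v hv
    have : π v ∈ V.map π := Subgroup.mem_map_of_mem _ hv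
    rw [h] at this
    exact this
  have hWS : IsSidkiPair (V.map π) := by
    intro h' v' hv' hodd hinv
    obtain ⟨v, hvV, rfl⟩ := hv'
    obtain ⟨w, hwV, hw1, hwc⟩ := quotient_sidki hV.2 hS N v hvV h' hodd hinv
    exact ⟨π w, Subgroup.mem_map_of_mem _ hwV, fun h => hw1 (hker w hwV h), hwc⟩
  have := hminG (G ⧸ N) (V.map π) hcard hW hW1 hWS
  obtain ⟨⟨x, hx⟩, hx1⟩ := Subgroup.ne_bot_iff_exists_ne_one.mp this
  obtain ⟨⟨v, hvV, rfl⟩, hxc⟩ := hx
  refine ⟨v, hvV, ?_, hxc⟩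
  rintro rfl
  apply hx1
  apply Subtype.ext
  simp

/-- Minimality applied to a proper subgroup. -/
theorem exists_mem_pCore_subgroup {V : Subgroup G} (hV : IsElementaryAbelian 2 V)
    (hminG : ∀ (H : Type u) [Group H] [Finite H] (W : Subgroup H), Nat.card H < Nat.card G →
      IsElementaryAbelian 2 W → W ≠ ⊥ → IsSidkiPair W → W ⊓ pCore 2 H ≠ ⊥)
    (H W : Subgroup G) (hH : H ≠ ⊤) (hWH : W ≤ H) (hWV : W ≤ V) (hW1 : W ≠ ⊥)
    (hS : ∀ h ∈ H, ∀ v ∈ W, Odd (orderOf h) → v * h * v⁻¹ = h⁻¹ →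
      ∃ w ∈ W, w ≠ 1 ∧ w * h = h * w) :
    ∃ w ∈ W, w ≠ 1 ∧ w ∈ (pCore 2 ↥H).map H.subtype := by
  have hVc := comm_of_isElementaryAbelian hV
  have hcard : Nat.card ↥H < Nat.card G := by
    apply lt_of_le_of_ne (Subgroup.card_le_card_group H)
    intro h
    exact hH (Subgroup.eq_top_of_card_eq H h)
  have hW' : IsElementaryAbelian 2 (W.subgroupOf H) := by
    apply isElementaryAbelian_of_comm
    · intro a ha b hb
      apply Subtype.ext
      exact hVc _ (hWV (Subgroup.mem_subgroupOf.mp ha)) _ (hWV (Subgroup.mem_subgroupOf.mp hb))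
    · intro a ha
      apply Subtype.ext
      have := hV.2 _ (hWV (Subgroup.mem_subgroupOf.mp ha))
      simpa using this
  have hW'1 : W.subgroupOf H ≠ ⊥ := by
    intro h
    apply hW1
    rw [Subgroup.eq_bot_iff_forall]
    intro w hw
    have : (⟨w, hWH hw⟩ : ↥H) ∈ W.subgroupOf H := Subgroup.mem_subgroupOf.mpr hw
    rw [h, Subgroup.mem_bot] at this
    exact congrArg Subtype.val this
  have hW'S : IsSidkiPair (W.subgroupOf H) := by
    intro h v hv hodd hinv
    have hodd' : Odd (orderOf (h : G)) := by rw [Subgroup.orderOf_coe]; exact hodd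
    have hinv' : (v : G) * (h : G) * (v : G)⁻¹ = (h : G)⁻¹ := by
      have := congrArg Subtype.val hinv
      simpa using this
    obtain ⟨w, hwW, hw1, hwc⟩ := hS h h.2 v (Subgroup.mem_subgroupOf.mp hv) hodd' hinv'
    refine ⟨⟨w, hWH hwW⟩, Subgroup.mem_subgroupOf.mpr hwW, ?_, ?_⟩
    · intro h1
      exact hw1 (congrArg Subtype.val h1)
    · apply Subtype.ext
      exact hwc
  have := hminG ↥H (W.subgroupOf H) hcard hW' hW'1 hW'S
  obtain ⟨⟨x, hx⟩, hx1⟩ := Subgroup.ne_bot_iff_exists_ne_one.mp this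
  refine ⟨(x : G), Subgroup.mem_subgroupOf.mp hx.1, ?_, ⟨x, hx.2, rfl⟩⟩
  intro h1
  apply hx1
  apply Subtype.ext
  apply Subtype.ext
  exact h1

end minimality

section centralizes

variable {G : Type*} [Group G]

/-- `O_2(H)` centralizes a normal subgroup `L` of `H` with `O_2(L) = 1`. -/
theorem commute_of_mem_pCore_map {H L : Subgroup G} (hLH : L ≤ H)
    (hHL : H ≤ Subgroup.normalizer (L : Set G)) (hL : pCore 2 ↥L = ⊥) {w : G}
    (hw : w ∈ (pCore 2 ↥H).map H.subtype) : ∀ l ∈ L, w * l = l * w := by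
  set Q := (pCore 2 ↥H).map H.subtype with hQ
  have hQ2 : IsPGroup 2 ↥Q := (pCore_isPGroup 2).map _
  have hQH : Q ≤ H := Subgroup.map_subtype_le _
  have hQn : ∀ x ∈ H, ∀ q ∈ Q, x * q * x⁻¹ ∈ Q := by
    rintro x hx _ ⟨q, hq, rfl⟩
    haveI : (pCore 2 ↥H).Normal := pCore_normal 2
    refine ⟨⟨x, hx⟩ * q * ⟨x, hx⟩⁻¹, ?_, rfl⟩
    exact Subgroup.Normal.conj_mem inferInstance q hq _
  intro l hl
  set c := w * l * w⁻¹ * l⁻¹ with hc
  have hcQ : c ∈ Q := by
    have h1 : l * w⁻¹ * l⁻¹ ∈ Q := hQn l (hLH hl) _ (Q.inv_mem hw)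
    have : c = w * (l * w⁻¹ * l⁻¹) := by rw [hc]; group
    rw [this]
    exact Q.mul_mem hw h1
  have hcL : c ∈ L := by
    have h1 : w * l * w⁻¹ ∈ L := (Subgroup.mem_normalizer_iff.mp (hHL (hQH hw)) l).mp hl
    exact L.mul_mem h1 (L.inv_mem hl)
  set D := (Q ⊓ L).subgroupOf L with hD
  have hDn : D.Normal := by
    constructor
    intro d hd y
    rw [hD, Subgroup.mem_subgroupOf] at hd ⊢
    refine ⟨?_, ?_⟩
    · have := hQn y (hLH y.2) _ hd.1
      simpa using this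
    · simpa using L.mul_mem (L.mul_mem y.2 hd.2) (L.inv_mem y.2)
  have hDp : IsPGroup 2 ↥D := by
    have h1 : IsPGroup 2 ↥(Q ⊓ L) := hQ2.to_le inf_le_left
    rw [hD, ← Subgroup.comap_subtype]
    exact h1.comap_subtype
  have hDle := le_pCore hDn hDp
  rw [hL, le_bot_iff] at hDle
  have hcD : (⟨c, hcL⟩ : ↥L) ∈ D := by
    rw [hD, Subgroup.mem_subgroupOf]
    exact ⟨hcQ, hcL⟩
  rw [hDle, Subgroup.mem_bot] at hcD
  have hc1 : c = 1 := congrArg Subtype.val hcD
  rw [hc] at hc1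
  calc w * l = (w * l * w⁻¹ * l⁻¹) * (l * w) := by group
    _ = l * w := by rw [hc1, one_mul]

end centralizes

section center

variable {G : Type*} [Group G] [Finite G]

/-- If `O_2(G) = 1`, no involution maps into `O_2(G/Z)` for a central subgroup `Z`. -/
theorem eq_one_of_mem_pCore_quotient_central (hO : pCore 2 G = ⊥) (Z : Subgroup G) [Z.Normal]
    (hZ : Z ≤ Subgroup.center G) {v : G} (hv2 : v ^ 2 = 1)
    (hv : QuotientGroup.mk' Z v ∈ pCore 2 (G ⧸ Z)) : v = 1 := by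
  set π := QuotientGroup.mk' Z with hπ
  set R := (pCore 2 (G ⧸ Z)).comap π with hR
  haveI hRn : R.Normal := by
    haveI : (pCore 2 (G ⧸ Z)).Normal := pCore_normal 2
    exact Subgroup.Normal.comap inferInstance π
  have hvR : v ∈ R := hv
  -- `R` is nilpotent
  let f : ↥R →* ↥(pCore 2 (G ⧸ Z)) :=
    (π.comp R.subtype).codRestrict (pCore 2 (G ⧸ Z)) (fun x => x.2)
  have hker : f.ker ≤ Subgroup.center ↥R := by
    intro x hx
    rw [MonoidHom.mem_ker] at hx
    have hx' : π (x : G) = 1 :=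
      congrArg (fun y : ↥(pCore 2 (G ⧸ Z)) => (y : G ⧸ Z)) hx
    have hxZ : (x : G) ∈ Z := by rw [← QuotientGroup.ker_mk' Z]; exact hx'
    rw [Subgroup.mem_center_iff]
    intro y
    apply Subtype.ext
    exact (Subgroup.mem_center_iff.mp (hZ hxZ)) y
  haveI : Group.IsNilpotent ↥(pCore 2 (G ⧸ Z)) := (pCore_isPGroup (G := G ⧸ Z) 2).isNilpotent
  haveI hnil : Group.IsNilpotent ↥R := Subgroup.isNilpotent_of_ker_le_center f hker
  obtain ⟨P⟩ : Nonempty (Sylow 2 ↥R) := inferInstance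
  haveI hPn : (P : Subgroup ↥R).Normal := inferInstance
  haveI hPc : (P : Subgroup ↥R).Characteristic := Sylow.characteristic_of_normal P hPn
  have hPmapn : ((P : Subgroup ↥R).map R.subtype).Normal := inferInstance
  have hPmapp : IsPGroup 2 ↥((P : Subgroup ↥R).map R.subtype) := P.2.map _
  have hle := le_pCore hPmapn hPmapp
  rw [hO, le_bot_iff] at hle
  have hPbot : (P : Subgroup ↥R) = ⊥ :=
    (Subgroup.map_eq_bot_iff_of_injective _ R.subtype_injective).mp hle
  -- `⟨v⟩` is a 2-subgroup of `R`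
  have hzp : IsPGroup 2 ↥(Subgroup.zpowers (⟨v, hvR⟩ : ↥R)) := by
    intro x
    refine ⟨1, ?_⟩
    obtain ⟨x, hx⟩ := x
    obtain ⟨n, rfl⟩ := Subgroup.mem_zpowers_iff.mp hx
    apply Subtype.ext
    have h2 : (⟨v, hvR⟩ : ↥R) ^ 2 = 1 := by
      apply Subtype.ext
      simpa using hv2
    simp only [pow_one, Subgroup.coe_pow, Subgroup.coe_one]
    rw [← zpow_natCast, ← zpow_mul, mul_comm, zpow_mul, zpow_natCast, h2, one_zpow]
  obtain ⟨P', hP'⟩ := hzp.exists_le_sylow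
  haveI := Sylow.unique_of_normal P hPn
  have hP'P : P' = P := Subsingleton.elim _ _
  rw [hP'P, hPbot] at hP'
  have := hP' (Subgroup.mem_zpowers _)
  rw [Subgroup.mem_bot] at this
  exact congrArg Subtype.val this

end center

section quotcore

variable {G : Type*} [Group G]

theorem pCore_quot_pCore_eq_bot (p : ℕ) [hn0 : (pCore p G).Normal] :
    pCore p (G ⧸ pCore p G) = ⊥ := by
  set π := QuotientGroup.mk' (pCore p G) with hπ
  have hπs : Function.Surjective π := QuotientGroup.mk'_surjective _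
  have hn : (pCore p (G ⧸ pCore p G)).Normal := pCore_normal p
  have h1 : IsPGroup p ((pCore p (G ⧸ pCore p G)).comap π) := by
    apply (pCore_isPGroup p).comap_of_ker_isPGroup
    rw [hπ, QuotientGroup.ker_mk']
    exact pCore_isPGroup p
  have h2 : (pCore p (G ⧸ pCore p G)).comap π ≤ pCore p G :=
    le_pCore (hn.comap _) h1
  rw [eq_bot_iff, ← Subgroup.map_comap_eq_self_of_surjective hπs (pCore p (G ⧸ pCore p G))]
  refine (Subgroup.map_mono h2).trans ?_
  rw [Subgroup.map_le_iff_le_comap]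
  intro x hx
  rw [Subgroup.mem_comap, Subgroup.mem_bot]
  exact (QuotientGroup.eq_one_iff x).mpr hx

end quotcore

end Cfsg.Agent.Lib.Helper18.Sidki
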