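import Cfsg.Agent.Lib.Helper18.SidkiA
import Cfsg.Agent.Lib.Helper13.Conj
import Cfsg.Agent.Lib.Helper22.PRegular
import Cfsg.Agent.Lib.Helper17.GfsAction2

set_option autoImplicit false

/-!
The minimal counterexample to the Sidki pair theorem: structure.
-/

namespace Cfsg.Agent.Lib.Helper18.Sidki

open Cfsg Cfsg.Agent.Lib.Helper1 Cfsg.Agent.Lib.Helper13

/-- Relative Sidki condition. -/
def RelSidki {G : Type*} [Group G] (H W : Subgroup G) : Prop :=
  ∀ h ∈ H, ∀ v ∈ W, Odd (orderOf h) → v * h * v⁻¹ = h⁻¹ → ∃ w ∈ W, w ≠ 1 ∧ w * h = h * w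

/-- The data of a minimal counterexample. -/
structure MC {G : Type*} [Group G] (V : Subgroup G) : Prop where
  comm : ∀ a ∈ V, ∀ b ∈ V, a * b = b * a
  sq : ∀ a ∈ V, a ^ 2 = 1
  ne : V ≠ ⊥
  sidki : IsSidkiPair V
  core : pCore 2 G = ⊥
  minS : ∀ H W : Subgroup G, H ≠ ⊤ → W ≤ H → W ≤ V → W ≠ ⊥ → RelSidki H W →
      ∃ w ∈ W, w ≠ 1 ∧ w ∈ (pCore 2 ↥H).map H.subtype
  minQ : ∀ (N : Subgroup G) [N.Normal], N ≠ ⊥ → V ⊓ N = ⊥ →
      ∃ v ∈ V, v ≠ 1 ∧ QuotientGroup.mk' N v ∈ pCore 2 (G ⧸ N)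
  minV : ∀ W : Subgroup G, W ≤ V → W ≠ ⊥ → W ≠ V → ¬ RelSidki ⊤ W

section general

variable {G : Type*} [Group G]

theorem mem_cent_single {g y : G} :
    g ∈ Subgroup.centralizer ({y} : Set G) ↔ y * g = g * y := by
  rw [Subgroup.mem_centralizer_iff]
  constructor
  · intro h; exact h y rfl
  · rintro h _ rfl; exact h

/-- A normal subgroup of a group with `O_2 = 1` has no central involution. -/
theorem eq_one_of_mem_inf_centralizer_of_sq (hO : pCore 2 G = ⊥) (N : Subgroup G) [hN : N.Normal]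
    {z : G} (hzN : z ∈ N) (hzC : z ∈ Subgroup.centralizer (N : Set G)) (hz2 : z ^ 2 = 1) :
    z = 1 := by
  let T : Subgroup G :=
    { carrier := {t | t ∈ N ∧ t ∈ Subgroup.centralizer (N : Set G) ∧ t ^ 2 = 1}
      one_mem' := ⟨N.one_mem, Subgroup.one_mem _, one_pow 2⟩
      mul_mem' := by
        rintro a b ⟨ha1, ha2, ha3⟩ ⟨hb1, hb2, hb3⟩
        refine ⟨N.mul_mem ha1 hb1, Subgroup.mul_mem _ ha2 hb2, ?_⟩
        have hab : a * b = b * a := (Subgroup.mem_centralizer_iff.mp hb2) a ha1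
        rw [(Commute.mul_pow hab 2 : (a * b) ^ 2 = a ^ 2 * b ^ 2), ha3, hb3, one_mul]
      inv_mem' := by
        rintro a ⟨ha1, ha2, ha3⟩
        exact ⟨N.inv_mem ha1, Subgroup.inv_mem _ ha2, by rw [inv_pow, ha3, inv_one]⟩ }
  have hTn : T.Normal := by
    constructor
    rintro t ⟨ht1, ht2, ht3⟩ g
    refine ⟨hN.conj_mem t ht1 g, ?_, ?_⟩
    · exact (Subgroup.normal_centralizer (H := N)).conj_mem t ht2 g
    · rw [conj_pow, ht3, mul_one, mul_inv_cancel]
  have hTp : IsPGroup 2 ↥T := by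
    rintro ⟨t, -, -, ht3⟩
    refine ⟨1, ?_⟩
    apply Subtype.ext
    simpa using ht3
  have hle := le_pCore hTn hTp
  rw [hO, le_bot_iff] at hle
  have hzT : z ∈ T := ⟨hzN, hzC, hz2⟩
  rw [hle, Subgroup.mem_bot] at hzT
  exact hzT

/-- Conjugation-invariant generating sets give normal subgroups. -/
theorem closure_conj_mem {S : Set G} {g : G} (hS : ∀ s ∈ S, g * s * g⁻¹ ∈ Subgroup.closure S) :
    ∀ m ∈ Subgroup.closure S, g * m * g⁻¹ ∈ Subgroup.closure S := by
  intro m hm
  induction hm using Subgroup.closure_induction with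
  | mem s hs => exact hS s hs
  | one => simp
  | mul a b _ _ iha ihb =>
    have : g * (a * b) * g⁻¹ = (g * a * g⁻¹) * (g * b * g⁻¹) := by group
    rw [this]; exact mul_mem iha ihb
  | inv a _ iha =>
    have : g * a⁻¹ * g⁻¹ = (g * a * g⁻¹)⁻¹ := by group
    rw [this]; exact inv_mem iha

theorem normal_closure_of_conj_invariant (S : Set G) (A B : Subgroup G) (hAB : A ⊔ B = ⊤)
    (hA : ∀ a ∈ A, ∀ s ∈ S, a * s * a⁻¹ ∈ S) (hB : ∀ b ∈ B, ∀ s ∈ S, b * s * b⁻¹ ∈ S) :
    (Subgroup.closure S).Normal := by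
  have key : ∀ g : G, (∀ s ∈ S, g * s * g⁻¹ ∈ S) → (∀ s ∈ S, g⁻¹ * s * g⁻¹⁻¹ ∈ S) →
      g ∈ Subgroup.normalizer ((Subgroup.closure S : Subgroup G) : Set G) := by
    intro g h1 h2
    rw [Subgroup.mem_normalizer_iff]
    intro m
    constructor
    · exact closure_conj_mem (fun s hs => Subgroup.subset_closure (h1 s hs)) m
    · intro hm
      have := closure_conj_mem (fun s hs => Subgroup.subset_closure (h2 s hs)) _ hm
      have e : g⁻¹ * (g * m * g⁻¹) * g⁻¹⁻¹ = m := by group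
      rwa [e] at this
  have hAle : A ≤ Subgroup.normalizer ((Subgroup.closure S : Subgroup G) : Set G) :=
    fun a ha => key a (hA a ha) (hA a⁻¹ (A.inv_mem ha))
  have hBle : B ≤ Subgroup.normalizer ((Subgroup.closure S : Subgroup G) : Set G) :=
    fun b hb => key b (hB b hb) (hB b⁻¹ (B.inv_mem hb))
  have : Subgroup.normalizer ((Subgroup.closure S : Subgroup G) : Set G) = ⊤ := by
    rw [eq_top_iff, ← hAB]
    exact sup_le hAle hBle
  exact Subgroup.normalizer_eq_top_iff.mp this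

/-- A subgroup with trivial `O_2` has nontrivial elements of odd order. -/
theorem exists_odd_ne_one [Finite G] (L : Subgroup G) (hL1 : L ≠ ⊥) (hL : pCore 2 ↥L = ⊥) :
    ∃ x ∈ L, x ≠ 1 ∧ Odd (orderOf x) := by
  by_contra hcon
  push Not at hcon
  apply hL1
  have hp : IsPGroup 2 ↥L := by
    intro g
    obtain ⟨a, ha⟩ := exists_odd_orderOf_pow (g : G)
    refine ⟨a, ?_⟩
    apply Subtype.ext
    have h1 : (g : G) ^ (2 ^ a) = 1 := by
      by_contra hne
      exact hcon _ (L.pow_mem g.2 _) hne ha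
    simpa using h1
  have hle := le_pCore (inferInstance : (⊤ : Subgroup ↥L).Normal) (hp.to_subgroup ⊤)
  rw [hL, le_bot_iff] at hle
  rw [Subgroup.eq_bot_iff_forall]
  intro x hx
  have : (⟨x, hx⟩ : ↥L) ∈ (⊤ : Subgroup ↥L) := Subgroup.mem_top _
  rw [hle, Subgroup.mem_bot] at this
  exact congrArg Subtype.val this

theorem exists_minimal_normal [Finite G] [Nontrivial G] :
    ∃ N : Subgroup G, N.Normal ∧ N ≠ ⊥ ∧
      ∀ K : Subgroup G, K.Normal → K ≤ N → K ≠ ⊥ → K = N := by
  haveI : Nonempty {K : Subgroup G // K.Normal ∧ K ≠ ⊥} :=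
    ⟨⟨⊤, inferInstance, top_ne_bot⟩⟩
  obtain ⟨N, hN⟩ := Finite.exists_min
    (fun K : {K : Subgroup G // K.Normal ∧ K ≠ ⊥} => Nat.card K.1)
  refine ⟨N.1, N.2.1, N.2.2, ?_⟩
  intro K hKn hKN hK1
  exact Subgroup.eq_of_le_of_card_ge hKN (hN ⟨K, hKn, hK1⟩)

end general

section main

variable {G : Type*} [Group G] [Finite G] {V : Subgroup G}

theorem MC.mul_self (h : MC V) {v : G} (hv : v ∈ V) : v * v = 1 := by
  rw [← pow_two]; exact h.sq v hv

theorem MC.inv_eq (h : MC V) {v : G} (hv : v ∈ V) : v⁻¹ = v :=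
  inv_eq_of_mul_eq_one_right (h.mul_self hv)

theorem MC.relSidki (h : MC V) (H : Subgroup G) : RelSidki H V :=
  fun x _ v hv hodd hinv => h.sidki x v hv hodd hinv

/-- `G` is generated by the conjugates of `V`. -/
theorem MC.normalClosure_eq_top (h : MC V) : Subgroup.normalClosure (V : Set G) = ⊤ := by
  by_contra hne
  have hVH : V ≤ Subgroup.normalClosure (V : Set G) := Subgroup.le_normalClosure
  obtain ⟨w, -, hw1, hw⟩ := h.minS _ V hne hVH le_rfl h.ne (h.relSidki _)
  have hc : pCore 2 ↥(Subgroup.normalClosure (V : Set G)) = ⊥ :=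
    Cfsg.Agent.Lib.Helper22.pCore_subgroup_eq_bot _ h.core
  rw [hc, Subgroup.map_bot, Subgroup.mem_bot] at hw
  exact hw1 hw

/-- Every normal subgroup supplements `V` or is centralized by `V`. -/
theorem MC.sup_eq_top_or_le_centralizer (h : MC V) (N : Subgroup G) [hN : N.Normal] :
    N ⊔ V = ⊤ ∨ V ≤ Subgroup.centralizer (N : Set G) := by
  by_contra hcon
  push Not at hcon
  obtain ⟨hne, hnot⟩ := hcon
  have hNcore : pCore 2 ↥N = ⊥ := Cfsg.Agent.Lib.Helper22.pCore_subgroup_eq_bot N h.core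
  have hnormN : ∀ K : Subgroup G, K ≤ Subgroup.normalizer (N : Set G) := fun K => by
    rw [Subgroup.normalizer_eq_top_iff.mpr hN]; exact le_top
  set C := Subgroup.centralizer (N : Set G) with hC
  haveI hCn : C.Normal := Subgroup.normal_centralizer
  -- `C_V(N) ≠ 1`
  obtain ⟨w0, hw0V, hw01, hw0⟩ := h.minS (N ⊔ V) V hne le_sup_right le_rfl h.ne (h.relSidki _)
  have hw0c := commute_of_mem_pCore_map (le_sup_left : N ≤ N ⊔ V) (hnormN _) hNcore hw0
  have hw0C : w0 ∈ C := by
    rw [hC, Subgroup.mem_centralizer_iff]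
    intro n hn
    exact (hw0c n hn).symm
  set W := V ⊓ C with hW
  have hW1 : W ≠ ⊥ := by
    intro hbot
    have : w0 ∈ W := ⟨hw0V, hw0C⟩
    rw [hbot, Subgroup.mem_bot] at this
    exact hw01 this
  have hWV : W ≠ V := by
    intro heq
    apply hnot
    rw [← heq]
    exact inf_le_right
  have hnotS := h.minV W inf_le_left hW1 hWV
  unfold RelSidki at hnotS
  push Not at hnotS
  obtain ⟨y, -, u, hu, hyodd, hyinv, hybad⟩ := hnotS
  have huV : u ∈ V := hu.1
  have huC : u ∈ C := hu.2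
  -- `y ∈ C`
  have hyC : y ∈ C := by
    have h1 : y * u⁻¹ * y⁻¹ ∈ C := hCn.conj_mem _ (C.inv_mem huC) y
    have h2 : u * (y * u⁻¹ * y⁻¹) ∈ C := C.mul_mem huC h1
    have h3 : u * (y * u⁻¹ * y⁻¹) = (y ^ 2)⁻¹ := by
      calc u * (y * u⁻¹ * y⁻¹) = (u * y * u⁻¹) * y⁻¹ := by group
        _ = y⁻¹ * y⁻¹ := by rw [hyinv]
        _ = (y ^ 2)⁻¹ := by group
    rw [h3] at h2
    have h4 : y ^ 2 ∈ C := by
      have := C.inv_mem h2
      rwa [inv_inv] at this
    obtain ⟨m, hm⟩ := exists_pow_two_pow_pow_eq hyodd 1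
    rw [pow_one] at hm
    rw [← hm]
    exact C.pow_mem h4 m
  set A := V ⊓ Subgroup.centralizer ({y} : Set G) with hA
  have hA1 : A ≠ ⊥ := by
    obtain ⟨w, hwV, hw1, hwc⟩ := h.sidki y u huV hyodd hyinv
    intro hbot
    have : w ∈ A := ⟨hwV, mem_cent_single.mpr hwc.symm⟩
    rw [hbot, Subgroup.mem_bot] at this
    exact hw1 this
  have hAC : ∀ a ∈ A, a ∈ C → a = 1 := by
    intro a ha haC
    by_contra hne1
    exact hybad a ⟨ha.1, haC⟩ hne1 (mem_cent_single.mp ha.2).symm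
  have hH'ne : N ⊔ A ≠ ⊤ := by
    intro htop
    apply hne
    rw [eq_top_iff, ← htop]
    exact sup_le_sup_left inf_le_left N
  have hrel : RelSidki (N ⊔ A) A := by
    intro x hx a ha hxodd hxinv
    have hxN : x ∈ N :=
      mem_of_odd_of_mem_sup (hnormN A) (fun b hb => h.sq b hb.1) hx hxodd
    have hux : x * u = u * x := (Subgroup.mem_centralizer_iff.mp huC) x hxN
    have hay : y * a = a * y := mem_cent_single.mp ha.2
    have hxy : x * y = y * x := (Subgroup.mem_centralizer_iff.mp hyC) x hxN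
    have hay' : a * y * a⁻¹ = y := by rw [← hay]; group
    have hux' : u * x⁻¹ * u⁻¹ = x⁻¹ := by
      calc u * x⁻¹ * u⁻¹ = (u * x * u⁻¹)⁻¹ := by group
        _ = x⁻¹ := by rw [← hux]; group
    have hinvxy : (u * a) * (x * y) * (u * a)⁻¹ = (x * y)⁻¹ := by
      calc (u * a) * (x * y) * (u * a)⁻¹ = u * (a * x * a⁻¹) * (a * y * a⁻¹) * u⁻¹ := by group
        _ = u * x⁻¹ * y * u⁻¹ := by rw [hxinv, hay']
        _ = (u * x⁻¹ * u⁻¹) * (u * y * u⁻¹) := by group
        _ = x⁻¹ * y⁻¹ := by rw [hux', hyinv]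
        _ = (y * x)⁻¹ := by group
        _ = (x * y)⁻¹ := by rw [hxy]
    have hoddxy : Odd (orderOf (x * y)) := odd_orderOf_mul hxy hxodd hyodd
    obtain ⟨w, hwV, hw1, hwc⟩ := h.sidki (x * y) (u * a) (V.mul_mem huV ha.1) hoddxy hinvxy
    -- separation
    set x' := w * x * w⁻¹ with hx'
    set y' := w * y * w⁻¹ with hy'
    have hx'N : x' ∈ N := hN.conj_mem x hxN w
    have hy'C : y' ∈ C := hCn.conj_mem y hyC w
    have hprod : x' * y' = x * y := by
      calc x' * y' = w * (x * y) * w⁻¹ := by rw [hx', hy']; group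
        _ = (x * y) * w * w⁻¹ := by rw [hwc]
        _ = x * y := by group
    set z := x'⁻¹ * x with hz
    have hzN : z ∈ N := N.mul_mem (N.inv_mem hx'N) hxN
    have hy'z : y' = z * y := by
      calc y' = x'⁻¹ * (x' * y') := by group
        _ = x'⁻¹ * (x * y) := by rw [hprod]
        _ = z * y := by rw [hz]; group
    have hzC : z ∈ C := by
      have : z = y' * y⁻¹ := by rw [hy'z]; group
      rw [this]
      exact C.mul_mem hy'C (C.inv_mem hyC)
    have huw : u * w = w * u := h.comm u huV w hwV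
    have huy' : u * y' * u⁻¹ = y'⁻¹ := by
      calc u * y' * u⁻¹ = (u * w) * y * (u * w)⁻¹ := by rw [hy']; group
        _ = (w * u) * y * (w * u)⁻¹ := by rw [huw]
        _ = w * (u * y * u⁻¹) * w⁻¹ := by group
        _ = w * y⁻¹ * w⁻¹ := by rw [hyinv]
        _ = y'⁻¹ := by rw [hy']; group
    have huz : z * u = u * z := (Subgroup.mem_centralizer_iff.mp huC) z hzN
    have huzy : u * (z * y) * u⁻¹ = z * y⁻¹ := by
      calc u * (z * y) * u⁻¹ = (u * z) * u⁻¹ * (u * y * u⁻¹) := by group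
        _ = (z * u) * u⁻¹ * y⁻¹ := by rw [hyinv, huz]
        _ = z * y⁻¹ := by group
    have hzy : z * y = y * z := (Subgroup.mem_centralizer_iff.mp hyC) z hzN
    have hz2 : z ^ 2 = 1 := by
      have e1 : (z * y)⁻¹ = z * y⁻¹ := by rw [← huzy, ← hy'z, huy']
      have e2 : (z * y)⁻¹ = z⁻¹ * y⁻¹ := by rw [hzy]; group
      rw [e2] at e1
      have e3 : z⁻¹ = z := mul_right_cancel e1
      rw [pow_two]
      nth_rewrite 1 [← e3]
      exact inv_mul_cancel z
    have hz1 : z = 1 := eq_one_of_mem_inf_centralizer_of_sq h.core N hzN hzC hz2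
    have hx'x : x' = x := by
      have : x'⁻¹ * x = 1 := by rw [← hz]; exact hz1
      exact (inv_mul_eq_one.mp this)
    have hy'y : y' = y := by rw [hy'z, hz1, one_mul]
    have hwx : w * x = x * w := by
      calc w * x = (w * x * w⁻¹) * w := by group
        _ = x * w := by rw [← hx', hx'x]
    have hwy : w * y = y * w := by
      calc w * y = (w * y * w⁻¹) * w := by group
        _ = y * w := by rw [← hy', hy'y]
    exact ⟨w, ⟨hwV, mem_cent_single.mpr hwy.symm⟩, hw1, hwx⟩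
  obtain ⟨a0, ha0A, ha01, ha0⟩ := h.minS (N ⊔ A) A hH'ne le_sup_right inf_le_left hA1 hrel
  have ha0c := commute_of_mem_pCore_map (le_sup_left : N ≤ N ⊔ A) (hnormN _) hNcore ha0
  apply ha01
  apply hAC a0 ha0A
  rw [hC, Subgroup.mem_centralizer_iff]
  intro n hn
  exact (ha0c n hn).symm

/-- Every normal subgroup supplements `V` or is central. -/
theorem MC.sup_eq_top_or_le_center (h : MC V) (N : Subgroup G) [hN : N.Normal] :
    N ⊔ V = ⊤ ∨ N ≤ Subgroup.center G := by
  rcases h.sup_eq_top_or_le_centralizer N with h1 | h2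
  · exact Or.inl h1
  · right
    haveI : (Subgroup.centralizer (N : Set G)).Normal := Subgroup.normal_centralizer
    have h3 : Subgroup.normalClosure (V : Set G) ≤ Subgroup.centralizer (N : Set G) :=
      Subgroup.normalClosure_le_normal h2
    rw [h.normalClosure_eq_top] at h3
    intro n hn
    rw [Subgroup.mem_center_iff]
    intro g
    have hg : g ∈ Subgroup.centralizer (N : Set G) := h3 (Subgroup.mem_top g)
    exact ((Subgroup.mem_centralizer_iff.mp hg) n hn).symm

/-- The centre is trivial. -/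
theorem MC.center_eq_bot (h : MC V) : Subgroup.center G = ⊥ := by
  by_contra hne
  have hVZ : V ⊓ Subgroup.center G = ⊥ := by
    rw [Subgroup.eq_bot_iff_forall]
    rintro v ⟨hvV, hvZ⟩
    apply eq_one_of_mem_inf_centralizer_of_sq h.core ⊤ (Subgroup.mem_top v) ?_ (h.sq v hvV)
    rw [Subgroup.mem_centralizer_iff]
    intro g _
    exact (Subgroup.mem_center_iff.mp hvZ) g
  obtain ⟨v, hvV, hv1, hv⟩ := h.minQ (Subgroup.center G) hne hVZ
  exact hv1 (eq_one_of_mem_pCore_quotient_central h.core _ le_rfl (h.sq v hvV) hv)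

theorem MC.nontrivial (h : MC V) : Nontrivial G := by
  obtain ⟨v, hv⟩ := Subgroup.ne_bot_iff_exists_ne_one.mp h.ne
  exact ⟨⟨(v : G), 1, fun h1 => hv (Subtype.ext h1)⟩⟩

theorem MC.exists_ne_one (h : MC V) : ∃ v ∈ V, v ≠ 1 := by
  obtain ⟨v, hv⟩ := Subgroup.ne_bot_iff_exists_ne_one.mp h.ne
  exact ⟨(v : G), v.2, fun h1 => hv (Subtype.ext h1)⟩

/-- A minimal normal subgroup supplements `V`. -/
theorem MC.sup_eq_top_of_minimal (h : MC V) (N : Subgroup G) [hN : N.Normal] (hN1 : N ≠ ⊥) :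
    N ⊔ V = ⊤ := by
  rcases h.sup_eq_top_or_le_center N with h1 | h2
  · exact h1
  · exfalso
    rw [h.center_eq_bot, le_bot_iff] at h2
    exact hN1 h2

/-- A minimal normal subgroup is not abelian. -/
theorem MC.not_comm_of_minimal (h : MC V) (N : Subgroup G) [hN : N.Normal] (hN1 : N ≠ ⊥)
    (hmin : ∀ K : Subgroup G, K.Normal → K ≤ N → K ≠ ⊥ → K = N) :
    ¬ ∀ a ∈ N, ∀ b ∈ N, a * b = b * a := by
  intro hab
  have hNV := h.sup_eq_top_of_minimal N hN1
  have hdecomp : ∀ g : G, ∃ n ∈ N, ∃ v ∈ V, n * v = g := fun g =>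
    Subgroup.mem_sup_of_normal_left.mp (hNV ▸ Subgroup.mem_top g)
  -- step 1
  have step1 : ∀ v ∈ V, v ≠ 1 → ∀ n ∈ N, v * n = n * v → n = 1 := by
    intro v hvV hv1 n hnN hvn
    set K := N ⊓ Subgroup.centralizer ({v} : Set G) with hK
    have hKn : K.Normal := by
      constructor
      rintro k ⟨hkN, hkv⟩ g
      obtain ⟨n', hn', v', hv', rfl⟩ := hdecomp g
      have hkv' : v * k = k * v := mem_cent_single.mp hkv
      have h1 : v' * k * v'⁻¹ ∈ N := hN.conj_mem k hkN v'
      have h2 : n' * v' * k * (n' * v')⁻¹ = v' * k * v'⁻¹ := by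
        calc n' * v' * k * (n' * v')⁻¹ = n' * (v' * k * v'⁻¹) * n'⁻¹ := by group
          _ = (v' * k * v'⁻¹) * n' * n'⁻¹ := by rw [hab n' hn' _ h1]
          _ = v' * k * v'⁻¹ := by group
      rw [h2]
      refine ⟨h1, mem_cent_single.mpr ?_⟩
      have hvv' : v * v' = v' * v := h.comm v hvV v' hv'
      calc v * (v' * k * v'⁻¹) = (v * v') * k * v'⁻¹ := by group
        _ = (v' * v) * k * v'⁻¹ := by rw [hvv']
        _ = v' * (v * k) * v'⁻¹ := by group
        _ = v' * (k * v) * v'⁻¹ := by rw [hkv']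
        _ = v' * k * (v * v') * v'⁻¹ * v'⁻¹ := by group
        _ = v' * k * (v' * v) * v'⁻¹ * v'⁻¹ := by rw [hvv']
        _ = v' * k * v'⁻¹ * v := by
          have e := h.inv_eq hv'
          have e2 := h.mul_self hv'
          calc v' * k * (v' * v) * v'⁻¹ * v'⁻¹ = v' * k * v' * v * (v'⁻¹ * v'⁻¹) := by group
            _ = v' * k * v' * v * (v' * v') := by rw [e]
            _ = v' * k * v' * v := by rw [e2, mul_one]
            _ = v' * k * v'⁻¹ * v := by rw [e]
    by_cases hKbot : K = ⊥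
    · have : n ∈ K := ⟨hnN, mem_cent_single.mpr hvn⟩
      rw [hKbot, Subgroup.mem_bot] at this
      exact this
    · exfalso
      have hKN : K = N := hmin K hKn inf_le_left hKbot
      apply hv1
      have hvZ : v ∈ Subgroup.center G := by
        rw [Subgroup.mem_center_iff]
        intro g
        obtain ⟨n', hn', v', hv', rfl⟩ := hdecomp g
        have h1 : n' ∈ K := by rw [hKN]; exact hn'
        have h2 : v * n' = n' * v := mem_cent_single.mp h1.2
        have h3 : v * v' = v' * v := h.comm v hvV v' hv'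
        calc n' * v' * v = n' * (v' * v) := by group
          _ = n' * (v * v') := by rw [h3]
          _ = (n' * v) * v' := by group
          _ = (v * n') * v' := by rw [h2]
          _ = v * (n' * v') := by group
      rw [h.center_eq_bot, Subgroup.mem_bot] at hvZ
      exact hvZ
  -- step 2
  have step2 : ∀ v ∈ V, v ≠ 1 → ∀ n ∈ N, v * n * v⁻¹ = n⁻¹ := by
    intro v hvV hv1 n hnN
    have hc : v * n * v⁻¹ ∈ N := hN.conj_mem n hnN v
    set m := n * (v * n * v⁻¹) with hm
    have hmN : m ∈ N := N.mul_mem hnN hc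
    have hvm : v * m = m * v := by
      have e := h.inv_eq hvV
      have e2 := h.mul_self hvV
      calc v * m = (v * n * v⁻¹) * ((v * v) * n * (v * v)⁻¹) * v := by rw [hm]; group
        _ = (v * n * v⁻¹) * n * v := by rw [e2]; group
        _ = n * (v * n * v⁻¹) * v := by rw [hab _ hc n hnN]
    have hm1 := step1 v hvV hv1 m hmN hvm
    rw [hm] at hm1
    exact (eq_inv_of_mul_eq_one_right hm1)
  -- step 3 and 4
  obtain ⟨v, hvV, hv1⟩ := h.exists_ne_one
  obtain ⟨⟨n, hnN⟩, hn1'⟩ := Subgroup.ne_bot_iff_exists_ne_one.mp hN1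
  have hn1 : n ≠ 1 := fun e => hn1' (Subtype.ext e)
  have hodd : Odd (orderOf n) := by
    rw [← Nat.not_even_iff_odd]
    rintro ⟨k, hk⟩
    have hk0 : k ≠ 0 := by
      rintro rfl
      have := orderOf_pos n
      omega
    have hklt : k < orderOf n := by omega
    have ht1 : n ^ k ≠ 1 := pow_ne_one_of_lt_orderOf hk0 hklt
    have ht2 : (n ^ k) ^ 2 = 1 := by
      rw [← pow_mul, mul_comm, two_mul, ← hk, pow_orderOf_eq_one]
    have htN : n ^ k ∈ N := N.pow_mem hnN k
    have hinv := step2 v hvV hv1 _ htN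
    have htinv : (n ^ k)⁻¹ = n ^ k := by
      apply inv_eq_of_mul_eq_one_right
      rw [← pow_two]; exact ht2
    rw [htinv] at hinv
    apply ht1
    apply step1 v hvV hv1 _ htN
    calc v * n ^ k = (v * n ^ k * v⁻¹) * v := by group
      _ = n ^ k * v := by rw [hinv]
  obtain ⟨w, hwV, hw1, hwc⟩ := h.sidki n v hvV hodd (step2 v hvV hv1 n hnN)
  exact hn1 (step1 w hwV hw1 n hnN hwc)

/-- The centralizer of a minimal normal subgroup is trivial. -/
theorem MC.centralizer_eq_bot_of_minimal (h : MC V) (N : Subgroup G) [hN : N.Normal]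
    (hN1 : N ≠ ⊥) (hmin : ∀ K : Subgroup G, K.Normal → K ≤ N → K ≠ ⊥ → K = N) :
    Subgroup.centralizer (N : Set G) = ⊥ := by
  have hNV := h.sup_eq_top_of_minimal N hN1
  have hnc := h.not_comm_of_minimal N hN1 hmin
  set C := Subgroup.centralizer (N : Set G) with hC
  haveI hCn : C.Normal := Subgroup.normal_centralizer
  have hNC : N ⊓ C = ⊥ := by
    by_contra hne
    have : N ⊓ C = N := hmin _ inferInstance inf_le_left hne
    apply hnc
    intro a ha b hb
    have haNC : a ∈ N ⊓ C := by rw [this]; exact ha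
    have haC : a ∈ C := haNC.2
    exact ((Subgroup.mem_centralizer_iff.mp haC) b hb).symm
  have hCp : IsPGroup 2 ↥C := by
    rintro ⟨c, hc⟩
    refine ⟨1, ?_⟩
    apply Subtype.ext
    obtain ⟨n, hn, v, hv, rfl⟩ :=
      Subgroup.mem_sup_of_normal_left.mp (hNV ▸ Subgroup.mem_top c : c ∈ N ⊔ V)
    have e := h.inv_eq hv
    have e2 := h.mul_self hv
    have hsq : (n * v) ^ 2 = n * (v * n * v⁻¹) := by
      rw [pow_two, e]
      group
    have h1 : (n * v) ^ 2 ∈ N := by
      rw [hsq]; exact N.mul_mem hn (hN.conj_mem n hn v)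
    have h2 : (n * v) ^ 2 ∈ C := C.pow_mem hc 2
    have h3 : (n * v) ^ 2 ∈ N ⊓ C := ⟨h1, h2⟩
    rw [hNC, Subgroup.mem_bot] at h3
    simpa using h3
  have hle := le_pCore hCn hCp
  rw [h.core, le_bot_iff] at hle
  exact hle

end main

end Cfsg.Agent.Lib.Helper18.Sidki
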