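import Cfsg.Agent.Lib.Helper18.SidkiB
import Cfsg.Agent.Lib.Helper9.Layer2

set_option autoImplicit false

/-!
The minimal counterexample to the Sidki pair theorem: `F*(G)` is simple and `G = V F*(G)`.
-/

namespace Cfsg.Agent.Lib.Helper18.Sidki

open Cfsg Cfsg.Agent.Lib.Helper1 Cfsg.Agent.Lib.Helper13

section main

variable {G : Type*} [Group G] [Finite G] {V : Subgroup G}

/-- A minimal normal subgroup of a minimal counterexample has no proper nontrivial subgroup
normalized by it. -/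
theorem MC.simple_of_minimal (h : MC V) (N : Subgroup G) [hN : N.Normal] (hN1 : N ≠ ⊥)
    (hmin : ∀ K : Subgroup G, K.Normal → K ≤ N → K ≠ ⊥ → K = N) :
    ∀ L : Subgroup G, L ≤ N → N ≤ Subgroup.normalizer (L : Set G) → L = ⊥ ∨ L = N := by
  have hNV := h.sup_eq_top_of_minimal N hN1
  have hCN := h.centralizer_eq_bot_of_minimal N hN1 hmin
  by_contra hcon
  push Not at hcon
  haveI : Nonempty {L : Subgroup G // L ≤ N ∧ N ≤ Subgroup.normalizer (L : Set G) ∧
      L ≠ ⊥ ∧ L ≠ N} := by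
    obtain ⟨L, h1, h2, h3, h4⟩ := hcon
    exact ⟨⟨L, h1, h2, h3, h4⟩⟩
  obtain ⟨⟨L, hLN, hNL, hL1, hLneN⟩, hLmin'⟩ := Finite.exists_min
    (fun L : {L : Subgroup G // L ≤ N ∧ N ≤ Subgroup.normalizer (L : Set G) ∧
      L ≠ ⊥ ∧ L ≠ N} => Nat.card L.1)
  have hLmin : ∀ L' : Subgroup G, L' ≤ L → N ≤ Subgroup.normalizer (L' : Set G) → L' ≠ ⊥ →
      L' = L := by
    intro L' hL'L hNL' hL'1
    have hL'N : L' ≠ N := by
      rintro rfl
      exact hLneN (le_antisymm hLN hL'L)
    exact Subgroup.eq_of_le_of_card_ge hL'L (hLmin' ⟨L', hL'L.trans hLN, hNL', hL'1, hL'N⟩)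
  -- conjugates of `L`
  have hcjN : ∀ g : G, L.map (MulAut.conj g).toMonoidHom ≤ N := by
    intro g x hx
    rw [mem_map_conj_iff] at hx
    have := hN.conj_mem _ (hLN hx) g
    have e : g * (g⁻¹ * x * g) * g⁻¹ = x := by group
    rwa [e] at this
  have hNcj : ∀ g : G, N ≤ Subgroup.normalizer
      ((L.map (MulAut.conj g).toMonoidHom : Subgroup G) : Set G) := by
    intro g n hn
    rw [Subgroup.mem_normalizer_iff]
    intro x
    rw [mem_map_conj_iff, mem_map_conj_iff]
    have hn' : g⁻¹ * n * g ∈ N := hN.conj_mem' n hn g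
    have := Subgroup.mem_normalizer_iff.mp (hNL hn') (g⁻¹ * x * g)
    have e : g⁻¹ * n * g * (g⁻¹ * x * g) * (g⁻¹ * n * g)⁻¹ = g⁻¹ * (n * x * n⁻¹) * g := by group
    rwa [e] at this
  have hdisj : ∀ v ∈ V, v ∉ Subgroup.normalizer (L : Set G) →
      L ⊓ L.map (MulAut.conj v).toMonoidHom = ⊥ := by
    intro v _ hvn
    by_contra hne
    have hnorm : N ≤ Subgroup.normalizer
        ((L ⊓ L.map (MulAut.conj v).toMonoidHom : Subgroup G) : Set G) := by
      intro n hn
      rw [Subgroup.mem_normalizer_iff]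
      intro x
      have a1 := Subgroup.mem_normalizer_iff.mp (hNL hn) x
      have a2 := Subgroup.mem_normalizer_iff.mp (hNcj v hn) x
      constructor
      · rintro ⟨h1, h2⟩; exact ⟨a1.mp h1, a2.mp h2⟩
      · rintro ⟨h1, h2⟩; exact ⟨a1.mpr h1, a2.mpr h2⟩
    have heq := hLmin (L ⊓ L.map (MulAut.conj v).toMonoidHom) inf_le_left hnorm hne
    have hle : L ≤ L.map (MulAut.conj v).toMonoidHom := by
      have h0 : L ⊓ L.map (MulAut.conj v).toMonoidHom ≤ L.map (MulAut.conj v).toMonoidHom :=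
        inf_le_right
      rwa [heq] at h0
    have heq2 : L = L.map (MulAut.conj v).toMonoidHom :=
      Subgroup.eq_of_le_of_card_ge hle (card_map_conj L v).le
    exact hvn ((map_conj_eq_self_iff_mem_normalizer L v).mp heq2.symm)
  have hcomm : ∀ v ∈ V, v ∉ Subgroup.normalizer (L : Set G) →
      ∀ a ∈ L, ∀ b ∈ L.map (MulAut.conj v).toMonoidHom, a * b = b * a := by
    intro v hvV hvn a ha b hb
    have h1 : a * b * a⁻¹ ∈ L.map (MulAut.conj v).toMonoidHom :=
      (Subgroup.mem_normalizer_iff.mp (hNcj v (hLN ha)) b).mp hb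
    have h2 : b * a⁻¹ * b⁻¹ ∈ L :=
      (Subgroup.mem_normalizer_iff.mp (hNL (hcjN v hb)) a⁻¹).mp (L.inv_mem ha)
    have hc1 : a * b * a⁻¹ * b⁻¹ ∈ L.map (MulAut.conj v).toMonoidHom :=
      Subgroup.mul_mem _ h1 (Subgroup.inv_mem _ hb)
    have hc2 : a * b * a⁻¹ * b⁻¹ ∈ L := by
      have e : a * b * a⁻¹ * b⁻¹ = a * (b * a⁻¹ * b⁻¹) := by group
      rw [e]; exact L.mul_mem ha h2
    have hc : a * b * a⁻¹ * b⁻¹ ∈ L ⊓ L.map (MulAut.conj v).toMonoidHom := ⟨hc2, hc1⟩
    rw [hdisj v hvV hvn, Subgroup.mem_bot] at hc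
    calc a * b = (a * b * a⁻¹ * b⁻¹) * (b * a) := by group
      _ = b * a := by rw [hc, one_mul]
  -- the conjugates generate `N`
  set S : Set G := {x | ∃ v ∈ V, x ∈ L.map (MulAut.conj v).toMonoidHom} with hS
  have hMN : Subgroup.closure S ≤ N := by
    rw [Subgroup.closure_le]
    rintro x ⟨v, _, hx⟩
    exact hcjN v hx
  have hMn : (Subgroup.closure S).Normal := by
    apply normal_closure_of_conj_invariant S N V hNV
    · rintro n hn s ⟨v, hv, hs⟩
      exact ⟨v, hv, (Subgroup.mem_normalizer_iff.mp (hNcj v hn) s).mp hs⟩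
    · rintro v' hv' s ⟨v, hv, hs⟩
      refine ⟨v' * v, V.mul_mem hv' hv, ?_⟩
      rw [mem_map_conj_iff] at hs ⊢
      have e : (v' * v)⁻¹ * (v' * s * v'⁻¹) * (v' * v) = v⁻¹ * s * v := by group
      rw [e]; exact hs
  have hLS : ∀ x ∈ L, x ∈ S := by
    intro x hx
    refine ⟨1, V.one_mem, ?_⟩
    rw [mem_map_conj_iff]
    simpa using hx
  have hM1 : Subgroup.closure S ≠ ⊥ := by
    intro hbot
    apply hL1
    rw [Subgroup.eq_bot_iff_forall]
    intro x hx
    have : x ∈ Subgroup.closure S := Subgroup.subset_closure (hLS x hx)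
    rw [hbot, Subgroup.mem_bot] at this
    exact this
  have hMeq : Subgroup.closure S = N := hmin _ hMn hMN hM1
  have hcent : ∀ g : G, (∀ s ∈ S, s * g = g * s) → g = 1 := by
    intro g hg
    have h1 : Subgroup.closure S ≤ Subgroup.centralizer ({g} : Set G) := by
      rw [Subgroup.closure_le]
      intro s hs
      exact mem_cent_single.mpr (hg s hs).symm
    rw [hMeq] at h1
    have h2 : g ∈ Subgroup.centralizer (N : Set G) := by
      rw [Subgroup.mem_centralizer_iff]
      intro n hn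
      exact (mem_cent_single.mp (h1 hn)).symm
    rw [hCN, Subgroup.mem_bot] at h2
    exact h2
  have hLsub : L.IsSubnormal :=
    Subgroup.IsSubnormal.step L N hLN hN.isSubnormal
      ((Subgroup.normal_subgroupOf_iff_le_normalizer hLN).mpr hNL)
  have hLcore : pCore 2 ↥L = ⊥ :=
    Cfsg.Agent.Lib.Helper17.pCore_eq_bot_of_isSubnormal h.core hLsub
  -- no nontrivial element of `V` normalizes `L`
  have hV1 : ∀ v ∈ V, v ∈ Subgroup.normalizer (L : Set G) → v = 1 := by
    by_contra hcon2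
    push Not at hcon2
    obtain ⟨v0, hv0V, hv0N, hv01⟩ := hcon2
    set V1 := V ⊓ Subgroup.normalizer (L : Set G) with hV1def
    have hV1ne : V1 ≠ ⊥ := by
      intro hbot
      have : v0 ∈ V1 := ⟨hv0V, hv0N⟩
      rw [hbot, Subgroup.mem_bot] at this
      exact hv01 this
    have hHnorm : L ⊔ V1 ≤ Subgroup.normalizer (L : Set G) :=
      sup_le Subgroup.le_normalizer inf_le_right
    have hHne : L ⊔ V1 ≠ ⊤ := by
      intro htop
      rw [htop, top_le_iff] at hHnorm
      have hLn : L.Normal := Subgroup.normalizer_eq_top_iff.mp hHnorm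
      exact hLneN (hmin L hLn hLN hL1)
    have hrel : RelSidki (L ⊔ V1) V1 := by
      intro x hx u hu hodd hinv
      have hxL : x ∈ L :=
        mem_of_odd_of_mem_sup (B := V1) inf_le_right (fun b hb => h.sq b hb.1) hx hodd
      obtain ⟨w, hwV, hw1, hwc⟩ := h.sidki x u hu.1 hodd hinv
      by_cases hx1 : x = 1
      · exact ⟨v0, ⟨hv0V, hv0N⟩, hv01, by rw [hx1]; simp⟩
      · have hwN : w ∈ Subgroup.normalizer (L : Set G) := by
          by_contra hwn
          have hd := hdisj w hwV hwn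
          have hxc : x ∈ L.map (MulAut.conj w).toMonoidHom := by
            rw [mem_map_conj_iff]
            have e : w⁻¹ * x * w = x := by
              calc w⁻¹ * x * w = w⁻¹ * (x * w) := by group
                _ = w⁻¹ * (w * x) := by rw [hwc]
                _ = x := by group
            rw [e]; exact hxL
          have : x ∈ L ⊓ L.map (MulAut.conj w).toMonoidHom := ⟨hxL, hxc⟩
          rw [hd, Subgroup.mem_bot] at this
          exact hx1 this
        exact ⟨w, ⟨hwV, hwN⟩, hw1, hwc⟩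
    obtain ⟨u0, hu0, hu01, hu0core⟩ :=
      h.minS (L ⊔ V1) V1 hHne le_sup_right inf_le_left hV1ne hrel
    have hu0c := commute_of_mem_pCore_map (le_sup_left : L ≤ L ⊔ V1) hHnorm hLcore hu0core
    apply hu01
    apply hcent
    rintro s ⟨v, hv, hs⟩
    rw [mem_map_conj_iff] at hs
    have h1 := hu0c _ hs
    have h2 : u0 * v = v * u0 := h.comm u0 hu0.1 v hv
    have h3 : u0 * v⁻¹ = v⁻¹ * u0 := by
      rw [h.inv_eq hv]; exact h2
    calc s * u0 = v * (v⁻¹ * s * v) * (v⁻¹ * u0) := by group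
      _ = v * (v⁻¹ * s * v) * (u0 * v⁻¹) := by rw [h3]
      _ = v * ((v⁻¹ * s * v) * u0) * v⁻¹ := by group
      _ = v * (u0 * (v⁻¹ * s * v)) * v⁻¹ := by rw [h1]
      _ = (v * u0) * (v⁻¹ * s * v) * v⁻¹ := by group
      _ = (u0 * v) * (v⁻¹ * s * v) * v⁻¹ := by rw [h2]
      _ = u0 * s := by group
  have hcomm' : ∀ w ∈ V, ∀ v ∈ V, w ≠ v → ∀ a ∈ L.map (MulAut.conj w).toMonoidHom,
      ∀ b ∈ L.map (MulAut.conj v).toMonoidHom, a * b = b * a := by
    intro w hw v hv hwv a ha b hb
    have hsV : w⁻¹ * v ∈ V := V.mul_mem (V.inv_mem hw) hv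
    have hs1 : w⁻¹ * v ≠ 1 := by
      intro e
      apply hwv
      calc w = w * (w⁻¹ * v) := by rw [e, mul_one]
        _ = v := by group
    have hsn : w⁻¹ * v ∉ Subgroup.normalizer (L : Set G) := fun hn => hs1 (hV1 _ hsV hn)
    rw [mem_map_conj_iff] at ha hb
    have hb0 : w⁻¹ * b * w ∈ L.map (MulAut.conj (w⁻¹ * v)).toMonoidHom := by
      rw [mem_map_conj_iff]
      have e : (w⁻¹ * v)⁻¹ * (w⁻¹ * b * w) * (w⁻¹ * v) = v⁻¹ * b * v := by group
      rw [e]; exact hb
    have hc := hcomm _ hsV hsn _ ha _ hb0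
    calc a * b = w * ((w⁻¹ * a * w) * (w⁻¹ * b * w)) * w⁻¹ := by group
      _ = w * ((w⁻¹ * b * w) * (w⁻¹ * a * w)) * w⁻¹ := by rw [hc]
      _ = b * a := by group
  -- the final contradiction
  obtain ⟨x, hxL, hx1, hxodd⟩ := exists_odd_ne_one L hL1 hLcore
  obtain ⟨v, hvV, hv1⟩ := h.exists_ne_one
  have hvn : v ∉ Subgroup.normalizer (L : Set G) := fun hn => hv1 (hV1 v hvV hn)
  have hc : v * x * v⁻¹ ∈ L.map (MulAut.conj v).toMonoidHom := conj_mem_map_conj L v hxL
  have hxc : x⁻¹ * (v * x * v⁻¹) = (v * x * v⁻¹) * x⁻¹ :=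
    hcomm v hvV hvn x⁻¹ (L.inv_mem hxL) _ hc
  have hodd : Odd (orderOf (x⁻¹ * (v * x * v⁻¹))) :=
    odd_orderOf_mul hxc (by rw [orderOf_inv]; exact hxodd)
      (by rw [orderOf_conj_eq]; exact hxodd)
  have hinv : v * (x⁻¹ * (v * x * v⁻¹)) * v⁻¹ = (x⁻¹ * (v * x * v⁻¹))⁻¹ :=
    conj_inv_mul_conj (h.mul_self hvV)
  obtain ⟨w, hwV, hw1, hwc⟩ := h.sidki _ v hvV hodd hinv
  by_cases hwv : w = v
  · rw [hwv] at hwc
    have e1 : v * (x⁻¹ * (v * x * v⁻¹)) * v⁻¹ = x⁻¹ * (v * x * v⁻¹) := by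
      rw [hwc]; group
    rw [e1] at hinv
    have e2 : (x⁻¹ * (v * x * v⁻¹)) ^ 2 = 1 := by
      rw [pow_two]
      nth_rewrite 1 [hinv]
      exact inv_mul_cancel _
    have e3 := eq_one_of_sq_eq_one_of_odd hodd e2
    have e4 : v * x * v⁻¹ = x := by
      calc v * x * v⁻¹ = x * (x⁻¹ * (v * x * v⁻¹)) := by group
        _ = x := by rw [e3, mul_one]
    have : x ∈ L ⊓ L.map (MulAut.conj v).toMonoidHom := ⟨hxL, by rw [← e4]; exact hc⟩
    rw [hdisj v hvV hvn, Subgroup.mem_bot] at this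
    exact hx1 this
  · have hwn : w ∉ Subgroup.normalizer (L : Set G) := fun hn => hw1 (hV1 w hwV hn)
    have key : ∀ l ∈ L, l * x = x * l := by
      intro l hl
      have hl' : w * l * w⁻¹ ∈ L.map (MulAut.conj w).toMonoidHom := conj_mem_map_conj L w hl
      have h1 : x⁻¹ * (w * l * w⁻¹) = (w * l * w⁻¹) * x⁻¹ :=
        hcomm w hwV hwn x⁻¹ (L.inv_mem hxL) _ hl'
      have h2 : (w * l * w⁻¹) * (v * x * v⁻¹) = (v * x * v⁻¹) * (w * l * w⁻¹) :=
        hcomm' w hwV v hvV hwv _ hl' _ hc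
      have h3 : (w * l * w⁻¹) * (x⁻¹ * (v * x * v⁻¹)) =
          (x⁻¹ * (v * x * v⁻¹)) * (w * l * w⁻¹) := by
        calc (w * l * w⁻¹) * (x⁻¹ * (v * x * v⁻¹))
            = ((w * l * w⁻¹) * x⁻¹) * (v * x * v⁻¹) := by group
          _ = (x⁻¹ * (w * l * w⁻¹)) * (v * x * v⁻¹) := by rw [h1]
          _ = x⁻¹ * ((w * l * w⁻¹) * (v * x * v⁻¹)) := by group
          _ = x⁻¹ * ((v * x * v⁻¹) * (w * l * w⁻¹)) := by rw [h2]
          _ = (x⁻¹ * (v * x * v⁻¹)) * (w * l * w⁻¹) := by group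
      have h4 : l * (x⁻¹ * (v * x * v⁻¹)) = (x⁻¹ * (v * x * v⁻¹)) * l := by
        have e : w * (l * (x⁻¹ * (v * x * v⁻¹))) = w * ((x⁻¹ * (v * x * v⁻¹)) * l) := by
          calc w * (l * (x⁻¹ * (v * x * v⁻¹)))
              = (w * l * w⁻¹) * (w * (x⁻¹ * (v * x * v⁻¹))) := by group
            _ = (w * l * w⁻¹) * ((x⁻¹ * (v * x * v⁻¹)) * w) := by rw [hwc]
            _ = ((w * l * w⁻¹) * (x⁻¹ * (v * x * v⁻¹))) * w := by group
            _ = ((x⁻¹ * (v * x * v⁻¹)) * (w * l * w⁻¹)) * w := by rw [h3]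
            _ = ((x⁻¹ * (v * x * v⁻¹)) * w) * l := by group
            _ = (w * (x⁻¹ * (v * x * v⁻¹))) * l := by rw [hwc]
            _ = w * ((x⁻¹ * (v * x * v⁻¹)) * l) := by group
        exact mul_left_cancel e
      have h5 : l * (v * x * v⁻¹) = (v * x * v⁻¹) * l := hcomm v hvV hvn l hl _ hc
      have h6 : l * x⁻¹ = x⁻¹ * l := by
        calc l * x⁻¹ = (l * (x⁻¹ * (v * x * v⁻¹))) * (v * x * v⁻¹)⁻¹ := by group
          _ = ((x⁻¹ * (v * x * v⁻¹)) * l) * (v * x * v⁻¹)⁻¹ := by rw [h4]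
          _ = x⁻¹ * ((v * x * v⁻¹) * l) * (v * x * v⁻¹)⁻¹ := by group
          _ = x⁻¹ * (l * (v * x * v⁻¹)) * (v * x * v⁻¹)⁻¹ := by rw [h5]
          _ = x⁻¹ * l := by group
      calc l * x = x * (x⁻¹ * l) * x := by group
        _ = x * (l * x⁻¹) * x := by rw [h6]
        _ = x * l := by group
    apply hx1
    apply hcent
    rintro s ⟨v', hv', hs⟩
    by_cases hv'n : v' ∈ Subgroup.normalizer (L : Set G)
    · have e := hV1 v' hv' hv'n
      rw [e, mem_map_conj_iff] at hs
      have hsL : s ∈ L := by simpa using hs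
      exact key s hsL
    · exact (hcomm v' hv' hv'n x hxL s hs).symm

/-- `F*(G)` of a minimal counterexample. -/
theorem MC.result (h : MC V) :
    IsSimpleGroup ↥(generalizedFittingSubgroup G) ∧
      ¬ IsMulCommutative ↥(generalizedFittingSubgroup G) ∧
      V ⊔ generalizedFittingSubgroup G = ⊤ := by
  haveI := h.nontrivial
  obtain ⟨N, hNn, hN1, hmin⟩ := exists_minimal_normal (G := G)
  haveI := hNn
  have hNV := h.sup_eq_top_of_minimal N hN1
  have hCN := h.centralizer_eq_bot_of_minimal N hN1 hmin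
  have hnc := h.not_comm_of_minimal N hN1 hmin
  have hsim := h.simple_of_minimal N hN1 hmin
  have hncomm : ¬ IsMulCommutative ↥N := by
    intro hc
    apply hnc
    intro a ha b hb
    have h1 : N ≤ Subgroup.centralizer (N : Set G) :=
      Subgroup.le_centralizer_iff_isMulCommutative.mpr hc
    exact ((Subgroup.mem_centralizer_iff.mp (h1 hb)) a ha)
  haveI hNnt : Nontrivial ↥N := (Subgroup.nontrivial_iff_ne_bot N).mpr hN1
  have hsimple : IsSimpleGroup ↥N := by
    refine { toNontrivial := hNnt, eq_bot_or_eq_top_of_normal := ?_ }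
    intro K hK
    have hle : K.map N.subtype ≤ N := Subgroup.map_subtype_le K
    have hnorm : N ≤ Subgroup.normalizer ((K.map N.subtype : Subgroup G) : Set G) := by
      have key : ∀ n ∈ N, ∀ x ∈ K.map N.subtype, n * x * n⁻¹ ∈ K.map N.subtype := by
        rintro n hn _ ⟨k, hk, rfl⟩
        exact ⟨⟨n, hn⟩ * k * ⟨n, hn⟩⁻¹, hK.conj_mem k hk _, rfl⟩
      intro n hn
      rw [Subgroup.mem_normalizer_iff]
      intro x
      constructor
      · exact key n hn x
      · intro hx
        have := key n⁻¹ (N.inv_mem hn) _ hx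
        have e : n⁻¹ * (n * x * n⁻¹) * n⁻¹⁻¹ = x := by group
        rwa [e] at this
    rcases hsim _ hle hnorm with h1 | h1
    · left
      exact (Subgroup.map_eq_bot_iff_of_injective _ N.subtype_injective).mp h1
    · right
      rw [eq_top_iff]
      intro y _
      have hy : (y : G) ∈ K.map N.subtype := by rw [h1]; exact y.2
      obtain ⟨k, hk, hky⟩ := hy
      have : k = y := Subtype.ext hky
      rw [← this]; exact hk
  -- `N` is a component
  have hperf : ⁅N, N⁆ = N := by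
    apply hmin _ inferInstance (Subgroup.commutator_le_left N N)
    intro hbot
    apply hnc
    intro a ha b hb
    have h1 : N ≤ Subgroup.centralizer (N : Set G) :=
      Subgroup.commutator_eq_bot_iff_le_centralizer.mp hbot
    exact ((Subgroup.mem_centralizer_iff.mp (h1 hb)) a ha)
  have hqs : IsQuasisimple ↥N := by
    apply Cfsg.Agent.Lib.Helper9.qs_of_perfect_of_normal
    · exact (Subgroup.isPerfect_iff.mpr hperf).commutator_eq_top
    · exact hNnt
    · intro K hK
      rcases hsimple.eq_bot_or_eq_top_of_normal K hK with h1 | h1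
      · right; rw [h1]; exact bot_le
      · left; exact h1
  have hcomp : IsComponent N := ⟨hNn.isSubnormal, hqs⟩
  have hlayer : layer G = N := by
    apply le_antisymm
    · apply sSup_le
      intro K hK
      by_cases hKN : K = N
      · rw [hKN]
      · exfalso
        have h1 := Cfsg.Agent.Lib.Helper9.comp_commutator_eq_bot_of_ne hK hcomp hKN
        have h2 : K ≤ Subgroup.centralizer (N : Set G) :=
          Subgroup.commutator_eq_bot_iff_le_centralizer.mp h1
        rw [hCN, le_bot_iff] at h2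
        exact Cfsg.Agent.Lib.Helper9.comp_ne_bot hK h2
    · exact Cfsg.Agent.Lib.Helper9.comp_le_layer hcomp
  have hfit : fittingSubgroup G = ⊥ := by
    haveI hFn : (fittingSubgroup G).Normal := fittingSubgroup_normal
    have hFnil : Group.IsNilpotent ↥(fittingSubgroup G) := fittingSubgroup_isNilpotent
    have hinf : fittingSubgroup G ⊓ N = ⊥ := by
      by_contra hne
      have heq : fittingSubgroup G ⊓ N = N := hmin _ inferInstance inf_le_right hne
      have hNF : N ≤ fittingSubgroup G := by rw [← heq]; exact inf_le_left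
      -- then `N` is solvable
      have hsol : Group.IsSolvable ↥(fittingSubgroup G) := inferInstance
      have hNsol : Group.IsSolvable ↥N :=
        Group.isSolvable_of_isSolvable_injective (Subgroup.inclusion_injective hNF)
      haveI := hsimple
      have := (IsSimpleGroup.comm_iff_isSolvable (G := ↥N)).mpr hNsol
      apply hnc
      intro a ha b hb
      exact congrArg Subtype.val (this ⟨a, ha⟩ ⟨b, hb⟩)
    have hcomm : ⁅fittingSubgroup G, N⁆ = ⊥ := by
      rw [eq_bot_iff, ← hinf]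
      exact Subgroup.commutator_le_inf _ _
    have hle : fittingSubgroup G ≤ Subgroup.centralizer (N : Set G) :=
      Subgroup.commutator_eq_bot_iff_le_centralizer.mp hcomm
    rw [hCN, le_bot_iff] at hle
    exact hle
  have hgfs : generalizedFittingSubgroup G = N := by
    unfold generalizedFittingSubgroup
    rw [hlayer, hfit, sup_bot_eq]
  rw [hgfs]
  refine ⟨hsimple, hncomm, ?_⟩
  rw [sup_comm]; exact hNV

end main

end Cfsg.Agent.Lib.Helper18.Sidki
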