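import Mathlib
import Cfsg.Agent.Lib.Helper18.OffenderTwo

set_option autoImplicit false

/-!
# Transvections of a faithful group on an elementary abelian `2`-group, I

`Γ` acts (via `φ`) on an elementary abelian `2`-group `V`.  We study the commutator maps
`nv φ g : v ↦ φ g v / v`, transvections (`IsTransvW φ d w`: `d` moves every vector by `1` or `w`) and
elements `z` of odd order whose commutator map has an image of order at most `4`
(`pow_three_eq_one`, `Nice`).
-/

namespace Cfsg.Agent.Lib.Helper18.SolvOff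

open Subgroup Cfsg.Agent.Lib.Helper18.OffenderTwo

variable {Γ : Type*} [Group Γ] {V : Type*} [CommGroup V] (φ : Γ →* MulAut V)

/-- The commutator map `v ↦ φ g v / v`, an endomorphism of the commutative group `V`. -/
def nv (g : Γ) : V →* V where
  toFun v := φ g v / v
  map_one' := by rw [map_one, div_one]
  map_mul' a b := by rw [map_mul, mul_div_mul_comm]

theorem nv_apply (g : Γ) (v : V) : nv φ g v = φ g v / v := rfl

theorem act_eq_mul_nv (g : Γ) (v : V) : φ g v = v * nv φ g v := by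
  rw [nv_apply, mul_div_cancel]

theorem nv_eq_one_iff (g : Γ) (v : V) : nv φ g v = 1 ↔ φ g v = v := by
  rw [nv_apply, div_eq_one]

theorem nv_one (v : V) : nv φ 1 v = 1 := by
  rw [nv_eq_one_iff, act_one]

theorem nv_mul (g h : Γ) (v : V) : nv φ (g * h) v = nv φ g (φ h v) * nv φ h v := by
  rw [nv_apply, nv_apply, nv_apply, act_mul, div_mul_div_cancel]

theorem act_nv_conj (g h : Γ) (v : V) : φ h (nv φ g v) = nv φ (h * g * h⁻¹) (φ h v) := by
  rw [nv_apply, nv_apply, map_div, ← act_mul, ← act_mul, inv_mul_cancel_right]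

theorem act_nv_comm {g h : Γ} (hc : g * h = h * g) (v : V) :
    φ h (nv φ g v) = nv φ g (φ h v) := by
  rw [act_nv_conj]
  have : h * g * h⁻¹ = g := by rw [← hc, mul_inv_cancel_right]
  rw [this]

theorem act_mem_range (g : Γ) {u : V} (hu : u ∈ (nv φ g).range) : φ g u ∈ (nv φ g).range := by
  obtain ⟨v, rfl⟩ := hu
  exact ⟨φ g v, (act_nv_comm φ rfl v).symm⟩

theorem act_pow_mem_range (g : Γ) {u : V} (hu : u ∈ (nv φ g).range) (k : ℕ) :
    φ (g ^ k) u ∈ (nv φ g).range := by
  induction k with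
  | zero => rw [pow_zero, act_one]; exact hu
  | succ k ih => rw [pow_succ', act_mul]; exact act_mem_range φ g ih

theorem nv_pow_mem (g : Γ) (R : Subgroup V) (hR : ∀ v, nv φ g v ∈ R) (k : ℕ) (v : V) :
    nv φ (g ^ k) v ∈ R := by
  induction k generalizing v with
  | zero => rw [pow_zero, nv_one]; exact R.one_mem
  | succ k ih => rw [pow_succ', nv_mul]; exact R.mul_mem (hR _) (ih v)

theorem nv_inv (g : Γ) (v : V) : nv φ g⁻¹ v = (nv φ g (φ g⁻¹ v))⁻¹ := by
  rw [nv_apply, nv_apply, act_act_inv, inv_div]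

theorem range_nv_inv (g : Γ) : (nv φ g⁻¹).range = (nv φ g).range := by
  apply le_antisymm
  · rintro _ ⟨v, rfl⟩
    rw [nv_inv]
    exact Subgroup.inv_mem _ ⟨_, rfl⟩
  · rintro _ ⟨v, rfl⟩
    have h := nv_inv φ g⁻¹ v
    rw [inv_inv] at h
    rw [h]
    exact Subgroup.inv_mem _ ⟨_, rfl⟩

/-- The fixed points of the cyclic group generated by `g` are the kernel of the commutator map. -/
theorem fixV_zpowers (g : Γ) : fixV φ (zpowers g) = (nv φ g).ker := by
  ext v
  rw [mem_fixV, MonoidHom.mem_ker, nv_eq_one_iff]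
  constructor
  · intro h
    exact h g (mem_zpowers g)
  · intro h y hy
    have hle : zpowers g ≤ (MulAction.stabilizer (MulAut V) v).comap φ := by
      rw [zpowers_le]
      show φ g ∈ MulAction.stabilizer (MulAut V) v
      rw [MulAction.mem_stabilizer_iff, MulAut.smul_def]
      exact h
    have := hle hy
    have h2 : φ y ∈ MulAction.stabilizer (MulAut V) v := this
    rw [MulAction.mem_stabilizer_iff, MulAut.smul_def] at h2
    exact h2

/-! ### Exponent two -/

section ExpTwo

variable (hV2 : ∀ v : V, v ^ 2 = 1)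
include hV2

theorem mul_self_eq_one (v : V) : v * v = 1 := by rw [← pow_two]; exact hV2 v

theorem inv_eq_self (v : V) : v⁻¹ = v :=
  inv_eq_of_mul_eq_one_right (mul_self_eq_one hV2 v)

theorem pow_odd_eq_self {m : ℕ} (hm : Odd m) (v : V) : v ^ m = v := by
  obtain ⟨k, rfl⟩ := hm
  rw [pow_succ, pow_mul, hV2, one_pow, one_mul]

theorem eq_one_of_pow_odd {m : ℕ} (hm : Odd m) {v : V} (h : v ^ m = 1) : v = 1 := by
  rw [pow_odd_eq_self hV2 hm] at h; exact h

end ExpTwo

/-! ### The trace argument -/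

theorem prod_range_act_nv (g : Γ) (m : ℕ) (hm : g ^ m = 1) (v : V) :
    ∏ i ∈ Finset.range m, φ (g ^ i) (nv φ g v) = 1 := by
  have h : ∀ i, φ (g ^ i) (nv φ g v) = φ (g ^ (i + 1)) v / φ (g ^ i) v := by
    intro i
    rw [nv_apply, map_div, ← act_mul, ← pow_succ]
  simp_rw [h]
  rw [Finset.prod_range_div (fun i => φ (g ^ i) v), hm, pow_zero, div_self']

/-- An element of odd order has no nontrivial fixed point in the image of its commutator map. -/
theorem eq_one_of_fixed_of_mem_range (hV2 : ∀ v : V, v ^ 2 = 1) {g : Γ} (hodd : Odd (orderOf g))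
    {u : V} (hu : u ∈ (nv φ g).range) (hfix : φ g u = u) : u = 1 := by
  obtain ⟨v, rfl⟩ := hu
  have h1 := prod_range_act_nv φ g (orderOf g) (pow_orderOf_eq_one g) v
  have h2 : ∀ i ∈ Finset.range (orderOf g), φ (g ^ i) (nv φ g v) = nv φ g v :=
    fun i _ => act_pow_fixed φ g _ hfix i
  rw [Finset.prod_congr rfl h2, Finset.prod_const, Finset.card_range] at h1
  exact eq_one_of_pow_odd hV2 hodd h1

/-- The trace of an element. -/
theorem exists_fix_mul_range (hV2 : ∀ v : V, v ^ 2 = 1) {g : Γ} (hodd : Odd (orderOf g)) (v : V) :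
    ∃ c u, φ g c = c ∧ u ∈ (nv φ g).range ∧ v = c * u := by
  set m := orderOf g with hm
  have hgm : g ^ m = 1 := pow_orderOf_eq_one g
  set c : V := ∏ i ∈ Finset.range m, φ (g ^ i) v with hc
  have hcfix : φ g c = c := by
    rw [hc, map_prod]
    have h1 : ∀ i ∈ Finset.range m, φ g (φ (g ^ i) v) = φ (g ^ (i + 1)) v := by
      intro i _
      rw [← act_mul, ← pow_succ']
    rw [Finset.prod_congr rfl h1]
    have h2 := Finset.prod_range_succ (fun i => φ (g ^ i) v) m
    have h3 := Finset.prod_range_succ' (fun i => φ (g ^ i) v) m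
    rw [h2] at h3
    simp only [hgm, pow_zero, act_one] at h3
    exact (mul_right_cancel h3).symm
  refine ⟨c, c * v, hcfix, ?_, ?_⟩
  · -- `c * v = ∏ (φ (g^i) v / v) * v^(m+1)`
    have h1 : c * v = ∏ i ∈ Finset.range m, nv φ (g ^ i) v := by
      have h2 : ∀ i ∈ Finset.range m, nv φ (g ^ i) v = φ (g ^ i) v * v := by
        intro i _
        rw [nv_apply, div_eq_mul_inv, inv_eq_self hV2]
      rw [Finset.prod_congr rfl h2, Finset.prod_mul_distrib, Finset.prod_const, Finset.card_range,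
        pow_odd_eq_self hV2 hodd]
    rw [h1]
    exact Subgroup.prod_mem _ fun i _ => nv_pow_mem φ g (nv φ g).range (fun w => ⟨w, rfl⟩) i v
  · rw [← mul_assoc, mul_self_eq_one hV2, one_mul]

/-! ### Faithful actions -/

theorem eq_one_of_act_trivial (hφ : Function.Injective φ) {g : Γ} (h : ∀ v, φ g v = v) : g = 1 := by
  apply hφ
  rw [map_one]
  ext v
  rw [h v, MulAut.one_apply]

theorem exists_nv_ne_one (hφ : Function.Injective φ) {g : Γ} (hg : g ≠ 1) : ∃ v, nv φ g v ≠ 1 := by
  by_contra hcon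
  push Not at hcon
  exact hg (eq_one_of_act_trivial φ hφ fun v => (nv_eq_one_iff φ g v).mp (hcon v))

/-- If `g` has odd order, acts trivially on a subgroup `R` and every commutator with `g` lies in
`R`, then `g = 1`. -/
theorem eq_one_of_trivial_on (hφ : Function.Injective φ) (hV2 : ∀ v : V, v ^ 2 = 1) {g : Γ}
    (hodd : Odd (orderOf g)) (R : Subgroup V) (hR : ∀ v, nv φ g v ∈ R)
    (htriv : ∀ u ∈ R, φ g u = u) : g = 1 := by
  apply eq_one_of_act_trivial φ hφ
  intro v
  have hn : φ g (nv φ g v) = nv φ g v := htriv _ (hR v)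
  have hk : ∀ k : ℕ, φ (g ^ k) v = v * (nv φ g v) ^ k := by
    intro k
    induction k with
    | zero => rw [pow_zero, act_one, pow_zero, mul_one]
    | succ k ih =>
      rw [pow_succ', act_mul, ih, map_mul, map_pow, hn, act_eq_mul_nv φ g v, mul_assoc, ← pow_succ']
  have h1 := hk (orderOf g)
  rw [pow_orderOf_eq_one, act_one] at h1
  have h2 : (nv φ g v) ^ orderOf g = 1 := by
    have := h1.symm
    rwa [mul_eq_left] at this
  have h3 := eq_one_of_pow_odd hV2 hodd h2
  exact (nv_eq_one_iff φ g v).mp h3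

/-! ### Transvections -/

/-- `d` is a transvection with centre `w`: it moves every vector by `1` or `w`, and some vector by
`w ≠ 1`. -/
def IsTransvW (d : Γ) (w : V) : Prop :=
  w ≠ 1 ∧ (∀ v, nv φ d v = 1 ∨ nv φ d v = w) ∧ ∃ v, nv φ d v = w

/-- `d` is a transvection. -/
def IsTransv (d : Γ) : Prop := ∃ w, IsTransvW φ d w

variable {φ}

theorem IsTransvW.act_center {d : Γ} {w : V} (h : IsTransvW φ d w) : φ d w = w := by
  obtain ⟨hw, hall, v₀, hv₀⟩ := h
  have h1 : φ d w = nv φ d (φ d v₀) := by rw [← hv₀]; exact act_nv_comm φ rfl v₀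
  rcases hall (φ d v₀) with h2 | h2
  · rw [h2] at h1
    exact absurd ((map_eq_one_iff (φ d) (MulEquiv.injective _)).mp h1) hw
  · rw [h1, h2]

theorem IsTransvW.act_nv {d : Γ} {w : V} (h : IsTransvW φ d w) (v : V) :
    φ d (nv φ d v) = nv φ d v := by
  rcases h.2.1 v with h1 | h1
  · rw [h1, map_one]
  · rw [h1, h.act_center]

theorem IsTransvW.sq {d : Γ} {w : V} (h : IsTransvW φ d w) (hφ : Function.Injective φ)
    (hV2 : ∀ v : V, v ^ 2 = 1) : d ^ 2 = 1 := by
  apply eq_one_of_act_trivial φ hφ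
  intro v
  calc φ (d ^ 2) v = φ d (φ d v) := by rw [pow_two, act_mul]
    _ = φ d (v * nv φ d v) := by rw [← act_eq_mul_nv]
    _ = φ d v * nv φ d v := by rw [map_mul, h.act_nv]
    _ = v * nv φ d v * nv φ d v := by rw [← act_eq_mul_nv]
    _ = v := by rw [mul_assoc, mul_self_eq_one hV2, mul_one]

theorem IsTransvW.ne_one {d : Γ} {w : V} (h : IsTransvW φ d w) : d ≠ 1 := by
  rintro rfl
  obtain ⟨hw, -, v₀, hv₀⟩ := h
  rw [nv_one] at hv₀
  exact hw hv₀.symm

theorem IsTransvW.inv_eq {d : Γ} {w : V} (h : IsTransvW φ d w) (hφ : Function.Injective φ)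
    (hV2 : ∀ v : V, v ^ 2 = 1) : d⁻¹ = d := by
  have h2 := h.sq hφ hV2
  rw [pow_two] at h2
  exact inv_eq_of_mul_eq_one_right h2

theorem IsTransvW.conj {d : Γ} {w : V} (h : IsTransvW φ d w) (g : Γ) :
    IsTransvW φ (g * d * g⁻¹) (φ g w) := by
  obtain ⟨hw, hall, v₀, hv₀⟩ := h
  have key : ∀ v, nv φ (g * d * g⁻¹) v = φ g (nv φ d (φ g⁻¹ v)) := by
    intro v
    rw [act_nv_conj, act_act_inv]
  refine ⟨?_, ?_, φ g v₀, ?_⟩
  · intro h1
    exact hw ((map_eq_one_iff (φ g) (MulEquiv.injective _)).mp h1)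
  · intro v
    rw [key]
    rcases hall (φ g⁻¹ v) with h1 | h1
    · left; rw [h1, map_one]
    · right; rw [h1]
  · rw [key, act_inv_act, hv₀]

theorem IsTransv.conj {d : Γ} (h : IsTransv φ d) (g : Γ) : IsTransv φ (g * d * g⁻¹) := by
  obtain ⟨w, hw⟩ := h
  exact ⟨_, hw.conj g⟩

/-- A nontrivial element whose fixed points have index at most `2` is a transvection. -/
theorem isTransv_of_card [Finite V] (hφ : Function.Injective φ) (hV2 : ∀ v : V, v ^ 2 = 1) {t : Γ}
    (ht : t ≠ 1) (hcard : Nat.card V ≤ 2 * Nat.card (fixV φ (zpowers t))) : IsTransv φ t := by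
  rw [fixV_zpowers] at hcard
  obtain ⟨v₀, hv₀⟩ := exists_nv_ne_one φ hφ ht
  set w := nv φ t v₀ with hw
  have h1 : Nat.card (nv φ t).ker * Nat.card (nv φ t).range = Nat.card V := by
    rw [← Subgroup.index_ker, Subgroup.card_mul_index]
  have hkpos : 0 < Nat.card (nv φ t).ker := Nat.card_pos
  have h2 : Nat.card (nv φ t).range ≤ 2 := by
    have : Nat.card (nv φ t).ker * Nat.card (nv φ t).range ≤ Nat.card (nv φ t).ker * 2 := by
      rw [h1, mul_comm]; exact hcard
    exact Nat.le_of_mul_le_mul_left this hkpos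
  have hwR : w ∈ (nv φ t).range := ⟨v₀, rfl⟩
  have hzle : zpowers w ≤ (nv φ t).range := by rw [zpowers_le]; exact hwR
  have hord : orderOf w = 2 := orderOf_eq_prime (hV2 w) hv₀
  have hzeq : zpowers w = (nv φ t).range := by
    apply Subgroup.eq_of_le_of_card_ge hzle
    rw [Nat.card_zpowers, hord]; exact h2
  refine ⟨w, hv₀, ?_, v₀, rfl⟩
  intro v
  have hv : nv φ t v ∈ zpowers w := by rw [hzeq]; exact ⟨v, rfl⟩
  exact mem_zpowers_of_mul_self (mul_self_eq_one hV2 w) hv

/-! ### Products of two transvections -/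

theorem nv_mul_transv_mem {d d' : Γ} {w w' : V} (hd : IsTransvW φ d w) (hd' : IsTransvW φ d' w')
    (v : V) : nv φ (d' * d) v = 1 ∨ nv φ (d' * d) v = w ∨ nv φ (d' * d) v = w' ∨
      nv φ (d' * d) v = w' * w := by
  rw [nv_mul]
  rcases hd'.2.1 (φ d v) with h1 | h1 <;> rcases hd.2.1 v with h2 | h2 <;> rw [h1, h2]
  · left; rw [one_mul]
  · right; left; rw [one_mul]
  · right; right; left; rw [mul_one]
  · right; right; right; rfl

variable (φ)

theorem card_range_le_four [Finite V] (z : Γ) (a b c : V)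
    (h : ∀ v, nv φ z v = 1 ∨ nv φ z v = a ∨ nv φ z v = b ∨ nv φ z v = c) :
    Nat.card (nv φ z).range ≤ 4 := by
  classical
  have hsub : ((nv φ z).range : Set V) ⊆ (({1, a, b, c} : Finset V) : Set V) := by
    rintro _ ⟨v, rfl⟩
    simp only [Finset.coe_insert, Finset.coe_singleton, Set.mem_insert_iff, Set.mem_singleton_iff]
    exact h v
  calc Nat.card (nv φ z).range = ((nv φ z).range : Set V).ncard := Nat.card_coe_set_eq _
    _ ≤ ((({1, a, b, c} : Finset V) : Set V)).ncard := Set.ncard_le_ncard hsub (Set.toFinite _)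
    _ = ({1, a, b, c} : Finset V).card := Set.ncard_coe_finset _
    _ ≤ 4 := Finset.card_le_four

end Cfsg.Agent.Lib.Helper18.SolvOff
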