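import Mathlib
import Cfsg.Agent.Lib.Helper18.SolvOffA

set_option autoImplicit false

/-!
# Transvections of a faithful group on an elementary abelian `2`-group, II

* `pow_three_eq_one`: an element of odd order whose commutator map has at most `4` values has
  order dividing `3`.
* `Nice φ z`: `z` has order `3` and its commutator map has exactly `4` values; the image is then a
  four-group on which `z` acts without fixed points, complementing the fixed points of `z`.
* `nice_of_inverted`: an element of odd order inverted by a transvection is nice.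
* fixed points of `p`-groups acting on invariant subgroups of `V`.
-/

namespace Cfsg.Agent.Lib.Helper18.SolvOff

open Subgroup Cfsg.Agent.Lib.Helper18.OffenderTwo

variable {Γ : Type*} [Group Γ] {V : Type*} [CommGroup V] (φ : Γ →* MulAut V)

theorem act_injective (g : Γ) {a b : V} (h : φ g a = φ g b) : a = b :=
  MulEquiv.injective (φ g) h

theorem act_ne_one (g : Γ) {a : V} (h : a ≠ 1) : φ g a ≠ 1 := by
  intro h1
  exact h ((map_eq_one_iff (φ g) (MulEquiv.injective _)).mp h1)

theorem pow_eq_self_of_sq_fixed {z : Γ} (hodd : Odd (orderOf z)) {u : V} (h : φ (z ^ 2) u = u) :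
    φ z u = u := by
  obtain ⟨l, hl⟩ := hodd
  have h1 := act_pow_fixed φ (z ^ 2) u h (l + 1)
  have h2 : (z ^ 2) ^ (l + 1) = z := by
    rw [← pow_mul, show 2 * (l + 1) = orderOf z + 1 by omega, pow_succ, pow_orderOf_eq_one, one_mul]
  rwa [h2] at h1

theorem eq_one_of_sq_eq_one {g : Γ} (hodd : Odd (orderOf g)) (h : g ^ 2 = 1) : g = 1 := by
  obtain ⟨l, hl⟩ := hodd
  have h2 : (g ^ 2) ^ (l + 1) = g := by
    rw [← pow_mul, show 2 * (l + 1) = orderOf g + 1 by omega, pow_succ, pow_orderOf_eq_one, one_mul]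
  rw [← h2, h, one_pow]

/-- If `z` has odd order and the image `R` of its commutator map has at most `4` elements, then
`z ^ 3` fixes `R` pointwise. -/
theorem act_pow_three_fixed [Finite V] {z : Γ} (hodd : Odd (orderOf z))
    (hcard : Nat.card (nv φ z).range ≤ 4) {u : V} (hu : u ∈ (nv φ z).range) : φ (z ^ 3) u = u := by
  classical
  by_cases hu1 : u = 1
  · rw [hu1, map_one]
  haveI := Fintype.ofFinite V
  set R := (nv φ z).range with hR
  set T' : Finset V := Finset.univ.filter (fun x => x ∈ R) with hT'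
  have hcardT' : T'.card = Nat.card R := by
    rw [Nat.card_eq_fintype_card, Fintype.card_subtype]
  have h1T' : (1 : V) ∈ T' := by rw [hT', Finset.mem_filter]; exact ⟨Finset.mem_univ _, R.one_mem⟩
  set T : Finset V := T'.erase 1 with hT
  have hcardT : T.card < (Finset.univ : Finset (Fin 4)).card := by
    rw [hT, Finset.card_erase_of_mem h1T', hcardT', Finset.card_univ, Fintype.card_fin]
    omega
  have hmaps : Set.MapsTo (fun i : Fin 4 => φ (z ^ (i : ℕ)) u) (↑(Finset.univ : Finset (Fin 4))) ↑T := by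
    intro i _
    show φ (z ^ (i : ℕ)) u ∈ T
    rw [hT, Finset.mem_erase, hT', Finset.mem_filter]
    exact ⟨act_ne_one φ _ hu1, Finset.mem_univ _, act_pow_mem_range φ z hu _⟩
  obtain ⟨i, -, j, -, hij, hfij⟩ := Finset.exists_ne_map_eq_of_card_lt_of_maps_to hcardT hmaps
  have key : ∀ i j : ℕ, i < j → j ≤ 3 → φ (z ^ i) u = φ (z ^ j) u → φ (z ^ 3) u = u := by
    intro i j hlt hj3 h
    obtain ⟨k, rfl⟩ : ∃ k, j = i + k := ⟨j - i, by omega⟩
    rw [pow_add, act_mul] at h
    have hk : φ (z ^ k) u = u := (act_injective φ _ h).symm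
    have hk1 : 1 ≤ k := by omega
    have hk3 : k ≤ 3 := by omega
    interval_cases k
    · rw [pow_one] at hk
      exact act_pow_fixed φ z u hk 3
    · exact act_pow_fixed φ z u (pow_eq_self_of_sq_fixed φ hodd hk) 3
    · exact hk
  have hi3 : (i : ℕ) ≤ 3 := by have := i.2; omega
  have hj3 : (j : ℕ) ≤ 3 := by have := j.2; omega
  have hne : (i : ℕ) ≠ (j : ℕ) := fun h => hij (Fin.ext h)
  rcases lt_or_gt_of_ne hne with h | h
  · exact key i j h hj3 hfij
  · exact key j i h hi3 hfij.symm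

/-- An element of odd order whose commutator map has at most `4` values has order dividing `3`. -/
theorem pow_three_eq_one [Finite V] (hφ : Function.Injective φ) (hV2 : ∀ v : V, v ^ 2 = 1) {z : Γ}
    (hodd : Odd (orderOf z)) (hcard : Nat.card (nv φ z).range ≤ 4) : z ^ 3 = 1 := by
  have hodd3 : Odd (orderOf (z ^ 3)) := Odd.of_dvd_nat hodd (orderOf_pow_dvd 3)
  exact eq_one_of_trivial_on φ hφ hV2 hodd3 (nv φ z).range
    (fun v => nv_pow_mem φ z (nv φ z).range (fun w => ⟨w, rfl⟩) 3 v)
    (fun u hu => act_pow_three_fixed φ hodd hcard hu)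

/-- `z` is nice: of order `3`, with a commutator map with exactly `4` values. -/
structure Nice (z : Γ) : Prop where
  ne_one : z ≠ 1
  pow_three : z ^ 3 = 1
  card : Nat.card (nv φ z).range = 4

variable {φ}

theorem Nice.orderOf_eq {z : Γ} (h : Nice φ z) : orderOf z = 3 :=
  orderOf_eq_prime h.pow_three h.ne_one

theorem Nice.odd {z : Γ} (h : Nice φ z) : Odd (orderOf z) := by
  rw [h.orderOf_eq]; decide

theorem Nice.no_fixed {z : Γ} (h : Nice φ z) (hV2 : ∀ v : V, v ^ 2 = 1) {u : V}
    (hu : u ∈ (nv φ z).range) (hfix : φ z u = u) : u = 1 :=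
  eq_one_of_fixed_of_mem_range φ hV2 h.odd hu hfix

theorem Nice.decomp {z : Γ} (h : Nice φ z) (hV2 : ∀ v : V, v ^ 2 = 1) (v : V) :
    ∃ c u, φ z c = c ∧ u ∈ (nv φ z).range ∧ v = c * u :=
  exists_fix_mul_range φ hV2 h.odd v

theorem Nice.inv {z : Γ} (h : Nice φ z) : Nice φ z⁻¹ := by
  refine ⟨inv_ne_one.mpr h.ne_one, ?_, ?_⟩
  · rw [inv_pow, h.pow_three, inv_one]
  · rw [range_nv_inv]; exact h.card

theorem Nice.inv_eq_sq {z : Γ} (h : Nice φ z) : z⁻¹ = z ^ 2 := by
  have h3 := h.pow_three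
  rw [pow_succ] at h3
  exact inv_eq_of_mul_eq_one_left h3

theorem Nice.act_sq_ne {z : Γ} (h : Nice φ z) (hV2 : ∀ v : V, v ^ 2 = 1) {u : V}
    (hu : u ∈ (nv φ z).range) (hu1 : u ≠ 1) : φ (z ^ 2) u ≠ u := by
  intro h2
  exact hu1 (h.no_fixed hV2 hu (pow_eq_self_of_sq_fixed φ h.odd h2))

theorem Nice.act_sq_ne_act {z : Γ} (h : Nice φ z) (hV2 : ∀ v : V, v ^ 2 = 1) {u : V}
    (hu : u ∈ (nv φ z).range) (hu1 : u ≠ 1) : φ (z ^ 2) u ≠ φ z u := by
  intro h2
  rw [pow_two, act_mul] at h2
  exact act_ne_one φ z hu1 (h.no_fixed hV2 (act_mem_range φ z hu) h2)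

/-- The image of the commutator map of a nice element is the orbit of any nontrivial element
together with `1`. -/
theorem Nice.orbit [Finite V] {z : Γ} (h : Nice φ z) (hV2 : ∀ v : V, v ^ 2 = 1) {u : V}
    (hu : u ∈ (nv φ z).range) (hu1 : u ≠ 1) {r : V} (hr : r ∈ (nv φ z).range) :
    r = 1 ∨ r = u ∨ r = φ z u ∨ r = φ (z ^ 2) u := by
  classical
  haveI := Fintype.ofFinite V
  set R := (nv φ z).range with hR
  set T' : Finset V := Finset.univ.filter (fun x => x ∈ R) with hT'
  have hcardT' : T'.card = 4 := by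
    rw [← h.card, Nat.card_eq_fintype_card, Fintype.card_subtype]
  have hmem : ∀ x, x ∈ T' ↔ x ∈ R := fun x => by rw [hT', Finset.mem_filter]; simp
  set S : Finset V := {1, u, φ z u, φ (z ^ 2) u} with hS
  have h1 : u ≠ 1 := hu1
  have h2 : φ z u ≠ 1 := act_ne_one φ z hu1
  have h3 : φ (z ^ 2) u ≠ 1 := act_ne_one φ _ hu1
  have h4 : φ z u ≠ u := fun hh => hu1 (h.no_fixed hV2 hu hh)
  have h5 : φ (z ^ 2) u ≠ u := h.act_sq_ne hV2 hu hu1
  have h6 : φ (z ^ 2) u ≠ φ z u := h.act_sq_ne_act hV2 hu hu1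
  have hScard : S.card = 4 := by
    rw [hS, Finset.card_insert_of_notMem, Finset.card_insert_of_notMem,
      Finset.card_insert_of_notMem, Finset.card_singleton]
    · simp only [Finset.mem_singleton]; exact fun hh => h6 hh.symm
    · simp only [Finset.mem_insert, Finset.mem_singleton, not_or]
      exact ⟨fun hh => h4 hh.symm, fun hh => h5 hh.symm⟩
    · simp only [Finset.mem_insert, Finset.mem_singleton, not_or]
      exact ⟨fun hh => h1 hh.symm, fun hh => h2 hh.symm, fun hh => h3 hh.symm⟩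
  have hST : S ⊆ T' := by
    intro x hx
    rw [hmem]
    rw [hS] at hx
    simp only [Finset.mem_insert, Finset.mem_singleton] at hx
    rcases hx with rfl | rfl | rfl | rfl
    · exact R.one_mem
    · exact hu
    · exact act_mem_range φ z hu
    · exact act_pow_mem_range φ z hu 2
  have hEq : S = T' := Finset.eq_of_subset_of_card_le hST (by rw [hcardT', hScard])
  have hrS : r ∈ S := by rw [hEq, hmem]; exact hr
  rw [hS] at hrS
  simpa only [Finset.mem_insert, Finset.mem_singleton] using hrS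

variable (φ)

/-- A nontrivial element of odd order whose commutator map has at most `4` values is nice. -/
theorem nice_of [Finite V] (hφ : Function.Injective φ) (hV2 : ∀ v : V, v ^ 2 = 1) {z : Γ}
    (hz1 : z ≠ 1) (hodd : Odd (orderOf z)) (hcard : Nat.card (nv φ z).range ≤ 4) : Nice φ z := by
  have h3 := pow_three_eq_one φ hφ hV2 hodd hcard
  refine ⟨hz1, h3, ?_⟩
  obtain ⟨v₀, hv₀⟩ := exists_nv_ne_one φ hφ hz1
  set u := nv φ z v₀ with hu
  have huR : u ∈ (nv φ z).range := ⟨v₀, rfl⟩
  have hu'R : φ z u ∈ (nv φ z).range := act_mem_range φ z huR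
  have hne : φ z u ≠ u := fun hh => hv₀ (eq_one_of_fixed_of_mem_range φ hV2 hodd huR hh)
  have hle : zpowers u ≤ (nv φ z).range := by rw [zpowers_le]; exact huR
  have hord : orderOf u = 2 := orderOf_eq_prime (hV2 u) hv₀
  have hc2 : Nat.card (zpowers u) = 2 := by rw [Nat.card_zpowers, hord]
  have hdvd : 2 ∣ Nat.card (nv φ z).range := hc2 ▸ Subgroup.card_dvd_of_le hle
  have hne2 : Nat.card (nv φ z).range ≠ 2 := by
    intro h2
    have heq : zpowers u = (nv φ z).range := Subgroup.eq_of_le_of_card_ge hle (by rw [h2, hc2])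
    have : φ z u ∈ zpowers u := by rw [heq]; exact hu'R
    rcases mem_zpowers_of_mul_self (mul_self_eq_one hV2 u) this with h1 | h1
    · exact act_ne_one φ z hv₀ h1
    · exact hne h1
  have hpos : 0 < Nat.card (nv φ z).range := Nat.card_pos
  obtain ⟨k, hk⟩ := hdvd
  omega

/-- An element of odd order inverted by a transvection is nice, and the centre of the transvection
lies in the image of its commutator map. -/
theorem nice_of_inverted [Finite V] (hφ : Function.Injective φ) (hV2 : ∀ v : V, v ^ 2 = 1)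
    {d : Γ} {w : V} (hd : IsTransvW φ d w) {z : Γ} (hz1 : z ≠ 1) (hodd : Odd (orderOf z))
    (hinv : d * z * d⁻¹ = z⁻¹) : Nice φ z ∧ w ∈ (nv φ z).range := by
  classical
  obtain ⟨l, hl⟩ := hodd
  have hoddz : Odd (orderOf z) := ⟨l, hl⟩
  set y := z ^ (l + 1) with hy
  have hyy : y * y = z := by
    rw [hy, ← pow_add, show l + 1 + (l + 1) = orderOf z + 1 by omega, pow_succ, pow_orderOf_eq_one,
      one_mul]
  have hdinv : d⁻¹ = d := hd.inv_eq hφ hV2
  have hyinv : d * y * d⁻¹ = y⁻¹ := by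
    have : d * z ^ (l + 1) * d⁻¹ = (d * z * d⁻¹) ^ (l + 1) := by
      rw [conj_pow]
    rw [hy, this, hinv, inv_pow]
  have hzd : y * d * y⁻¹ = z * d := by
    have h1 : d * y⁻¹ * d⁻¹ = y := by
      have : d * y⁻¹ * d⁻¹ = (d * y * d⁻¹)⁻¹ := by group
      rw [this, hyinv, inv_inv]
    calc y * d * y⁻¹ = y * (d * y⁻¹ * d⁻¹) * d := by group
      _ = y * y * d := by rw [h1]
      _ = z * d := by rw [hyy]
  have hd' : IsTransvW φ (z * d) (φ y w) := hzd ▸ hd.conj y
  have hz : z = (z * d) * d := by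
    rw [mul_assoc, ← pow_two, hd.sq hφ hV2, mul_one]
  have hvals : ∀ v, nv φ z v = 1 ∨ nv φ z v = w ∨ nv φ z v = φ y w ∨ nv φ z v = φ y w * w := by
    intro v
    have := nv_mul_transv_mem hd hd' v
    rwa [← hz] at this
  have hcard : Nat.card (nv φ z).range ≤ 4 := card_range_le_four φ z _ _ _ hvals
  have hN := nice_of φ hφ hV2 hz1 hoddz hcard
  refine ⟨hN, ?_⟩
  -- `R` has exactly `4` elements and is contained in `{1, w, w', w' w}`
  haveI := Fintype.ofFinite V
  set R := (nv φ z).range with hR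
  set T' : Finset V := Finset.univ.filter (fun x => x ∈ R) with hT'
  have hcardT' : T'.card = 4 := by
    rw [← hN.card, Nat.card_eq_fintype_card, Fintype.card_subtype]
  have hmem : ∀ x, x ∈ T' ↔ x ∈ R := fun x => by rw [hT', Finset.mem_filter]; simp
  set S : Finset V := {1, w, φ y w, φ y w * w} with hS
  have hTS : T' ⊆ S := by
    intro x hx
    rw [hmem] at hx
    obtain ⟨v, rfl⟩ := hx
    rw [hS]
    simp only [Finset.mem_insert, Finset.mem_singleton]
    exact hvals v
  have hScard : S.card ≤ 4 := Finset.card_le_four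
  have hEq : T' = S := Finset.eq_of_subset_of_card_le hTS (by rw [hcardT']; exact hScard)
  have hwS : w ∈ S := by
    rw [hS]; simp only [Finset.mem_insert, Finset.mem_singleton]; right; left; trivial
  rw [← hEq, hmem] at hwS
  exact hwS

/-! ### Fixed points of `p`-groups -/

/-- The stabilizer of the chain `V ≥ U ≥ 1`... more precisely the subgroup of elements all of whose
commutators lie in `U`. -/
def nvStab (U : Subgroup V) : Subgroup Γ where
  carrier := {g | ∀ v, nv φ g v ∈ U}
  one_mem' := fun v => by rw [nv_one]; exact U.one_mem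
  mul_mem' := by
    intro a b ha hb v
    rw [nv_mul]
    exact U.mul_mem (ha _) (hb v)
  inv_mem' := by
    intro a ha v
    rw [nv_inv]
    exact U.inv_mem (ha _)

theorem mem_nvStab {U : Subgroup V} {g : Γ} : g ∈ nvStab φ U ↔ ∀ v, nv φ g v ∈ U := Iff.rfl

theorem act_mem_of_mem_nvStab {U : Subgroup V} {g : Γ} (hg : g ∈ nvStab φ U) {u : V} (hu : u ∈ U) :
    φ g u ∈ U := by
  rw [act_eq_mul_nv]
  exact U.mul_mem hu (hg u)

/-- The action of a subgroup of `Γ` on an invariant subgroup of `V`. -/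
@[reducible] def restrictAct (M : Subgroup Γ) (U : Subgroup V) (hinv : ∀ m ∈ M, ∀ u ∈ U, φ m u ∈ U) :
    MulAction ↥M ↥U where
  smul m u := ⟨φ (m : Γ) (u : V), hinv m m.2 u u.2⟩
  one_smul u := Subtype.ext (act_one φ (u : V))
  mul_smul a b u := Subtype.ext (act_mul φ (a : Γ) (b : Γ) (u : V))

theorem card_modEq_one_of_no_fixed [Finite V] {p : ℕ} [Fact p.Prime] (M : Subgroup Γ)
    (hM : IsPGroup p M) (U : Subgroup V) (hinv : ∀ m ∈ M, ∀ u ∈ U, φ m u ∈ U)
    (hnofix : ∀ u ∈ U, (∀ m ∈ M, φ m u = u) → u = 1) : Nat.card U ≡ 1 [MOD p] := by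
  letI := restrictAct φ M U hinv
  have h := hM.card_modEq_card_fixedPoints ↥U
  have h1 : MulAction.fixedPoints ↥M ↥U = {1} := by
    ext u
    rw [MulAction.mem_fixedPoints, Set.mem_singleton_iff]
    constructor
    · intro hu
      apply Subtype.ext
      apply hnofix u u.2
      intro m hm
      have := hu ⟨m, hm⟩
      exact congrArg Subtype.val this
    · rintro rfl m
      apply Subtype.ext
      show φ (m : Γ) ((1 : ↥U) : V) = ((1 : ↥U) : V)
      rw [Subgroup.coe_one, map_one]
  rw [h1] at h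
  have h2 : Nat.card (({1} : Set ↥U)) = 1 := by
    rw [Nat.card_coe_set_eq, Set.ncard_singleton]
  rwa [h2] at h

theorem exists_fixed_of_isPGroup [Finite V] (hV2 : ∀ v : V, v ^ 2 = 1) (B : Subgroup Γ)
    (hB : IsPGroup 2 B) (U : Subgroup V) (hU : U ≠ ⊥) (hinv : ∀ b ∈ B, ∀ u ∈ U, φ b u ∈ U) :
    ∃ u ∈ U, u ≠ 1 ∧ ∀ b ∈ B, φ b u = u := by
  by_contra hcon
  push Not at hcon
  haveI : Fact (Nat.Prime 2) := ⟨Nat.prime_two⟩
  have h := card_modEq_one_of_no_fixed φ B hB U hinv (fun u hu hfix => by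
    by_contra hne
    obtain ⟨b, hb, hbu⟩ := hcon u hu hne
    exact hbu (hfix b hb))
  obtain ⟨u, hu, hu1⟩ : ∃ u ∈ U, u ≠ 1 := by
    by_contra hc
    push Not at hc
    exact hU ((Subgroup.eq_bot_iff_forall U).mpr hc)
  have hord : orderOf u = 2 := orderOf_eq_prime (hV2 u) hu1
  have hdvd : 2 ∣ Nat.card U := by
    rw [← hord]
    exact Subgroup.orderOf_dvd_natCard U hu
  have h2 : Nat.card U % 2 = 1 % 2 := h
  omega

end Cfsg.Agent.Lib.Helper18.SolvOff
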