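import Mathlib
import Cfsg.Agent.Lib.Helper18.SolvOffB
import Cfsg.Agent.Lib.Helper1.Fitting
import Cfsg.Agent.Lib.Helper16.SylowInf

set_option autoImplicit false

/-!
# Transvections of a faithful solvable group on an elementary abelian `2`-group, III

`Γ` is a finite solvable group with `O₂(Γ) = 1` acting faithfully on an elementary abelian `2`-group
`V`.  For a transvection `d` the elements of `O₃(Γ)` inverted by `d` form a subgroup of order `3`,
central in `O₃(Γ)` (`exists_inverted`, `inverted_unique`, `inverted_central`); the four-groups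
`[V, z]` belonging to different such subgroups are independent (`orth`).
-/

namespace Cfsg.Agent.Lib.Helper18.SolvOff

open Subgroup Cfsg Cfsg.Agent.Lib.Helper18.OffenderTwo

variable {Γ : Type*} [Group Γ] {V : Type*} [CommGroup V] (φ : Γ →* MulAut V)

/-! ### Generalities -/

theorem conj_comm_inverted {d : Γ} (hd2 : d * d = 1) (x : Γ) :
    d * (x⁻¹ * (d * x * d⁻¹)) * d⁻¹ = (x⁻¹ * (d * x * d⁻¹))⁻¹ := by
  have hdinv : d⁻¹ = d := inv_eq_of_mul_eq_one_right hd2
  rw [hdinv]
  have h1 : d * (x⁻¹ * (d * x * d)) * d = d * x⁻¹ * d * x * (d * d) := by group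
  rw [h1, hd2, mul_one]
  have h2 : (x⁻¹ * (d * x * d))⁻¹ = d⁻¹ * x⁻¹ * d⁻¹ * x := by group
  rw [h2, hdinv]

theorem mem_zpowers_three {z g : Γ} (h3 : z ^ 3 = 1) (hg : g ∈ zpowers z) :
    g = 1 ∨ g = z ∨ g = z⁻¹ := by
  obtain ⟨k, rfl⟩ := mem_zpowers_iff.mp hg
  have hk : k = 3 * (k / 3) + k % 3 := (Int.mul_ediv_add_emod k 3).symm
  have h3' : z ^ (3 : ℤ) = 1 := by exact_mod_cast h3
  have hz2 : z ^ (2 : ℤ) = z⁻¹ := by
    have : z ^ (2 : ℤ) * z = 1 := by
      have h := h3'
      rw [show (3 : ℤ) = 2 + 1 by norm_num, zpow_add, zpow_one] at h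
      exact h
    exact eq_inv_of_mul_eq_one_left this
  rw [hk, zpow_add, zpow_mul, h3', one_zpow, one_mul]
  rcases (show k % 3 = 0 ∨ k % 3 = 1 ∨ k % 3 = 2 by omega) with h | h | h <;> rw [h]
  · left; exact zpow_zero z
  · right; left; exact zpow_one z
  · right; right; exact hz2

theorem odd_orderOf_of_mem_pCore [Finite Γ] {q : ℕ} [hq : Fact q.Prime] (hq2 : q ≠ 2) {g : Γ}
    (hg : g ∈ pCore q Γ) : Odd (orderOf g) := by
  obtain ⟨k, hk⟩ := (Cfsg.Agent.Lib.Helper1.pCore_isPGroup (G := Γ) q) ⟨g, hg⟩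
  have h1 : g ^ q ^ k = 1 := by
    have := congrArg Subtype.val hk
    simpa using this
  have h2 : orderOf g ∣ q ^ k := orderOf_dvd_of_pow_eq_one h1
  obtain ⟨j, -, hj⟩ := (Nat.dvd_prime_pow hq.out).mp h2
  rw [hj]
  exact Odd.pow (hq.out.odd_of_ne_two hq2)

theorem odd_orderOf_of_mem_closure [Finite Γ] {z z' : Γ} (hz : z ∈ pCore 3 Γ)
    (hz' : z' ∈ pCore 3 Γ) : ∀ g ∈ closure ({z, z'} : Set Γ), Odd (orderOf g) := by
  intro g hg
  haveI : Fact (Nat.Prime 3) := ⟨Nat.prime_three⟩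
  have hle : closure ({z, z'} : Set Γ) ≤ pCore 3 Γ := by
    rw [closure_le]
    intro x hx
    rcases hx with rfl | rfl
    · exact hz
    · exact hz'
  exact odd_orderOf_of_mem_pCore (by norm_num) (hle hg)

/-! ### Two nice elements with the same four-group -/

section SameRange

variable [Finite V] (hφ : Function.Injective φ) (hV2 : ∀ v : V, v ^ 2 = 1)
include hφ hV2

theorem same_range_unique {z z' : Γ} (hN : Nice φ z) (hN' : Nice φ z')
    (hRR : (nv φ z').range = (nv φ z).range)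
    (hodd : ∀ g ∈ closure ({z, z'} : Set Γ), Odd (orderOf g)) {w : V} (hw : w ∈ (nv φ z).range)
    (hw1 : w ≠ 1) : z' = z ∨ z' = z⁻¹ := by
  set R := (nv φ z).range with hR
  have hzM : z ∈ closure ({z, z'} : Set Γ) := subset_closure (Set.mem_insert _ _)
  have hz'M : z' ∈ closure ({z, z'} : Set Γ) :=
    subset_closure (Set.mem_insert_of_mem _ (Set.mem_singleton _))
  have hMle : closure ({z, z'} : Set Γ) ≤ nvStab φ R := by
    rw [closure_le]
    intro x hx
    rcases hx with rfl | rfl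
    · exact fun v => ⟨v, rfl⟩
    · intro v
      show nv φ x v ∈ R
      rw [← hRR]
      exact ⟨v, rfl⟩
  -- the image of `w` under `z'`
  have hz'w : φ z' w ∈ R := by
    have : φ z' w ∈ (nv φ z').range := act_mem_range φ z' (hRR ▸ hw)
    rwa [hRR] at this
  have hz'w1 : φ z' w ≠ 1 := act_ne_one φ z' hw1
  have hz'ww : φ z' w ≠ w := fun hh => hw1 (hN'.no_fixed hV2 (hRR ▸ hw) hh)
  -- a general principle: an element of the closure fixing `w` is trivial
  have key : ∀ g ∈ closure ({z, z'} : Set Γ), φ g w = w → g = 1 := by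
    intro g hg hgw
    have hgR : g ∈ nvStab φ R := hMle hg
    have hoddg : Odd (orderOf g) := hodd g hg
    set a := φ z w with ha
    set b := φ (z ^ 2) w with hb
    have haR : a ∈ R := act_mem_range φ z hw
    have hbR : b ∈ R := act_pow_mem_range φ z hw 2
    have ha1 : a ≠ 1 := act_ne_one φ z hw1
    have hb1 : b ≠ 1 := act_ne_one φ _ hw1
    have haw : a ≠ w := fun hh => hw1 (hN.no_fixed hV2 hw hh)
    have hbw : b ≠ w := hN.act_sq_ne hV2 hw hw1
    have hba : b ≠ a := hN.act_sq_ne_act hV2 hw hw1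
    have hcases : ∀ r ∈ R, r = 1 ∨ r = w ∨ r = a ∨ r = b := fun r hr => hN.orbit hV2 hw hw1 hr
    have hga : φ g a = a := by
      have h1 : φ g a ∈ R := act_mem_of_mem_nvStab φ hgR haR
      have h2 : φ g a ≠ 1 := act_ne_one φ g ha1
      have h3 : φ g a ≠ w := by
        intro hh
        exact haw (act_injective φ g (hh.trans hgw.symm))
      rcases hcases _ h1 with h | h | h | h
      · exact absurd h h2
      · exact absurd h h3
      · exact h
      · -- `g a = b`, so `g b = a` and `g ^ 2` is trivial on `R`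
        exfalso
        have hgb : φ g b = a := by
          have h1' : φ g b ∈ R := act_mem_of_mem_nvStab φ hgR hbR
          have h2' : φ g b ≠ 1 := act_ne_one φ g hb1
          have h3' : φ g b ≠ w := by
            intro hh
            exact hbw (act_injective φ g (hh.trans hgw.symm))
          have h4' : φ g b ≠ b := by
            intro hh
            exact hba (act_injective φ g (hh.trans h.symm))
          rcases hcases _ h1' with h' | h' | h' | h'
          · exact absurd h' h2'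
          · exact absurd h' h3'
          · exact h'
          · exact absurd h' h4'
        have hg2 : g ^ 2 = 1 := by
          have hodd2 : Odd (orderOf (g ^ 2)) := Odd.of_dvd_nat hoddg (orderOf_pow_dvd 2)
          apply eq_one_of_trivial_on φ hφ hV2 hodd2 R
          · exact fun v => (nvStab φ R).pow_mem hgR 2 v
          · intro r hr
            rw [pow_two, act_mul]
            rcases hcases r hr with rfl | rfl | rfl | rfl
            · rw [map_one, map_one]
            · rw [hgw, hgw]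
            · rw [h, hgb]
            · rw [hgb, h]
        have hg1 := eq_one_of_sq_eq_one hoddg hg2
        rw [hg1, act_one] at h
        exact hba h.symm
    have hgb : φ g b = b := by
      have h1' : φ g b ∈ R := act_mem_of_mem_nvStab φ hgR hbR
      have h2' : φ g b ≠ 1 := act_ne_one φ g hb1
      have h3' : φ g b ≠ w := by
        intro hh
        exact hbw (act_injective φ g (hh.trans hgw.symm))
      have h4' : φ g b ≠ a := by
        intro hh
        exact hba (act_injective φ g (hh.trans hga.symm))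
      rcases hcases _ h1' with h' | h' | h' | h'
      · exact absurd h' h2'
      · exact absurd h' h3'
      · exact absurd h' h4'
      · exact h'
    apply eq_one_of_trivial_on φ hφ hV2 hoddg R hgR
    intro r hr
    rcases hcases r hr with rfl | rfl | rfl | rfl
    · rw [map_one]
    · exact hgw
    · exact hga
    · exact hgb
  rcases hN.orbit hV2 hw hw1 hz'w with h | h | h | h
  · exact absurd h hz'w1
  · exact absurd h hz'ww
  · left
    have hg : z⁻¹ * z' ∈ closure ({z, z'} : Set Γ) := Subgroup.mul_mem _ (Subgroup.inv_mem _ hzM) hz'M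
    have := key _ hg (by rw [act_mul, h, act_inv_act])
    exact (inv_mul_eq_one.mp this).symm
  · right
    have hg : (z ^ 2)⁻¹ * z' ∈ closure ({z, z'} : Set Γ) :=
      Subgroup.mul_mem _ (Subgroup.inv_mem _ (Subgroup.pow_mem _ hzM 2)) hz'M
    have := key _ hg (by rw [act_mul, h, act_inv_act])
    rw [hN.inv_eq_sq]
    exact (inv_mul_eq_one.mp this).symm

end SameRange

/-! ### The trace over a subgroup of odd order -/

theorem eq_one_of_fixed_of_le_iSup [Finite Γ] (hV2 : ∀ v : V, v ^ 2 = 1) (M : Subgroup Γ)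
    (hModd : Odd (Nat.card M)) (U : Subgroup V) (hU : U ≤ ⨆ g : M, (nv φ (g : Γ)).range) {u : V}
    (hu : u ∈ U) (hfix : ∀ m ∈ M, φ m u = u) : u = 1 := by
  classical
  haveI := Fintype.ofFinite ↥M
  set τ : V →* V := ∏ m : ↥M, (φ (m : Γ)).toMonoidHom with hτ
  have hτapp : ∀ v, τ v = ∏ m : ↥M, φ (m : Γ) v := by
    intro v
    rw [hτ, MonoidHom.finsetProd_apply]
    rfl
  have hker : ∀ g : ↥M, (nv φ (g : Γ)).range ≤ τ.ker := by
    rintro g _ ⟨v, rfl⟩
    rw [MonoidHom.mem_ker, nv_apply, map_div, div_eq_one, hτapp, hτapp]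
    have : ∀ m : ↥M, φ (m : Γ) (φ (g : Γ) v) = φ ((m * g : ↥M) : Γ) v := by
      intro m
      rw [Subgroup.coe_mul, act_mul]
    simp_rw [this]
    exact Fintype.prod_equiv (Equiv.mulRight g) _ _ (fun m => rfl)
  have hUker : U ≤ τ.ker := hU.trans (iSup_le hker)
  have h1 : τ u = 1 := hUker hu
  rw [hτapp] at h1
  have h2 : ∀ m : ↥M, φ (m : Γ) u = u := fun m => hfix m m.2
  simp_rw [h2] at h1
  rw [Finset.prod_const, Finset.card_univ, ← Nat.card_eq_fintype_card] at h1
  exact eq_one_of_pow_odd hV2 hModd h1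

/-! ### Elements inverted by a transvection -/

section Solvable

variable [Finite Γ] [Group.IsSolvable Γ] [Finite V] (hφ : Function.Injective φ)
  (hV2 : ∀ v : V, v ^ 2 = 1) (hO2 : pCore 2 Γ = ⊥)
include hφ hV2 hO2

theorem inverted_eq_one_of_pCore {d : Γ} {w : V} (hd : IsTransvW φ d w) {q : ℕ} [hq : Fact q.Prime]
    (hq3 : q ≠ 3) {z : Γ} (hz : z ∈ pCore q Γ) (hinv : d * z * d⁻¹ = z⁻¹) : z = 1 := by
  by_contra hz1
  by_cases hq2 : q = 2
  · subst hq2
    rw [hO2, mem_bot] at hz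
    exact hz1 hz
  have hodd := odd_orderOf_of_mem_pCore hq2 hz
  obtain ⟨hN, -⟩ := nice_of_inverted φ hφ hV2 hd hz1 hodd hinv
  obtain ⟨k, hk⟩ := (Cfsg.Agent.Lib.Helper1.pCore_isPGroup (G := Γ) q) ⟨z, hz⟩
  have h1 : z ^ q ^ k = 1 := by
    have := congrArg Subtype.val hk
    simpa using this
  have h2 : orderOf z ∣ q ^ k := orderOf_dvd_of_pow_eq_one h1
  rw [hN.orderOf_eq] at h2
  have h3 : 3 ∣ q := Nat.Prime.dvd_of_dvd_pow Nat.prime_three h2
  exact hq3 ((Nat.prime_dvd_prime_iff_eq Nat.prime_three hq.out).mp h3).symm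

theorem commute_of_inverted_trivial {d : Γ} {w : V} (hd : IsTransvW φ d w) (P : Subgroup Γ)
    [P.Normal] (h : ∀ z ∈ P, d * z * d⁻¹ = z⁻¹ → z = 1) {x : Γ} (hx : x ∈ P) : d * x = x * d := by
  have hd2 : d * d = 1 := by rw [← pow_two]; exact hd.sq hφ hV2
  have hzP : x⁻¹ * (d * x * d⁻¹) ∈ P :=
    P.mul_mem (P.inv_mem hx) (Subgroup.Normal.conj_mem inferInstance x hx d)
  have h1 := h _ hzP (conj_comm_inverted hd2 x)
  have h2 : d * x * d⁻¹ = x := by
    have := inv_mul_eq_one.mp h1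
    exact this.symm
  calc d * x = d * x * d⁻¹ * d := by group
    _ = x * d := by rw [h2]

/-- A transvection inverts a nontrivial element of `O₃(Γ)`. -/
theorem exists_inverted {d : Γ} {w : V} (hd : IsTransvW φ d w) :
    ∃ z ∈ pCore 3 Γ, z ≠ 1 ∧ d * z * d⁻¹ = z⁻¹ := by
  by_contra hcon
  push Not at hcon
  have h3 : ∀ z ∈ pCore 3 Γ, d * z * d⁻¹ = z⁻¹ → z = 1 := by
    intro z hz hinv
    by_contra hz1
    exact hcon z hz hz1 hinv
  have hall : ∀ q : Nat.Primes, pCore (q : ℕ) Γ ≤ centralizer ({d} : Set Γ) := by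
    intro q x hx
    haveI : Fact (q : ℕ).Prime := ⟨q.2⟩
    haveI := Cfsg.Agent.Lib.Helper1.pCore_normal (G := Γ) (q : ℕ)
    rw [mem_centralizer_singleton_iff]
    by_cases hq3 : (q : ℕ) = 3
    · have hx' : x ∈ pCore 3 Γ := by rw [← hq3]; exact hx
      haveI := Cfsg.Agent.Lib.Helper1.pCore_normal (G := Γ) 3
      exact (commute_of_inverted_trivial φ hφ hV2 hO2 hd (pCore 3 Γ) h3 hx').symm
    · exact (commute_of_inverted_trivial φ hφ hV2 hO2 hd (pCore (q : ℕ) Γ)
        (fun z hz hinv => inverted_eq_one_of_pCore φ hφ hV2 hO2 hd hq3 hz hinv) hx).symm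
  have hF : fittingSubgroup Γ ≤ centralizer ({d} : Set Γ) := by
    rw [Cfsg.Agent.Lib.Helper1.fittingSubgroup_eq_iSup_primes]
    exact iSup_le hall
  have hdC : d ∈ centralizer (fittingSubgroup Γ : Set Γ) := by
    rw [mem_centralizer_iff]
    intro f hf
    have := hF hf
    rw [mem_centralizer_singleton_iff] at this
    exact this
  have hdF : d ∈ fittingSubgroup Γ := Cfsg.Agent.Lib.Helper1.centralizer_fittingSubgroup_le hdC
  haveI hFn := Cfsg.Agent.Lib.Helper1.fittingSubgroup_normal (G := Γ)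
  -- the elements of order at most `2` in the centre of the Fitting subgroup
  let N : Subgroup Γ :=
    { carrier := {g | g ∈ fittingSubgroup Γ ∧ g ∈ centralizer (fittingSubgroup Γ : Set Γ) ∧ g ^ 2 = 1}
      one_mem' := ⟨Subgroup.one_mem _, Subgroup.one_mem _, one_pow 2⟩
      mul_mem' := by
        rintro a b ⟨ha1, ha2, ha3⟩ ⟨hb1, hb2, hb3⟩
        refine ⟨Subgroup.mul_mem _ ha1 hb1, Subgroup.mul_mem _ ha2 hb2, ?_⟩
        have hab : b * a = a * b := (mem_centralizer_iff.mp ha2) b hb1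
        rw [pow_two] at ha3 hb3 ⊢
        calc a * b * (a * b) = a * (b * a) * b := by group
          _ = a * (a * b) * b := by rw [hab]
          _ = (a * a) * (b * b) := by group
          _ = 1 := by rw [ha3, hb3, one_mul]
      inv_mem' := by
        rintro a ⟨ha1, ha2, ha3⟩
        exact ⟨Subgroup.inv_mem _ ha1, Subgroup.inv_mem _ ha2, by rw [inv_pow, ha3, inv_one]⟩ }
  have hNn : N.Normal := by
    constructor
    rintro n ⟨hn1, hn2, hn3⟩ g
    refine ⟨hFn.conj_mem n hn1 g, ?_, ?_⟩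
    · rw [mem_centralizer_iff]
      intro f hf
      have hf' : g⁻¹ * f * g ∈ fittingSubgroup Γ := by
        have := hFn.conj_mem f hf g⁻¹
        rwa [inv_inv] at this
      have hc := (mem_centralizer_iff.mp hn2) _ hf'
      calc f * (g * n * g⁻¹) = g * ((g⁻¹ * f * g) * n) * g⁻¹ := by group
        _ = g * (n * (g⁻¹ * f * g)) * g⁻¹ := by rw [hc]
        _ = g * n * g⁻¹ * f := by group
    · rw [conj_pow, hn3, mul_one, mul_inv_cancel]
  have hNp : IsPGroup 2 N := by
    rintro ⟨g, hg1, hg2, hg3⟩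
    refine ⟨1, ?_⟩
    apply Subtype.ext
    rw [pow_one]
    exact hg3
  have hNle : N ≤ pCore 2 Γ := Cfsg.Agent.Lib.Helper1.le_pCore hNn hNp
  rw [hO2] at hNle
  have hdN : d ∈ N := ⟨hdF, hdC, hd.sq hφ hV2⟩
  exact hd.ne_one (mem_bot.mp (hNle hdN))

/-- Two nontrivial elements of `O₃(Γ)` inverted by the same transvection generate the same
subgroup. -/
theorem inverted_unique {d : Γ} {w : V} (hd : IsTransvW φ d w) {z z' : Γ} (hz : z ∈ pCore 3 Γ)
    (hz' : z' ∈ pCore 3 Γ) (hz1 : z ≠ 1) (hz'1 : z' ≠ 1) (hinv : d * z * d⁻¹ = z⁻¹)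
    (hinv' : d * z' * d⁻¹ = z'⁻¹) : z' = z ∨ z' = z⁻¹ := by
  haveI : Fact (Nat.Prime 3) := ⟨Nat.prime_three⟩
  have hoddz := odd_orderOf_of_mem_pCore (q := 3) (by norm_num) hz
  have hoddz' := odd_orderOf_of_mem_pCore (q := 3) (by norm_num) hz'
  obtain ⟨hN, hwR⟩ := nice_of_inverted φ hφ hV2 hd hz1 hoddz hinv
  obtain ⟨hN', hwR'⟩ := nice_of_inverted φ hφ hV2 hd hz'1 hoddz' hinv'
  have hw1 : w ≠ 1 := hd.1
  set R := (nv φ z).range with hR
  set R' := (nv φ z').range with hR'
  set M := closure ({z, z'} : Set Γ) with hM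
  have hzM : z ∈ M := subset_closure (Set.mem_insert _ _)
  have hz'M : z' ∈ M := subset_closure (Set.mem_insert_of_mem _ (Set.mem_singleton _))
  have hMle : M ≤ pCore 3 Γ := by
    rw [hM, closure_le]
    intro x hx
    rcases hx with rfl | rfl
    · exact hz
    · exact hz'
  have hMp : IsPGroup 3 M := (Cfsg.Agent.Lib.Helper1.pCore_isPGroup (G := Γ) 3).to_le hMle
  have hModd : Odd (Nat.card M) := by
    obtain ⟨n, hn⟩ := hMp.exists_card_eq
    rw [hn]
    exact Odd.pow (by decide)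
  set U := R ⊔ R' with hU
  have hMstab : M ≤ nvStab φ U := by
    rw [hM, closure_le]
    intro x hx
    rcases hx with rfl | rfl
    · exact fun v => (le_sup_left : R ≤ U) ⟨v, rfl⟩
    · exact fun v => (le_sup_right : R' ≤ U) ⟨v, rfl⟩
  have hinvU : ∀ m ∈ M, ∀ u ∈ U, φ m u ∈ U := fun m hm u hu =>
    act_mem_of_mem_nvStab φ (hMstab hm) hu
  have hUle : U ≤ ⨆ g : M, (nv φ (g : Γ)).range := by
    rw [hU]
    apply sup_le
    · exact le_iSup (fun g : M => (nv φ (g : Γ)).range) ⟨z, hzM⟩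
    · exact le_iSup (fun g : M => (nv φ (g : Γ)).range) ⟨z', hz'M⟩
  have hmod : Nat.card U ≡ 1 [MOD 3] :=
    card_modEq_one_of_no_fixed φ M hMp U hinvU
      (fun u hu hfix => eq_one_of_fixed_of_le_iSup φ hV2 M hModd U hUle hu hfix)
  -- the order of `U`
  have hRU : R ≤ U := le_sup_left
  have hR'U : R' ≤ U := le_sup_right
  have hdvd : 4 ∣ Nat.card U := hN.card ▸ Subgroup.card_dvd_of_le hRU
  have hle8 : Nat.card U ≤ 8 := by
    have h1 : R'.relIndex U * Nat.card R' = Nat.card U :=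
      Cfsg.Agent.Lib.Helper16.relIndex_mul_card_of_le hR'U
    have h2 : R'.relIndex U = R'.relIndex R := by
      rw [hU]; exact Subgroup.relIndex_sup_right R R'
    have h3 : (R' ⊓ R).relIndex R = R'.relIndex R := Subgroup.inf_relIndex_right R' R
    have h4 : (R' ⊓ R).relIndex R * Nat.card (R' ⊓ R : Subgroup V) = Nat.card R :=
      Cfsg.Agent.Lib.Helper16.relIndex_mul_card_of_le inf_le_right
    have h5 : 2 ≤ Nat.card (R' ⊓ R : Subgroup V) := by
      have hne : (R' ⊓ R : Subgroup V) ≠ ⊥ := by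
        intro hbot
        have : w ∈ (R' ⊓ R : Subgroup V) := ⟨hwR', hwR⟩
        rw [hbot, mem_bot] at this
        exact hw1 this
      have := (Subgroup.one_lt_card_iff_ne_bot _).mpr hne
      omega
    rw [hN.card] at h4
    rw [hN'.card, h2, ← h3] at h1
    have h6 : (R' ⊓ R).relIndex R ≤ 2 := by
      by_contra hgt
      push Not at hgt
      have : 3 * 2 ≤ (R' ⊓ R).relIndex R * Nat.card (R' ⊓ R : Subgroup V) :=
        Nat.mul_le_mul hgt h5
      omega
    omega
  have hU4 : Nat.card U = 4 := by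
    obtain ⟨k, hk⟩ := hdvd
    have hpos : 0 < Nat.card U := Nat.card_pos
    have hmod' : Nat.card U % 3 = 1 % 3 := hmod
    have hk2 : k = 1 ∨ k = 2 := by omega
    rcases hk2 with rfl | rfl
    · omega
    · omega
  have hRU' : R = U := Subgroup.eq_of_le_of_card_ge hRU (by rw [hU4, hN.card])
  have hR'U' : R' = U := Subgroup.eq_of_le_of_card_ge hR'U (by rw [hU4, hN'.card])
  have hRR : R' = R := by rw [hR'U', hRU']
  exact same_range_unique φ hφ hV2 hN hN' hRR
    (odd_orderOf_of_mem_closure hz hz') hwR hw1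

/-- The subgroup of `O₃(Γ)` inverted by a transvection is central in `O₃(Γ)`. -/
theorem inverted_central {d : Γ} {w : V} (hd : IsTransvW φ d w) {z : Γ} (hz : z ∈ pCore 3 Γ)
    (hz1 : z ≠ 1) (hinv : d * z * d⁻¹ = z⁻¹) {x : Γ} (hx : x ∈ pCore 3 Γ) : x * z = z * x := by
  haveI : Fact (Nat.Prime 3) := ⟨Nat.prime_three⟩
  haveI hPn := Cfsg.Agent.Lib.Helper1.pCore_normal (G := Γ) 3
  have hoddz := odd_orderOf_of_mem_pCore (q := 3) (by norm_num) hz
  have hoddx := odd_orderOf_of_mem_pCore (q := 3) (by norm_num) hx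
  obtain ⟨hN, -⟩ := nice_of_inverted φ hφ hV2 hd hz1 hoddz hinv
  have hd2 : d * d = 1 := by rw [← pow_two]; exact hd.sq hφ hV2
  have hdinv : d⁻¹ = d := inv_eq_of_mul_eq_one_right hd2
  -- the commutators with `d` lie in `⟨z⟩`
  have hc : ∀ a ∈ pCore 3 Γ, a⁻¹ * (d * a * d⁻¹) ∈ zpowers z := by
    intro a ha
    have haP : a⁻¹ * (d * a * d⁻¹) ∈ pCore 3 Γ :=
      Subgroup.mul_mem _ (Subgroup.inv_mem _ ha) (hPn.conj_mem a ha d)
    by_cases h1 : a⁻¹ * (d * a * d⁻¹) = 1
    · rw [h1]; exact Subgroup.one_mem _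
    rcases inverted_unique φ hφ hV2 hO2 hd hz haP hz1 h1 hinv (conj_comm_inverted hd2 a) with h | h
    · rw [h]; exact mem_zpowers z
    · rw [h]; exact Subgroup.inv_mem _ (mem_zpowers z)
  -- `z` itself is such a commutator
  have hzc : z⁻¹ * (d * z * d⁻¹) = z := by
    rw [hinv, ← mul_inv_rev, ← pow_two, ← hN.inv_eq_sq, inv_inv]
  -- conjugates of `z` under `O₃(Γ)` lie in `⟨z⟩`
  have hconj : ∀ y ∈ pCore 3 Γ, y⁻¹ * z * y ∈ zpowers z := by
    intro y hy
    have h1 : y⁻¹ * z * y = ((z * y)⁻¹ * (d * (z * y) * d⁻¹)) * (y⁻¹ * (d * y * d⁻¹))⁻¹ := by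
      have : ((z * y)⁻¹ * (d * (z * y) * d⁻¹)) * (y⁻¹ * (d * y * d⁻¹))⁻¹ =
          y⁻¹ * (z⁻¹ * (d * z * d⁻¹)) * y := by group
      rw [this, hzc]
    rw [h1]
    exact Subgroup.mul_mem _ (hc _ (Subgroup.mul_mem _ hz hy)) (Subgroup.inv_mem _ (hc _ hy))
  have hx1 : x⁻¹ * z * x ≠ 1 := by
    intro h
    apply hz1
    have : z = x * (x⁻¹ * z * x) * x⁻¹ := by group
    rw [this, h, mul_one, mul_inv_cancel]
  rcases mem_zpowers_three hN.pow_three (hconj x hx) with h | h | h
  · exact absurd h hx1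
  · calc x * z = x * (x⁻¹ * z * x) := by rw [h]
      _ = z * x := by group
  · -- `x` inverts `z`, so `x ^ 2` centralizes it, hence so does `x`
    exfalso
    have hx2 : (x ^ 2)⁻¹ * z * x ^ 2 = z := by
      calc (x ^ 2)⁻¹ * z * x ^ 2 = x⁻¹ * (x⁻¹ * z * x) * x := by rw [pow_two]; group
        _ = x⁻¹ * z⁻¹ * x := by rw [h]
        _ = (x⁻¹ * z * x)⁻¹ := by group
        _ = z := by rw [h, inv_inv]
    obtain ⟨l, hl⟩ := hoddx
    have hxx : (x ^ 2) ^ (l + 1) = x := by
      rw [← pow_mul, show 2 * (l + 1) = orderOf x + 1 by omega, pow_succ, pow_orderOf_eq_one,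
        one_mul]
    have hcomm2 : z * x ^ 2 = x ^ 2 * z := by
      calc z * x ^ 2 = x ^ 2 * ((x ^ 2)⁻¹ * z * x ^ 2) := by group
        _ = x ^ 2 * z := by rw [hx2]
    have hcomm : z * x = x * z := by
      rw [← hxx]
      exact (Commute.pow_right (show Commute z (x ^ 2) from hcomm2) (l + 1)).eq
    have : x⁻¹ * z * x = z := by
      calc x⁻¹ * z * x = x⁻¹ * (z * x) := by group
        _ = x⁻¹ * (x * z) := by rw [hcomm]
        _ = z := by group
    rw [this] at h
    -- `z = z⁻¹`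
    have hz2 : z ^ 2 = 1 := by
      rw [pow_two]
      nth_rewrite 1 [h]
      exact inv_mul_cancel z
    exact hz1 (eq_one_of_sq_eq_one hN.odd hz2)

end Solvable

end Cfsg.Agent.Lib.Helper18.SolvOff
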