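import Mathlib
import Cfsg.Agent.Lib.Helper18.SolvOffC

set_option autoImplicit false

/-!
# Transvections of a faithful solvable group on an elementary abelian `2`-group, IV

Independence of the four-groups belonging to different classes of transvections (`orth`,
`commute_of_ne`), the action of a transvection on the fixed points of the element of order `3` it
inverts (`transv_trivial_on_fix`), and transvections inverting the same element
(`mem_closure_of_same`).
-/

namespace Cfsg.Agent.Lib.Helper18.SolvOff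

open Subgroup Cfsg Cfsg.Agent.Lib.Helper18.OffenderTwo

variable {Γ : Type*} [Group Γ] {V : Type*} [CommGroup V] (φ : Γ →* MulAut V)

theorem Nice.nv_act {c : Γ} (hN : Nice φ c) (hV2 : ∀ v : V, v ^ 2 = 1) {r : V}
    (hr : r ∈ (nv φ c).range) : nv φ c (φ c r) = r := by
  obtain ⟨v, rfl⟩ := hr
  have h := prod_range_act_nv φ c 3 hN.pow_three v
  rw [Finset.prod_range_succ, Finset.prod_range_succ, Finset.prod_range_succ,
    Finset.prod_range_zero, one_mul, pow_zero, act_one, pow_one] at h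
  -- `r * c r * c² r = 1`
  set r := nv φ c v with hr
  have h2 : φ (c ^ 2) r = r * φ c r := by
    have : (r * φ c r) * φ (c ^ 2) r = 1 := h
    have h3 := eq_inv_of_mul_eq_one_right this
    rw [h3, inv_eq_self hV2]
  rw [nv_apply, ← act_mul, ← pow_two, h2, mul_div_cancel_right]

/-- A transvection inverting a nice element `z` preserves the four-group of `z`. -/
theorem act_mem_range_of_inverts {d z : Γ} (hinv : d * z * d⁻¹ = z⁻¹) {u : V}
    (hu : u ∈ (nv φ z).range) : φ d u ∈ (nv φ z).range := by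
  obtain ⟨v, rfl⟩ := hu
  rw [act_nv_conj, hinv, ← range_nv_inv]
  exact ⟨_, rfl⟩

section Orth

variable [Finite V] (hφ : Function.Injective φ) (hV2 : ∀ v : V, v ^ 2 = 1)
include hφ hV2

/-- Two commuting nice elements generating different subgroups have independent four-groups, and
each acts trivially on the four-group of the other. -/
theorem orth {z z' : Γ} (hN : Nice φ z) (hN' : Nice φ z') (hcomm : z * z' = z' * z)
    (hne : ¬ (z' = z ∨ z' = z⁻¹)) (hodd : ∀ g ∈ closure ({z, z'} : Set Γ), Odd (orderOf g)) :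
    (nv φ z).range ⊓ (nv φ z').range = ⊥ ∧ (∀ u ∈ (nv φ z).range, φ z' u = u) ∧
      (∀ u' ∈ (nv φ z').range, φ z u' = u') := by
  set R := (nv φ z).range with hR
  set R' := (nv φ z').range with hR'
  have hR'inv : ∀ u' ∈ R', φ z u' ∈ R' := by
    rintro _ ⟨v, rfl⟩
    exact ⟨φ z v, (act_nv_comm φ hcomm.symm v).symm⟩
  have hRinv : ∀ u ∈ R, φ z' u ∈ R := by
    rintro _ ⟨v, rfl⟩
    exact ⟨φ z' v, (act_nv_comm φ hcomm v).symm⟩
  have hbot : R ⊓ R' = ⊥ := by
    by_contra hcon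
    obtain ⟨u, hu, hu1⟩ : ∃ u ∈ R ⊓ R', u ≠ 1 := by
      by_contra hc
      push Not at hc
      exact hcon ((Subgroup.eq_bot_iff_forall _).mpr hc)
    have huR : u ∈ R := hu.1
    have huR' : u ∈ R' := hu.2
    have hle : R ≤ R' := by
      intro r hr
      rcases hN.orbit hV2 huR hu1 hr with rfl | rfl | rfl | rfl
      · exact R'.one_mem
      · exact huR'
      · exact hR'inv _ huR'
      · rw [pow_two, act_mul]; exact hR'inv _ (hR'inv _ huR')
    have hRR : R' = R :=
      (Subgroup.eq_of_le_of_card_ge hle (by rw [hN.card, hN'.card])).symm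
    exact hne (same_range_unique φ hφ hV2 hN hN' hRR hodd huR hu1)
  refine ⟨hbot, ?_, ?_⟩
  · intro u hu
    have h1 : nv φ z' u ∈ R ⊓ R' := by
      refine ⟨?_, ⟨u, rfl⟩⟩
      rw [nv_apply]
      exact R.div_mem (hRinv u hu) hu
    rw [hbot, mem_bot] at h1
    exact (nv_eq_one_iff φ z' u).mp h1
  · intro u' hu'
    have h1 : nv φ z u' ∈ R ⊓ R' := by
      refine ⟨⟨u', rfl⟩, ?_⟩
      rw [nv_apply]
      exact R'.div_mem (hR'inv u' hu') hu'
    rw [hbot, mem_bot] at h1
    exact (nv_eq_one_iff φ z u').mp h1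

/-- A transvection acts trivially on the fixed points of a nice element it inverts. -/
theorem transv_trivial_on_fix {d : Γ} {w : V} (hd : IsTransvW φ d w) {z : Γ} (hN : Nice φ z)
    (hwR : w ∈ (nv φ z).range) (hinv : d * z * d⁻¹ = z⁻¹) {c : V} (hc : φ z c = c) :
    φ d c = c := by
  rcases hd.2.1 c with h | h
  · exact (nv_eq_one_iff φ d c).mp h
  · exfalso
    have hzd : z * d = d * z⁻¹ := by
      have h1 : d * z⁻¹ * d⁻¹ = z := by
        have : d * z⁻¹ * d⁻¹ = (d * z * d⁻¹)⁻¹ := by group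
        rw [this, hinv, inv_inv]
      calc z * d = d * z⁻¹ * d⁻¹ * d := by rw [h1]
        _ = d * z⁻¹ := by group
    have hzinv : φ z⁻¹ c = c := by
      nth_rewrite 1 [← hc]
      exact act_inv_act φ z c
    have h1 : φ z (φ d c) = φ d c := by
      rw [← act_mul, hzd, act_mul, hzinv]
    have h2 : φ z w = w := by
      rw [← h, nv_apply, map_div, h1, hc]
    exact hd.1 (hN.no_fixed hV2 hwR h2)

end Orth

section Solvable

variable [Finite Γ] [Group.IsSolvable Γ] [Finite V] (hφ : Function.Injective φ)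
  (hV2 : ∀ v : V, v ^ 2 = 1) (hO2 : pCore 2 Γ = ⊥)
include hφ hV2 hO2

/-- Transvections belonging to different subgroups of order `3`: each centralizes the subgroup of
the other and its four-group. -/
theorem commute_of_ne {d d' : Γ} {w w' : V} (hd : IsTransvW φ d w) (hd' : IsTransvW φ d' w')
    {z z' : Γ} (hz : z ∈ pCore 3 Γ) (hz' : z' ∈ pCore 3 Γ) (hz1 : z ≠ 1) (hz'1 : z' ≠ 1)
    (hinv : d * z * d⁻¹ = z⁻¹) (hinv' : d' * z' * d'⁻¹ = z'⁻¹) (hne : ¬ (z' = z ∨ z' = z⁻¹)) :
    d * z' = z' * d ∧ (∀ u' ∈ (nv φ z').range, φ d u' = u') ∧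
      (nv φ z).range ⊓ (nv φ z').range = ⊥ ∧ (∀ u ∈ (nv φ z).range, φ z' u = u) := by
  haveI : Fact (Nat.Prime 3) := ⟨Nat.prime_three⟩
  haveI hPn := Cfsg.Agent.Lib.Helper1.pCore_normal (G := Γ) 3
  have hoddP : ∀ g ∈ pCore 3 Γ, Odd (orderOf g) := fun g hg =>
    odd_orderOf_of_mem_pCore (q := 3) (by norm_num) hg
  obtain ⟨hN, hwR⟩ := nice_of_inverted φ hφ hV2 hd hz1 (hoddP z hz) hinv
  obtain ⟨hN', hwR'⟩ := nice_of_inverted φ hφ hV2 hd' hz'1 (hoddP z' hz') hinv'
  have hcomm : z * z' = z' * z := (inverted_central φ hφ hV2 hO2 hd hz hz1 hinv hz').symm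
  obtain ⟨hbot, htrivR, htrivR'⟩ :=
    orth φ hφ hV2 hN hN' hcomm hne (odd_orderOf_of_mem_closure hz hz')
  set R := (nv φ z).range with hR
  set R' := (nv φ z').range with hR'
  have hd2 : d * d = 1 := by rw [← pow_two]; exact hd.sq hφ hV2
  -- the commutator of `z'` with `d`
  set c := z'⁻¹ * (d * z' * d⁻¹) with hc
  have hcP : c ∈ pCore 3 Γ :=
    Subgroup.mul_mem _ (Subgroup.inv_mem _ hz') (hPn.conj_mem z' hz' d)
  have hcinv : d * c * d⁻¹ = c⁻¹ := conj_comm_inverted hd2 z'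
  have hc1 : c = 1 := by
    by_contra hc1
    -- `c` is `z` or `z⁻¹`
    have hcz : c = z ∨ c = z⁻¹ := inverted_unique φ hφ hV2 hO2 hd hz hcP hz1 hc1 hinv hcinv
    have hNc : Nice φ c := by
      rcases hcz with h | h
      · rw [h]; exact hN
      · rw [h]; exact hN.inv
    have hRc : (nv φ c).range = R := by
      rcases hcz with h | h
      · rw [h]
      · rw [h, range_nv_inv]
    have hcR' : ∀ u' ∈ R', φ c u' = u' := by
      intro u' hu'
      rcases hcz with h | h
      · rw [h]; exact htrivR' u' hu'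
      · rw [h]
        nth_rewrite 1 [← htrivR' u' hu']
        exact act_inv_act φ z u'
    -- `z'' = d z' d⁻¹ = z' c` is nice
    have hz'' : d * z' * d⁻¹ = z' * c := by rw [hc]; group
    have hz''P : z' * c ∈ pCore 3 Γ := Subgroup.mul_mem _ hz' hcP
    have hz''1 : z' * c ≠ 1 := by
      rw [← hz'']
      intro h
      apply hz'1
      have : z' = d⁻¹ * (d * z' * d⁻¹) * d := by group
      rw [this, h, mul_one, inv_mul_cancel]
    have hinv'' : (d * d' * d⁻¹) * (z' * c) * (d * d' * d⁻¹)⁻¹ = (z' * c)⁻¹ := by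
      rw [← hz'']
      have : (d * d' * d⁻¹) * (d * z' * d⁻¹) * (d * d' * d⁻¹)⁻¹ = d * (d' * z' * d'⁻¹) * d⁻¹ := by
        group
      rw [this, hinv']
      group
    obtain ⟨hN'', -⟩ :=
      nice_of_inverted φ hφ hV2 (hd'.conj d) hz''1 (hoddP _ hz''P) hinv''
    have hle1 : R ≤ (nv φ (z' * c)).range := by
      intro r hr
      have hr' : r ∈ (nv φ c).range := by rw [hRc]; exact hr
      have hcr : φ c r ∈ R := by
        have := act_mem_range φ c hr'
        rwa [hRc] at this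
      have hccr : φ c (φ c r) ∈ R := by
        have := act_mem_range φ c (act_mem_range φ c hr')
        rwa [hRc] at this
      refine ⟨φ c r, ?_⟩
      rw [nv_mul, (nv_eq_one_iff φ z' _).mpr (htrivR _ hccr), one_mul]
      exact hNc.nv_act φ hV2 hr'
    have hle2 : R' ≤ (nv φ (z' * c)).range := by
      intro r' hr'
      have hz'r : φ z' r' ∈ R' := act_mem_range φ z' hr'
      refine ⟨φ z' r', ?_⟩
      rw [nv_mul, (nv_eq_one_iff φ c _).mpr (hcR' _ hz'r), mul_one, hcR' _ hz'r]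
      exact hN'.nv_act φ hV2 hr'
    have h1 : R = (nv φ (z' * c)).range :=
      Subgroup.eq_of_le_of_card_ge hle1 (by rw [hN''.card, hN.card])
    have h2 : R' = (nv φ (z' * c)).range :=
      Subgroup.eq_of_le_of_card_ge hle2 (by rw [hN''.card, hN'.card])
    have hw : w ∈ R ⊓ R' := ⟨hwR, by rw [h2, ← h1]; exact hwR⟩
    rw [hbot, mem_bot] at hw
    exact hd.1 hw
  have hdz' : d * z' * d⁻¹ = z' := by
    have := inv_mul_eq_one.mp hc1
    exact this.symm
  have hcomm' : d * z' = z' * d := by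
    calc d * z' = d * z' * d⁻¹ * d := by group
      _ = z' * d := by rw [hdz']
  refine ⟨hcomm', ?_, hbot, htrivR⟩
  intro u' hu'
  have hdu' : φ d u' ∈ R' := by
    obtain ⟨v, rfl⟩ := hu'
    exact ⟨φ d v, (act_nv_comm φ hcomm'.symm v).symm⟩
  rcases hd.2.1 u' with h | h
  · exact (nv_eq_one_iff φ d u').mp h
  · exfalso
    have hw : w ∈ R ⊓ R' := by
      refine ⟨hwR, ?_⟩
      rw [← h, nv_apply]
      exact R'.div_mem hdu' hu'
    rw [hbot, mem_bot] at hw
    exact hd.1 hw

/-- Two transvections inverting the same nontrivial element `z` of `O₃(Γ)`: each lies in the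
subgroup generated by the other and `z`. -/
theorem mem_closure_of_same {d d₀ : Γ} {w w₀ : V} (hd : IsTransvW φ d w)
    (hd₀ : IsTransvW φ d₀ w₀) {z : Γ} (hz : z ∈ pCore 3 Γ) (hz1 : z ≠ 1)
    (hinv : d * z * d⁻¹ = z⁻¹) (hinv₀ : d₀ * z * d₀⁻¹ = z⁻¹) :
    d ∈ closure ({d₀, z * d₀ * z⁻¹} : Set Γ) := by
  haveI : Fact (Nat.Prime 3) := ⟨Nat.prime_three⟩
  have hoddz := odd_orderOf_of_mem_pCore (q := 3) (by norm_num) hz
  obtain ⟨hN, hwR⟩ := nice_of_inverted φ hφ hV2 hd hz1 hoddz hinv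
  obtain ⟨-, hw₀R⟩ := nice_of_inverted φ hφ hV2 hd₀ hz1 hoddz hinv₀
  set R := (nv φ z).range with hR
  have hw1 : w ≠ 1 := hd.1
  have hd₀inv : d₀⁻¹ = d₀ := hd₀.inv_eq hφ hV2
  have hd₀2 : d₀ * d₀ = 1 := by rw [← pow_two]; exact hd₀.sq hφ hV2
  -- `z` belongs to the closure
  have hd₀K : d₀ ∈ closure ({d₀, z * d₀ * z⁻¹} : Set Γ) := subset_closure (Set.mem_insert _ _)
  have hzK : z ∈ closure ({d₀, z * d₀ * z⁻¹} : Set Γ) := by
    have h1 : z * d₀ * z⁻¹ ∈ closure ({d₀, z * d₀ * z⁻¹} : Set Γ) :=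
      subset_closure (Set.mem_insert_of_mem _ (Set.mem_singleton _))
    have h2 : (z * d₀ * z⁻¹) * d₀ = z⁻¹ := by
      have h3 : d₀ * z⁻¹ * d₀⁻¹ = z := by
        have : d₀ * z⁻¹ * d₀⁻¹ = (d₀ * z * d₀⁻¹)⁻¹ := by group
        rw [this, hinv₀, inv_inv]
      calc (z * d₀ * z⁻¹) * d₀ = z * (d₀ * z⁻¹ * d₀⁻¹) * (d₀ * d₀) := by group
        _ = z * z := by rw [h3, hd₀2, mul_one]
        _ = z⁻¹ := by rw [← pow_two, hN.inv_eq_sq]
    have h4 : (z * d₀ * z⁻¹) * d₀ ∈ closure ({d₀, z * d₀ * z⁻¹} : Set Γ) :=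
      Subgroup.mul_mem _ h1 hd₀K
    rw [h2] at h4
    have := Subgroup.inv_mem _ h4
    rwa [inv_inv] at this
  -- the element `g = d d₀`
  set g := d * d₀ with hg
  have hgz : g * z = z * g := by
    have h1 : d₀ * z = z⁻¹ * d₀ := by
      calc d₀ * z = d₀ * z * d₀⁻¹ * d₀ := by group
        _ = z⁻¹ * d₀ := by rw [hinv₀]
    have h2 : d * z⁻¹ = z * d := by
      have h3 : d * z⁻¹ * d⁻¹ = z := by
        have : d * z⁻¹ * d⁻¹ = (d * z * d⁻¹)⁻¹ := by group
        rw [this, hinv, inv_inv]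
      calc d * z⁻¹ = d * z⁻¹ * d⁻¹ * d := by group
        _ = z * d := by rw [h3]
    calc g * z = d * (d₀ * z) := by rw [hg]; group
      _ = d * (z⁻¹ * d₀) := by rw [h1]
      _ = (d * z⁻¹) * d₀ := by group
      _ = z * d * d₀ := by rw [h2]
      _ = z * g := by rw [hg]; group
  have hgfix : ∀ c, φ z c = c → φ g c = c := by
    intro c hc
    rw [hg, act_mul, transv_trivial_on_fix φ hφ hV2 hd₀ hN hw₀R hinv₀ hc,
      transv_trivial_on_fix φ hφ hV2 hd hN hwR hinv hc]
  have hgR : ∀ u ∈ R, φ g u ∈ R := by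
    intro u hu
    rw [hg, act_mul]
    exact act_mem_range_of_inverts φ hinv (act_mem_range_of_inverts φ hinv₀ hu)
  -- an element of the form `z ^ i * g` fixing `w` is trivial
  have key : ∀ i : ℕ, φ g w = φ (z ^ i) w → d ∈ closure ({d₀, z * d₀ * z⁻¹} : Set Γ) := by
    intro i hi
    obtain ⟨h, hh⟩ : ∃ h, h = (z ^ i)⁻¹ * g := ⟨_, rfl⟩
    have hhw : φ h w = w := by rw [hh, act_mul, hi, act_inv_act]
    have hhz : h * z = z * h := by
      have h1 : (z ^ i)⁻¹ * z = z * (z ^ i)⁻¹ := by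
        have : Commute (z ^ i)⁻¹ z := ((Commute.refl z).pow_left i).inv_left
        exact this.eq
      calc h * z = (z ^ i)⁻¹ * (g * z) := by rw [hh]; group
        _ = (z ^ i)⁻¹ * (z * g) := by rw [hgz]
        _ = ((z ^ i)⁻¹ * z) * g := by group
        _ = (z * (z ^ i)⁻¹) * g := by rw [h1]
        _ = z * h := by rw [hh]; group
    have hhzw : φ h (φ z w) = φ z w := by rw [← act_mul, hhz, act_mul, hhw]
    have hhzzw : φ h (φ (z ^ 2) w) = φ (z ^ 2) w := by
      have h22 : φ (z ^ 2) w = φ z (φ z w) := by rw [pow_two, act_mul]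
      rw [h22, ← act_mul φ h z, hhz, act_mul, hhzw]
    have hhR : ∀ r ∈ R, φ h r = r := by
      intro r hr
      rcases hN.orbit hV2 hwR hw1 hr with rfl | rfl | rfl | rfl
      · exact map_one _
      · exact hhw
      · exact hhzw
      · exact hhzzw
    have hhfix : ∀ c, φ z c = c → φ h c = c := by
      intro c hc
      rw [hh, act_mul, hgfix c hc]
      have : φ (z ^ i) c = c := act_pow_fixed φ z c hc i
      nth_rewrite 1 [← this]
      exact act_inv_act φ (z ^ i) c
    have hh1 : h = 1 := by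
      apply eq_one_of_act_trivial φ hφ
      intro v
      obtain ⟨c, u, hc, hu, rfl⟩ := hN.decomp hV2 v
      rw [map_mul, hhfix c hc, hhR u hu]
    have hgzi : g = z ^ i := by
      rw [hh] at hh1
      have := inv_mul_eq_one.mp hh1
      exact this.symm
    have hdeq : d = z ^ i * d₀ := by
      calc d = (d * d₀) * d₀⁻¹ := by group
        _ = z ^ i * d₀ := by rw [← hg, hgzi, hd₀inv]
    rw [hdeq]
    exact Subgroup.mul_mem _ (Subgroup.pow_mem _ hzK i) hd₀K
  have hgw : φ g w ∈ R := hgR w hwR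
  rcases hN.orbit hV2 hwR hw1 hgw with h | h | h | h
  · exact absurd h (act_ne_one φ g hw1)
  · exact key 0 (by rw [pow_zero, act_one]; exact h)
  · exact key 1 (by rw [pow_one]; exact h)
  · exact key 2 h

end Solvable

end Cfsg.Agent.Lib.Helper18.SolvOff
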