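import Mathlib
import Cfsg.Agent.Lib.Helper1.Fitting
import Cfsg.Agent.Lib.Helper1.Coprime
import Cfsg.Agent.Lib.Helper17.Conj
import Cfsg.Agent.Lib.Helper19.FpfAbelian2

set_option autoImplicit false

/-!
# Abelian `2`-subgroups of solvable groups with trivial `O₂`

`exists_cyclic_mod`: in a finite solvable group `Γ` with `O₂(Γ) = 1`, a nontrivial abelian
`2`-subgroup `A` normalizes a subgroup `Q` of odd order which it does not centralize, such that
`A / C_A(Q)` is cyclic.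
-/

namespace Cfsg.Agent.Lib.Helper18.SolvOff

open Subgroup Cfsg

variable {Γ : Type*} [Group Γ]

/-- The Fitting subgroup has odd order when `O₂(Γ) = 1`. -/
theorem odd_card_fittingSubgroup [Finite Γ] (hO2 : pCore 2 Γ = ⊥) :
    Odd (Nat.card (fittingSubgroup Γ)) := by
  haveI : Fact (Nat.Prime 2) := ⟨Nat.prime_two⟩
  haveI hFn := Cfsg.Agent.Lib.Helper1.fittingSubgroup_normal (G := Γ)
  have hnil : Group.IsNilpotent (fittingSubgroup Γ) :=
    Cfsg.Agent.Lib.Helper1.fittingSubgroup_isNilpotent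
  rw [← Nat.not_even_iff_odd, even_iff_two_dvd]
  intro h2
  obtain ⟨P⟩ : Nonempty (Sylow 2 ↥(fittingSubgroup Γ)) := inferInstance
  have hq : Group.IsNilpotent ↥(fittingSubgroup Γ) ↔
      ∀ (p : ℕ) (_hp : Fact p.Prime) (P : Sylow p ↥(fittingSubgroup Γ)),
        (↑P : Subgroup ↥(fittingSubgroup Γ)).Normal :=
    (Group.isNilpotent_of_finite_tfae (G := ↥(fittingSubgroup Γ))).out 0 3
  have hPn : (P : Subgroup ↥(fittingSubgroup Γ)).Normal := hq.mp hnil 2 inferInstance P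
  haveI := Sylow.characteristic_of_normal P hPn
  have hN : ((P : Subgroup ↥(fittingSubgroup Γ)).map (fittingSubgroup Γ).subtype).Normal :=
    ConjAct.normal_of_characteristic_of_normal
  have hp : IsPGroup 2 ((P : Subgroup ↥(fittingSubgroup Γ)).map (fittingSubgroup Γ).subtype) :=
    P.2.map _
  have hle := Cfsg.Agent.Lib.Helper1.le_pCore hN hp
  rw [hO2] at hle
  have hPbot : (P : Subgroup ↥(fittingSubgroup Γ)) = ⊥ :=
    (Subgroup.map_eq_bot_iff_of_injective _ (fittingSubgroup Γ).subtype_injective).mp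
      (le_bot_iff.mp hle)
  exact P.ne_bot_of_dvd_card h2 hPbot

theorem eq_one_of_pow_two_pow_of_odd [Finite Γ] {Q : Subgroup Γ} (hQodd : Odd (Nat.card Q)) {y : Γ}
    (hy : y ∈ Q) {j : ℕ} (h : y ^ 2 ^ j = 1) : y = 1 := by
  have h2 : orderOf y ∣ 2 ^ j := orderOf_dvd_of_pow_eq_one h
  have h3 : orderOf y ∣ Nat.card Q := Subgroup.orderOf_dvd_natCard Q hy
  have hcop : Nat.Coprime (2 ^ j) (Nat.card Q) :=
    Nat.Coprime.pow_left j (Nat.coprime_two_left.mpr hQodd)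
  exact orderOf_eq_one_iff.mp (Nat.eq_one_of_dvd_coprimes hcop h2 h3)

theorem conj_pow_eq_mul_pow {g x y : Γ} (hxy : g * x * g⁻¹ = x * y) (hy : g * y * g⁻¹ = y) (n : ℕ) :
    g ^ n * x * (g ^ n)⁻¹ = x * y ^ n := by
  induction n with
  | zero => simp
  | succ n ih =>
    have h1 : g ^ (n + 1) * x * (g ^ (n + 1))⁻¹ = g * (g ^ n * x * (g ^ n)⁻¹) * g⁻¹ := by
      rw [pow_succ']; group
    have h2 : g * (x * y ^ n) * g⁻¹ = (g * x * g⁻¹) * (g * y * g⁻¹) ^ n := by
      rw [conj_pow]; group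
    rw [h1, ih, h2, hxy, hy, pow_succ', mul_assoc]

/-- In a finite solvable group with `O₂ = 1`, a nontrivial abelian `2`-subgroup `A` normalizes a
subgroup `Q` of odd order, not centralized by `A`, with `A / C_A(Q)` cyclic. -/
theorem exists_cyclic_mod [Finite Γ] [Group.IsSolvable Γ] (hO2 : pCore 2 Γ = ⊥) (A : Subgroup Γ)
    (hAab : ∀ a ∈ A, ∀ b ∈ A, a * b = b * a) (hA2 : IsPGroup 2 A) (hA1 : A ≠ ⊥) :
    ∃ (Q : Subgroup Γ) (a : Γ), Odd (Nat.card Q) ∧ A ≤ normalizer (Q : Set Γ) ∧ a ∈ A ∧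
      ¬ A ≤ centralizer (Q : Set Γ) ∧ ∀ g ∈ A, ∃ n : ℤ, g * a ^ n ∈ centralizer (Q : Set Γ) := by
  classical
  haveI hFn := Cfsg.Agent.Lib.Helper1.fittingSubgroup_normal (G := Γ)
  have hFodd : Odd (Nat.card (fittingSubgroup Γ)) := odd_card_fittingSubgroup hO2
  have hCF : centralizer (fittingSubgroup Γ : Set Γ) ≤ fittingSubgroup Γ :=
    Cfsg.Agent.Lib.Helper1.centralizer_fittingSubgroup_le
  have hApow : ∀ a ∈ A, ∃ k : ℕ, a ^ 2 ^ k = 1 := by
    intro a ha
    obtain ⟨k, hk⟩ := hA2 ⟨a, ha⟩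
    refine ⟨k, ?_⟩
    have := congrArg Subtype.val hk
    simpa using this
  have hAF : ∀ a ∈ A, a ∈ fittingSubgroup Γ → a = 1 := by
    intro a ha haF
    obtain ⟨k, hk⟩ := hApow a ha
    exact eq_one_of_pow_two_pow_of_odd hFodd haF hk
  have hAnotC : ¬ A ≤ centralizer (fittingSubgroup Γ : Set Γ) := by
    intro hle
    apply hA1
    rw [eq_bot_iff]
    intro a ha
    rw [mem_bot]
    exact hAF a ha (hCF (hle ha))
  -- a minimal `A`-invariant subgroup of `F` not centralized by `A`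
  obtain ⟨Q, ⟨hQF, hAQ, hQC⟩, hmin⟩ :=
    Set.exists_min_image {Q : Subgroup Γ | Q ≤ fittingSubgroup Γ ∧ A ≤ normalizer (Q : Set Γ) ∧
        ¬ A ≤ centralizer (Q : Set Γ)} (fun Q => Nat.card Q) (Set.toFinite _)
      ⟨fittingSubgroup Γ, le_rfl, by rw [normalizer_eq_top]; exact le_top, hAnotC⟩
  have hQodd : Odd (Nat.card Q) := Odd.of_dvd_nat hFodd (Subgroup.card_dvd_of_le hQF)
  have hconjQ : ∀ a ∈ A, ∀ x ∈ Q, a * x * a⁻¹ ∈ Q := fun a ha x hx =>
    (mem_normalizer_iff.mp (hAQ ha) x).mp hx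
  -- the commutator of `Q` with an element of `A`
  have hcomm : ∀ g ∈ A, g ∉ centralizer (Q : Set Γ) →
      closure {y | ∃ x ∈ Q, y = x⁻¹ * (g * x * g⁻¹)} = Q := by
    intro g hg hgC
    set K := closure {y | ∃ x ∈ Q, y = x⁻¹ * (g * x * g⁻¹)} with hK
    have hKQ : K ≤ Q := by
      rw [hK, closure_le]
      rintro y ⟨x, hx, rfl⟩
      exact Q.mul_mem (Q.inv_mem hx) (hconjQ g hg x hx)
    have hAK : A ≤ normalizer (K : Set Γ) := by
      apply Cfsg.Agent.Lib.Helper1.le_normalizer_of_forall_conj_mem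
      intro b hb k hk
      induction hk using Subgroup.closure_induction with
      | mem y hy =>
        obtain ⟨x, hx, rfl⟩ := hy
        apply Subgroup.subset_closure
        refine ⟨b * x * b⁻¹, hconjQ b hb x hx, ?_⟩
        have hbg : b * g = g * b := hAab b hb g hg
        have h1 : b⁻¹ * g * b = g := by
          rw [mul_assoc, ← hbg, inv_mul_cancel_left]
        have h2 : b⁻¹ * g⁻¹ = g⁻¹ * b⁻¹ := by
          rw [← mul_inv_rev, ← mul_inv_rev, hbg]
        symm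
        calc (b * x * b⁻¹)⁻¹ * (g * (b * x * b⁻¹) * g⁻¹)
            = b * x⁻¹ * (b⁻¹ * g * b) * x * (b⁻¹ * g⁻¹) := by group
          _ = b * x⁻¹ * g * x * (g⁻¹ * b⁻¹) := by rw [h1, h2]
          _ = b * (x⁻¹ * (g * x * g⁻¹)) * b⁻¹ := by group
      | one => simp
      | mul y z _ _ hy hz =>
        have : b * (y * z) * b⁻¹ = (b * y * b⁻¹) * (b * z * b⁻¹) := by group
        rw [this]; exact mul_mem hy hz
      | inv y _ hy =>
        have : b * y⁻¹ * b⁻¹ = (b * y * b⁻¹)⁻¹ := by group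
        rw [this]; exact inv_mem hy
    by_cases hAC : A ≤ centralizer (K : Set Γ)
    · -- then `g` centralizes `Q`
      exfalso
      apply hgC
      rw [mem_centralizer_iff]
      intro x hx
      set y := x⁻¹ * (g * x * g⁻¹) with hy
      have hyK : y ∈ K := Subgroup.subset_closure ⟨x, hx, rfl⟩
      have hgy : g * y * g⁻¹ = y := by
        have := (mem_centralizer_iff.mp (hAC hg)) y hyK
        calc g * y * g⁻¹ = (y * g) * g⁻¹ := by rw [this]
          _ = y := by group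
      have hgx : g * x * g⁻¹ = x * y := by rw [hy]; group
      obtain ⟨k, hk⟩ := hApow g hg
      have h1 := conj_pow_eq_mul_pow hgx hgy (2 ^ k)
      rw [hk, one_mul, inv_one, mul_one] at h1
      have h2 : y ^ 2 ^ k = 1 := by
        have := h1.symm
        rwa [mul_eq_left] at this
      have h3 : y = 1 := eq_one_of_pow_two_pow_of_odd hQodd (hKQ hyK) h2
      have h4 : g * x * g⁻¹ = x := by rw [hgx, h3, mul_one]
      calc x * g = (g * x * g⁻¹) * g := by rw [h4]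
        _ = g * x := by group
    · have h1 := hmin K ⟨hKQ.trans hQF, hAK, hAC⟩
      exact Subgroup.eq_of_le_of_card_ge hKQ h1
  -- the derived subgroup of `Q`
  have hQ1 : Q ≠ ⊥ := by
    rintro rfl
    apply hQC
    intro a _
    rw [mem_centralizer_iff]
    intro x hx
    rw [Subgroup.coe_bot, Set.mem_singleton_iff] at hx
    rw [hx, one_mul, mul_one]
  set Q' := ⁅Q, Q⁆ with hQ'
  have hQ'lt : Q' < Q := Group.IsSolvable.commutator_lt_of_ne_bot hQ1
  have hQ'Q : Q' ≤ Q := hQ'lt.le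
  have hQnQ' : ∀ x ∈ Q, ∀ q ∈ Q', x * q * x⁻¹ ∈ Q' := fun x hx q hq =>
    (mem_normalizer_iff.mp (Cfsg.Agent.Lib.Helper1.le_normalizer_commutator_left hx) q).mp hq
  have hAnQ' : ∀ a ∈ A, ∀ q ∈ Q', a * q * a⁻¹ ∈ Q' := fun a ha q hq =>
    (mem_normalizer_iff.mp
      (Cfsg.Agent.Lib.Helper17.mem_normalizer_commutator (hAQ ha) (hAQ ha)) q).mp hq
  have hcommQ' : ∀ x ∈ Q, ∀ y ∈ Q, x * y * x⁻¹ * y⁻¹ ∈ Q' := fun x hx y hy =>
    Subgroup.commutator_mem_commutator hx hy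
  -- elements of `A` whose square centralizes `Q` invert `Q` modulo `Q'`
  have hinvert : ∀ a ∈ A, a ∉ centralizer (Q : Set Γ) → a ^ 2 ∈ centralizer (Q : Set Γ) →
      ∀ y ∈ Q, y * (a * y * a⁻¹) ∈ Q' := by
    intro a ha haC ha2
    let T : Subgroup Γ :=
      { carrier := {y | y ∈ Q ∧ y * (a * y * a⁻¹) ∈ Q'}
        one_mem' := ⟨Q.one_mem, by simp [Q'.one_mem]⟩
        mul_mem' := by
          rintro y₁ y₂ ⟨h1, h1'⟩ ⟨h2, h2'⟩
          refine ⟨Q.mul_mem h1 h2, ?_⟩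
          have hay₁ : a * y₁ * a⁻¹ ∈ Q := hconjQ a ha y₁ h1
          have e : y₁ * y₂ * (a * (y₁ * y₂) * a⁻¹) =
              (y₁ * (y₂ * (a * y₁ * a⁻¹) * y₂⁻¹ * (a * y₁ * a⁻¹)⁻¹) * y₁⁻¹) *
                (y₁ * (a * y₁ * a⁻¹)) * (y₂ * (a * y₂ * a⁻¹)) := by group
          rw [e]
          exact Q'.mul_mem (Q'.mul_mem (hQnQ' y₁ h1 _ (hcommQ' y₂ h2 _ hay₁)) h1') h2'
        inv_mem' := by
          rintro y ⟨h1, h1'⟩
          refine ⟨Q.inv_mem h1, ?_⟩
          have e : y⁻¹ * (a * y⁻¹ * a⁻¹) = y⁻¹ * (y * (a * y * a⁻¹))⁻¹ * y⁻¹⁻¹ := by group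
          rw [e]
          exact hQnQ' y⁻¹ (Q.inv_mem h1) _ (Q'.inv_mem h1') }
    have hTQ : Q ≤ T := by
      rw [← hcomm a ha haC, closure_le]
      rintro y ⟨x, hx, rfl⟩
      refine ⟨Q.mul_mem (Q.inv_mem hx) (hconjQ a ha x hx), ?_⟩
      have ha2x : a ^ 2 * x * (a ^ 2)⁻¹ = x := by
        have := (mem_centralizer_iff.mp ha2) x hx
        calc a ^ 2 * x * (a ^ 2)⁻¹ = (x * a ^ 2) * (a ^ 2)⁻¹ := by rw [this]
          _ = x := by group
      have e : x⁻¹ * (a * x * a⁻¹) * (a * (x⁻¹ * (a * x * a⁻¹)) * a⁻¹) =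
          x⁻¹ * (a ^ 2 * x * (a ^ 2)⁻¹) := by rw [pow_two]; group
      rw [e, ha2x, inv_mul_cancel]
      exact Q'.one_mem
    intro y hy
    exact (hTQ hy).2
  -- uniqueness of the involution modulo `C_A(Q)`
  have huniq : ∀ a ∈ A, ∀ a' ∈ A, a ∉ centralizer (Q : Set Γ) → a' ∉ centralizer (Q : Set Γ) →
      a ^ 2 ∈ centralizer (Q : Set Γ) → a' ^ 2 ∈ centralizer (Q : Set Γ) →
      a * a' ∈ centralizer (Q : Set Γ) := by
    intro a ha a' ha' haC ha'C ha2 ha'2
    by_contra hg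
    have hgA : a * a' ∈ A := A.mul_mem ha ha'
    have h1 := hcomm (a * a') hgA hg
    have hle : closure {y | ∃ x ∈ Q, y = x⁻¹ * (a * a' * x * (a * a')⁻¹)} ≤ Q' := by
      rw [closure_le]
      rintro _ ⟨y, hy, rfl⟩
      set y' := a' * y * a'⁻¹ with hy'
      have hy'Q : y' ∈ Q := hconjQ a' ha' y hy
      have h2 : y * y' ∈ Q' := hinvert a' ha' ha'C ha'2 y hy
      have h3 : y' * (a * y' * a⁻¹) ∈ Q' := hinvert a ha haC ha2 y' hy'Q
      have h4 : y' * y ∈ Q' := by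
        have := hQnQ' y⁻¹ (Q.inv_mem hy) _ h2
        have e : y⁻¹ * (y * y') * y⁻¹⁻¹ = y' * y := by group
        rwa [e] at this
      have e : y⁻¹ * (a * a' * y * (a * a')⁻¹) = (y' * y)⁻¹ * (y' * (a * y' * a⁻¹)) := by
        rw [hy']; group
      rw [e]
      exact Q'.mul_mem (Q'.inv_mem h4) h3
    rw [h1] at hle
    exact (lt_irrefl _ (lt_of_le_of_lt hle hQ'lt))
  -- the quotient `A / C_A(Q)` is cyclic
  letI : CommGroup ↥A :=
    { (inferInstance : Group ↥A) with mul_comm := fun a b => Subtype.ext (hAab a a.2 b b.2) }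
  set B' : Subgroup ↥A := (centralizer (Q : Set Γ)).subgroupOf A with hB'
  have hmemB' : ∀ a : ↥A, a ∈ B' ↔ (a : Γ) ∈ centralizer (Q : Set Γ) := fun a =>
    Subgroup.mem_subgroupOf
  have hcyc : IsCyclic (↥A ⧸ B') := by
    apply Cfsg.Agent.Lib.Helper19.isCyclic_of_prime_torsion
    intro q hq x y hx hy hx1
    obtain ⟨a, rfl⟩ := QuotientGroup.mk_surjective x
    obtain ⟨a', rfl⟩ := QuotientGroup.mk_surjective y
    have haq : a ^ q ∈ B' := by
      rw [← QuotientGroup.eq_one_iff, QuotientGroup.mk_pow]; exact hx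
    have ha'q : a' ^ q ∈ B' := by
      rw [← QuotientGroup.eq_one_iff, QuotientGroup.mk_pow]; exact hy
    have haB : a ∉ B' := by
      intro h
      exact hx1 ((QuotientGroup.eq_one_iff a).mpr h)
    by_cases hq2 : q = 2
    · subst hq2
      by_cases ha'B : a' ∈ B'
      · rw [(QuotientGroup.eq_one_iff a').mpr ha'B]
        exact Subgroup.one_mem _
      · have h1 : (a : Γ) * (a' : Γ) ∈ centralizer (Q : Set Γ) :=
          huniq a a.2 a' a'.2 ((hmemB' a).not.mp haB) ((hmemB' a').not.mp ha'B)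
            (by have := (hmemB' (a ^ 2)).mp haq; simpa using this)
            (by have := (hmemB' (a' ^ 2)).mp ha'q; simpa using this)
        have h2 : a * a' ∈ B' := (hmemB' (a * a')).mpr (by simpa using h1)
        have h3 : (QuotientGroup.mk a : ↥A ⧸ B') * QuotientGroup.mk a' = 1 := by
          rw [← QuotientGroup.mk_mul]; exact (QuotientGroup.eq_one_iff _).mpr h2
        have h4 : (QuotientGroup.mk a' : ↥A ⧸ B') = (QuotientGroup.mk a)⁻¹ :=
          eq_inv_of_mul_eq_one_right h3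
        rw [h4]
        exact Subgroup.inv_mem _ (Subgroup.mem_zpowers _)
    · exfalso
      apply hx1
      obtain ⟨k, hk⟩ := hApow a a.2
      have h1 : (QuotientGroup.mk a : ↥A ⧸ B') ^ 2 ^ k = 1 := by
        rw [← QuotientGroup.mk_pow]
        have : a ^ 2 ^ k = 1 := Subtype.ext (by simpa using hk)
        rw [this]; rfl
      have h2 : orderOf (QuotientGroup.mk a : ↥A ⧸ B') ∣ 2 ^ k := orderOf_dvd_of_pow_eq_one h1
      have h3 : orderOf (QuotientGroup.mk a : ↥A ⧸ B') ∣ q := orderOf_dvd_of_pow_eq_one hx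
      have hcop : Nat.Coprime (2 ^ k) q :=
        Nat.Coprime.pow_left k ((Nat.coprime_primes Nat.prime_two hq).mpr (Ne.symm hq2))
      exact orderOf_eq_one_iff.mp (Nat.eq_one_of_dvd_coprimes hcop h2 h3)
  obtain ⟨gbar, hgbar⟩ := hcyc.exists_generator
  obtain ⟨a, rfl⟩ := QuotientGroup.mk_surjective gbar
  refine ⟨Q, (a : Γ), hQodd, hAQ, a.2, hQC, ?_⟩
  intro g hg
  obtain ⟨n, hn⟩ := Subgroup.mem_zpowers_iff.mp (hgbar (QuotientGroup.mk ⟨g, hg⟩))
  refine ⟨-n, ?_⟩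
  have h1 : (QuotientGroup.mk ((⟨g, hg⟩ : ↥A) * a ^ (-n)) : ↥A ⧸ B') = 1 := by
    rw [QuotientGroup.mk_mul, QuotientGroup.mk_zpow, ← hn, zpow_neg, mul_inv_cancel]
  have h2 : (⟨g, hg⟩ : ↥A) * a ^ (-n) ∈ B' := (QuotientGroup.eq_one_iff _).mp h1
  have h3 := (hmemB' _).mp h2
  simpa using h3

end Cfsg.Agent.Lib.Helper18.SolvOff
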