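import Mathlib
import Cfsg.Agent.Lib.Helper18.SolvOffD
import Cfsg.Agent.Lib.Helper18.SolvOffE
import Cfsg.Agent.Lib.Helper9.Misc

set_option autoImplicit false

/-!
# Offenders of a faithful solvable group on an elementary abelian `2`-group

`Γ` is a finite solvable group with `O₂(Γ) = 1` acting faithfully on an elementary abelian `2`-group
`V`.  An offender is an abelian `2`-subgroup `A` with `|A| |C_V(A)| ≥ |V|`.
* `isTransv_of_minimal_offender`: a minimal nontrivial offender is generated by a transvection;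
* `offender_split`: an offender containing a transvection `t` is `A₁ × ⟨t⟩` for an offender `A₁`;
* `offender_le_closure`: every offender is generated by the transvections it contains.
-/

namespace Cfsg.Agent.Lib.Helper18.SolvOff

open Subgroup Cfsg Cfsg.Agent.Lib.Helper18.OffenderTwo

variable {Γ : Type*} [Group Γ] {V : Type*} [CommGroup V] (φ : Γ →* MulAut V)

/-- An offender: an abelian `2`-subgroup `A` with `|V| ≤ |A| |C_V(A)|`. -/
def IsOffender (A : Subgroup Γ) : Prop :=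
  (∀ a ∈ A, ∀ b ∈ A, a * b = b * a) ∧ IsPGroup 2 A ∧
    Nat.card V ≤ Nat.card A * Nat.card (fixV φ A)

/-! ### Fixed points -/

theorem fixV_anti {H K : Subgroup Γ} (h : H ≤ K) : fixV φ K ≤ fixV φ H :=
  fun _ hv y hy => hv y (h hy)

theorem fixV_sup (H K : Subgroup Γ) : fixV φ (H ⊔ K) = fixV φ H ⊓ fixV φ K := by
  apply le_antisymm
  · exact le_inf (fixV_anti φ le_sup_left) (fixV_anti φ le_sup_right)
  · rintro v ⟨hH, hK⟩ y hy
    have hle : H ⊔ K ≤ (MulAction.stabilizer (MulAut V) v).comap φ := by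
      apply sup_le
      · intro x hx
        show φ x ∈ MulAction.stabilizer (MulAut V) v
        rw [MulAction.mem_stabilizer_iff, MulAut.smul_def]
        exact hH x hx
      · intro x hx
        show φ x ∈ MulAction.stabilizer (MulAut V) v
        rw [MulAction.mem_stabilizer_iff, MulAut.smul_def]
        exact hK x hx
    have h2 : φ y ∈ MulAction.stabilizer (MulAut V) v := hle hy
    rw [MulAction.mem_stabilizer_iff, MulAut.smul_def] at h2
    exact h2

theorem two_mul_card_le_of_lt [Finite V] {H K : Subgroup V} (h : H < K) :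
    2 * Nat.card H ≤ Nat.card K := by
  have h1 := Cfsg.Agent.Lib.Helper16.relIndex_mul_card_of_le h.le
  have hne1 : H.relIndex K ≠ 1 := by
    intro h2
    exact (not_le_of_gt h) (Subgroup.relIndex_eq_one.mp h2)
  have hKpos : 0 < Nat.card K := Nat.card_pos
  have hne0 : H.relIndex K ≠ 0 := by
    intro h0
    rw [h0, zero_mul] at h1
    omega
  have h2 : 2 ≤ H.relIndex K := by omega
  calc 2 * Nat.card H ≤ H.relIndex K * Nat.card H := Nat.mul_le_mul_right _ h2
    _ = Nat.card K := h1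

theorem two_mul_card_le_of_lt' [Finite Γ] {H K : Subgroup Γ} (h : H < K) :
    2 * Nat.card H ≤ Nat.card K := by
  have h1 := Cfsg.Agent.Lib.Helper16.relIndex_mul_card_of_le h.le
  have hne1 : H.relIndex K ≠ 1 := by
    intro h2
    exact (not_le_of_gt h) (Subgroup.relIndex_eq_one.mp h2)
  have hKpos : 0 < Nat.card K := Nat.card_pos
  have hne0 : H.relIndex K ≠ 0 := by
    intro h0
    rw [h0, zero_mul] at h1
    omega
  have h2 : 2 ≤ H.relIndex K := by omega
  calc 2 * Nat.card H ≤ H.relIndex K * Nat.card H := Nat.mul_le_mul_right _ h2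
    _ = Nat.card K := h1

/-! ### Cyclic `2`-groups acting on `V` -/

theorem act_pow_mem (a : Γ) (W : Subgroup V) (hW : ∀ u ∈ W, φ a u ∈ W) (n : ℕ) :
    ∀ u ∈ W, φ (a ^ n) u ∈ W := by
  induction n with
  | zero => intro u hu; rw [pow_zero, act_one]; exact hu
  | succ n ih => intro u hu; rw [pow_succ', act_mul]; exact hW _ (ih u hu)

theorem exists_fixed_cyclic [Finite V] (hV2 : ∀ v : V, v ^ 2 = 1) (a : Γ) {k : ℕ}
    (hpow : a ^ 2 ^ k = 1) (M : Subgroup V) (hM : M ≠ ⊥) (hinv : ∀ u ∈ M, φ a u ∈ M) :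
    ∃ u ∈ M, u ≠ 1 ∧ φ a u = u := by
  haveI : Fact (Nat.Prime 2) := ⟨Nat.prime_two⟩
  have hfin : IsOfFinOrder a := isOfFinOrder_iff_pow_eq_one.mpr ⟨2 ^ k, by positivity, hpow⟩
  have hB : IsPGroup 2 (zpowers a) := by
    have h1 : orderOf a ∣ 2 ^ k := orderOf_dvd_of_pow_eq_one hpow
    obtain ⟨j, -, hj⟩ := (Nat.dvd_prime_pow Nat.prime_two).mp h1
    apply IsPGroup.of_card (n := j)
    rw [Nat.card_zpowers, hj]
  have hinv' : ∀ b ∈ zpowers a, ∀ u ∈ M, φ b u ∈ M := by
    intro b hb u hu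
    rw [← hfin.mem_powers_iff_mem_zpowers] at hb
    obtain ⟨n, rfl⟩ := (Submonoid.mem_powers_iff _ _).mp hb
    exact act_pow_mem φ a M hinv n u hu
  obtain ⟨u, hu, hu1, hfix⟩ := exists_fixed_of_isPGroup φ hV2 (zpowers a) hB M hM hinv'
  exact ⟨u, hu, hu1, hfix a (mem_zpowers a)⟩

/-- If `a` (of `2`-power order) acts nontrivially on the invariant subgroup `W`, then `a ^ 2` has at
least twice as many fixed points on `W` as `a`. -/
theorem two_mul_card_fix_le [Finite V] (hV2 : ∀ v : V, v ^ 2 = 1) (a : Γ) (W : Subgroup V)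
    (hW : ∀ u ∈ W, φ a u ∈ W) {k : ℕ} (hpow : a ^ 2 ^ k = 1) (hnt : ∃ u ∈ W, φ a u ≠ u) :
    2 * Nat.card (W ⊓ (nv φ a).ker : Subgroup V) ≤
      Nat.card (W ⊓ (nv φ (a ^ 2)).ker : Subgroup V) := by
  set M := W.map (nv φ a) with hM
  have hMne : M ≠ ⊥ := by
    obtain ⟨u, hu, hne⟩ := hnt
    intro hbot
    have : nv φ a u ∈ M := ⟨u, hu, rfl⟩
    rw [hbot, mem_bot, nv_eq_one_iff] at this
    exact hne this
  have hMinv : ∀ m ∈ M, φ a m ∈ M := by
    rintro _ ⟨u, hu, rfl⟩
    exact ⟨φ a u, hW u hu, (act_nv_comm φ rfl u).symm⟩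
  obtain ⟨n, hnM, hn1, hnfix⟩ := exists_fixed_cyclic φ hV2 a hpow M hMne hMinv
  obtain ⟨u₀, hu₀, rfl⟩ := hnM
  apply two_mul_card_le_of_lt
  refine lt_of_le_of_ne ?_ ?_
  · intro u hu
    obtain ⟨huW, hu⟩ := mem_inf.mp hu
    refine mem_inf.mpr ⟨huW, ?_⟩
    rw [MonoidHom.mem_ker, nv_eq_one_iff] at hu ⊢
    rw [pow_two, act_mul, hu, hu]
  · intro heq
    have h1 : u₀ ∈ (W ⊓ (nv φ (a ^ 2)).ker : Subgroup V) := by
      refine mem_inf.mpr ⟨hu₀, ?_⟩
      rw [MonoidHom.mem_ker, pow_two, nv_mul, ← act_nv_comm φ rfl u₀, hnfix]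
      exact mul_self_eq_one hV2 _
    rw [← heq] at h1
    have h2 : nv φ a u₀ = 1 := MonoidHom.mem_ker.mp (mem_inf.mp h1).2
    exact hn1 h2

theorem pow_mul_card_fix_le [Finite V] (hV2 : ∀ v : V, v ^ 2 = 1) (a : Γ) (W : Subgroup V)
    (hW : ∀ u ∈ W, φ a u ∈ W) {N : ℕ} (hpow : a ^ 2 ^ N = 1) (k : ℕ)
    (hnt : ∀ j < k, ∃ u ∈ W, φ (a ^ 2 ^ j) u ≠ u) :
    2 ^ k * Nat.card (W ⊓ (nv φ a).ker : Subgroup V) ≤
      Nat.card (W ⊓ (nv φ (a ^ 2 ^ k)).ker : Subgroup V) := by
  induction k with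
  | zero => rw [pow_zero, pow_one, one_mul]
  | succ k ih =>
    have ih' := ih (fun j hj => hnt j (Nat.lt_succ_of_lt hj))
    have hpow' : (a ^ 2 ^ k) ^ 2 ^ N = 1 := by
      rw [← pow_mul, mul_comm, pow_mul, hpow, one_pow]
    have h1 := two_mul_card_fix_le φ hV2 (a ^ 2 ^ k) W (act_pow_mem φ a W hW _) hpow'
      (hnt k (Nat.lt_succ_self k))
    have h2 : (a ^ 2 ^ k) ^ 2 = a ^ 2 ^ (k + 1) := by rw [← pow_mul, ← pow_succ]
    rw [h2] at h1
    calc 2 ^ (k + 1) * Nat.card (W ⊓ (nv φ a).ker : Subgroup V)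
        = 2 * (2 ^ k * Nat.card (W ⊓ (nv φ a).ker : Subgroup V)) := by rw [pow_succ]; ring
      _ ≤ 2 * Nat.card (W ⊓ (nv φ (a ^ 2 ^ k)).ker : Subgroup V) := Nat.mul_le_mul_left _ ih'
      _ ≤ _ := h1

/-! ### The `P × Q` lemma -/

theorem eq_one_of_trivial_on_fix [Finite V] (hφ : Function.Injective φ) (hV2 : ∀ v : V, v ^ 2 = 1)
    (B : Subgroup Γ) (hB : IsPGroup 2 B) {q : Γ} (hqodd : Odd (orderOf q))
    (hcomm : ∀ b ∈ B, b * q = q * b) (htriv : ∀ u ∈ fixV φ B, φ q u = u) : q = 1 := by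
  by_contra hq1
  obtain ⟨v₀, hv₀⟩ := exists_nv_ne_one φ hφ hq1
  have hRne : (nv φ q).range ≠ ⊥ := by
    intro hbot
    have : nv φ q v₀ ∈ (nv φ q).range := ⟨v₀, rfl⟩
    rw [hbot, mem_bot] at this
    exact hv₀ this
  have hinv : ∀ b ∈ B, ∀ u ∈ (nv φ q).range, φ b u ∈ (nv φ q).range := by
    rintro b hb _ ⟨v, rfl⟩
    exact ⟨φ b v, (act_nv_comm φ (hcomm b hb).symm v).symm⟩
  obtain ⟨u, hu, hu1, hfix⟩ := exists_fixed_of_isPGroup φ hV2 B hB _ hRne hinv
  exact hu1 (eq_one_of_fixed_of_mem_range φ hV2 hqodd hu (htriv u hfix))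

/-! ### Index bounds -/

theorem card_le_of_forall_exists_zpow [Finite Γ] (A B : Subgroup Γ) (hBA : B ≤ A) {a : Γ}
    (haA : a ∈ A) {m : ℕ} (hm : 0 < m) (ham : a ^ m ∈ B)
    (h : ∀ g ∈ A, ∃ n : ℤ, g * a ^ n ∈ B) : Nat.card A ≤ m * Nat.card B := by
  let f : Fin m × ↥B → ↥A := fun p =>
    ⟨(p.2 : Γ) * a ^ (p.1 : ℕ), A.mul_mem (hBA p.2.2) (A.pow_mem haA _)⟩
  have hf : Function.Surjective f := by
    rintro ⟨g, hg⟩
    obtain ⟨n, hn⟩ := h g hg
    -- `-n = m * q + r`
    set r := (-n) % (m : ℤ) with hr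
    set q := (-n) / (m : ℤ) with hq
    have hm' : (m : ℤ) ≠ 0 := by exact_mod_cast hm.ne'
    have hr0 : 0 ≤ r := Int.emod_nonneg _ hm'
    have hrm : r < m := Int.emod_lt_of_pos _ (by exact_mod_cast hm)
    have hdecomp : -n = (m : ℤ) * q + r := (Int.mul_ediv_add_emod (-n) m).symm
    obtain ⟨r', hr'⟩ := Int.eq_ofNat_of_zero_le hr0
    have hr'm : r' < m := by
      have : (r' : ℤ) < m := hr' ▸ hrm
      exact_mod_cast this
    have hb : g * a ^ n * (a ^ m) ^ q ∈ B := B.mul_mem hn (B.zpow_mem ham q)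
    refine ⟨(⟨r', hr'm⟩, ⟨g * a ^ n * (a ^ m) ^ q, hb⟩), ?_⟩
    apply Subtype.ext
    show g * a ^ n * (a ^ m) ^ q * a ^ r' = g
    have h1 : (a ^ m) ^ q = a ^ ((m : ℤ) * q) := by
      rw [zpow_mul, zpow_natCast]
    have h2 : a ^ r' = a ^ (r' : ℤ) := (zpow_natCast a r').symm
    rw [h1, h2, mul_assoc, mul_assoc, ← zpow_add, ← zpow_add, ← hr', ← hdecomp, add_neg_cancel,
      zpow_zero, mul_one]
  have := Nat.card_le_card_of_surjective f hf
  rwa [Nat.card_prod, Nat.card_fin] at this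

/-! ### Minimal offenders -/

section Solvable

variable [Finite Γ] [Group.IsSolvable Γ] [Finite V] (hφ : Function.Injective φ)
  (hV2 : ∀ v : V, v ^ 2 = 1) (hO2 : pCore 2 Γ = ⊥)
include hφ hV2 hO2

/-- A minimal nontrivial offender is generated by a transvection. -/
theorem isTransv_of_minimal_offender {A : Subgroup Γ} (hA : IsOffender φ A) (hA1 : A ≠ ⊥)
    (hmin : ∀ D : Subgroup Γ, D ≤ A → D ≠ ⊥ → IsOffender φ D → D = A) :
    ∃ t ∈ A, IsTransv φ t := by
  classical
  obtain ⟨hAab, hA2, hAoff⟩ := hA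
  obtain ⟨Q, a, hQodd, hAQ, haA, hQC, hcyc⟩ := exists_cyclic_mod hO2 A hAab hA2 hA1
  set B := A ⊓ centralizer (Q : Set Γ) with hB
  have hBA : B ≤ A := inf_le_left
  have hBC : B ≤ centralizer (Q : Set Γ) := inf_le_right
  have hB2 : IsPGroup 2 B := hA2.to_le hBA
  have hcyc' : ∀ g ∈ A, ∃ n : ℤ, g * a ^ n ∈ B := by
    intro g hg
    obtain ⟨n, hn⟩ := hcyc g hg
    exact ⟨n, A.mul_mem hg (A.zpow_mem haA n), hn⟩
  have haC : a ∉ centralizer (Q : Set Γ) := by
    intro haC
    apply hQC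
    intro g hg
    obtain ⟨n, hn⟩ := hcyc g hg
    have : g = g * a ^ n * (a ^ n)⁻¹ := by group
    rw [this]
    exact Subgroup.mul_mem _ hn (Subgroup.inv_mem _ (Subgroup.zpow_mem _ haC n))
  set W := fixV φ B with hW
  have hWA : ∀ g ∈ A, ∀ u ∈ W, φ g u ∈ W := by
    intro g hg u hu b hb
    rw [← act_mul, hAab b (hBA hb) g hg, act_mul, hu b hb]
  have hWQ : ∀ x ∈ Q, ∀ u ∈ W, φ x u ∈ W := by
    intro x hx u hu b hb
    have hbx : x * b = b * x := (mem_centralizer_iff.mp (hBC hb)) x hx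
    rw [← act_mul, ← hbx, act_mul, hu b hb]
  have hQoddel : ∀ x ∈ Q, Odd (orderOf x) := fun x hx =>
    Odd.of_dvd_nat hQodd (Subgroup.orderOf_dvd_natCard Q hx)
  have hconjQ : ∀ g ∈ A, ∀ x ∈ Q, g * x * g⁻¹ ∈ Q := fun g hg x hx =>
    (mem_normalizer_iff.mp (hAQ hg) x).mp hx
  -- faithfulness on `W` modulo `B`
  have hfaith : ∀ g ∈ A, (∀ u ∈ W, φ g u = u) → g ∈ centralizer (Q : Set Γ) := by
    intro g hg htriv
    rw [mem_centralizer_iff]
    intro x hx
    set q := x⁻¹ * (g * x * g⁻¹) with hq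
    have hqQ : q ∈ Q := Q.mul_mem (Q.inv_mem hx) (hconjQ g hg x hx)
    have hginv : ∀ u ∈ W, φ g⁻¹ u = u := by
      intro u hu
      nth_rewrite 1 [← htriv u hu]
      exact act_inv_act φ g u
    have hq1 : q = 1 := by
      apply eq_one_of_trivial_on_fix φ hφ hV2 B hB2 (hQoddel q hqQ)
      · intro b hb
        exact ((mem_centralizer_iff.mp (hBC hb)) q hqQ).symm
      · intro u hu
        have hxu : φ x u ∈ W := hWQ x hx u hu
        rw [hq, act_mul, act_mul, act_mul, hginv u hu, htriv _ hxu, act_inv_act]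
    have : g * x * g⁻¹ = x := by
      have := inv_mul_eq_one.mp hq1
      exact this.symm
    calc x * g = (g * x * g⁻¹) * g := by rw [this]
      _ = g * x := by group
  -- the order of `a` modulo `B`
  obtain ⟨N, hN⟩ : ∃ N : ℕ, a ^ 2 ^ N = 1 := by
    obtain ⟨N, hN⟩ := hA2 ⟨a, haA⟩
    refine ⟨N, ?_⟩
    have := congrArg Subtype.val hN
    simpa using this
  have hex : ∃ k : ℕ, a ^ 2 ^ k ∈ B := ⟨N, by rw [hN]; exact B.one_mem⟩
  set k := Nat.find hex with hk
  have hkB : a ^ 2 ^ k ∈ B := Nat.find_spec hex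
  have hk1 : 1 ≤ k := by
    by_contra hk0
    have : k = 0 := by omega
    rw [this, pow_zero, pow_one] at hkB
    exact haC (hBC hkB)
  have hknt : ∀ j < k, ∃ u ∈ W, φ (a ^ 2 ^ j) u ≠ u := by
    intro j hj
    by_contra hcon
    push Not at hcon
    have h1 : a ^ 2 ^ j ∈ centralizer (Q : Set Γ) := hfaith _ (A.pow_mem haA _) hcon
    exact Nat.find_min hex hj ⟨A.pow_mem haA _, h1⟩
  set s := a ^ 2 ^ (k - 1) with hs
  have hsA : s ∈ A := A.pow_mem haA _
  have hsB : s ∉ B := fun h => Nat.find_min hex (show k - 1 < k by omega) h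
  have hs2 : s ^ 2 ∈ B := by
    have : s ^ 2 = a ^ 2 ^ k := by
      rw [hs, ← pow_mul, ← pow_succ, show k - 1 + 1 = k by omega]
    rw [this]; exact hkB
  have hchain := pow_mul_card_fix_le φ hV2 a W (hWA a haA) hN (k - 1)
    (fun j hj => hknt j (by omega))
  rw [← hs] at hchain
  -- `A = B ⊔ ⟨a⟩`
  have hAsup : A = B ⊔ zpowers a := by
    apply le_antisymm
    · intro g hg
      obtain ⟨n, hn⟩ := hcyc' g hg
      have : g = g * a ^ n * (a ^ n)⁻¹ := by group
      rw [this]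
      exact Subgroup.mul_mem _ (le_sup_left (a := B) hn)
        (Subgroup.inv_mem _ (le_sup_right (a := B) (Subgroup.zpow_mem _ (mem_zpowers a) n)))
    · exact sup_le hBA (by rw [zpowers_le]; exact haA)
  have hfixA : fixV φ A = W ⊓ (nv φ a).ker := by
    rw [hAsup, fixV_sup, fixV_zpowers]
  set D := B ⊔ zpowers s with hD
  have hDA : D ≤ A := sup_le hBA (by rw [zpowers_le]; exact hsA)
  have hfixD : fixV φ D = W ⊓ (nv φ s).ker := by
    rw [hD, fixV_sup, fixV_zpowers]
  have hcardA : Nat.card A ≤ 2 ^ k * Nat.card B :=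
    card_le_of_forall_exists_zpow A B hBA haA (by positivity) hkB hcyc'
  have hBD : B < D := by
    refine lt_of_le_of_ne le_sup_left ?_
    intro heq
    apply hsB
    rw [heq]
    exact le_sup_right (a := B) (mem_zpowers s)
  have hcardD : 2 * Nat.card B ≤ Nat.card D := two_mul_card_le_of_lt' hBD
  have hDoff : IsOffender φ D := by
    refine ⟨fun x hx y hy => hAab x (hDA hx) y (hDA hy), hA2.to_le hDA, ?_⟩
    rw [hfixD]
    rw [hfixA] at hAoff
    have hBpos : 0 < Nat.card B := Nat.card_pos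
    calc Nat.card V ≤ Nat.card A * Nat.card (W ⊓ (nv φ a).ker : Subgroup V) := hAoff
      _ ≤ 2 ^ k * Nat.card B * Nat.card (W ⊓ (nv φ a).ker : Subgroup V) :=
          Nat.mul_le_mul_right _ hcardA
      _ = 2 * Nat.card B * (2 ^ (k - 1) * Nat.card (W ⊓ (nv φ a).ker : Subgroup V)) := by
          have : 2 ^ k = 2 * 2 ^ (k - 1) := by
            rw [← pow_succ', show k - 1 + 1 = k by omega]
          rw [this]; ring
      _ ≤ 2 * Nat.card B * Nat.card (W ⊓ (nv φ s).ker : Subgroup V) :=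
          Nat.mul_le_mul_left _ hchain
      _ ≤ Nat.card D * Nat.card (W ⊓ (nv φ s).ker : Subgroup V) :=
          Nat.mul_le_mul_right _ hcardD
  have hD1 : D ≠ ⊥ := by
    intro hbot
    apply hsB
    have : s ∈ D := le_sup_right (a := B) (mem_zpowers s)
    rw [hbot, mem_bot] at this
    rw [this]; exact B.one_mem
  have hDeq : D = A := hmin D hDA hD1 hDoff
  -- `|A| ≤ 2 |B|`
  have hszn : zpowers s ≤ normalizer (B : Set Γ) := by
    rw [zpowers_le, mem_normalizer_iff]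
    intro b
    have hsb : ∀ b ∈ B, s * b * s⁻¹ = b := by
      intro b hb
      rw [hAab s hsA b (hBA hb), mul_inv_cancel_right]
    constructor
    · intro hb; rw [hsb b hb]; exact hb
    · intro hb
      have h1 := hsb _ hb
      have h2 : s * b * s⁻¹ = b := by
        have h3 : s⁻¹ * (s * (s * b * s⁻¹) * s⁻¹) * s = s⁻¹ * (s * b * s⁻¹) * s := by rw [h1]
        have e1 : s⁻¹ * (s * (s * b * s⁻¹) * s⁻¹) * s = s * b * s⁻¹ := by group
        have e2 : s⁻¹ * (s * b * s⁻¹) * s = b := by group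
        rw [e1, e2] at h3
        exact h3
      rw [← h2]; exact hb
  have hcardA2 : Nat.card A ≤ 2 * Nat.card B := by
    apply card_le_of_forall_exists_zpow A B hBA hsA (by norm_num) hs2
    intro g hg
    rw [← hDeq, hD] at hg
    obtain ⟨b, hb, c, hc, rfl⟩ := (Cfsg.Agent.Lib.Helper9.mem_sup_of_le_normalizer hszn).mp hg
    obtain ⟨n, rfl⟩ := mem_zpowers_iff.mp hc
    refine ⟨-n, ?_⟩
    rw [mul_assoc, ← zpow_add, add_neg_cancel, zpow_zero, mul_one]
    exact hb
  have hfixA' : fixV φ A = W ⊓ (nv φ s).ker := by rw [← hDeq, hfixD]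
  -- `B` is trivial
  have hBbot : B = ⊥ := by
    by_contra hBne
    have hBnoff : ¬ IsOffender φ B := by
      intro hoff
      have := hmin B hBA hBne hoff
      exact hsB (this ▸ hsA)
    have hlt : Nat.card B * Nat.card W < Nat.card V := by
      by_contra hge
      push Not at hge
      exact hBnoff ⟨fun x hx y hy => hAab x (hBA hx) y (hBA hy), hB2, hge⟩
    rw [hfixA'] at hAoff
    have h1 : Nat.card B * Nat.card W <
        2 * Nat.card B * Nat.card (W ⊓ (nv φ s).ker : Subgroup V) :=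
      lt_of_lt_of_le hlt (hAoff.trans (Nat.mul_le_mul_right _ hcardA2))
    have hBpos : 0 < Nat.card B := Nat.card_pos
    have h2 : Nat.card W < 2 * Nat.card (W ⊓ (nv φ s).ker : Subgroup V) := by
      by_contra hge
      push Not at hge
      have : 2 * Nat.card B * Nat.card (W ⊓ (nv φ s).ker : Subgroup V) ≤
          Nat.card B * Nat.card W := by
        calc 2 * Nat.card B * Nat.card (W ⊓ (nv φ s).ker : Subgroup V)
            = Nat.card B * (2 * Nat.card (W ⊓ (nv φ s).ker : Subgroup V)) := by ring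
          _ ≤ Nat.card B * Nat.card W := Nat.mul_le_mul_left _ hge
      omega
    have h3 : (W ⊓ (nv φ s).ker : Subgroup V) = W := by
      by_contra hne
      have hlt' : (W ⊓ (nv φ s).ker : Subgroup V) < W := lt_of_le_of_ne inf_le_left hne
      have := two_mul_card_le_of_lt hlt'
      omega
    have hstriv : ∀ u ∈ W, φ s u = u := by
      intro u hu
      rw [← h3] at hu
      exact (nv_eq_one_iff φ s u).mp hu.2
    exact hsB ⟨hsA, hfaith s hsA hstriv⟩
  -- conclusion
  have hB1 : Nat.card B = 1 := by rw [hBbot, Subgroup.card_bot]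
  have hs1 : s ≠ 1 := by
    intro h
    apply hsB
    rw [h]; exact B.one_mem
  refine ⟨s, hsA, ?_⟩
  apply isTransv_of_card hφ hV2 hs1
  have hWtop : W = ⊤ := by
    rw [hW, hBbot]
    ext v
    simp only [mem_fixV, mem_bot, forall_eq, act_one, mem_top]
  rw [hfixA', hWtop, top_inf_eq] at hAoff
  rw [fixV_zpowers]
  calc Nat.card V ≤ Nat.card A * Nat.card (nv φ s).ker := hAoff
    _ ≤ 2 * Nat.card B * Nat.card (nv φ s).ker := Nat.mul_le_mul_right _ hcardA2
    _ = 2 * Nat.card (nv φ s).ker := by rw [hB1, mul_one]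

/-- An offender containing a transvection `t` splits as `A₁ ⊔ ⟨t⟩` with `A₁` an offender of half
the order. -/
theorem offender_split {A : Subgroup Γ} (hA : IsOffender φ A) {t : Γ} (htA : t ∈ A)
    (ht : IsTransv φ t) :
    ∃ A₁ : Subgroup Γ, A₁ ≤ A ∧ IsOffender φ A₁ ∧ A ≤ A₁ ⊔ zpowers t ∧
      2 * Nat.card A₁ ≤ Nat.card A := by
  classical
  haveI : Fact (Nat.Prime 3) := ⟨Nat.prime_three⟩
  haveI hPn := Cfsg.Agent.Lib.Helper1.pCore_normal (G := Γ) 3
  obtain ⟨hAab, hA2, hAoff⟩ := hA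
  obtain ⟨w, htw⟩ := ht
  obtain ⟨z, hzP, hz1, hinv⟩ := exists_inverted φ hφ hV2 hO2 htw
  have hoddz := odd_orderOf_of_mem_pCore (q := 3) (by norm_num) hzP
  obtain ⟨hN, hwR⟩ := nice_of_inverted φ hφ hV2 htw hz1 hoddz hinv
  set R := (nv φ z).range with hR
  have hw1 : w ≠ 1 := htw.1
  have htinv : t⁻¹ = t := htw.inv_eq hφ hV2
  -- every element of `A` normalizes `⟨z⟩`
  have hconj : ∀ a ∈ A, a * z * a⁻¹ = z ∨ a * z * a⁻¹ = z⁻¹ := by
    intro a ha
    have h1 : a * z * a⁻¹ ∈ pCore 3 Γ := hPn.conj_mem z hzP a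
    have h2 : a * z * a⁻¹ ≠ 1 := by
      intro h
      apply hz1
      have : z = a⁻¹ * (a * z * a⁻¹) * a := by group
      rw [this, h, mul_one, inv_mul_cancel]
    have hat : a * t = t * a := hAab a ha t htA
    have h3 : t * (a * z * a⁻¹) * t⁻¹ = (a * z * a⁻¹)⁻¹ := by
      have hta : t * a = a * t := hat.symm
      have hta' : a⁻¹ * t⁻¹ = t⁻¹ * a⁻¹ := by
        rw [← mul_inv_rev, ← mul_inv_rev, hat]
      calc t * (a * z * a⁻¹) * t⁻¹ = (t * a) * z * (a⁻¹ * t⁻¹) := by group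
        _ = (a * t) * z * (t⁻¹ * a⁻¹) := by rw [hta, hta']
        _ = a * (t * z * t⁻¹) * a⁻¹ := by group
        _ = (a * z * a⁻¹)⁻¹ := by rw [hinv]; group
    exact inverted_unique φ hφ hV2 hO2 htw hzP h1 hz1 h2 hinv h3
  have hRinv : ∀ a ∈ A, ∀ u ∈ R, φ a u ∈ R := by
    rintro a ha _ ⟨v, rfl⟩
    rw [act_nv_conj]
    rcases hconj a ha with h | h
    · rw [h]; exact ⟨_, rfl⟩
    · rw [h, hR, ← range_nv_inv]; exact ⟨_, rfl⟩
  -- every element of `A` fixes `w`
  have haw : ∀ a ∈ A, φ a w = w := by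
    intro a ha
    obtain ⟨v₀, hv₀⟩ := htw.2.2
    have h1 : φ a w = nv φ t (φ a v₀) := by
      rw [← hv₀, act_nv_conj]
      have : a * t * a⁻¹ = t := by rw [hAab a ha t htA, mul_inv_cancel_right]
      rw [this]
    rcases htw.2.1 (φ a v₀) with h | h
    · rw [h] at h1
      exact absurd h1 (act_ne_one φ a hw1)
    · rw [h1, h]
  set b := φ z w with hb
  set c := φ (z ^ 2) w with hc
  have hbR : b ∈ R := act_mem_range φ z hwR
  have hcR : c ∈ R := act_pow_mem_range φ z hwR 2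
  have hb1 : b ≠ 1 := act_ne_one φ z hw1
  have hc1 : c ≠ 1 := act_ne_one φ _ hw1
  have hbw : b ≠ w := fun hh => hw1 (hN.no_fixed hV2 hwR hh)
  have hcw : c ≠ w := hN.act_sq_ne hV2 hwR hw1
  have hcb : c ≠ b := hN.act_sq_ne_act hV2 hwR hw1
  have hcases : ∀ r ∈ R, r = 1 ∨ r = w ∨ r = b ∨ r = c := fun r hr => hN.orbit hV2 hwR hw1 hr
  -- the action of an element of `A` on `R` is determined by the image of `b`
  have hab : ∀ a ∈ A, (φ a b = b ∧ φ a c = c) ∨ (φ a b = c ∧ φ a c = b) := by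
    intro a ha
    have h1 : φ a b ∈ R := hRinv a ha b hbR
    have h2 : φ a c ∈ R := hRinv a ha c hcR
    have h3 : φ a b ≠ w := fun hh => hbw (act_injective φ a (hh.trans (haw a ha).symm))
    have h4 : φ a c ≠ w := fun hh => hcw (act_injective φ a (hh.trans (haw a ha).symm))
    have h5 : φ a c ≠ φ a b := fun hh => hcb (act_injective φ a hh)
    rcases hcases _ h1 with h | h | h | h
    · exact absurd h (act_ne_one φ a hb1)
    · exact absurd h h3
    · left
      refine ⟨h, ?_⟩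
      rcases hcases _ h2 with h' | h' | h' | h'
      · exact absurd h' (act_ne_one φ a hc1)
      · exact absurd h' h4
      · exact absurd (h'.trans h.symm) h5
      · exact h'
    · right
      refine ⟨h, ?_⟩
      rcases hcases _ h2 with h' | h' | h' | h'
      · exact absurd h' (act_ne_one φ a hc1)
      · exact absurd h' h4
      · exact h'
      · exact absurd (h'.trans h.symm) h5
  -- `t` swaps `b` and `c`
  have htb : φ t b = c ∧ φ t c = b := by
    rcases hab t htA with h | h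
    · exfalso
      -- `t` is trivial on `R`, so `z` and `z⁻¹` agree on `R`
      have htR : ∀ r ∈ R, φ t r = r := by
        intro r hr
        rcases hcases r hr with rfl | rfl | rfl | rfl
        · exact map_one _
        · exact haw t htA
        · exact h.1
        · exact h.2
      have h1 : φ z⁻¹ w = φ z w := by
        rw [← hinv, act_mul, act_mul, htinv, htR w hwR, htR _ (act_mem_range φ z hwR)]
      have h2 : φ (z ^ 2) w = w := by
        rw [pow_two, act_mul, ← h1, act_act_inv]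
      exact hcw h2
    · exact h
  -- the subgroup of `A` acting trivially on `R`
  let A₁ : Subgroup Γ :=
    { carrier := {a | a ∈ A ∧ ∀ u ∈ R, φ a u = u}
      one_mem' := ⟨A.one_mem, fun u _ => act_one φ u⟩
      mul_mem' := by
        rintro x y ⟨hx, hx'⟩ ⟨hy, hy'⟩
        exact ⟨A.mul_mem hx hy, fun u hu => by rw [act_mul, hy' u hu, hx' u hu]⟩
      inv_mem' := by
        rintro x ⟨hx, hx'⟩
        refine ⟨A.inv_mem hx, fun u hu => ?_⟩
        nth_rewrite 1 [← hx' u hu]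
        exact act_inv_act φ x u }
  have hA₁A : A₁ ≤ A := fun a ha => ha.1
  have hmemA₁ : ∀ a, a ∈ A₁ ↔ a ∈ A ∧ ∀ u ∈ R, φ a u = u := fun a => Iff.rfl
  have htA₁ : t ∉ A₁ := by
    intro h
    have := ((hmemA₁ t).mp h).2 b hbR
    rw [htb.1] at this
    exact hcb this
  have hdich : ∀ a ∈ A, a ∈ A₁ ∨ a * t ∈ A₁ := by
    intro a ha
    rcases hab a ha with h | h
    · left
      refine ⟨ha, fun r hr => ?_⟩
      rcases hcases r hr with rfl | rfl | rfl | rfl
      · exact map_one _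
      · exact haw a ha
      · exact h.1
      · exact h.2
    · right
      refine ⟨A.mul_mem ha htA, fun r hr => ?_⟩
      rw [act_mul]
      rcases hcases r hr with rfl | rfl | rfl | rfl
      · rw [map_one, map_one]
      · rw [haw t htA, haw a ha]
      · rw [htb.1, h.2]
      · rw [htb.2, h.1]
  have hAle : A ≤ A₁ ⊔ zpowers t := by
    intro a ha
    rcases hdich a ha with h | h
    · exact le_sup_left (a := A₁) h
    · have : a = (a * t) * t⁻¹ := by group
      rw [this]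
      exact Subgroup.mul_mem _ (le_sup_left (a := A₁) h)
        (Subgroup.inv_mem _ (le_sup_right (a := A₁) (mem_zpowers t)))
  have hlt : A₁ < A := by
    refine lt_of_le_of_ne hA₁A ?_
    intro heq
    exact htA₁ (heq ▸ htA)
  have hcard1 : 2 * Nat.card A₁ ≤ Nat.card A := two_mul_card_le_of_lt' hlt
  have hcard2 : Nat.card A ≤ 2 * Nat.card A₁ := by
    apply card_le_of_forall_exists_zpow A A₁ hA₁A htA (by norm_num)
      (by rw [htw.sq hφ hV2]; exact A₁.one_mem)
    intro g hg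
    rcases hdich g hg with h | h
    · exact ⟨0, by rw [zpow_zero, mul_one]; exact h⟩
    · exact ⟨1, by rw [zpow_one]; exact h⟩
  -- fixed points
  have hfixlt : fixV φ A < fixV φ A₁ := by
    refine lt_of_le_of_ne (fixV_anti φ hA₁A) ?_
    intro heq
    have hb₁ : b ∈ fixV φ A₁ := fun a ha => ((hmemA₁ a).mp ha).2 b hbR
    rw [← heq] at hb₁
    have := hb₁ t htA
    rw [htb.1] at this
    exact hcb this
  have hfix2 : 2 * Nat.card (fixV φ A) ≤ Nat.card (fixV φ A₁) := two_mul_card_le_of_lt hfixlt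
  refine ⟨A₁, hA₁A, ⟨fun x hx y hy => hAab x (hA₁A hx) y (hA₁A hy), hA2.to_le hA₁A, ?_⟩, hAle,
    hcard1⟩
  calc Nat.card V ≤ Nat.card A * Nat.card (fixV φ A) := hAoff
    _ ≤ 2 * Nat.card A₁ * Nat.card (fixV φ A) := Nat.mul_le_mul_right _ hcard2
    _ = Nat.card A₁ * (2 * Nat.card (fixV φ A)) := by ring
    _ ≤ Nat.card A₁ * Nat.card (fixV φ A₁) := Nat.mul_le_mul_left _ hfix2

/-- Every offender is generated by the transvections it contains. -/
theorem offender_le_closure : ∀ (n : ℕ) (A : Subgroup Γ), Nat.card A = n → IsOffender φ A →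
    A ≤ closure {t | t ∈ A ∧ IsTransv φ t} := by
  intro n
  induction n using Nat.strong_induction_on with
  | _ n ih =>
    intro A hcard hA
    classical
    by_cases hA1 : A = ⊥
    · rw [hA1]; exact bot_le
    -- a minimal nontrivial offender inside `A`
    obtain ⟨A₀, ⟨hA₀A, hA₀1, hA₀off⟩, hmin⟩ :=
      Set.exists_min_image {D : Subgroup Γ | D ≤ A ∧ D ≠ ⊥ ∧ IsOffender φ D}
        (fun D => Nat.card D) (Set.toFinite _) ⟨A, le_rfl, hA1, hA⟩
    have hmin' : ∀ D : Subgroup Γ, D ≤ A₀ → D ≠ ⊥ → IsOffender φ D → D = A₀ := by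
      intro D hD hD1 hDoff
      exact Subgroup.eq_of_le_of_card_ge hD (hmin D ⟨hD.trans hA₀A, hD1, hDoff⟩)
    obtain ⟨t, htA₀, ht⟩ := isTransv_of_minimal_offender φ hφ hV2 hO2 hA₀off hA₀1 hmin'
    have htA : t ∈ A := hA₀A htA₀
    obtain ⟨A₁, hA₁A, hA₁off, hAle, hcard2⟩ := offender_split φ hφ hV2 hO2 hA htA ht
    have hlt : Nat.card A₁ < n := by
      have hpos : 0 < Nat.card A₁ := Nat.card_pos
      omega
    have h1 := ih _ hlt A₁ rfl hA₁off
    refine hAle.trans (sup_le (h1.trans ?_) ?_)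
    · apply Subgroup.closure_mono
      rintro x ⟨hx, hx'⟩
      exact ⟨hA₁A hx, hx'⟩
    · rw [zpowers_le]
      exact Subgroup.subset_closure ⟨htA, ht⟩

end Solvable

end Cfsg.Agent.Lib.Helper18.SolvOff
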