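import Mathlib
import Cfsg.Agent.Lib.Helper18.SolvOffF
import Cfsg.Agent.Lib.Helper18.S3Section

set_option autoImplicit false

/-!
# Normal subgroups generated by offenders are direct products of copies of `S₃`

`Γ` is a finite solvable group with `O₂(Γ) = 1` acting faithfully on an elementary abelian `2`-group
`V`.  A normal subgroup `L` of `Γ` generated by transvections (in particular, by offenders) is
isomorphic to a direct product of copies of the symmetric group of degree `3`.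
-/

namespace Cfsg.Agent.Lib.Helper18.SolvOff

open Subgroup Cfsg Cfsg.Agent.Lib.Helper18.OffenderTwo

variable {Γ : Type*} [Group Γ] {V : Type*} [CommGroup V] (φ : Γ →* MulAut V)

/-- Elements acting trivially on the fixed points of `z` and preserving the range of `nv φ z`. -/
def kin (z : Γ) : Subgroup Γ where
  carrier := {h | (∀ c, φ z c = c → φ h c = c) ∧
    ∀ u, u ∈ (nv φ z).range ↔ φ h u ∈ (nv φ z).range}
  one_mem' := ⟨fun c _ => act_one φ c, fun u => by rw [act_one]⟩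
  mul_mem' := by
    rintro x y ⟨hx1, hx2⟩ ⟨hy1, hy2⟩
    refine ⟨fun c hc => by rw [act_mul, hy1 c hc, hx1 c hc], fun u => ?_⟩
    rw [act_mul, ← hx2, ← hy2]
  inv_mem' := by
    rintro x ⟨hx1, hx2⟩
    refine ⟨fun c hc => ?_, fun u => ?_⟩
    · nth_rewrite 1 [← hx1 c hc]
      exact act_inv_act φ x c
    · rw [hx2 (φ x⁻¹ u), act_act_inv]

/-- Elements acting trivially on the range of `nv φ z` and commuting with `z`. -/
def kout (z : Γ) : Subgroup Γ where
  carrier := {h | (∀ u ∈ (nv φ z).range, φ h u = u) ∧ h * z = z * h}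
  one_mem' := ⟨fun u _ => act_one φ u, by rw [one_mul, mul_one]⟩
  mul_mem' := by
    rintro x y ⟨hx1, hx2⟩ ⟨hy1, hy2⟩
    refine ⟨fun u hu => by rw [act_mul, hy1 u hu, hx1 u hu], ?_⟩
    rw [mul_assoc, hy2, ← mul_assoc, hx2, mul_assoc]
  inv_mem' := by
    rintro x ⟨hx1, hx2⟩
    refine ⟨fun u hu => ?_, ?_⟩
    · nth_rewrite 1 [← hx1 u hu]
      exact act_inv_act φ x u
    · have h : Commute x z := hx2
      exact h.inv_left.eq

theorem mem_kin {z h : Γ} : h ∈ kin φ z ↔ (∀ c, φ z c = c → φ h c = c) ∧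
    ∀ u, u ∈ (nv φ z).range ↔ φ h u ∈ (nv φ z).range := Iff.rfl

theorem mem_kout {z h : Γ} : h ∈ kout φ z ↔ (∀ u ∈ (nv φ z).range, φ h u = u) ∧ h * z = z * h :=
  Iff.rfl

section Faithful

variable [Finite V] (hφ : Function.Injective φ) (hV2 : ∀ v : V, v ^ 2 = 1)
include hφ hV2

theorem commute_kin_kout {z : Γ} (hN : Nice φ z) {h h' : Γ} (hh : h ∈ kin φ z)
    (hh' : h' ∈ kout φ z) : h * h' = h' * h := by
  obtain ⟨h1, h2⟩ := hh
  obtain ⟨h1', h2'⟩ := hh'
  apply hφ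
  ext v
  obtain ⟨c, u, hc, hu, rfl⟩ := hN.decomp hV2 v
  have hc' : φ z (φ h' c) = φ h' c := by
    rw [← act_mul, ← h2', act_mul, hc]
  have e1 : φ h (φ h' (c * u)) = φ h' c * φ h u := by
    rw [map_mul, map_mul, h1' u hu, h1 _ hc']
  have e2 : φ h' (φ h (c * u)) = φ h' c * φ h u := by
    rw [map_mul, map_mul, h1 c hc, h1' _ ((h2 u).mp hu)]
  rw [act_mul, act_mul, e1, e2]

theorem kin_inf_kout {z : Γ} (hN : Nice φ z) : kin φ z ⊓ kout φ z = ⊥ := by
  rw [Subgroup.eq_bot_iff_forall]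
  rintro h ⟨⟨h1, -⟩, ⟨h1', -⟩⟩
  apply eq_one_of_act_trivial φ hφ
  intro v
  obtain ⟨c, u, hc, hu, rfl⟩ := hN.decomp hV2 v
  rw [map_mul, h1 c hc, h1' u hu]

theorem self_mem_kin {z : Γ} (hN : Nice φ z) : z ∈ kin φ z := by
  refine ⟨fun c hc => hc, fun u => ⟨fun hu => act_mem_range φ z hu, fun hu => ?_⟩⟩
  have h1 := act_pow_mem_range φ z hu 2
  rwa [← act_mul, ← pow_succ, hN.pow_three, act_one] at h1

theorem transv_mem_kin {d : Γ} {w : V} (hd : IsTransvW φ d w) {z : Γ} (hN : Nice φ z)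
    (hwR : w ∈ (nv φ z).range) (hinv : d * z * d⁻¹ = z⁻¹) : d ∈ kin φ z := by
  refine ⟨fun c hc => transv_trivial_on_fix φ hφ hV2 hd hN hwR hinv hc,
    fun u => ⟨fun hu => act_mem_range_of_inverts φ hinv hu, fun hu => ?_⟩⟩
  have h1 := act_mem_range_of_inverts φ hinv hu
  rwa [← act_mul, ← pow_two, hd.sq hφ hV2, act_one] at h1

end Faithful

/-- The data attached to a transvection of `L`. -/
structure TData (L : Subgroup Γ) (d z : Γ) (w : V) : Prop where
  mem : d ∈ L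
  tr : IsTransvW φ d w
  zmem : z ∈ pCore 3 Γ
  zne : z ≠ 1
  inv : d * z * d⁻¹ = z⁻¹

section Solvable

variable [Finite Γ] [Group.IsSolvable Γ] [Finite V] (hφ : Function.Injective φ)
  (hV2 : ∀ v : V, v ^ 2 = 1) (hO2 : pCore 2 Γ = ⊥)
include hφ hV2 hO2

theorem TData.nice {L : Subgroup Γ} {d z : Γ} {w : V} (h : TData φ L d z w) :
    Nice φ z ∧ w ∈ (nv φ z).range := by
  haveI : Fact (Nat.Prime 3) := ⟨Nat.prime_three⟩
  have hoddz := odd_orderOf_of_mem_pCore (q := 3) (by norm_num) h.zmem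
  exact nice_of_inverted φ hφ hV2 h.tr h.zne hoddz h.inv

theorem TData.closure_le_kin {L : Subgroup Γ} {d z : Γ} {w : V} (h : TData φ L d z w) :
    closure ({d, z * d * z⁻¹} : Set Γ) ≤ kin φ z := by
  obtain ⟨hN, hwR⟩ := h.nice φ hφ hV2 hO2
  have hd : d ∈ kin φ z := transv_mem_kin φ hφ hV2 h.tr hN hwR h.inv
  have hz : z ∈ kin φ z := self_mem_kin φ hφ hV2 hN
  rw [closure_le]
  rintro x (rfl | rfl)
  · exact hd
  · exact (kin φ z).mul_mem ((kin φ z).mul_mem hz hd) ((kin φ z).inv_mem hz)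

theorem TData.closure_le_kout {L : Subgroup Γ} {d z d' z' : Γ} {w w' : V} (h : TData φ L d z w)
    (h' : TData φ L d' z' w') (hne : ¬ (z' = z ∨ z' = z⁻¹)) :
    closure ({d', z' * d' * z'⁻¹} : Set Γ) ≤ kout φ z := by
  have hne' : ¬ (z = z' ∨ z = z'⁻¹) := by
    rintro (hh | hh)
    · exact hne (Or.inl hh.symm)
    · exact hne (Or.inr (by rw [hh, inv_inv]))
  obtain ⟨-, -, -, hz'R⟩ :=
    commute_of_ne φ hφ hV2 hO2 h.tr h'.tr h.zmem h'.zmem h.zne h'.zne h.inv h'.inv hne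
  obtain ⟨hd'z, hd'R, -, -⟩ :=
    commute_of_ne φ hφ hV2 hO2 h'.tr h.tr h'.zmem h.zmem h'.zne h.zne h'.inv h.inv hne'
  have hzz' : z' * z = z * z' := inverted_central φ hφ hV2 hO2 h.tr h.zmem h.zne h.inv h'.zmem
  have hd' : d' ∈ kout φ z := ⟨hd'R, hd'z⟩
  have hz' : z' ∈ kout φ z := ⟨hz'R, hzz'⟩
  rw [closure_le]
  rintro x (rfl | rfl)
  · exact hd'
  · exact (kout φ z).mul_mem ((kout φ z).mul_mem hz' hd') ((kout φ z).inv_mem hz')

/-- A normal subgroup generated by transvections is a direct product of copies of `S₃`. -/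
theorem exists_mulEquiv_pi_perm_three_of_transv (L : Subgroup Γ) [hLn : L.Normal]
    (hgen : L ≤ closure {t | t ∈ L ∧ IsTransv φ t}) :
    ∃ n : ℕ, Nonempty (↥L ≃* (Fin n → Equiv.Perm (Fin 3))) := by
  classical
  haveI : Fact (Nat.Prime 3) := ⟨Nat.prime_three⟩
  -- the index set
  let ι := {Z : Subgroup Γ // ∃ d z w, TData φ L d z w ∧ Z = zpowers z}
  choose d z w hdata hZ using fun Z : ι => Z.2
  let H : ι → Subgroup Γ := fun Z => closure ({d Z, z Z * d Z * (z Z)⁻¹} : Set Γ)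
  have hne : ∀ Z Z' : ι, Z ≠ Z' → ¬ (z Z' = z Z ∨ z Z' = (z Z)⁻¹) := by
    intro Z Z' hZZ' hcon
    apply hZZ'
    apply Subtype.ext
    rw [hZ Z, hZ Z']
    rcases hcon with h | h
    · rw [h]
    · rw [h, zpowers_inv]
  have hHkin : ∀ Z : ι, H Z ≤ kin φ (z Z) := fun Z =>
    (hdata Z).closure_le_kin φ hφ hV2 hO2
  have hHkout : ∀ Z Z' : ι, Z ≠ Z' → H Z' ≤ kout φ (z Z) := fun Z Z' hZZ' =>
    (hdata Z).closure_le_kout φ hφ hV2 hO2 (hdata Z') (hne Z Z' hZZ')
  have hnice : ∀ Z : ι, Nice φ (z Z) := fun Z => ((hdata Z).nice φ hφ hV2 hO2).1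
  have hcomm : Pairwise fun Z Z' : ι => ∀ x y : Γ, x ∈ H Z → y ∈ H Z' → Commute x y := by
    intro Z Z' hZZ' x y hx hy
    exact commute_kin_kout φ hφ hV2 (hnice Z) (hHkin Z hx) (hHkout Z Z' hZZ' hy)
  have hind : iSupIndep H := by
    intro Z
    rw [disjoint_iff, eq_bot_iff, ← kin_inf_kout φ hφ hV2 (hnice Z)]
    refine le_inf (inf_le_left.trans (hHkin Z)) (inf_le_right.trans ?_)
    exact iSup₂_le fun Z' hZ' => hHkout Z Z' (Ne.symm hZ')
  have hsup : ⨆ Z, H Z = L := by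
    apply le_antisymm
    · apply iSup_le
      intro Z
      rw [closure_le]
      rintro x (rfl | rfl)
      · exact (hdata Z).mem
      · exact hLn.conj_mem _ (hdata Z).mem _
    · refine hgen.trans ?_
      rw [closure_le]
      rintro t ⟨htL, w₁, htw⟩
      obtain ⟨z₁, hz₁P, hz₁1, hinv₁⟩ := exists_inverted φ hφ hV2 hO2 htw
      have hT : TData φ L t z₁ w₁ := ⟨htL, htw, hz₁P, hz₁1, hinv₁⟩
      let Z₀ : ι := ⟨zpowers z₁, t, z₁, w₁, hT, rfl⟩
      have hZ₀ : zpowers z₁ = zpowers (z Z₀) := hZ Z₀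
      have hmem : z Z₀ ∈ zpowers z₁ := by rw [hZ₀]; exact mem_zpowers _
      have hz₁3 : z₁ ^ 3 = 1 := (hT.nice φ hφ hV2 hO2).1.pow_three
      have hinv₀ : t * z Z₀ * t⁻¹ = (z Z₀)⁻¹ := by
        rcases mem_zpowers_three hz₁3 hmem with h | h | h
        · exact absurd h (hdata Z₀).zne
        · rw [h]; exact hinv₁
        · rw [h, inv_inv]
          have : t * z₁⁻¹ * t⁻¹ = (t * z₁ * t⁻¹)⁻¹ := by group
          rw [this, hinv₁, inv_inv]
      have h1 : t ∈ H Z₀ :=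
        mem_closure_of_same φ hφ hV2 hO2 htw (hdata Z₀).tr (hdata Z₀).zmem (hdata Z₀).zne hinv₀
          (hdata Z₀).inv
      exact (le_iSup H Z₀) h1
  -- the isomorphism
  haveI : Fintype ι := Fintype.ofFinite ι
  have hinj := Subgroup.injective_noncommPiCoprod_of_iSupIndep (hcomm := hcomm) hind
  have hrange : (Subgroup.noncommPiCoprod hcomm).range = L := by
    rw [Subgroup.noncommPiCoprod_range, hsup]
  have e3 : ∀ Z : ι, ↥(H Z) ≃* Equiv.Perm (Fin 3) := fun Z =>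
    (Cfsg.Agent.Lib.Helper18.S3Section.nonempty_closure_mulEquiv_perm_three (d Z) (z Z)
      ((hdata Z).tr.sq hφ hV2) (hdata Z).zne (hnice Z).pow_three (hdata Z).inv).some
  refine ⟨Nat.card ι, ⟨?_⟩⟩
  exact ((MulEquiv.subgroupCongr hrange).symm.trans
    ((MonoidHom.ofInjective hinj).symm.trans
      ((MulEquiv.piCongrRight e3).trans
        (MulEquiv.arrowCongr (Finite.equivFin ι) (MulEquiv.refl _)))))

/-- A normal subgroup generated by offenders is a direct product of copies of `S₃`. -/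
theorem exists_mulEquiv_pi_perm_three {κ : Type*} (𝒜 : κ → Subgroup Γ)
    (h𝒜 : ∀ i, IsOffender φ (𝒜 i)) (L : Subgroup Γ) [hLn : L.Normal] (hL : L = ⨆ i, 𝒜 i) :
    ∃ n : ℕ, Nonempty (↥L ≃* (Fin n → Equiv.Perm (Fin 3))) := by
  apply exists_mulEquiv_pi_perm_three_of_transv φ hφ hV2 hO2 L
  have hle : ∀ i, 𝒜 i ≤ L := fun i => by rw [hL]; exact le_iSup 𝒜 i
  nth_rewrite 1 [hL]
  apply iSup_le
  intro i
  refine (offender_le_closure φ hφ hV2 hO2 _ (𝒜 i) rfl (h𝒜 i)).trans ?_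
  apply Subgroup.closure_mono
  rintro t ⟨ht, ht'⟩
  exact ⟨hle i ht, ht'⟩

end Solvable

end Cfsg.Agent.Lib.Helper18.SolvOff
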