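import Mathlib
import Cfsg.Agent.Lib.Helper18.SolvOffG
import Cfsg.Agent.Lib.Helper18.MaxAbelian
import Cfsg.Agent.Lib.Helper18.ProductFormula
import Cfsg.Agent.Lib.Helper1.Hall
import Cfsg.Agent.Lib.Helper23.SylowCount

set_option autoImplicit false

/-!
# Failure of factorization in solvable groups: the bridge to the abstract theorem

General lemmas used to apply `exists_mulEquiv_pi_perm_three` to a finite solvable group `X` acting
by conjugation on a normal elementary abelian `2`-subgroup `V₁`.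
-/

namespace Cfsg.Agent.Lib.Helper18.SolvOff

open Subgroup Cfsg Cfsg.Agent.Lib.Helper18 Cfsg.Agent.Lib.Helper18.OffenderTwo

variable {X : Type*} [Group X]

/-- The normal core of the centralizer of `Z` is the centralizer of the normal closure of `Z`. -/
theorem normalCore_centralizer_eq (Z : Subgroup X) :
    (centralizer (Z : Set X)).normalCore = centralizer (normalClosure (Z : Set X) : Set X) := by
  apply le_antisymm
  · intro x hx
    have hK : normalClosure (Z : Set X) ≤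
        centralizer (((centralizer (Z : Set X)).normalCore : Subgroup X) : Set X) := by
      apply normalClosure_le_normal
      intro z hz
      rw [SetLike.mem_coe, mem_centralizer_iff]
      intro y hy
      have hy' : y ∈ centralizer (Z : Set X) := normalCore_le _ hy
      exact (mem_centralizer_iff.mp hy' z hz).symm
    rw [mem_centralizer_iff]
    intro v hv
    exact (mem_centralizer_iff.mp (hK hv) x hx).symm
  · rw [Subgroup.normal_le_normalCore]
    exact Subgroup.centralizer_le subset_normalClosure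

/-- An element of odd order normalizing an abelian `2`-group `V'` and centralizing its elements of
order at most `2` centralizes `V'`. -/
theorem conj_eq_of_conj_eq_omega (V' : Subgroup X)
    (hab : ∀ a ∈ V', ∀ b ∈ V', a * b = b * a) (h2 : IsPGroup 2 V') {x : X}
    (hx : ∀ v ∈ V', x * v * x⁻¹ ∈ V') (hodd : Odd (orderOf x))
    (hΩ : ∀ v ∈ V', v ^ 2 = 1 → x * v * x⁻¹ = v) : ∀ v ∈ V', x * v * x⁻¹ = v := by
  have key : ∀ k : ℕ, ∀ v ∈ V', v ^ 2 ^ k = 1 → x * v * x⁻¹ = v := by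
    intro k
    induction k with
    | zero =>
      intro v _ h
      rw [pow_zero, pow_one] at h
      rw [h, mul_one, mul_inv_cancel]
    | succ k ih =>
      intro v hv h
      have hv2 : (v ^ 2) ^ 2 ^ k = 1 := by rw [← pow_mul, ← pow_succ']; exact h
      have h1 : x * v ^ 2 * x⁻¹ = v ^ 2 := ih _ (V'.pow_mem hv 2) hv2
      obtain ⟨u, hu⟩ : ∃ u, u = x * v * x⁻¹ * v⁻¹ := ⟨_, rfl⟩
      have hxv : x * v * x⁻¹ ∈ V' := hx v hv
      have huV : u ∈ V' := by rw [hu]; exact V'.mul_mem hxv (V'.inv_mem hv)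
      have hu2 : u ^ 2 = 1 := by
        have hc : v⁻¹ * (x * v * x⁻¹) = (x * v * x⁻¹) * v⁻¹ := hab _ (V'.inv_mem hv) _ hxv
        have h1' : x * (v * v) * x⁻¹ = v * v := by rw [← pow_two]; exact h1
        calc u ^ 2 = (x * v * x⁻¹) * (v⁻¹ * (x * v * x⁻¹)) * v⁻¹ := by rw [pow_two, hu]; group
          _ = (x * v * x⁻¹) * ((x * v * x⁻¹) * v⁻¹) * v⁻¹ := by rw [hc]
          _ = (x * (v * v) * x⁻¹) * (v * v)⁻¹ := by group
          _ = 1 := by rw [h1', mul_inv_cancel]
      have hxu : x * u * x⁻¹ = u := hΩ u huV hu2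
      have hxv' : x * v * x⁻¹ = u * v := by rw [hu]; group
      have hx2 : x ^ 2 * v * (x ^ 2)⁻¹ = v := by
        have hu2' : u * u = 1 := by rw [← pow_two]; exact hu2
        calc x ^ 2 * v * (x ^ 2)⁻¹ = x * (x * v * x⁻¹) * x⁻¹ := by rw [pow_two]; group
          _ = x * (u * v) * x⁻¹ := by rw [hxv']
          _ = (x * u * x⁻¹) * (x * v * x⁻¹) := by group
          _ = u * (u * v) := by rw [hxu, hxv']
          _ = (u * u) * v := by group
          _ = v := by rw [hu2', one_mul]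
      have hcop : Nat.Coprime 2 (orderOf x) := Nat.coprime_two_left.mpr hodd
      obtain ⟨m, hm⟩ := exists_pow_eq_self_of_coprime hcop
      have hcomm : Commute (x ^ 2) v := by
        show x ^ 2 * v = v * x ^ 2
        calc x ^ 2 * v = (x ^ 2 * v * (x ^ 2)⁻¹) * x ^ 2 := by group
          _ = v * x ^ 2 := by rw [hx2]
      have hcomm' : Commute x v := by
        have := hcomm.pow_left m
        rwa [hm] at this
      calc x * v * x⁻¹ = v * x * x⁻¹ := by rw [hcomm'.eq]
        _ = v := by group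
  intro v hv
  obtain ⟨k, hk⟩ := h2 ⟨v, hv⟩
  have hk' : v ^ 2 ^ k = 1 := by
    have := congrArg Subtype.val hk
    simpa using this
  exact key k v hv hk'

/-- The subgroup of elements of order at most `2` of an abelian subgroup. -/
def omegaTwo (V' : Subgroup X) (hab : ∀ a ∈ V', ∀ b ∈ V', a * b = b * a) : Subgroup X where
  carrier := {v | v ∈ V' ∧ v ^ 2 = 1}
  one_mem' := ⟨V'.one_mem, one_pow 2⟩
  mul_mem' := by
    rintro a b ⟨ha, ha2⟩ ⟨hb, hb2⟩
    refine ⟨V'.mul_mem ha hb, ?_⟩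
    have hc : Commute a b := hab a ha b hb
    rw [hc.mul_pow, ha2, hb2, one_mul]
  inv_mem' := by
    rintro a ⟨ha, ha2⟩
    exact ⟨V'.inv_mem ha, by rw [inv_pow, ha2, inv_one]⟩

theorem mem_omegaTwo {V' : Subgroup X} {hab : ∀ a ∈ V', ∀ b ∈ V', a * b = b * a} {v : X} :
    v ∈ omegaTwo V' hab ↔ v ∈ V' ∧ v ^ 2 = 1 := Iff.rfl

theorem omegaTwo_le (V' : Subgroup X) (hab : ∀ a ∈ V', ∀ b ∈ V', a * b = b * a) :
    omegaTwo V' hab ≤ V' := fun _ hv => hv.1

theorem omegaTwo_normal (V' : Subgroup X) [hn : V'.Normal]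
    (hab : ∀ a ∈ V', ∀ b ∈ V', a * b = b * a) : (omegaTwo V' hab).Normal := by
  constructor
  rintro v ⟨hv, hv2⟩ g
  exact ⟨hn.conj_mem v hv g, by rw [conj_pow, hv2, mul_one, mul_inv_cancel]⟩

/-- Conjugates of abelian subgroups of largest order. -/
theorem isMaxAbIn_cj {S B : Subgroup X} (h : IsMaxAbIn S B) (g : X) :
    IsMaxAbIn (cj g S) (cj g B) := by
  obtain ⟨hBS, hBab, hmax⟩ := h
  refine ⟨cj_mono g hBS, ?_, ?_⟩
  · rintro _ ⟨a, ha, rfl⟩ _ ⟨b, hb, rfl⟩
    rw [← map_mul, ← map_mul, hBab a ha b hb]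
  · intro C hC hCc
    rw [card_cj]
    have h1 : cj g⁻¹ C ≤ S := by
      have := cj_mono g⁻¹ hC
      rwa [cj_inv_cj] at this
    have h2 : ∀ x ∈ cj g⁻¹ C, ∀ y ∈ cj g⁻¹ C, x * y = y * x := by
      rintro _ ⟨a, ha, rfl⟩ _ ⟨b, hb, rfl⟩
      rw [← map_mul, ← map_mul, hCc a ha b hb]
    have := hmax _ h1 h2
    rwa [card_cj] at this

/-- The normal closure of the Thompson subgroup is generated by the conjugates of the abelian
subgroups of largest order. -/
theorem normalClosure_thompsonSubgroupAOf_eq (T : Subgroup X) :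
    normalClosure (Cfsg.thompsonSubgroupAOf T : Set X) =
      ⨆ p : X × {A : Subgroup X // IsMaxAbIn T A}, cj p.1 p.2.1 := by
  have hn : (⨆ p : X × {A : Subgroup X // IsMaxAbIn T A}, cj p.1 p.2.1).Normal := by
    constructor
    intro n hn g
    have h1 : g * n * g⁻¹ ∈ (⨆ p : X × {A : Subgroup X // IsMaxAbIn T A}, cj p.1 p.2.1).map
        (MulAut.conj g).toMonoidHom := conj_mem_cj g _ hn
    rw [Subgroup.map_iSup] at h1
    have hle : (⨆ p : X × {A : Subgroup X // IsMaxAbIn T A},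
        (cj p.1 p.2.1).map (MulAut.conj g).toMonoidHom) ≤
        ⨆ p : X × {A : Subgroup X // IsMaxAbIn T A}, cj p.1 p.2.1 := by
      apply iSup_le
      intro p
      have h2 : cj g (cj p.1 p.2.1) = cj (g * p.1) p.2.1 := cj_cj g p.1 p.2.1
      show cj g (cj p.1 p.2.1) ≤ _
      rw [h2]
      exact le_iSup (fun q : X × {A : Subgroup X // IsMaxAbIn T A} => cj q.1 q.2.1) (g * p.1, p.2)
    exact hle h1
  apply le_antisymm
  · apply normalClosure_le_normal
    rw [thompsonSubgroupAOf_eq_sSup]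
    show sSup {B | IsMaxAbIn T B} ≤ _
    apply sSup_le
    intro A hA
    have h1 := le_iSup (fun q : X × {A : Subgroup X // IsMaxAbIn T A} => cj q.1 q.2.1) (1, ⟨A, hA⟩)
    simp only [cj_one] at h1
    exact h1
  · apply iSup_le
    rintro ⟨x, A, hA⟩
    have hAJ : A ≤ Cfsg.thompsonSubgroupAOf T := by
      rw [thompsonSubgroupAOf_eq_sSup]
      exact le_sSup hA
    rintro _ ⟨a, ha, rfl⟩
    have h1 : a ∈ normalClosure (Cfsg.thompsonSubgroupAOf T : Set X) :=
      subset_normalClosure (hAJ ha)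
    exact (normalClosure_normal (s := (Cfsg.thompsonSubgroupAOf T : Set X))).conj_mem a h1 x

/-- Elements normalizing a subgroup `R` with `J(T) ≤ R ≤ T` normalize `J(T)`. -/
theorem normalizer_le_normalizer_thompson [Finite X] (T R : Subgroup X) (hRT : R ≤ T)
    (hJR : Cfsg.thompsonSubgroupAOf T ≤ R) :
    normalizer (R : Set X) ≤ normalizer (Cfsg.thompsonSubgroupAOf T : Set X) := by
  intro a ha
  rw [mem_normalizer_iff_cj] at ha ⊢
  apply cj_eq_of_le
  rw [cj_le_iff_le_cj_inv]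
  nth_rewrite 1 [thompsonSubgroupAOf_eq_sSup]
  apply sSup_le
  intro A hA
  rw [← cj_le_iff_le_cj_inv]
  have hAR : A ≤ R := by
    refine le_trans ?_ hJR
    rw [thompsonSubgroupAOf_eq_sSup]
    exact le_sSup hA
  have h1 : IsMaxAbIn (cj a T) (cj a A) := isMaxAbIn_cj hA a
  have h2 : IsMaxAbIn T (cj a A) := by
    refine ⟨?_, h1.2.1, ?_⟩
    · calc cj a A ≤ cj a R := cj_mono a hAR
        _ = R := ha
        _ ≤ T := hRT
    · intro C hC hCc
      rw [card_cj]
      exact hA.2.2 C hC hCc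
  rw [thompsonSubgroupAOf_eq_sSup]
  exact le_sSup h2

section Finite

variable [Finite X]

/-- The offender inequality for an abelian subgroup of largest order. -/
theorem offender_card_le (V₁ : Subgroup X) (hV₁ab : ∀ a ∈ V₁, ∀ b ∈ V₁, a * b = b * a)
    {S A : Subgroup X} (hA : IsMaxAbIn S A) (hVS : V₁ ≤ S) :
    Nat.card V₁ * Nat.card (A ⊓ centralizer (V₁ : Set X) : Subgroup X) ≤
      Nat.card A * Nat.card (V₁ ⊓ centralizer (A : Set X) : Subgroup X) := by
  obtain ⟨hAS, hAab, hAmax⟩ := hA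
  obtain ⟨A₀, hA₀⟩ : ∃ A₀ : Subgroup X, A₀ = A ⊓ centralizer (V₁ : Set X) := ⟨_, rfl⟩
  rw [← hA₀]
  have hA₀A : A₀ ≤ A := by rw [hA₀]; exact inf_le_left
  have hA₀C : A₀ ≤ centralizer (V₁ : Set X) := by rw [hA₀]; exact inf_le_right
  have hVA₀ : V₁ ≤ centralizer (A₀ : Set X) := Subgroup.le_centralizer_iff.mp hA₀C
  have hA₀A₀ : A₀ ≤ centralizer (A₀ : Set X) := by
    intro x hx
    rw [mem_centralizer_iff]
    intro y hy
    exact hAab y (hA₀A hy) x (hA₀A hx)
  have hVV : V₁ ≤ centralizer (V₁ : Set X) := by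
    intro x hx
    rw [mem_centralizer_iff]
    intro y hy
    exact hV₁ab y hy x hx
  have hBA₀ : A₀ ⊔ V₁ ≤ centralizer (A₀ : Set X) := sup_le hA₀A₀ hVA₀
  have hBV : A₀ ⊔ V₁ ≤ centralizer (V₁ : Set X) := sup_le hA₀C hVV
  have hBB : A₀ ⊔ V₁ ≤ centralizer ((A₀ ⊔ V₁ : Subgroup X) : Set X) :=
    sup_le (Subgroup.le_centralizer_iff.mp hBA₀) (Subgroup.le_centralizer_iff.mp hBV)
  have hBab : ∀ x ∈ A₀ ⊔ V₁, ∀ y ∈ A₀ ⊔ V₁, x * y = y * x := fun x hx y hy =>
    mem_centralizer_iff.mp (hBB hy) x hx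
  have hBS : A₀ ⊔ V₁ ≤ S := sup_le (hA₀A.trans hAS) hVS
  have h1 : Nat.card (A₀ ⊔ V₁ : Subgroup X) ≤ Nat.card A := hAmax _ hBS hBab
  have h2 := card_mul_card_le_card_sup_mul_card_inf A₀ V₁
  have h3 : (A₀ ⊓ V₁ : Subgroup X) ≤ V₁ ⊓ centralizer (A : Set X) := by
    intro x hx
    obtain ⟨hx1, hx2⟩ := Subgroup.mem_inf.mp hx
    refine Subgroup.mem_inf.mpr ⟨hx2, ?_⟩
    rw [mem_centralizer_iff]
    intro y hy
    exact hAab y hy x (hA₀A hx1)
  have h4 : Nat.card (A₀ ⊓ V₁ : Subgroup X) ≤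
      Nat.card (V₁ ⊓ centralizer (A : Set X) : Subgroup X) := Subgroup.card_le_of_le h3
  calc Nat.card V₁ * Nat.card A₀ = Nat.card A₀ * Nat.card V₁ := mul_comm _ _
    _ ≤ Nat.card (A₀ ⊔ V₁ : Subgroup X) * Nat.card (A₀ ⊓ V₁ : Subgroup X) := h2
    _ ≤ Nat.card A * Nat.card (V₁ ⊓ centralizer (A : Set X) : Subgroup X) :=
        Nat.mul_le_mul h1 h4

/-- A normal subgroup all of whose elements of odd order centralize the normal closure `V'` of
`Z(T)` centralizes `V'`. -/
theorem le_centralizer_of_odd (T : Sylow 2 X) (D : Subgroup X) [hDn : D.Normal]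
    (hodd : ∀ x ∈ D, Odd (orderOf x) → x ∈ centralizer (normalClosure
      (((T : Subgroup X) ⊓ centralizer ((T : Subgroup X) : Set X) : Subgroup X) : Set X) : Set X)) :
    D ≤ centralizer (normalClosure
      (((T : Subgroup X) ⊓ centralizer ((T : Subgroup X) : Set X) : Subgroup X) : Set X) : Set X) := by
  classical
  haveI : Fact (Nat.Prime 2) := ⟨Nat.prime_two⟩
  obtain ⟨V', hV'⟩ : ∃ V' : Subgroup X, V' = normalClosure
    (((T : Subgroup X) ⊓ centralizer ((T : Subgroup X) : Set X) : Subgroup X) : Set X) := ⟨_, rfl⟩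
  rw [← hV'] at hodd ⊢
  haveI hV'n : V'.Normal := by rw [hV']; exact normalClosure_normal
  obtain ⟨C, hC⟩ : ∃ C : Subgroup X, C = centralizer (V' : Set X) := ⟨_, rfl⟩
  rw [← hC] at hodd ⊢
  haveI hCn : C.Normal := by rw [hC]; exact Subgroup.normal_centralizer
  obtain ⟨S, hS⟩ : ∃ S : Subgroup X, S = (T : Subgroup X) ⊓ D := ⟨_, rfl⟩
  have hSD : S ≤ D := by rw [hS]; exact inf_le_right
  have hST : S ≤ T := by rw [hS]; exact inf_le_left
  haveI hD₀n : (D ⊓ C).Normal := inferInstance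
  -- Step 1
  have hstep1 : D ≤ (D ⊓ C) ⊔ S := by
    rw [← Subgroup.relIndex_eq_one]
    have h1 : ¬ 2 ∣ S.relIndex D := by
      rw [hS]; exact Cfsg.Agent.Lib.Helper23.not_dvd_relIndex_inf_normal T D
    have h2 : ((D ⊓ C) ⊔ S).relIndex D ∣ S.relIndex D :=
      Subgroup.relIndex_dvd_of_le_left D le_sup_right
    have h3 : ((D ⊓ C) ⊔ S).relIndex D ∣ (D ⊓ C).relIndex D :=
      Subgroup.relIndex_dvd_of_le_left D le_sup_left
    have h4 : ∃ n, (D ⊓ C).relIndex D = 2 ^ n := by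
      have hP : IsPGroup 2 (↥D ⧸ (D ⊓ C).subgroupOf D) := by
        intro g
        obtain ⟨x, rfl⟩ := QuotientGroup.mk_surjective g
        obtain ⟨k, m, hm, hkm⟩ := Nat.exists_eq_two_pow_mul_odd (orderOf_pos (x : X)).ne'
        refine ⟨k, ?_⟩
        rw [← QuotientGroup.mk_pow, QuotientGroup.eq_one_iff, Subgroup.mem_subgroupOf,
          Subgroup.coe_pow]
        have hy : ((x : X) ^ 2 ^ k) ^ m = 1 := by rw [← pow_mul, ← hkm, pow_orderOf_eq_one]
        have hyodd : Odd (orderOf ((x : X) ^ 2 ^ k)) :=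
          Odd.of_dvd_nat hm (orderOf_dvd_of_pow_eq_one hy)
        exact ⟨D.pow_mem x.2 _, hodd _ (D.pow_mem x.2 _) hyodd⟩
      obtain ⟨n, hn⟩ := IsPGroup.iff_card.mp hP
      exact ⟨n, hn⟩
    obtain ⟨n, hn⟩ := h4
    rw [hn] at h3
    obtain ⟨j, -, hj⟩ := (Nat.dvd_prime_pow Nat.prime_two).mp h3
    rcases Nat.eq_zero_or_pos j with h0 | hpos
    · rw [hj, h0, pow_zero]
    · exfalso
      apply h1
      exact dvd_trans (by rw [hj]; exact dvd_pow_self 2 hpos.ne') h2
  -- Step 2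
  obtain ⟨W, hW⟩ : ∃ W : Subgroup X, W = V' ⊓ centralizer (S : Set X) := ⟨_, rfl⟩
  have hmemW : ∀ w, w ∈ W ↔ w ∈ V' ∧ w ∈ centralizer (S : Set X) := by
    intro w; rw [hW]; exact Subgroup.mem_inf
  haveI hWn : W.Normal := by
    constructor
    intro w hw g
    obtain ⟨hwV, hwS⟩ := (hmemW w).mp hw
    obtain ⟨a, ha, c, hc, rfl⟩ := Cfsg.Agent.Lib.Helper16.frattini_inf_normal T D g
    rw [← hS] at ha
    have hc' : c ∈ (((D ⊓ C) ⊔ S : Subgroup X) : Set X) := hstep1 hc
    rw [Subgroup.normal_mul] at hc'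
    obtain ⟨c₀, hc₀, s, hs, rfl⟩ := hc'
    have hc₀C : c₀ ∈ centralizer (V' : Set X) := by
      rw [← hC]; exact (Subgroup.mem_inf.mp hc₀).2
    have h1 : c₀ * w * c₀⁻¹ = w := by
      have := mem_centralizer_iff.mp hc₀C w hwV
      rw [← this, mul_inv_cancel_right]
    have h2 : s * w * s⁻¹ = w := by
      have := mem_centralizer_iff.mp hwS s hs
      rw [this, mul_inv_cancel_right]
    have h3 : a * (c₀ * s) * w * (a * (c₀ * s))⁻¹ = a * w * a⁻¹ := by
      calc a * (c₀ * s) * w * (a * (c₀ * s))⁻¹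
          = a * (c₀ * (s * w * s⁻¹) * c₀⁻¹) * a⁻¹ := by group
        _ = a * w * a⁻¹ := by rw [h2, h1]
    rw [h3, hmemW]
    refine ⟨hV'n.conj_mem w hwV a, ?_⟩
    rw [mem_centralizer_iff]
    intro s' hs'
    have h4 : a⁻¹ * s' * a ∈ S := by
      have := (mem_normalizer_iff.mp ha (a⁻¹ * s' * a))
      rw [this]
      have e : a * (a⁻¹ * s' * a) * a⁻¹ = s' := by group
      rw [e]; exact hs'
    have h5 := mem_centralizer_iff.mp hwS _ h4
    calc s' * (a * w * a⁻¹) = a * ((a⁻¹ * s' * a) * w) * a⁻¹ := by group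
      _ = a * (w * (a⁻¹ * s' * a)) * a⁻¹ := by rw [h5]
      _ = a * w * a⁻¹ * s' := by group
  -- Step 3
  have hZW : ((((T : Subgroup X) ⊓ centralizer ((T : Subgroup X) : Set X) : Subgroup X)) : Set X) ⊆
      W := by
    intro z hz
    rw [SetLike.mem_coe, hmemW]
    refine ⟨?_, ?_⟩
    · rw [hV']; exact subset_normalClosure hz
    · exact Subgroup.centralizer_le (show (S : Set X) ⊆ ((T : Subgroup X) : Set X) from hST)
        (Subgroup.mem_inf.mp hz).2
  have hV'W : V' ≤ W := by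
    rw [hV']
    exact normalClosure_le_normal hZW
  have hSC : S ≤ C := by
    intro x hx
    rw [hC, mem_centralizer_iff]
    intro v hv
    exact (mem_centralizer_iff.mp ((hmemW v).mp (hV'W hv)).2 x hx).symm
  exact hstep1.trans (sup_le inf_le_right hSC)

/-- The kernel of the conjugation action on a normal subgroup. -/
theorem ker_conjNormal (V₁ : Subgroup X) [hV₁n : V₁.Normal] :
    (MulAut.conjNormal (H := V₁)).ker = centralizer (V₁ : Set X) := by
  ext g
  rw [MonoidHom.mem_ker, mem_centralizer_iff]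
  constructor
  · intro h v hv
    have h1 : MulAut.conjNormal g (⟨v, hv⟩ : ↥V₁) = ⟨v, hv⟩ := by rw [h]; rfl
    have h2 : g * v * g⁻¹ = v := by
      have := congrArg Subtype.val h1
      rwa [MulAut.conjNormal_apply] at this
    calc v * g = (g * v * g⁻¹) * g := by rw [h2]
      _ = g * v := by group
  · intro h
    apply MulEquiv.ext
    intro v
    apply Subtype.ext
    rw [MulAut.conjNormal_apply]
    have := h v v.2
    rw [← this]
    simp

/-- If every normal subgroup of `X` whose elements of odd order centralize `V₁` centralizes `V₁`,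
then the group induced on `V₁` has trivial `2`-core. -/
theorem pCore_range_conjNormal_eq_bot (V₁ : Subgroup X) [hV₁n : V₁.Normal]
    (hD : ∀ D : Subgroup X, D.Normal → (∀ x ∈ D, Odd (orderOf x) → x ∈ centralizer (V₁ : Set X)) →
      D ≤ centralizer (V₁ : Set X)) :
    pCore 2 ↥(MulAut.conjNormal (H := V₁)).range = ⊥ := by
  haveI : Fact (Nat.Prime 2) := ⟨Nat.prime_two⟩
  obtain ⟨θ, hθ⟩ : ∃ θ : X →* ↥(MulAut.conjNormal (H := V₁)).range,
    θ = (MulAut.conjNormal (H := V₁)).rangeRestrict := ⟨_, rfl⟩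
  have hθs : Function.Surjective θ := by
    rw [hθ]; exact MonoidHom.rangeRestrict_surjective _
  have hker : θ.ker = centralizer (V₁ : Set X) := by
    rw [hθ, MonoidHom.ker_rangeRestrict, ker_conjNormal]
  haveI hPn := Cfsg.Agent.Lib.Helper1.pCore_normal (G := ↥(MulAut.conjNormal (H := V₁)).range) 2
  have hP2 := Cfsg.Agent.Lib.Helper1.pCore_isPGroup (G := ↥(MulAut.conjNormal (H := V₁)).range) 2
  have hDle := hD ((pCore 2 ↥(MulAut.conjNormal (H := V₁)).range).comap θ) (hPn.comap θ) (by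
    intro x hx hxodd
    have hx' : θ x ∈ pCore 2 ↥(MulAut.conjNormal (H := V₁)).range := hx
    obtain ⟨k, hk⟩ := hP2 ⟨θ x, hx'⟩
    have hk' : (θ x) ^ 2 ^ k = 1 := by
      have := congrArg Subtype.val hk
      simpa using this
    have h1 : orderOf (θ x) ∣ 2 ^ k := orderOf_dvd_of_pow_eq_one hk'
    have h2 : orderOf (θ x) ∣ orderOf x := orderOf_map_dvd θ x
    have h3 : Nat.Coprime (orderOf (θ x)) (2 ^ k) :=
      Nat.Coprime.pow_right k (Nat.coprime_two_right.mpr (Odd.of_dvd_nat hxodd h2))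
    have h4 : orderOf (θ x) = 1 := Nat.Coprime.eq_one_of_dvd h3 h1
    rw [← hker, MonoidHom.mem_ker]
    exact orderOf_eq_one_iff.mp h4)
  rw [Subgroup.eq_bot_iff_forall]
  intro y hy
  obtain ⟨x, rfl⟩ := hθs y
  have hx : x ∈ (pCore 2 ↥(MulAut.conjNormal (H := V₁)).range).comap θ := hy
  have := hDle hx
  rw [← hker, MonoidHom.mem_ker] at this
  exact this

end Finite

/-- The bridge: a normal subgroup `Y` of the finite solvable group `X` generated by abelian
`2`-subgroups satisfying the offender inequality on the normal elementary abelian `2`-subgroup `V₁`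
induces a direct product of copies of `S₃` on `V₁`, provided the group induced on `V₁` has trivial
`2`-core. -/
theorem exists_quotient_mulEquiv_pi_perm_three [Finite X] [Group.IsSolvable X] (V₁ : Subgroup X)
    [hV₁n : V₁.Normal] (hV₁ab : ∀ a ∈ V₁, ∀ b ∈ V₁, a * b = b * a) (hV₁2 : ∀ v ∈ V₁, v ^ 2 = 1)
    (hO2 : pCore 2 ↥(MulAut.conjNormal (H := V₁)).range = ⊥)
    {κ : Type*} (𝒜 : κ → Subgroup X)
    (hab : ∀ i, ∀ a ∈ 𝒜 i, ∀ b ∈ 𝒜 i, a * b = b * a)
    (h2 : ∀ i, IsPGroup 2 (𝒜 i))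
    (hoff : ∀ i, Nat.card V₁ * Nat.card (𝒜 i ⊓ centralizer (V₁ : Set X) : Subgroup X) ≤
      Nat.card (𝒜 i) * Nat.card (V₁ ⊓ centralizer (𝒜 i : Set X) : Subgroup X))
    (Y : Subgroup X) [hYn : Y.Normal] (hY : Y = ⨆ i, 𝒜 i) :
    ∃ n : ℕ, Nonempty (↥Y ⧸ (centralizer (V₁ : Set X)).subgroupOf Y ≃*
      (Fin n → Equiv.Perm (Fin 3))) := by
  classical
  letI : CommGroup ↥V₁ :=
    { (inferInstance : Group ↥V₁) with mul_comm := fun a b => Subtype.ext (hV₁ab a a.2 b b.2) }
  let ψ : X →* MulAut ↥V₁ := MulAut.conjNormal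
  let Γ : Subgroup (MulAut ↥V₁) := ψ.range
  let φ : ↥Γ →* MulAut ↥V₁ := Γ.subtype
  let θ : X →* ↥Γ := ψ.rangeRestrict
  have hθs : Function.Surjective θ := ψ.rangeRestrict_surjective
  have hφ : Function.Injective φ := Γ.subtype_injective
  have hV2 : ∀ v : ↥V₁, v ^ 2 = 1 := fun v =>
    Subtype.ext (by rw [Subgroup.coe_pow]; exact hV₁2 v v.2)
  haveI : Group.IsSolvable ↥Γ := Group.isSolvable_of_surjective hθs
  have hψval : ∀ (g : X) (v : ↥V₁), ((ψ g v : ↥V₁) : X) = g * (v : X) * g⁻¹ :=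
    fun g v => MulAut.conjNormal_apply g v
  have hφθ : ∀ (g : X) (v : ↥V₁), φ (θ g) v = ψ g v := fun g v => rfl
  have hker : θ.ker = centralizer (V₁ : Set X) := by
    rw [MonoidHom.ker_rangeRestrict]
    exact ker_conjNormal V₁
  have hfixcard : ∀ A : Subgroup X, Nat.card (fixV φ (A.map θ)) =
      Nat.card (V₁ ⊓ centralizer (A : Set X) : Subgroup X) := by
    intro A
    have heq : fixV φ (A.map θ) = (V₁ ⊓ centralizer (A : Set X)).subgroupOf V₁ := by
      ext v
      rw [mem_fixV, Subgroup.mem_subgroupOf]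
      constructor
      · intro h
        refine Subgroup.mem_inf.mpr ⟨v.2, ?_⟩
        rw [Subgroup.mem_centralizer_iff]
        intro y hy
        have h2 := h (θ y) (Subgroup.mem_map_of_mem θ hy)
        have h3 : y * (v : X) * y⁻¹ = v := by rw [← hψval, ← hφθ, h2]
        calc y * (v : X) = (y * v * y⁻¹) * y := by group
          _ = v * y := by rw [h3]
      · rintro h _ ⟨y, hy, rfl⟩
        apply Subtype.ext
        rw [hφθ, hψval]
        have h2 := Subgroup.mem_centralizer_iff.mp (Subgroup.mem_inf.mp h).2 y hy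
        rw [h2, mul_inv_cancel_right]
    rw [heq]
    exact Nat.card_congr (Subgroup.subgroupOfEquivOfLe inf_le_left).toEquiv
  have hOff : ∀ i, IsOffender φ ((𝒜 i).map θ) := by
    intro i
    refine ⟨?_, (h2 i).map θ, ?_⟩
    · rintro _ ⟨a, ha, rfl⟩ _ ⟨b, hb, rfl⟩
      rw [← map_mul, ← map_mul, hab i a ha b hb]
    · rw [hfixcard]
      have h1 := Cfsg.Agent.Lib.Helper1.card_map_mul_card_inf_ker θ (𝒜 i)
      rw [hker] at h1
      have h3 := hoff i
      have hpos : 0 < Nat.card (𝒜 i ⊓ centralizer (V₁ : Set X) : Subgroup X) := Nat.card_pos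
      have h4 : Nat.card (𝒜 i ⊓ centralizer (V₁ : Set X) : Subgroup X) * Nat.card ↥V₁ ≤
          Nat.card (𝒜 i ⊓ centralizer (V₁ : Set X) : Subgroup X) *
            (Nat.card ((𝒜 i).map θ) *
              Nat.card (V₁ ⊓ centralizer (𝒜 i : Set X) : Subgroup X)) := by
        calc Nat.card (𝒜 i ⊓ centralizer (V₁ : Set X) : Subgroup X) * Nat.card ↥V₁
            = Nat.card V₁ * Nat.card (𝒜 i ⊓ centralizer (V₁ : Set X) : Subgroup X) :=
              mul_comm _ _
          _ ≤ Nat.card (𝒜 i) * Nat.card (V₁ ⊓ centralizer (𝒜 i : Set X) : Subgroup X) := h3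
          _ = (Nat.card ((𝒜 i).map θ) *
                Nat.card (𝒜 i ⊓ centralizer (V₁ : Set X) : Subgroup X)) *
              Nat.card (V₁ ⊓ centralizer (𝒜 i : Set X) : Subgroup X) := by rw [h1]
          _ = _ := by ring
      exact Nat.le_of_mul_le_mul_left h4 hpos
  obtain ⟨L, hL⟩ : ∃ L : Subgroup ↥Γ, L = Y.map θ := ⟨_, rfl⟩
  haveI hLn : L.Normal := by rw [hL]; exact hYn.map θ hθs
  have hLsup : L = ⨆ i, (𝒜 i).map θ := by rw [hL, hY, Subgroup.map_iSup]
  obtain ⟨n, ⟨e⟩⟩ := exists_mulEquiv_pi_perm_three φ hφ hV2 hO2 (fun i => (𝒜 i).map θ) hOff L hLsup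
  let f : ↥Y →* ↥(Y.map θ) := θ.subgroupMap Y
  have hfs : Function.Surjective f := θ.subgroupMap_surjective Y
  have hfker : f.ker = (centralizer (V₁ : Set X)).subgroupOf Y := by
    ext y
    rw [MonoidHom.mem_ker, Subgroup.mem_subgroupOf, ← hker, MonoidHom.mem_ker]
    constructor
    · intro h; exact congrArg Subtype.val h
    · intro h; exact Subtype.ext h
  refine ⟨n, ⟨?_⟩⟩
  exact ((QuotientGroup.quotientMulEquivOfEq hfker.symm).trans
    (QuotientGroup.quotientKerEquivOfSurjective f hfs)).trans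
      ((MulEquiv.subgroupCongr hL.symm).trans e)

end Cfsg.Agent.Lib.Helper18.SolvOff
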