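import Mathlib
import Cfsg.Agent.Lib.Helper9.U35MinDefs

/-!
# S2149 piece [B1] (helper18): the normal Sylow 5-subgroup of a group of order 1000

`Borel.exists_U`: a group of order `1000` with the `Borel` data has a normal subgroup `U` of order `125`
and index `8` containing the two elements `u1`, `u2` of order dividing `5`.
-/

set_option autoImplicit false

namespace Cfsg.Agent.Lib.Helper9.U35Min

open scoped commutatorElement

namespace H18

/-- in a group of order `1000` there is only one Sylow `5`-subgroup -/
theorem subsingleton_sylow_five {S : Type*} [Group S] [Finite S] (hcard : Nat.card S = 1000) :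
    haveI : Fact (Nat.Prime 5) := ⟨by norm_num⟩
    Subsingleton (Sylow 5 S) := by
  haveI : Fact (Nat.Prime 5) := ⟨by norm_num⟩
  obtain ⟨P⟩ : Nonempty (Sylow 5 S) := inferInstance
  have hPc : Nat.card P = 125 := by
    rw [Sylow.card_eq_multiplicity, hcard]
    have : (1000 : ℕ).factorization 5 = 3 := by
      have h1000 : (1000 : ℕ) = 5 ^ 3 * 8 := by norm_num
      rw [h1000, Nat.factorization_mul (by norm_num) (by norm_num), Nat.factorization_pow]
      have h5 : (5 : ℕ).factorization 5 = 1 := Nat.Prime.factorization_self (by norm_num)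
      have h8 : (8 : ℕ).factorization 5 = 0 := Nat.factorization_eq_zero_of_not_dvd (by norm_num)
      simp [h5, h8]
    rw [this]; norm_num
  have hidx : (P : Subgroup S).index = 8 := by
    have h := (P : Subgroup S).card_mul_index
    rw [hcard] at h
    have hPc' : Nat.card (P : Subgroup S) = 125 := hPc
    rw [hPc'] at h
    omega
  have hdvd : Nat.card (Sylow 5 S) ∣ 8 := hidx ▸ Sylow.card_dvd_index P
  have hmod : Nat.card (Sylow 5 S) ≡ 1 [MOD 5] := card_sylow_modEq_one 5 S
  have hle : Nat.card (Sylow 5 S) ≤ 8 := Nat.le_of_dvd (by norm_num) hdvd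
  have hone : Nat.card (Sylow 5 S) = 1 := by
    unfold Nat.ModEq at hmod
    interval_cases h : Nat.card (Sylow 5 S) <;> simp_all
  exact (Nat.card_eq_one_iff_unique.mp hone).1

end H18

variable {S : Type*} [Group S] {u1 u2 t : S}

/-- B1: the normal Sylow 5-subgroup -/
theorem Borel.exists_U (hB : Borel S u1 u2 t) :
    ∃ U : Subgroup S, U.Normal ∧ Nat.card U = 125 ∧ U.index = 8 ∧ u1 ∈ U ∧ u2 ∈ U := by
  haveI : Fact (Nat.Prime 5) := ⟨by norm_num⟩
  haveI : Finite S := Nat.finite_of_card_ne_zero (by rw [hB.card]; norm_num)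
  haveI : Subsingleton (Sylow 5 S) := H18.subsingleton_sylow_five hB.card
  obtain ⟨P⟩ : Nonempty (Sylow 5 S) := inferInstance
  have hPc : Nat.card (P : Subgroup S) = 125 := by
    have h := Sylow.card_eq_multiplicity P
    rw [hB.card] at h
    have : (1000 : ℕ).factorization 5 = 3 := by
      have h1000 : (1000 : ℕ) = 5 ^ 3 * 8 := by norm_num
      rw [h1000, Nat.factorization_mul (by norm_num) (by norm_num), Nat.factorization_pow]
      have h5 : (5 : ℕ).factorization 5 = 1 := Nat.Prime.factorization_self (by norm_num)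
      have h8 : (8 : ℕ).factorization 5 = 0 := Nat.factorization_eq_zero_of_not_dvd (by norm_num)
      simp [h5, h8]
    rw [this] at h
    rw [h]; norm_num
  have hidx : (P : Subgroup S).index = 8 := by
    have h := (P : Subgroup S).card_mul_index
    rw [hB.card, hPc] at h
    omega
  have hmem : ∀ u : S, u ^ 5 = 1 → u ∈ (P : Subgroup S) := by
    intro u hu
    have hp : IsPGroup 5 (Subgroup.zpowers u) := by
      rw [IsPGroup.iff_card]
      have hdvd : orderOf u ∣ 5 := orderOf_dvd_of_pow_eq_one hu
      rw [Nat.card_zpowers]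
      rcases (Nat.dvd_prime (by norm_num : Nat.Prime 5)).mp hdvd with h | h
      · exact ⟨0, by rw [h]; rfl⟩
      · exact ⟨1, by rw [h]; rfl⟩
    obtain ⟨Q, hQ⟩ := hp.exists_le_sylow
    have hQP : Q = P := Subsingleton.elim Q P
    rw [← hQP]
    exact hQ (Subgroup.mem_zpowers u)
  exact ⟨P, Sylow.normal_of_subsingleton P, hPc, hidx, hmem u1 hB.h1, hmem u2 hB.h2⟩

end Cfsg.Agent.Lib.Helper9.U35Min

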