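import Cfsg.Agent.Lib.Helper7.U62M.Defs
import Cfsg.Agent.Lib.Helper23.U62MR
import Cfsg.Agent.Lib.Helper4.TC.Fi22U6Main

/-!
# S2091-[EX-FiB] (helper7's `PSU₆(2)` multiplier front): the double cover inside `Fi₂₂`  (helper18)

The covering group `PW1` maps into helper4's presented `Fi₂₂` (the words `Fi22U6.sig`, on the generators of
`Pres.U62Q`); the word `rho5` goes to the central involution `a = [0]`, the words `rho2`, `rho3` to `1`.
All identities are checked on the base of helper4's 3510-point model.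
-/

set_option autoImplicit false
set_option maxRecDepth 100000
set_option linter.unusedVariables false

namespace Cfsg.Agent.Lib.Helper7.U62M

open Cfsg Cfsg.Agent.Helper4.TC

namespace Helper18F

/-- helper4's presented `Fi₂₂` -/
abbrev PF : Type := PresentedGroup Fi22U6.Rset

/-- the words of helper4's `Fi22U6.sig`, on the generators of `Pres.U62Q` -/
def sigQ : Gen → List ℕ
  | .c => [4]
  | .d => [6]
  | .e => [8]
  | .f => [10]
  | .g => [12]
  | .h => [14]
  | .i => [16]
  | .x => [14, 8, 6, 4, 2, 0, 14, 8, 6, 4, 2, 0, 14, 8, 6, 4, 2, 0, 14, 8, 6, 4, 2, 0, 14, 8, 6, 4, 2, 0]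

/-- a word which fixes the base is trivial in the presented group -/
theorem honeF (w : List ℕ) (hw : fixesB Fi22U62.mdata Fi22U6.pts w = true) :
    evc (PresentedGroup.of (rels := Fi22U6.Rset)) Fi22U62.dec w = 1 := by
  rw [evc_of]
  exact Fi22U6.hone w hw

/-- the central involution `a` of the double cover -/
noncomputable def zF : PF := evc (PresentedGroup.of (rels := Fi22U6.Rset)) Fi22U62.dec [0]

theorem zF_sq : zF ^ 2 = 1 := by
  have h := honeF _ Fi22U6.hz2
  rw [Fi22U6.zw, evc_append] at h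
  rw [pow_two]
  exact h

theorem zF_ne : zF ≠ 1 := by
  intro h
  have h1 : modelHom Fi22U62.coding Fi22U62.hR1 Fi22U62.model_ok
      (PresentedGroup.mk Fi22U6.Rset (wordF Fi22U62.dec [0])) = 1 := by
    rw [← evc_of]
    show modelHom Fi22U62.coding Fi22U62.hR1 Fi22U62.model_ok zF = 1
    rw [h, map_one]
  have h2 := modelHom_word Fi22U62.coding Fi22U62.hR1 Fi22U62.model_ok [0] (by decide)
    (⟨1, by decide⟩ : Fin Fi22U62.mdata.n)
  rw [h1] at h2
  exact Fi22U6.hz1 h2.symm

/-- the image of a word under a homomorphism given by words -/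
theorem map_word (σ : Gen → List ℕ) (φ : PW1 →* PF)
    (hφ : ∀ k, φ (PresentedGroup.of k) = PresentedGroup.mk Fi22U6.Rset (wordF Fi22U62.dec (σ k)))
    (w : List ℕ) :
    φ (evc (PresentedGroup.of (rels := RW1)) dec w) =
      evc (PresentedGroup.of (rels := Fi22U6.Rset)) Fi22U62.dec (substW σ dec w) := by
  rw [Schur.map_evc, evc_substW _ Fi22U62.coding]
  congr 1
  funext k
  rw [hφ k, evc_of]

/-- a word whose image times the inverse of `[0]` fixes the base goes to `zF` -/
theorem map_word_zF (σ : Gen → List ℕ) (φ : PW1 →* PF)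
    (hφ : ∀ k, φ (PresentedGroup.of k) = PresentedGroup.mk Fi22U6.Rset (wordF Fi22U62.dec (σ k)))
    (w : List ℕ)
    (hw : fixesB Fi22U62.mdata Fi22U6.pts (substW σ dec w ++ invW [0]) = true) :
    φ (evc (PresentedGroup.of (rels := RW1)) dec w) = zF := by
  rw [map_word σ φ hφ]
  have h := honeF _ hw
  rw [evc_append, evc_invW _ Fi22U62.coding, inv_mul_eq_one] at h
  exact h.symm

/-- a word whose image fixes the base goes to `1` -/
theorem map_word_one (σ : Gen → List ℕ) (φ : PW1 →* PF)
    (hφ : ∀ k, φ (PresentedGroup.of k) = PresentedGroup.mk Fi22U6.Rset (wordF Fi22U62.dec (σ k)))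
    (w : List ℕ) (hw : fixesB Fi22U62.mdata Fi22U6.pts (substW σ dec w) = true) :
    φ (evc (PresentedGroup.of (rels := RW1)) dec w) = 1 := by
  rw [map_word σ φ hφ]
  exact honeF _ hw

/-- the homomorphism given by words satisfying the relators on the base -/
theorem exists_phi (σ : Gen → List ℕ)
    (chk : ∀ b ∈ relW1, fixesB Fi22U62.mdata Fi22U6.pts (substW σ dec b) = true) :
    ∃ φ : PW1 →* PF,
      ∀ k, φ (PresentedGroup.of k) = PresentedGroup.mk Fi22U6.Rset (wordF Fi22U62.dec (σ k)) :=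
  exists_hom_of_subst Fi22U62.coding Fi22U62.hR1 Fi22U62.model_ok 64561751654400 (by norm_num)
    Fi22S.card_top Fi22S.specs Fi22S.levels_ok (by decide) RW1 relW1 (fun r hr => hr) σ Fi22U6.pts
    rfl chk

set_option Elab.async false in
theorem chkB : ∀ b ∈ relW1, fixesB Fi22U62.mdata Fi22U6.pts (substW sigQ dec b) = true := by
  decide +kernel

theorem hB5 : fixesB Fi22U62.mdata Fi22U6.pts (substW sigQ dec rho5 ++ invW [0]) = true := by
  decide +kernel

theorem hB2 : fixesB Fi22U62.mdata Fi22U6.pts (substW sigQ dec rho2) = true := by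
  decide +kernel

theorem hB3 : fixesB Fi22U62.mdata Fi22U6.pts (substW sigQ dec rho3) = true := by
  decide +kernel

end Helper18F

open Helper18F in
/-- **[EX-FiB]** helper4's double cover inside `Fi₂₂` -/
theorem exists_hom_B : ∃ (Δ : Type) (_ : Group Δ) (φ : PW1 →* Δ),
    φ r5 ≠ 1 ∧ φ r5 ^ 2 = 1 ∧ φ r2 = 1 ∧ φ r3 = 1 := by
  obtain ⟨φ, hφ⟩ := exists_phi sigQ chkB
  refine ⟨PF, inferInstance, φ, ?_, ?_, ?_, ?_⟩
  · unfold r5
    rw [map_word_zF sigQ φ hφ rho5 hB5]
    exact zF_ne
  · unfold r5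
    rw [map_word_zF sigQ φ hφ rho5 hB5]
    exact zF_sq
  · unfold r2
    exact map_word_one sigQ φ hφ rho2 hB2
  · unfold r3
    exact map_word_one sigQ φ hφ rho3 hB3

end Cfsg.Agent.Lib.Helper7.U62M
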