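import Cfsg.Agent.Lib.Helper18.U62MFiB

/-!
# S2091-[EX-FiC] (helper7's `PSU₆(2)` multiplier front): the twisted double cover inside `Fi₂₂`  (helper18)

The same homomorphism as in [EX-FiB], twisted by the symmetry `c ↔ g, d ↔ f, h ↔ x` of the diagram and
multiplied by the central involution `a = [0]`: now `rho3` goes to the central involution and `rho2`, `rho5`
go to `1`.
-/

set_option autoImplicit false
set_option maxRecDepth 100000
set_option linter.unusedVariables false

namespace Cfsg.Agent.Lib.Helper7.U62M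

open Cfsg Cfsg.Agent.Helper4.TC

namespace Helper18F

/-- the symmetry of the diagram -/
def theta : Gen → Gen
  | .c => .g
  | .d => .f
  | .e => .e
  | .f => .d
  | .g => .c
  | .h => .x
  | .i => .i
  | .x => .h

/-- the twisted words -/
def sigC (k : Gen) : List ℕ := [0] ++ sigQ (theta k)

set_option Elab.async false in
theorem chkC : ∀ b ∈ relW1, fixesB Fi22U62.mdata Fi22U6.pts (substW sigC dec b) = true := by
  decide +kernel

theorem hC3 : fixesB Fi22U62.mdata Fi22U6.pts (substW sigC dec rho3 ++ invW [0]) = true := by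
  decide +kernel

theorem hC2 : fixesB Fi22U62.mdata Fi22U6.pts (substW sigC dec rho2) = true := by
  decide +kernel

theorem hC5 : fixesB Fi22U62.mdata Fi22U6.pts (substW sigC dec rho5) = true := by
  decide +kernel

end Helper18F

open Helper18F in
/-- **[EX-FiC]** the double cover inside `Fi₂₂`, twisted by the symmetry of the diagram -/
theorem exists_hom_C : ∃ (Δ : Type) (_ : Group Δ) (φ : PW1 →* Δ),
    φ r3 ≠ 1 ∧ φ r3 ^ 2 = 1 ∧ φ r2 = 1 ∧ φ r5 = 1 := by
  obtain ⟨φ, hφ⟩ := exists_phi sigC chkC
  refine ⟨PF, inferInstance, φ, ?_, ?_, ?_, ?_⟩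
  · unfold r3
    rw [map_word_zF sigC φ hφ rho3 hC3]
    exact zF_ne
  · unfold r3
    rw [map_word_zF sigC φ hφ rho3 hC3]
    exact zF_sq
  · unfold r2
    exact map_word_one sigC φ hφ rho2 hC2
  · unfold r5
    exact map_word_one sigC φ hφ rho5 hC5

end Cfsg.Agent.Lib.Helper7.U62M
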