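import Cfsg.Agent.Lib.Helper7.U62M.Defs

/-!
# S2091-[UB] (helper7's `PSU₆(2)` multiplier front): the kernel of a stem extension has order at most 12
(helper18)

The statements of the pieces [CL-C] (`exists_lifts`), [TC] (`card_PW`) and [PAR] (`exists_parity`) of
`notes/S2091_Skel_helper7.lean.txt` enter as hypotheses.  The weak group `PW` maps onto a stem extension `Γ`
(helper4's `Schur.exists_hom_weak0`), `Γ` is perfect and `PW` is not (parity), so the map is not injective and
`2 |Γ| ≤ |PW| ≤ 24 |P|`.
-/

set_option autoImplicit false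
set_option maxRecDepth 100000
set_option linter.unusedVariables false

namespace Cfsg.Agent.Lib.Helper7.U62M

open Cfsg Cfsg.Agent.Helper4.TC
open scoped commutatorElement

namespace Helper18

/-- `P` is simple of composite order, hence perfect -/
theorem perfect_P : commutator P = ⊤ := by
  haveI : IsSimpleGroup P := U62QS.main.1
  rcases IsSimpleGroup.eq_bot_or_eq_top_of_normal (commutator P) inferInstance with h | h
  · exfalso
    have hc : ∀ a b : P, a * b = b * a := by
      intro a b
      have h1 : ⁅a, b⁆ ∈ commutator P :=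
        Subgroup.commutator_mem_commutator (Subgroup.mem_top a) (Subgroup.mem_top b)
      rw [h, Subgroup.mem_bot, commutatorElement_eq_one_iff_mul_comm] at h1
      exact h1
    letI : CommGroup P := { (inferInstance : Group P) with mul_comm := hc }
    have hp := IsSimpleGroup.prime_card (α := P)
    rw [U62QS.main.2] at hp
    norm_num at hp
  · exact h

/-- a homomorphism into a commutative group kills the commutator subgroup -/
theorem map_eq_one_of_mem_commutator {A B : Type*} [Group A] [CommGroup B] (χ : A →* B) (a : A)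
    (ha : a ∈ commutator A) : χ a = 1 := by
  have h : commutator A ≤ χ.ker := Abelianization.commutator_subset_ker χ
  exact MonoidHom.mem_ker.mp (h ha)

end Helper18

open Helper18 in
/-- **[UB]**, from the statements of [CL-C], [TC] and [PAR] -/
theorem card_ker_le_of
    (hL : ∀ {Γ : Type} [Group Γ] (σ : Γ →* P), Function.Surjective σ →
      σ.ker ≤ Subgroup.center Γ →
      ∃ g : Gen → Γ, (∀ x, σ (g x) = PresentedGroup.of x) ∧ ∀ b ∈ coxL, evc g dec b = 1)
    (hTC : Finite PW ∧ Nat.card PW ≤ 24 * 9196830720)
    (hPar : ∃ χ : PW →* Multiplicative (ZMod 2),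
      ∀ x, χ (PresentedGroup.of x) = Multiplicative.ofAdd 1)
    {Γ : Type} [Group Γ] [Finite Γ] (σ : Γ →* P) (hσ : IsStemExtension σ) :
    Nat.card σ.ker ≤ 12 := by
  obtain ⟨g, hg, hex⟩ := hL σ hσ.1 hσ.2.1
  haveI : Finite PW := hTC.1
  -- the map from the weak group
  have hσevc : ∀ w, σ (evc g dec w) = evc (PresentedGroup.of (rels := RP)) dec w := by
    intro w
    rw [Schur.map_evc]
    congr 1
    funext x
    exact hg x
  obtain ⟨φ0, hφ0⟩ : ∃ φ0 : PW →* Γ, ∀ x, φ0 (PresentedGroup.of x) = g x :=
    Schur.exists_hom_weak0 U62QCod.coding σ.ker hσ.2.1 g coxL centL gensL hex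
    (fun ρ hρ => by
      rw [MonoidHom.mem_ker, hσevc]
      exact evc_of_eq_one ρ (List.mem_append_right _ hρ))
  have hr : φ0.range = ⊤ := by
    apply Schur.eq_top_of_map_eq_top σ hσ
    rw [eq_top_iff, ← PresentedGroup.closure_range_of RP, Subgroup.closure_le]
    rintro _ ⟨x, rfl⟩
    exact ⟨g x, ⟨PresentedGroup.of x, hφ0 x⟩, hg x⟩
  have hsurj : Function.Surjective φ0 := MonoidHom.range_eq_top.mp hr
  -- `Γ` is perfect
  have hperfΓ : commutator Γ = ⊤ := by
    apply Schur.eq_top_of_map_eq_top σ hσ
    rw [commutator_def, Subgroup.map_commutator, Subgroup.map_top_of_surjective _ hσ.1,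
      ← commutator_def, perfect_P]
  -- the map is not injective
  obtain ⟨χ, hχ⟩ := hPar
  have hninj : ¬ Function.Injective φ0 := by
    intro hinj
    have hmap : (commutator PW).map φ0 = ⊤ := by
      rw [commutator_def, Subgroup.map_commutator, Subgroup.map_top_of_surjective _ hsurj,
        ← commutator_def, hperfΓ]
    have hmem : φ0 (PresentedGroup.of Cfsg.Agent.Helper4.Pres.U62Q.Gen.c) ∈
        (commutator PW).map φ0 := by
      rw [hmap]
      trivial
    obtain ⟨k, hk, hkeq⟩ := hmem
    have hkc : k = PresentedGroup.of Cfsg.Agent.Helper4.Pres.U62Q.Gen.c := hinj hkeq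
    have h1 : χ k = 1 := map_eq_one_of_mem_commutator χ k hk
    rw [hkc, hχ] at h1
    exact absurd h1 (by decide)
  -- so its kernel has at least two elements
  have hker2 : 2 ≤ Nat.card φ0.ker := by
    by_contra hlt
    push Not at hlt
    apply hninj
    rw [← MonoidHom.ker_eq_bot_iff]
    have hpos : 0 < Nat.card φ0.ker := Nat.card_pos
    have h1 : Nat.card φ0.ker = 1 := by omega
    exact Subgroup.card_eq_one.mp h1
  have hc1 : Nat.card PW = Nat.card φ0.ker * Nat.card Γ := by
    rw [← Subgroup.card_mul_index φ0.ker, Subgroup.index_ker,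
      MonoidHom.range_eq_top.mpr hsurj, Subgroup.card_top]
  have hc2 : Nat.card Γ = Nat.card σ.ker * Nat.card P := by
    rw [← Subgroup.card_mul_index σ.ker, Subgroup.index_ker,
      MonoidHom.range_eq_top.mpr hσ.1, Subgroup.card_top]
  have hP : Nat.card P = 9196830720 := U62QS.main.2
  have h24 := hTC.2
  rw [hc1, hc2, hP] at h24
  have h2 : 2 * (Nat.card σ.ker * 9196830720) ≤ 24 * 9196830720 :=
    (Nat.mul_le_mul_right _ hker2).trans h24
  omega

end Cfsg.Agent.Lib.Helper7.U62M
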